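import Mathlib
import Groth.Agent.Lib.Lead.PolyDeg

/-!
# Functions on `ℕ^r` with vanishing mixed differences of order `d+1` are polynomials of degree `≤ d`

(Snapper's theorem, polynomial lemma; requested by lead.)
-/

namespace Groth.Agent.Helper23.SnapperPoly

open Groth.Agent.Lead.PolyDeg MvPolynomial Finset

variable {r : ℕ}

/-- `g` depends only on the coordinates in `S`. -/
def Dep (S : Finset (Fin r)) (g : (Fin r → ℕ) → ℤ) : Prop :=
  ∀ x y : Fin r → ℕ, (∀ i ∈ S, x i = y i) → g x = g y

theorem Dep.fd {S : Finset (Fin r)} {g : (Fin r → ℕ) → ℤ} (h : Dep S g) (a : Fin r) :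
    Dep S (fd a g) := by
  intro x y hxy
  simp only [Groth.Agent.Lead.PolyDeg.fd]
  rw [h (x + Pi.single a 1) (y + Pi.single a 1) (fun i hi => by simp [hxy i hi]), h x y hxy]

theorem Dep.fd_iter {S : Finset (Fin r)} {g : (Fin r → ℕ) → ℤ} (h : Dep S g) (a : Fin r)
    (k : ℕ) : Dep S ((Groth.Agent.Lead.PolyDeg.fd a)^[k] g) := by
  induction k generalizing g with
  | zero => exact h
  | succ k ih => rw [Function.iterate_succ_apply]; exact ih (h.fd a)

theorem isPolyDeg_mono_succ {e : ℕ} {g : (Fin r → ℕ) → ℤ} (h : IsPolyDeg e g) :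
    IsPolyDeg (e + 1) g := by
  induction e generalizing g with
  | zero =>
    rw [isPolyDeg_succ_iff]
    intro i
    rw [isPolyDeg_zero_iff]
    intro n
    rw [isPolyDeg_zero_iff] at h
    simp only [Groth.Agent.Lead.PolyDeg.fd]
    rw [h, h]; simp
  | succ e ih =>
    rw [isPolyDeg_succ_iff] at h ⊢
    intro i; exact ih (h i)

theorem isPolyDeg_mono {e k : ℕ} (hek : e ≤ k) {g : (Fin r → ℕ) → ℤ} (h : IsPolyDeg e g) :
    IsPolyDeg k g := by
  induction hek with
  | refl => exact h
  | step _ ih => exact isPolyDeg_mono_succ ih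

theorem isPolyDeg_fd_iter (a : Fin r) (k e : ℕ) {g : (Fin r → ℕ) → ℤ}
    (h : IsPolyDeg (e + k) g) : IsPolyDeg e ((Groth.Agent.Lead.PolyDeg.fd a)^[k] g) := by
  induction k generalizing g with
  | zero => exact h
  | succ k ih =>
    rw [Function.iterate_succ_apply]
    have h' : IsPolyDeg ((e + k) + 1) g := h
    rw [isPolyDeg_succ_iff] at h'
    exact ih (h' a)

theorem fd_iter_eq_zero (a : Fin r) {e k : ℕ} (hek : e ≤ k) {g : (Fin r → ℕ) → ℤ}
    (h : IsPolyDeg e g) : (Groth.Agent.Lead.PolyDeg.fd a)^[k] g = 0 := by
  have h1 : IsPolyDeg (0 + k) g := by rw [Nat.zero_add]; exact isPolyDeg_mono hek h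
  have h2 := isPolyDeg_fd_iter a k 0 h1
  rw [isPolyDeg_zero_iff] at h2
  funext n; exact h2 n

theorem isPolyDeg_restrict (a : Fin r) {e : ℕ} {G : (Fin r → ℕ) → ℤ} (h : IsPolyDeg e G) :
    IsPolyDeg e (fun n => G (Function.update n a 0)) := by
  induction e generalizing G with
  | zero =>
    rw [isPolyDeg_zero_iff] at h ⊢
    intro n; exact h _
  | succ e ih =>
    rw [isPolyDeg_succ_iff] at h ⊢
    intro i
    by_cases hia : i = a
    · subst hia
      have : Groth.Agent.Lead.PolyDeg.fd i (fun n => G (Function.update n i 0)) = 0 := by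
        funext n
        simp only [Groth.Agent.Lead.PolyDeg.fd, Pi.zero_apply]
        have : Function.update (n + Pi.single i 1) i 0 = Function.update n i 0 := by
          funext j
          by_cases hj : j = i
          · subst hj; simp
          · simp [Function.update_of_ne hj, Pi.single_eq_of_ne hj]
        rw [this]; simp
      rw [this]; exact IsPolyDeg.zero e
    · have : Groth.Agent.Lead.PolyDeg.fd i (fun n => G (Function.update n a 0)) =
          fun n => (Groth.Agent.Lead.PolyDeg.fd i G) (Function.update n a 0) := by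
        funext n
        simp only [Groth.Agent.Lead.PolyDeg.fd]
        have : Function.update (n + Pi.single i 1) a 0 = Function.update n a 0 + Pi.single i 1 := by
          funext j
          by_cases hj : j = a
          · subst hj; simp [Pi.single_eq_of_ne (Ne.symm hia)]
          · simp [Function.update_of_ne hj]
        rw [this]
      rw [this]; exact ih (h i)

/-- the binomial polynomial `choose (X a) k` -/
noncomputable def B (a : Fin r) : ℕ → MvPolynomial (Fin r) ℚ
  | 0 => 1
  | k + 1 => B a k * (X a - C (k : ℚ)) * C ((k + 1 : ℚ)⁻¹)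

theorem eval_B (a : Fin r) (k : ℕ) (n : Fin r → ℕ) :
    eval (fun i => (n i : ℚ)) (B a k) = ((n a).choose k : ℚ) := by
  induction k with
  | zero => simp [B]
  | succ k ih =>
    simp only [B, map_mul, map_sub, eval_X, eval_C, ih]
    have h1 := Nat.choose_succ_right_eq (n a) k
    have h2 : ((n a).choose (k + 1) : ℚ) * (k + 1) = (n a).choose k * ((n a : ℚ) - k) := by
      by_cases hk : k ≤ n a
      · have := congrArg (Nat.cast : ℕ → ℚ) h1
        push_cast [Nat.cast_sub hk] at this
        exact this
      · rw [not_le] at hk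
        rw [Nat.choose_eq_zero_of_lt hk, Nat.choose_eq_zero_of_lt (by omega)]; simp
    have h3 : (k + 1 : ℚ) ≠ 0 := by positivity
    rw [← h2]
    field_simp

theorem totalDegree_B_le (a : Fin r) (k : ℕ) : (B a k).totalDegree ≤ k := by
  induction k with
  | zero => simp [B]
  | succ k ih =>
    simp only [B]
    refine (totalDegree_mul _ _).trans ?_
    rw [totalDegree_C, add_zero]
    refine (totalDegree_mul _ _).trans ?_
    have : (X a - C (k : ℚ) : MvPolynomial (Fin r) ℚ).totalDegree ≤ 1 := by
      refine (totalDegree_sub_C_le _ _).trans ?_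
      rw [totalDegree_X]
    omega

theorem aux (S : Finset (Fin r)) : ∀ (d : ℕ) (g : (Fin r → ℕ) → ℤ), IsPolyDeg (d + 1) g →
    Dep S g → ∃ P : MvPolynomial (Fin r) ℚ, P.totalDegree ≤ d ∧
      ∀ n : Fin r → ℕ, (g n : ℚ) = eval (fun i => (n i : ℚ)) P := by
  induction S using Finset.induction_on with
  | empty =>
    intro d g hg hdep
    refine ⟨C (g 0 : ℚ), by rw [totalDegree_C]; exact Nat.zero_le _, fun n => ?_⟩
    rw [eval_C, hdep n 0 (by simp)]
  | insert a S' ha ih =>
    intro d g hg hdep
    have key : ∀ k : ℕ, ∃ P : MvPolynomial (Fin r) ℚ, k ≤ d → (P.totalDegree ≤ d - k ∧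
        ∀ n : Fin r → ℕ, ((((Groth.Agent.Lead.PolyDeg.fd a)^[k] g) (Function.update n a 0) : ℤ) : ℚ)
          = eval (fun i => (n i : ℚ)) P) := by
      intro k
      by_cases hk : k ≤ d
      · have h1 : IsPolyDeg ((d - k) + 1)
            (fun n => ((Groth.Agent.Lead.PolyDeg.fd a)^[k] g) (Function.update n a 0)) := by
          apply isPolyDeg_restrict
          apply isPolyDeg_fd_iter
          rw [show d - k + 1 + k = d + 1 by omega]; exact hg
        have h2 : Dep S'
            (fun n => ((Groth.Agent.Lead.PolyDeg.fd a)^[k] g) (Function.update n a 0)) := by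
          intro x y hxy
          apply (hdep.fd_iter a k)
          intro i hi
          rw [Finset.mem_insert] at hi
          by_cases hia : i = a
          · subst hia; simp
          · rw [Function.update_of_ne hia, Function.update_of_ne hia]
            exact hxy i (hi.resolve_left hia)
        obtain ⟨P, hP1, hP2⟩ := ih (d - k) _ h1 h2
        exact ⟨P, fun _ => ⟨hP1, hP2⟩⟩
      · exact ⟨0, fun h => absurd h hk⟩
    choose Pk hPk using key
    refine ⟨∑ k ∈ range (d + 1), B a k * Pk k, ?_, ?_⟩
    · apply totalDegree_finsetSum_le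
      intro k hk
      rw [mem_range] at hk
      have hk' : k ≤ d := by omega
      refine (totalDegree_mul _ _).trans ?_
      have h1 := totalDegree_B_le a k
      have h2 := (hPk k hk').1
      omega
    · intro n
      have hn : Function.update n a 0 + (n a) • Pi.single a 1 = n := by
        funext j
        by_cases hj : j = a
        · subst hj; simp
        · simp [Function.update_of_ne hj, Pi.single_eq_of_ne hj]
      have hfd : (Groth.Agent.Lead.PolyDeg.fd a : ((Fin r → ℕ) → ℤ) → ((Fin r → ℕ) → ℤ))
          = fwdDiff (Pi.single a 1) := by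
        funext g' m; rfl
      have newton := shift_eq_sum_fwdDiff_iter (Pi.single a 1) g (n a) (Function.update n a 0)
      rw [hn, ← hfd] at newton
      have e1 : ∑ k ∈ range (n a + 1),
            (n a).choose k • ((Groth.Agent.Lead.PolyDeg.fd a)^[k] g) (Function.update n a 0)
          = ∑ k ∈ range (d + 1),
            (n a).choose k • ((Groth.Agent.Lead.PolyDeg.fd a)^[k] g) (Function.update n a 0) := by
        have s1 : ∑ k ∈ range (n a + 1),
            (n a).choose k • ((Groth.Agent.Lead.PolyDeg.fd a)^[k] g) (Function.update n a 0)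
            = ∑ k ∈ range (n a + 1 + (d + 1)),
            (n a).choose k • ((Groth.Agent.Lead.PolyDeg.fd a)^[k] g) (Function.update n a 0) := by
          apply Finset.sum_subset
          · intro x hx; rw [mem_range] at hx ⊢; omega
          · intro x _ hx
            rw [mem_range, not_lt] at hx
            rw [Nat.choose_eq_zero_of_lt (by omega)]; simp
        have s2 : ∑ k ∈ range (d + 1),
            (n a).choose k • ((Groth.Agent.Lead.PolyDeg.fd a)^[k] g) (Function.update n a 0)
            = ∑ k ∈ range (n a + 1 + (d + 1)),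
            (n a).choose k • ((Groth.Agent.Lead.PolyDeg.fd a)^[k] g) (Function.update n a 0) := by
          apply Finset.sum_subset
          · intro x hx; rw [mem_range] at hx ⊢; omega
          · intro x _ hx
            rw [mem_range, not_lt] at hx
            rw [fd_iter_eq_zero a hx hg]; simp
        rw [s1, s2]
      rw [e1] at newton
      rw [newton]
      push_cast
      rw [map_sum]
      apply Finset.sum_congr rfl
      intro k hk
      rw [mem_range] at hk
      rw [map_mul, eval_B, ← (hPk k (by omega)).2 n]
      simp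

open Groth.Agent.Lead.PolyDeg in
theorem exists_mvPolynomial_of_isPolyDeg {r : ℕ} (d : ℕ) (g : (Fin r → ℕ) → ℤ) (h : IsPolyDeg (d + 1) g) :
    ∃ P : MvPolynomial (Fin r) ℚ, P.totalDegree ≤ d ∧
      ∀ n : Fin r → ℕ, (g n : ℚ) = MvPolynomial.eval (fun i => (n i : ℚ)) P :=
  aux Finset.univ d g h (fun x y hxy => by
    congr 1; funext i; exact hxy i (Finset.mem_univ i))

end Groth.Agent.Helper23.SnapperPoly
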