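import Mathlib

set_option autoImplicit false
universe u
open CategoryTheory CategoryTheory.Limits Opposite

namespace Groth.Agent.Helper23.ShLocExact

variable {C : Type u} [SmallCategory C] {J : GrothendieckTopology C}

section Lift

variable (S : ShortComplex (Sheaf J AddCommGrpCat.{u}))
  (hinj : ∀ W : Cᵒᵖ, Function.Injective (S.f.hom.app W).hom)
  (hex : ∀ (W : Cᵒᵖ) (y : S.X₂.obj.obj W), (S.g.hom.app W).hom y = 0 →
      ∃ x, (S.f.hom.app W).hom x = y)

include hex in
lemma exists_pre {T : Sheaf J AddCommGrpCat.{u}} (g' : T ⟶ S.X₂) (h : g' ≫ S.g = 0)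
    (W : Cᵒᵖ) (t : T.obj.obj W) : ∃ x, (S.f.hom.app W).hom x = (g'.hom.app W).hom t := by
  apply hex
  have := congr((($h).hom.app W).hom t)
  exact this

/-- the sectionwise lift. -/
noncomputable def liftFun {T : Sheaf J AddCommGrpCat.{u}} (g' : T ⟶ S.X₂) (h : g' ≫ S.g = 0)
    (W : Cᵒᵖ) (t : T.obj.obj W) : S.X₁.obj.obj W :=
  (exists_pre S hex g' h W t).choose

lemma f_liftFun {T : Sheaf J AddCommGrpCat.{u}} (g' : T ⟶ S.X₂) (h : g' ≫ S.g = 0)
    (W : Cᵒᵖ) (t : T.obj.obj W) :
    (S.f.hom.app W).hom (liftFun S hex g' h W t) = (g'.hom.app W).hom t :=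
  (exists_pre S hex g' h W t).choose_spec

/-- the lift as a morphism of sheaves. -/
noncomputable def lift {T : Sheaf J AddCommGrpCat.{u}} (g' : T ⟶ S.X₂) (h : g' ≫ S.g = 0) :
    T ⟶ S.X₁ :=
  ⟨{ app := fun W => AddCommGrpCat.ofHom
      { toFun := liftFun S hex g' h W
        map_zero' := by
          apply hinj W
          rw [f_liftFun, map_zero, map_zero]
        map_add' := fun a b => by
          apply hinj W
          rw [f_liftFun, map_add, map_add, f_liftFun, f_liftFun] }
     naturality := fun W W' i => by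
      ext t
      apply hinj W'
      change (S.f.hom.app W').hom (liftFun S hex g' h W' ((T.obj.map i).hom t)) =
        (S.f.hom.app W').hom ((S.X₁.obj.map i).hom (liftFun S hex g' h W t))
      rw [f_liftFun]
      have h1 := congr(($(S.f.hom.naturality i)).hom (liftFun S hex g' h W t))
      have h2 := congr(($(g'.hom.naturality i)).hom t)
      change (S.f.hom.app W').hom ((S.X₁.obj.map i).hom (liftFun S hex g' h W t)) =
        (S.X₂.obj.map i).hom ((S.f.hom.app W).hom (liftFun S hex g' h W t)) at h1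
      change (g'.hom.app W').hom ((T.obj.map i).hom t) =
        (S.X₂.obj.map i).hom ((g'.hom.app W).hom t) at h2
      rw [h1, h2, f_liftFun] }⟩

lemma lift_f {T : Sheaf J AddCommGrpCat.{u}} (g' : T ⟶ S.X₂) (h : g' ≫ S.g = 0) :
    lift S hinj hex g' h ≫ S.f = g' := by
  apply Sheaf.hom_ext
  ext W t
  exact f_liftFun S hex g' h W t

end Lift

/-- short exactness of abelian sheaves from sectionwise left exactness and local surjectivity. -/
theorem shortExact_of_locally (S : ShortComplex (Sheaf J AddCommGrpCat.{u}))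
    (hinj : ∀ W : Cᵒᵖ, Function.Injective (S.f.hom.app W).hom)
    (hex : ∀ (W : Cᵒᵖ) (y : S.X₂.obj.obj W), (S.g.hom.app W).hom y = 0 →
      ∃ x, (S.f.hom.app W).hom x = y)
    (hsurj : Sheaf.IsLocallySurjective S.g) : S.ShortExact := by
  have hm : Mono S.f := by
    haveI : Mono ((sheafToPresheaf J _).map S.f) := by
      haveI : ∀ W, Mono (((sheafToPresheaf J AddCommGrpCat.{u}).map S.f).app W) := fun W =>
        (AddCommGrpCat.mono_iff_injective _).2 (hinj W)
      exact NatTrans.mono_of_mono_app _
    exact (sheafToPresheaf J _).mono_of_mono_map this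
  have he : Epi S.g := by
    haveI := hsurj
    exact Sheaf.epi_of_isLocallySurjective S.g
  refine { exact := ?_, mono_f := hm, epi_g := he }
  apply S.exact_of_f_is_kernel
  refine KernelFork.IsLimit.ofι S.f S.zero (fun g' h => lift S hinj hex g' h)
    (fun g' h => lift_f S hinj hex g' h) (fun g' h m hm' => ?_)
  rw [← cancel_mono S.f, hm', lift_f]

end Groth.Agent.Helper23.ShLocExact
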