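import Mathlib
import Groth.Prelude.Def_UnitsSh
import Groth.Prelude.Def_ClSub2
import Groth.Agent.Lib.Helper13.KerSec
import Groth.Agent.Lib.Helper13.QCohStalk
import Groth.Agent.Lib.Helper23.ShLocExact

set_option autoImplicit false
universe u
open CategoryTheory CategoryTheory.Limits AlgebraicGeometry Opposite TopologicalSpace

namespace Groth.Agent.Helper23.UnitsSeq

variable {X : Scheme.{u}} (J : X.IdealSheafData)

/-- a section of the ideal module, as a function. -/
noncomputable def fn {U : X.Opens} (k : Γ(ClSub.idealMod J, U)) : Γ(X, U) :=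
  (ClSub.idealModι J).app U k

lemma fn_add {U : X.Opens} (k k' : Γ(ClSub.idealMod J, U)) : fn J (k + k') = fn J k + fn J k' :=
  map_add _ _ _

lemma fn_zero {U : X.Opens} : fn J (0 : Γ(ClSub.idealMod J, U)) = 0 := map_zero _

lemma fn_res {U V : X.Opens} (i : V ⟶ U) (k : Γ(ClSub.idealMod J, U)) :
    fn J ((ClSub.idealMod J).presheaf.map i.op k) = X.presheaf.map i.op (fn J k) := by
  have hnat := (ClSub.idealModι J).mapPresheaf.naturality i.op
  exact congr($hnat k)

lemma fn_injective (U : X.Opens) : Function.Injective (fn J (U := U)) := by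
  have : Mono (ClSub.idealModι J) := by unfold ClSub.idealModι; exact equalizer.ι_mono
  exact (Groth.Agent.Helper13.QCoh.mono_iff_app_injective (ClSub.idealModι J)).1 this U

lemma app_fn {U : X.Opens} (k : Γ(ClSub.idealMod J, U)) : J.subschemeι.app U (fn J k) = 0 :=
  Groth.Agent.Helper13.KerSec.kernel_ι_app_comp (ClSub.toSubscheme J) U k

lemma exists_fn_eq {U : X.Opens} (a : Γ(X, U)) (ha : J.subschemeι.app U a = 0) :
    ∃ k : Γ(ClSub.idealMod J, U), fn J k = a :=
  Groth.Agent.Helper13.KerSec.exists_kernel_section (ClSub.toSubscheme J) U a ha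

lemma fn_mem_ideal (V : X.affineOpens) (k : Γ(ClSub.idealMod J, V.1)) : fn J k ∈ J.ideal V := by
  rw [← Scheme.IdealSheafData.ker_subschemeι_app J V, RingHom.mem_ker]
  exact app_fn J k

lemma fn_mul_fn (hJ : J * J = ⊥) {U : X.Opens} (k k' : Γ(ClSub.idealMod J, U)) :
    fn J k * fn J k' = 0 := by
  apply TopCat.Presheaf.section_ext X.sheaf U
  intro x hx
  obtain ⟨V, hV, hxV, hVU⟩ := exists_isAffineOpen_mem_and_subset (x := x) (U := U) hx
  have hVU' : V ≤ U := hVU
  change X.presheaf.germ U x hx (fn J k * fn J k') = X.presheaf.germ U x hx 0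
  rw [← TopCat.Presheaf.germ_res_apply X.presheaf (homOfLE hVU') x hxV,
    ← TopCat.Presheaf.germ_res_apply X.presheaf (homOfLE hVU') x hxV, map_mul, ← fn_res,
    ← fn_res, map_zero]
  have h1 : fn J ((ClSub.idealMod J).presheaf.map (homOfLE hVU').op k) *
      fn J ((ClSub.idealMod J).presheaf.map (homOfLE hVU').op k') ∈
      (J * J).ideal ⟨V, hV⟩ := by
    rw [Scheme.IdealSheafData.ideal_mul]
    exact Ideal.mul_mem_mul (fn_mem_ideal J ⟨V, hV⟩ _) (fn_mem_ideal J ⟨V, hV⟩ _)
  rw [hJ, Scheme.IdealSheafData.ideal_bot] at h1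
  rw [h1]

variable (hJ : J * J = ⊥)

/-- the unit `1 + f` attached to a section `f` of a square-zero ideal. -/
noncomputable def unitOf {U : X.Opens} (k : Γ(ClSub.idealMod J, U)) : (Γ(X, U))ˣ :=
  ⟨1 + fn J k, 1 - fn J k, by
    have := fn_mul_fn J hJ k k
    linear_combination (-1 : Γ(X, U)) * this, by
    have := fn_mul_fn J hJ k k
    linear_combination (-1 : Γ(X, U)) * this⟩

lemma unitOf_val {U : X.Opens} (k : Γ(ClSub.idealMod J, U)) :
    (unitOf J hJ k : Γ(X, U)) = 1 + fn J k := rfl

lemma unitOf_add {U : X.Opens} (k k' : Γ(ClSub.idealMod J, U)) :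
    unitOf J hJ (k + k') = unitOf J hJ k * unitOf J hJ k' := by
  apply Units.ext
  rw [Units.val_mul, unitOf_val, unitOf_val, unitOf_val, fn_add]
  have := fn_mul_fn J hJ k k'
  linear_combination (-1 : Γ(X, U)) * this

lemma unitOf_zero {U : X.Opens} : unitOf J hJ (0 : Γ(ClSub.idealMod J, U)) = 1 := by
  apply Units.ext
  rw [unitOf_val, fn_zero, add_zero, Units.val_one]

lemma unitOf_res {U V : X.Opens} (i : V ⟶ U) (k : Γ(ClSub.idealMod J, U)) :
    Units.map (X.presheaf.map i.op).hom.toMonoidHom (unitOf J hJ k) =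
      unitOf J hJ ((ClSub.idealMod J).presheaf.map i.op k) := by
  apply Units.ext
  rw [unitOf_val, fn_res]
  change (X.presheaf.map i.op) (1 + fn J k) = _
  rw [map_add, map_one]

lemma unitOf_injective {U : X.Opens} : Function.Injective (unitOf J hJ (U := U)) := by
  intro k k' h
  apply fn_injective J U
  have := congrArg Units.val h
  rw [unitOf_val, unitOf_val] at this
  exact add_left_cancel this

/-- the morphism `f ↦ 1 + f` from the ideal to the units. -/
noncomputable def phi : Coh.toAb (ClSub.idealMod J) ⟶ UnitsSh.unitsAb X :=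
  ⟨{ app := fun U => AddCommGrpCat.ofHom
      { toFun := fun k => UnitsSh.sectOfUnit (O := X.presheaf) (U := U)
          (unitOf J hJ (U := U.unop) k)
        map_zero' := by
          have := unitOf_zero J hJ (U := U.unop)
          exact congrArg (UnitsSh.sectOfUnit (O := X.presheaf) (U := U)) this
        map_add' := fun k k' => by
          have := unitOf_add J hJ (U := U.unop) k k'
          exact congrArg (UnitsSh.sectOfUnit (O := X.presheaf) (U := U)) this }
     naturality := fun U V i => by
      ext k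
      have := unitOf_res J hJ i.unop k
      exact congrArg (UnitsSh.sectOfUnit (O := X.presheaf) (U := V)) this.symm }⟩

lemma phi_formula (U : X.Opens) (f : (ClSub.idealMod J).val.obj (op U)) :
    (UnitsSh.unitOfSect ((phi J hJ).hom.app (op U) f)).val =
      1 + (show X.sheaf.obj.obj (op U) from (ClSub.idealModι J).val.app (op U) f) := rfl

lemma phi_comap : phi J hJ ≫ UnitsSh.comap J.subschemeι = 0 := by
  apply Sheaf.hom_ext
  ext U k
  change UnitsSh.sectOfUnit (O := (Opens.map J.subschemeι.base).op ⋙ J.subscheme.presheaf) (U := U)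
    (Units.map (J.subschemeι.app U.unop).hom.toMonoidHom (unitOf J hJ (U := U.unop) k)) = 0
  have : Units.map (J.subschemeι.app U.unop).hom.toMonoidHom (unitOf J hJ (U := U.unop) k) = 1 := by
    apply Units.ext
    change (J.subschemeι.app U.unop) (1 + fn J k) = 1
    rw [map_add, map_one, app_fn, add_zero]
  rw [this]
  rfl

include hJ in
/-- a function on an affine open whose image on the closed subscheme is a unit is a unit. -/
lemma isUnit_of_isUnit_app (V : X.affineOpens) (a : Γ(X, V.1))
    (ha : IsUnit (J.subschemeι.app V.1 a)) : IsUnit a := by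
  obtain ⟨c, hc⟩ := ha.exists_right_inv
  obtain ⟨b, rfl⟩ := J.subschemeι_app_surjective V c
  have h1 : a * b - 1 ∈ J.ideal V := by
    rw [← Scheme.IdealSheafData.ker_subschemeι_app J V, RingHom.mem_ker, map_sub, map_mul, hc,
      map_one, sub_self]
  have h2 : (a * b - 1) * (a * b - 1) = 0 := by
    have : (a * b - 1) * (a * b - 1) ∈ (J * J).ideal V := by
      rw [Scheme.IdealSheafData.ideal_mul]
      exact Ideal.mul_mem_mul h1 h1
    rw [hJ, Scheme.IdealSheafData.ideal_bot] at this
    exact this
  refine IsUnit.of_mul_eq_one (b * (2 - a * b)) ?_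
  linear_combination (-1 : Γ(X, V.1)) * h2

/-- **the units sequence of a square-zero thickening is short exact.** -/
theorem shortExact :
    (ShortComplex.mk (phi J hJ) (UnitsSh.comap J.subschemeι) (phi_comap J hJ)).ShortExact := by
  apply Groth.Agent.Helper23.ShLocExact.shortExact_of_locally
  · intro W k k' h
    exact unitOf_injective J hJ (U := W.unop) h
  · intro W y hy
    let v : (Γ(X, W.unop))ˣ := UnitsSh.unitOfSect (O := X.presheaf) (U := W) y
    have h1 : J.subschemeι.app W.unop (v : Γ(X, W.unop)) = 1 := by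
      have := congrArg (fun t => (UnitsSh.unitOfSect
        (O := (Opens.map J.subschemeι.base).op ⋙ J.subscheme.presheaf) (U := W) t).val) hy
      exact this
    obtain ⟨k, hk⟩ := exists_fn_eq J ((v : Γ(X, W.unop)) - 1) (by
      rw [map_sub, h1, map_one, sub_self])
    refine ⟨k, ?_⟩
    have h2 : unitOf J hJ k = v := Units.ext (by rw [unitOf_val, hk]; ring)
    exact congrArg (UnitsSh.sectOfUnit (O := X.presheaf) (U := W)) h2
  · constructor
    intro U s
    intro x hx
    obtain ⟨V, hV, hxV, hVU⟩ := exists_isAffineOpen_mem_and_subset (x := x) (U := U) hx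
    have hVU' : V ≤ U := hVU
    refine ⟨V, homOfLE hVU', ?_, hxV⟩
    let s' : (Γ(J.subscheme, J.subschemeι ⁻¹ᵁ V))ˣ :=
      Units.map (J.subscheme.presheaf.map
        (homOfLE (show J.subschemeι ⁻¹ᵁ V ≤ J.subschemeι ⁻¹ᵁ U from fun _ h => hVU' h)).op).hom.toMonoidHom
        (UnitsSh.unitOfSect (O := (Opens.map J.subschemeι.base).op ⋙ J.subscheme.presheaf)
          (U := op U) s)
    obtain ⟨a, ha⟩ := J.subschemeι_app_surjective ⟨V, hV⟩ (s' : Γ(J.subscheme, J.subschemeι ⁻¹ᵁ V))
    have hu : IsUnit a := isUnit_of_isUnit_app J hJ ⟨V, hV⟩ a (by rw [ha]; exact s'.isUnit)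
    refine ⟨UnitsSh.sectOfUnit (O := X.presheaf) (U := op V) hu.unit, ?_⟩
    have h3 : Units.map (J.subschemeι.app V).hom.toMonoidHom hu.unit = s' := Units.ext ha
    exact congrArg (UnitsSh.sectOfUnit
      (O := (Opens.map J.subschemeι.base).op ⋙ J.subscheme.presheaf) (U := op V)) h3

end Groth.Agent.Helper23.UnitsSeq
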