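import Mathlib
import Groth.Prelude.Def_Pic
import Groth.Agent.Lib.Helper13.InvDual
import Groth.Agent.Lib.Helper13.PbTensor

set_option autoImplicit false
universe u
open CategoryTheory CategoryTheory.Limits AlgebraicGeometry Opposite TopologicalSpace
open Groth.Agent.Helper13 Groth.Agent.Helper13.Inv

namespace Groth.Agent.Helper23.PicTools

variable {X : Scheme.{u}}

/-- cancel an invertible factor: `A ⊗ B ≅ C` gives `B ≅ A^∨ ⊗ C`. -/
noncomputable def cancelIso (A B C : X.Modules) (hA : PicF.IsInvertible A)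
    (h : CohB1.tensorMod A B ≅ C) : B ≅ CohB1.tensorMod (InvDual.dual A) C :=
  (Tensor.lid B).symm ≪≫ Tensor.mapIso (InvDual.evIso' A hA).symm (Iso.refl B) ≪≫
    Tensor.assoc (InvDual.dual A) A B ≪≫ Tensor.mapIso (Iso.refl _) h

theorem isInvertible_of_tensor_left (A B C : X.Modules) (hA : PicF.IsInvertible A)
    (hC : PicF.IsInvertible C) (h : CohB1.tensorMod A B ≅ C) : PicF.IsInvertible B :=
  isInvertible_of_iso (cancelIso A B C hA h).symm
    (isInvertible_tensorMod _ _ (InvDual.isInvertible_dual A hA) hC)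

/-- on a one-point scheme every invertible module is trivial. -/
theorem nonempty_iso_unit_of_subsingleton [Subsingleton X] (N : X.Modules)
    (hN : PicF.IsInvertible N) (x : X) : Nonempty (N ≅ Coh.structureModule X) := by
  obtain ⟨U, hxU, s, hs⟩ := (isInvertible_iff_exists_isGen N).1 hN x
  have hU : U = ⊤ := by
    ext y
    simp only [Opens.coe_top, Set.mem_univ, iff_true]
    rw [Subsingleton.elim y x]
    exact hxU
  subst hU
  haveI := isIso_homOfSec N s (fun y => hs y trivial)
  exact ⟨(asIso (LocFree.homOfSec N s)).symm⟩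

/-- pulling back a tensor identity along a section. -/
theorem nonempty_iso_of_section {P T Xs : Scheme.{u}} (p₁ : P ⟶ Xs) (p₂ : P ⟶ T) (q : P ⟶ Xs)
    (e : T ⟶ P) (he₂ : e ≫ p₂ = 𝟙 T) (L : Xs.Modules) (hL : PicF.IsInvertible L) (M : T.Modules)
    (htriv : Nonempty ((Scheme.Modules.pullback (e ≫ p₁)).obj L ≅ Coh.structureModule T))
    (h : CohB1.tensorMod ((Scheme.Modules.pullback p₁).obj L)
        ((Scheme.Modules.pullback p₂).obj M) ≅ (Scheme.Modules.pullback q).obj L) :
    Nonempty (M ≅ (Scheme.Modules.pullback (e ≫ q)).obj L) := by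
  have hA : PicF.IsInvertible ((Scheme.Modules.pullback p₁).obj L) :=
    PbInv.isInvertible_pullback p₁ L hL
  have hC : PicF.IsInvertible ((Scheme.Modules.pullback q).obj L) :=
    PbInv.isInvertible_pullback q L hL
  have hB : PicF.IsInvertible ((Scheme.Modules.pullback p₂).obj M) :=
    isInvertible_of_tensor_left _ _ _ hA hC h
  obtain ⟨t⟩ := htriv
  let i1 : (Scheme.Modules.pullback e).obj ((Scheme.Modules.pullback p₁).obj L) ≅
      Coh.structureModule T := (Scheme.Modules.pullbackComp e p₁).app L ≪≫ t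
  let i2 : (Scheme.Modules.pullback e).obj ((Scheme.Modules.pullback p₂).obj M) ≅ M :=
    (Scheme.Modules.pullbackComp e p₂).app M ≪≫ (Scheme.Modules.pullbackCongr he₂).app M ≪≫
      (Scheme.Modules.pullbackId T).app M
  let i3 : (Scheme.Modules.pullback e).obj ((Scheme.Modules.pullback q).obj L) ≅
      (Scheme.Modules.pullback (e ≫ q)).obj L := (Scheme.Modules.pullbackComp e q).app L
  exact ⟨i2.symm ≪≫ (Tensor.lid _).symm ≪≫ Tensor.mapIso i1.symm (Iso.refl _) ≪≫
    (PbTensor.pullbackTensorIso e _ _ hA hB).symm ≪≫ (Scheme.Modules.pullback e).mapIso h ≪≫ i3⟩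

end Groth.Agent.Helper23.PicTools
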