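import Mathlib
import Groth.Prelude.Def_Pic
import Groth.Prelude.Def_AgPol
import Groth.Agent.Lib.Helper13.InvDual
import Groth.Agent.Lib.Helper13.PbTensor
import Groth.Agent.Lib.Helper23.PicTools

set_option autoImplicit false
universe u
open CategoryTheory CategoryTheory.Limits AlgebraicGeometry Opposite TopologicalSpace
open Groth.Agent.Helper13 Groth.Agent.Helper13.Inv

namespace Groth.Agent.Helper23.PicCalc

variable {X Y Z : Scheme.{u}}

/-- invertible modules on `X`. -/
def InvMod (X : Scheme.{u}) : Type (u + 1) := {M : X.Modules // PicF.IsInvertible M}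

/-- isomorphism relation on invertible modules. -/
def invSetoid (X : Scheme.{u}) : Setoid (InvMod X) where
  r A B := Nonempty (A.1 ≅ B.1)
  iseqv := ⟨fun _ => ⟨Iso.refl _⟩, fun ⟨e⟩ => ⟨e.symm⟩, fun ⟨e⟩ ⟨f⟩ => ⟨e ≪≫ f⟩⟩

/-- the Picard group of `X` as a set of isomorphism classes. -/
def Pic (X : Scheme.{u}) : Type (u + 1) := Quotient (invSetoid X)

/-- the class of an invertible module. -/
def cl (M : X.Modules) (hM : PicF.IsInvertible M) : Pic X := Quotient.mk (invSetoid X) ⟨M, hM⟩

theorem cl_eq_iff {M N : X.Modules} (hM : PicF.IsInvertible M) (hN : PicF.IsInvertible N) :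
    cl M hM = cl N hN ↔ Nonempty (M ≅ N) :=
  ⟨fun h => Quotient.exact h, fun h => Quotient.sound h⟩

theorem exists_rep (c : Pic X) : ∃ (M : X.Modules) (hM : PicF.IsInvertible M), c = cl M hM := by
  induction c using Quotient.inductionOn with
  | _ A => exact ⟨A.1, A.2, rfl⟩

noncomputable instance : Add (Pic X) :=
  ⟨Quotient.map₂ (sa := invSetoid X) (sb := invSetoid X) (sc := invSetoid X)
    (fun A B => (⟨CohB1.tensorMod A.1 B.1, isInvertible_tensorMod _ _ A.2 B.2⟩ : InvMod X))
    (fun _ _ h _ _ h' => by
      obtain ⟨e⟩ := h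
      obtain ⟨f⟩ := h'
      exact ⟨Tensor.mapIso e f⟩)⟩

noncomputable instance : Zero (Pic X) :=
  ⟨cl (Coh.structureModule X) isInvertible_structureModule⟩

theorem cl_add {M N : X.Modules} (hM : PicF.IsInvertible M) (hN : PicF.IsInvertible N) :
    cl M hM + cl N hN = cl (CohB1.tensorMod M N) (isInvertible_tensorMod _ _ hM hN) := rfl

theorem zero_def : (0 : Pic X) = cl (Coh.structureModule X) isInvertible_structureModule := rfl

theorem add_assoc' (a b c : Pic X) : a + b + c = a + (b + c) := by
  induction a using Quotient.inductionOn with | _ A => ?_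
  induction b using Quotient.inductionOn with | _ B => ?_
  induction c using Quotient.inductionOn with | _ C => ?_
  exact (cl_eq_iff (isInvertible_tensorMod _ _ (isInvertible_tensorMod _ _ A.2 B.2) C.2)
    (isInvertible_tensorMod _ _ A.2 (isInvertible_tensorMod _ _ B.2 C.2))).2
    ⟨Tensor.assoc A.1 B.1 C.1⟩

theorem zero_add' (a : Pic X) : 0 + a = a := by
  induction a using Quotient.inductionOn with | _ A => ?_
  exact (cl_eq_iff (isInvertible_tensorMod _ _ isInvertible_structureModule A.2) A.2).2
    ⟨Tensor.lid A.1⟩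

theorem add_comm' (a b : Pic X) : a + b = b + a := by
  induction a using Quotient.inductionOn with | _ A => ?_
  induction b using Quotient.inductionOn with | _ B => ?_
  exact (cl_eq_iff (isInvertible_tensorMod _ _ A.2 B.2) (isInvertible_tensorMod _ _ B.2 A.2)).2
    ⟨Tensor.braid A.1 B.1⟩

theorem exists_neg (c : Pic X) : ∃ d : Pic X, d + c = 0 := by
  induction c using Quotient.inductionOn with | _ A => ?_
  exact ⟨cl (InvDual.dual A.1) (InvDual.isInvertible_dual A.1 A.2),
    (cl_eq_iff (isInvertible_tensorMod _ _ (InvDual.isInvertible_dual A.1 A.2) A.2)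
      isInvertible_structureModule).2 ⟨InvDual.evIso' A.1 A.2⟩⟩

noncomputable instance : Neg (Pic X) := ⟨fun c => Classical.choose (exists_neg c)⟩

theorem neg_add_cancel' (c : Pic X) : -c + c = 0 := Classical.choose_spec (exists_neg c)

noncomputable instance : AddCommGroup (Pic X) :=
  { AddGroup.ofLeftAxioms add_assoc' zero_add' neg_add_cancel' with
    add_comm := add_comm' }

/-- pullback of classes. -/
noncomputable def pull (f : X ⟶ Y) : Pic Y →+ Pic X where
  toFun := Quotient.map (sa := invSetoid Y) (sb := invSetoid X)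
    (fun A => (⟨(Scheme.Modules.pullback f).obj A.1,
      PbInv.isInvertible_pullback f A.1 A.2⟩ : InvMod X))
    (fun _ _ h => by
      obtain ⟨e⟩ := h
      exact ⟨(Scheme.Modules.pullback f).mapIso e⟩)
  map_zero' := (cl_eq_iff (PbInv.isInvertible_pullback f _ isInvertible_structureModule)
    isInvertible_structureModule).2 ⟨PbUnit.pullbackUnitIso f⟩
  map_add' a b := by
    induction a using Quotient.inductionOn with | _ A => ?_
    induction b using Quotient.inductionOn with | _ B => ?_
    exact (cl_eq_iff (PbInv.isInvertible_pullback f _ (isInvertible_tensorMod _ _ A.2 B.2))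
      (isInvertible_tensorMod _ _ (PbInv.isInvertible_pullback f _ A.2)
        (PbInv.isInvertible_pullback f _ B.2))).2 ⟨PbTensor.pullbackTensorIso f A.1 B.1 A.2 B.2⟩

theorem pull_cl (f : X ⟶ Y) (M : Y.Modules) (hM : PicF.IsInvertible M) :
    pull f (cl M hM) = cl ((Scheme.Modules.pullback f).obj M)
      (PbInv.isInvertible_pullback f M hM) := rfl

theorem pull_pull (f : X ⟶ Y) (g : Y ⟶ Z) (c : Pic Z) : pull f (pull g c) = pull (f ≫ g) c := by
  induction c using Quotient.inductionOn with | _ A => ?_
  exact (cl_eq_iff (PbInv.isInvertible_pullback f _ (PbInv.isInvertible_pullback g _ A.2))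
    (PbInv.isInvertible_pullback (f ≫ g) _ A.2)).2 ⟨(Scheme.Modules.pullbackComp f g).app A.1⟩

theorem pull_id (c : Pic X) : pull (𝟙 X) c = c := by
  induction c using Quotient.inductionOn with | _ A => ?_
  exact (cl_eq_iff (PbInv.isInvertible_pullback (𝟙 X) _ A.2) A.2).2
    ⟨(Scheme.Modules.pullbackId X).app A.1⟩

theorem pull_congr {f g : X ⟶ Y} (h : f = g) (c : Pic Y) : pull f c = pull g c := by
  subst h; rfl

/-- the Picard group of a one-point scheme is trivial. -/
theorem eq_zero_of_subsingleton [Subsingleton X] (x : X) (c : Pic X) : c = 0 := by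
  induction c using Quotient.inductionOn with | _ A => ?_
  exact (cl_eq_iff A.2 isInvertible_structureModule).2
    (PicTools.nonempty_iso_unit_of_subsingleton A.1 A.2 x)

/-- pullback through a one-point scheme is trivial. -/
theorem pull_eq_zero_of_factors [Subsingleton Y] (y : Y) (f : X ⟶ Y) (g : Y ⟶ Z) (c : Pic Z) :
    pull (f ≫ g) c = 0 := by
  rw [← pull_pull, eq_zero_of_subsingleton y (pull g c), map_zero]

/-- the Mumford-type relation in terms of classes. -/
theorem isLambdaSheaf_iff {W : Scheme.{u}} (m p q : W ⟶ Y) (L : Y.Modules) (hL : PicF.IsInvertible L)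
    (N : W.Modules) (hN : PicF.IsInvertible N) :
    AgPol.IsLambdaSheaf m p q L N ↔
      cl N hN + pull p (cl L hL) + pull q (cl L hL) = pull m (cl L hL) := by
  rw [pull_cl, pull_cl, pull_cl, cl_add, cl_add, cl_eq_iff]
  rfl

end Groth.Agent.Helper23.PicCalc
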