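import Mathlib
import Groth.Prelude.Def_RefHull
import Groth.Agent.Lib.Helper13.GenLocus
import Groth.Agent.Lib.Helper13.DirImgFull

set_option autoImplicit false
universe u
open CategoryTheory CategoryTheory.Limits AlgebraicGeometry Opposite TopologicalSpace
open Groth.Agent.Helper13.Inv RefHull

namespace Groth.Agent.Helper23.CechIso

variable {X : Scheme.{u}} (L : X.Modules)

/-- `s` generates `L` freely over every open contained in `U`. -/
def GenSec {U : X.Opens} (s : Γ(L, U)) : Prop :=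
  ∀ (V : X.Opens) (h : V ≤ U),
    Function.Bijective (fun r : Γ(X, V) => r • L.presheaf.map (homOfLE h).op s)

lemma res_res {U V N : X.Opens} (hV : V ≤ U) (hN : N ≤ V) (m : Γ(L, U)) :
    L.presheaf.map (homOfLE hN).op (L.presheaf.map (homOfLE hV).op m) =
      L.presheaf.map (homOfLE (hN.trans hV)).op m := by
  apply TopCat.Presheaf.section_ext ⟨L.presheaf, L.isSheaf⟩
  intro z hz
  change L.presheaf.germ N z hz _ = L.presheaf.germ N z hz _
  rw [TopCat.Presheaf.germ_res_apply, TopCat.Presheaf.germ_res_apply,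
    TopCat.Presheaf.germ_res_apply]

lemma res_id {U : X.Opens} (h : U ≤ U) (m : Γ(L, U)) :
    L.presheaf.map (homOfLE h).op m = m := by
  apply TopCat.Presheaf.section_ext ⟨L.presheaf, L.isSheaf⟩
  intro z hz
  change L.presheaf.germ U z hz _ = L.presheaf.germ U z hz _
  rw [TopCat.Presheaf.germ_res_apply]

variable {L}

/-- a section generating freely on all smaller opens generates the stalks freely. -/
lemma GenSec.isGen {U : X.Opens} {s : Γ(L, U)} (hs : GenSec L s) (y : X) (hy : y ∈ U) :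
    IsGen L s y hy := by
  constructor
  · intro r r' hrr
    simp only at hrr
    obtain ⟨W₁, hyW₁, a, rfl⟩ := X.presheaf.exists_germ_eq r
    obtain ⟨W₂, hyW₂, a', rfl⟩ := X.presheaf.exists_germ_eq r'
    let W : X.Opens := W₁ ⊓ W₂ ⊓ U
    have hyW : y ∈ W := ⟨⟨hyW₁, hyW₂⟩, hy⟩
    have hW1 : W ≤ W₁ := inf_le_left.trans inf_le_left
    have hW2 : W ≤ W₂ := inf_le_left.trans inf_le_right
    have hWU : W ≤ U := inf_le_right
    have h1 : L.presheaf.germ W y hyW (X.presheaf.map (homOfLE hW1).op a •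
        L.presheaf.map (homOfLE hWU).op s) =
        L.presheaf.germ W y hyW (X.presheaf.map (homOfLE hW2).op a' •
        L.presheaf.map (homOfLE hWU).op s) := by
      rw [Mero.germ_smul, Mero.germ_smul, TopCat.Presheaf.germ_res_apply,
        TopCat.Presheaf.germ_res_apply, TopCat.Presheaf.germ_res_apply]
      exact hrr
    obtain ⟨W', hyW', i₁, i₂, e⟩ := L.presheaf.germ_eq y hyW hyW _ _ h1
    have hW'W : W' ≤ W := i₁.le
    have e' : L.presheaf.map (homOfLE hW'W).op (X.presheaf.map (homOfLE hW1).op a •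
        L.presheaf.map (homOfLE hWU).op s) =
        L.presheaf.map (homOfLE hW'W).op (X.presheaf.map (homOfLE hW2).op a' •
        L.presheaf.map (homOfLE hWU).op s) := e
    rw [Scheme.Modules.map_smul, Scheme.Modules.map_smul, res_res] at e'
    have e2 := (hs W' (hW'W.trans hWU)).1 e'
    rw [← TopCat.Presheaf.germ_res_apply X.presheaf (homOfLE hW1) y hyW a,
      ← TopCat.Presheaf.germ_res_apply X.presheaf (homOfLE hW2) y hyW a',
      ← TopCat.Presheaf.germ_res_apply X.presheaf (homOfLE hW'W) y hyW',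
      ← TopCat.Presheaf.germ_res_apply X.presheaf (homOfLE hW'W) y hyW', e2]
  · intro n
    obtain ⟨W, hyW, m, rfl⟩ := L.presheaf.exists_germ_eq n
    let W' : X.Opens := W ⊓ U
    have hyW' : y ∈ W' := ⟨hyW, hy⟩
    obtain ⟨a, ha⟩ := (hs W' inf_le_right).2 (L.presheaf.map (homOfLE (inf_le_left : W' ≤ W)).op m)
    simp only at ha
    refine ⟨X.presheaf.germ W' y hyW' a, ?_⟩
    simp only
    rw [← TopCat.Presheaf.germ_res_apply L.presheaf (homOfLE (inf_le_left : W' ≤ W)) y hyW' m,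
      ← ha, Mero.germ_smul, TopCat.Presheaf.germ_res_apply]

/-- naturality of a module morphism on sections. -/
lemma app_res {L' : X.Modules} (w : L ⟶ L') {U V : X.Opens} (i : V ⟶ U) (m : Γ(L, U)) :
    w.app V (L.presheaf.map i.op m) = L'.presheaf.map i.op (w.app U m) := by
  have := w.mapPresheaf.naturality i.op
  exact congr($this m)

section Cover

variable {ι : Type*} (U : ι → X.Opens) (hU : iSup U = ⊤)
include hU

lemma exists_idx (y : X) : ∃ i, y ∈ U i := by
  have : y ∈ iSup U := by rw [hU]; trivial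
  exact Opens.mem_iSup.1 this

/-- morphisms agreeing on local generators are equal. -/
theorem hom_ext_of_gen {L' : X.Modules} (s : ∀ i, Γ(L, U i)) (hs : ∀ i, GenSec L (s i))
    (φ ψ : L ⟶ L') (h : ∀ i, φ.app (U i) (s i) = ψ.app (U i) (s i)) : φ = ψ := by
  apply Scheme.Modules.hom_ext
  intro V
  ext m
  apply TopCat.Presheaf.section_ext ⟨L'.presheaf, L'.isSheaf⟩
  intro y hy
  obtain ⟨i, hyi⟩ := exists_idx U hU y
  let W : X.Opens := V ⊓ U i
  have hyW : y ∈ W := ⟨hy, hyi⟩
  obtain ⟨a, ha⟩ := (hs i W inf_le_right).2 (L.presheaf.map (homOfLE (inf_le_left : W ≤ V)).op m)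
  simp only at ha
  change L'.presheaf.germ V y hy (φ.app V m) = L'.presheaf.germ V y hy (ψ.app V m)
  rw [← TopCat.Presheaf.germ_res_apply L'.presheaf (homOfLE (inf_le_left : W ≤ V)) y hyW,
    ← TopCat.Presheaf.germ_res_apply L'.presheaf (homOfLE (inf_le_left : W ≤ V)) y hyW,
    ← app_res, ← app_res, ← ha, Scheme.Modules.Hom.app_smul, Scheme.Modules.Hom.app_smul,
    app_res, app_res, h i]

end Cover

section Construct

variable {ι : Type*} (U : ι → X.Opens) {L' : X.Modules}
  (s : ∀ i, Γ(L, U i)) (s' : ∀ i, Γ(L', U i)) (hs : ∀ i, GenSec L (s i))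
  (η : ∀ i j, Γ(X, U i ⊓ U j))
  (hη : ∀ i j, L.presheaf.map (homOfLE (inf_le_left : U i ⊓ U j ≤ U i)).op (s i) =
      η i j • L.presheaf.map (homOfLE (inf_le_right : U i ⊓ U j ≤ U j)).op (s j))
  (c : ∀ i, Γ(X, U i))
  (hc : ∀ i j, X.presheaf.map (homOfLE (inf_le_left : U i ⊓ U j ≤ U i)).op (c i) •
      L'.presheaf.map (homOfLE (inf_le_left : U i ⊓ U j ≤ U i)).op (s' i) =
      (η i j * X.presheaf.map (homOfLE (inf_le_right : U i ⊓ U j ≤ U j)).op (c j)) •
        L'.presheaf.map (homOfLE (inf_le_right : U i ⊓ U j ≤ U j)).op (s' j))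

/-- the target germ `c_i • s'_i` at `y`. -/
noncomputable def tgt (i : ι) (y : X) (hi : y ∈ U i) : L'.presheaf.stalk y :=
  X.presheaf.germ (U i) y hi (c i) • L'.presheaf.germ (U i) y hi (s' i)

include hη in
lemma germ_hη (i j : ι) (y : X) (hi : y ∈ U i) (hj : y ∈ U j) :
    L.presheaf.germ (U i) y hi (s i) =
      X.presheaf.germ (U i ⊓ U j) y ⟨hi, hj⟩ (η i j) • L.presheaf.germ (U j) y hj (s j) := by
  have := congrArg (L.presheaf.germ (U i ⊓ U j) y ⟨hi, hj⟩) (hη i j)
  rwa [Mero.germ_smul, TopCat.Presheaf.germ_res_apply, TopCat.Presheaf.germ_res_apply] at this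

include hc in
lemma germ_hc (i j : ι) (y : X) (hi : y ∈ U i) (hj : y ∈ U j) :
    tgt U s' c i y hi =
      X.presheaf.germ (U i ⊓ U j) y ⟨hi, hj⟩ (η i j) • tgt U s' c j y hj := by
  have := congrArg (L'.presheaf.germ (U i ⊓ U j) y ⟨hi, hj⟩) (hc i j)
  rw [Mero.germ_smul, Mero.germ_smul, TopCat.Presheaf.germ_res_apply,
    TopCat.Presheaf.germ_res_apply, TopCat.Presheaf.germ_res_apply, map_mul,
    TopCat.Presheaf.germ_res_apply, mul_smul] at this
  exact this

include hs in
lemma bijective_toSpanSingleton (i : ι) (y : X) (hi : y ∈ U i) :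
    Function.Bijective (LinearMap.toSpanSingleton (X.presheaf.stalk y) (L.presheaf.stalk y)
      (L.presheaf.germ (U i) y hi (s i))) := by
  have h : ⇑(LinearMap.toSpanSingleton (X.presheaf.stalk y) (L.presheaf.stalk y)
      (L.presheaf.germ (U i) y hi (s i))) = fun r => r • L.presheaf.germ (U i) y hi (s i) := by
    funext r
    exact LinearMap.toSpanSingleton_apply _ _ _ _
  rw [h]
  exact (hs i).isGen y hi

/-- the stalk map `r • s_i ↦ r • c_i • s'_i`. -/
noncomputable def stalkHomAt (i : ι) (y : X) (hi : y ∈ U i) : StalkHom L L' y :=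
  (LinearMap.toSpanSingleton (X.presheaf.stalk y) (L'.presheaf.stalk y) (tgt U s' c i y hi)).comp
    (LinearEquiv.ofBijective _ (bijective_toSpanSingleton U s hs i y hi)).symm.toLinearMap

lemma stalkHomAt_apply (i : ι) (y : X) (hi : y ∈ U i) (r : X.presheaf.stalk y) :
    stalkHomAt U s s' hs c i y hi (r • L.presheaf.germ (U i) y hi (s i)) =
      r • tgt U s' c i y hi := by
  have h1 : (LinearEquiv.ofBijective _ (bijective_toSpanSingleton U s hs i y hi)).symm
      (r • L.presheaf.germ (U i) y hi (s i)) = r := by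
    rw [LinearEquiv.symm_apply_eq]
    exact (LinearMap.toSpanSingleton_apply _ _ _ _).symm
  change (LinearMap.toSpanSingleton (X.presheaf.stalk y) (L'.presheaf.stalk y)
    (tgt U s' c i y hi)) ((LinearEquiv.ofBijective _
      (bijective_toSpanSingleton U s hs i y hi)).symm _) = _
  rw [h1]
  exact LinearMap.toSpanSingleton_apply _ _ _ _

include hη hc in
lemma stalkHomAt_apply' (i j : ι) (y : X) (hi : y ∈ U i) (hj : y ∈ U j)
    (r : X.presheaf.stalk y) :
    stalkHomAt U s s' hs c i y hi (r • L.presheaf.germ (U j) y hj (s j)) =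
      r • tgt U s' c j y hj := by
  rw [germ_hη U s η hη j i y hj hi, ← mul_smul, stalkHomAt_apply, mul_smul,
    ← germ_hc U s' η c hc j i y hj hi]

variable (hU : iSup U = ⊤)

/-- a chosen index of the cover containing `y`. -/
noncomputable def idx (y : X) : ι := (exists_idx U hU y).choose

lemma idx_mem (y : X) : y ∈ U (idx U hU y) := (exists_idx U hU y).choose_spec

/-- the glued stalk map. -/
noncomputable def stalkHom (y : X) : StalkHom L L' y :=
  stalkHomAt U s s' hs c (idx U hU y) y (idx_mem U hU y)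

include hη hc in
lemma stalkHom_apply (j : ι) (y : X) (hj : y ∈ U j) (r : X.presheaf.stalk y) :
    stalkHom U s s' hs c hU y (r • L.presheaf.germ (U j) y hj (s j)) =
      r • tgt U s' c j y hj :=
  stalkHomAt_apply' U s s' hs η hη c hc (idx U hU y) j y (idx_mem U hU y) hj r

include hη hc in
lemma isLocSect_stalkHom :
    IsLocSect L L' (fun y : (⊤ : X.Opens) => stalkHom U s s' hs c hU y.1) := by
  intro V i m x
  obtain ⟨k, hk⟩ := exists_idx U hU x.1
  let W : X.Opens := V ⊓ U k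
  have hxW : x.1 ∈ W := ⟨x.2, hk⟩
  obtain ⟨a, ha⟩ := (hs k W inf_le_right).2 (L.presheaf.map (homOfLE (inf_le_left : W ≤ V)).op m)
  simp only at ha
  refine ⟨W, hxW, homOfLE inf_le_left,
    (a * X.presheaf.map (homOfLE (inf_le_right : W ≤ U k)).op (c k)) •
      L'.presheaf.map (homOfLE (inf_le_right : W ≤ U k)).op (s' k), fun y => ?_⟩
  have hyk : y.1 ∈ U k := y.2.2
  have hyV : y.1 ∈ V := y.2.1
  have h1 : L.presheaf.germ V y.1 hyV m =
      X.presheaf.germ W y.1 y.2 a • L.presheaf.germ (U k) y.1 hyk (s k) := by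
    rw [← TopCat.Presheaf.germ_res_apply L.presheaf (homOfLE (inf_le_left : W ≤ V)) y.1 y.2 m,
      ← ha, Mero.germ_smul, TopCat.Presheaf.germ_res_apply]
  change stalkHom U s s' hs c hU y.1 (L.presheaf.germ V y.1 hyV m) = _
  rw [h1, stalkHom_apply U s s' hs η hη c hc hU k y.1 hyk, Mero.germ_smul, map_mul, mul_smul,
    TopCat.Presheaf.germ_res_apply, TopCat.Presheaf.germ_res_apply]
  rfl

include hs hU hη hc in
/-- **construction of a morphism from local data.** -/
theorem exists_hom : ∃ φ : L ⟶ L', ∀ i, φ.app (U i) (s i) = c i • s' i := by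
  let g : Γ(homSh L L', ⊤) :=
    ⟨fun y => stalkHom U s s' hs c hU y.1, isLocSect_stalkHom U s s' hs η hη c hc hU⟩
  refine ⟨Groth.Agent.Helper13.DirImgFull.homOfSec g, fun i => ?_⟩
  apply TopCat.Presheaf.section_ext ⟨L'.presheaf, L'.isSheaf⟩
  intro y hy
  change L'.presheaf.germ (U i) y hy _ = L'.presheaf.germ (U i) y hy _
  rw [Groth.Agent.Helper13.DirImgFull.germ_homOfSec, Mero.germ_smul]
  change stalkHom U s s' hs c hU y (L.presheaf.germ (U i) y hy (s i)) = _
  have := stalkHom_apply U s s' hs η hη c hc hU i y hy 1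
  rw [one_smul, one_smul] at this
  exact this

end Construct

section Main

lemma GenSec.smul_inj {U : X.Opens} {s : Γ(L, U)} (hs : GenSec L s) {a b : Γ(X, U)}
    (h : a • s = b • s) : a = b := by
  apply (hs U le_rfl).1
  simp only
  rw [res_id]
  exact h

lemma GenSec.exists_smul {U : X.Opens} {s : Γ(L, U)} (hs : GenSec L s) (m : Γ(L, U)) :
    ∃ a : Γ(X, U), a • s = m := by
  obtain ⟨a, ha⟩ := (hs U le_rfl).2 m
  simp only at ha
  rw [res_id] at ha
  exact ⟨a, ha⟩

variable {ι : Type*} (U : ι → X.Opens) (hU : iSup U = ⊤) {L' : X.Modules}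
  (s : ∀ i, Γ(L, U i)) (s' : ∀ i, Γ(L', U i)) (hs : ∀ i, GenSec L (s i))
  (hs' : ∀ i, GenSec L' (s' i))
  (η η' : ∀ i j, Γ(X, U i ⊓ U j))
  (hη : ∀ i j, L.presheaf.map (homOfLE (inf_le_left : U i ⊓ U j ≤ U i)).op (s i) =
      η i j • L.presheaf.map (homOfLE (inf_le_right : U i ⊓ U j ≤ U j)).op (s j))
  (hη' : ∀ i j, L'.presheaf.map (homOfLE (inf_le_left : U i ⊓ U j ≤ U i)).op (s' i) =
      η' i j • L'.presheaf.map (homOfLE (inf_le_right : U i ⊓ U j ≤ U j)).op (s' j))

include hs hs' hη hη' in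
/-- an isomorphism gives a coboundary between the transition cocycles. -/
theorem exists_units_of_iso (e : L ≅ L') :
    ∃ u : ∀ i : ι, (Γ(X, U i))ˣ, ∀ i j : ι,
      η' i j * X.presheaf.map (homOfLE (inf_le_left : U i ⊓ U j ≤ U i)).op (u i : Γ(X, U i)) =
        X.presheaf.map (homOfLE (inf_le_right : U i ⊓ U j ≤ U j)).op (u j : Γ(X, U j)) * η i j := by
  choose a ha using fun i => (hs' i).exists_smul (e.hom.app (U i) (s i))
  choose b hb using fun i => (hs i).exists_smul (e.inv.app (U i) (s' i))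
  have hab : ∀ i, a i * b i = 1 := by
    intro i
    apply (hs' i).smul_inj
    have h1 : e.hom.app (U i) (e.inv.app (U i) (s' i)) = s' i :=
      congr(($e.inv_hom_id).app (U i) (s' i))
    rw [← hb i, Scheme.Modules.Hom.app_smul, ← ha i, smul_smul, mul_comm] at h1
    rw [h1, one_smul]
  refine ⟨fun i => Units.mkOfMulEqOne (a i) (b i) (hab i), fun i j => ?_⟩
  change η' i j * X.presheaf.map (homOfLE (inf_le_left : U i ⊓ U j ≤ U i)).op (a i) =
    X.presheaf.map (homOfLE (inf_le_right : U i ⊓ U j ≤ U j)).op (a j) * η i j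
  apply (hs' j (U i ⊓ U j) inf_le_right).1
  simp only
  have h1 : e.hom.app (U i ⊓ U j) (L.presheaf.map (homOfLE (inf_le_left : U i ⊓ U j ≤ U i)).op (s i)) =
      (X.presheaf.map (homOfLE (inf_le_left : U i ⊓ U j ≤ U i)).op (a i) * η' i j) •
        L'.presheaf.map (homOfLE (inf_le_right : U i ⊓ U j ≤ U j)).op (s' j) := by
    rw [app_res, ← ha i, Scheme.Modules.map_smul, hη' i j, smul_smul]
  have h2 : e.hom.app (U i ⊓ U j) (L.presheaf.map (homOfLE (inf_le_left : U i ⊓ U j ≤ U i)).op (s i)) =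
      (η i j * X.presheaf.map (homOfLE (inf_le_right : U i ⊓ U j ≤ U j)).op (a j)) •
        L'.presheaf.map (homOfLE (inf_le_right : U i ⊓ U j ≤ U j)).op (s' j) := by
    rw [hη i j, Scheme.Modules.Hom.app_smul, app_res, ← ha j, Scheme.Modules.map_smul, smul_smul]
  rw [mul_comm (η' i j), mul_comm _ (η i j), ← h1, ← h2]

include hU hs hs' hη hη' in
/-- a coboundary between the transition cocycles gives an isomorphism. -/
theorem iso_of_units (u : ∀ i : ι, (Γ(X, U i))ˣ)
    (hu : ∀ i j : ι,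
      η' i j * X.presheaf.map (homOfLE (inf_le_left : U i ⊓ U j ≤ U i)).op (u i : Γ(X, U i)) =
        X.presheaf.map (homOfLE (inf_le_right : U i ⊓ U j ≤ U j)).op (u j : Γ(X, U j)) * η i j) :
    Nonempty (L ≅ L') := by
  obtain ⟨φ, hφ⟩ := exists_hom U s s' hs η hη (fun i => (u i : Γ(X, U i))) (by
    intro i j
    rw [hη' i j, smul_smul, mul_comm, hu i j, mul_comm]) hU
  obtain ⟨ψ, hψ⟩ := exists_hom U s' s hs' η' hη' (fun i => ((u i)⁻¹ : (Γ(X, U i))ˣ)) (by
    intro i j
    rw [hη i j, smul_smul]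
    congr 1
    have hA : X.presheaf.map (homOfLE (inf_le_left : U i ⊓ U j ≤ U i)).op (u i : Γ(X, U i)) *
        X.presheaf.map (homOfLE (inf_le_left : U i ⊓ U j ≤ U i)).op
          (((u i)⁻¹ : (Γ(X, U i))ˣ) : Γ(X, U i)) = 1 := by
      rw [← map_mul, Units.mul_inv, map_one]
    have hB : X.presheaf.map (homOfLE (inf_le_right : U i ⊓ U j ≤ U j)).op (u j : Γ(X, U j)) *
        X.presheaf.map (homOfLE (inf_le_right : U i ⊓ U j ≤ U j)).op
          (((u j)⁻¹ : (Γ(X, U j))ˣ) : Γ(X, U j)) = 1 := by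
      rw [← map_mul, Units.mul_inv, map_one]
    have h1 := hu i j
    generalize X.presheaf.map (homOfLE (inf_le_left : U i ⊓ U j ≤ U i)).op (u i : Γ(X, U i)) = A
      at hA h1 ⊢
    generalize X.presheaf.map (homOfLE (inf_le_left : U i ⊓ U j ≤ U i)).op
      (((u i)⁻¹ : (Γ(X, U i))ˣ) : Γ(X, U i)) = Ai at hA ⊢
    generalize X.presheaf.map (homOfLE (inf_le_right : U i ⊓ U j ≤ U j)).op (u j : Γ(X, U j)) = B
      at hB h1 ⊢
    generalize X.presheaf.map (homOfLE (inf_le_right : U i ⊓ U j ≤ U j)).op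
      (((u j)⁻¹ : (Γ(X, U j))ˣ) : Γ(X, U j)) = Bi at hB ⊢
    linear_combination (-(Ai * η i j)) * hB - (Ai * Bi) * h1 + (Bi * η' i j) * hA) hU
  refine ⟨⟨φ, ψ, ?_, ?_⟩⟩
  · apply hom_ext_of_gen U hU s hs
    intro i
    change ψ.app (U i) (φ.app (U i) (s i)) = s i
    rw [hφ, Scheme.Modules.Hom.app_smul, hψ, smul_smul, Units.mul_inv, one_smul]
  · apply hom_ext_of_gen U hU s' hs'
    intro i
    change φ.app (U i) (ψ.app (U i) (s' i)) = s' i
    rw [hψ, Scheme.Modules.Hom.app_smul, hφ, smul_smul, Units.inv_mul, one_smul]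

end Main

end Groth.Agent.Helper23.CechIso
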