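import Mathlib
import Groth.Prelude.Def_MeroSh
import Groth.Agent.Lib.Helper23.CechIso

set_option autoImplicit false
universe u
open CategoryTheory CategoryTheory.Limits AlgebraicGeometry Opposite TopologicalSpace
open Groth.Agent.Helper13.Inv

namespace Groth.Agent.Helper23.CechGlue

open Groth.Agent.Helper23.CechIso

variable {X : Scheme.{u}}

/-- gluing of functions from compatible germs. -/
theorem exists_glue_fun (V : X.Opens) (t : ∀ y : V, X.presheaf.stalk y.1)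
    (h : ∀ y : V, ∃ (W : X.Opens) (_ : y.1 ∈ W) (j : W ≤ V) (r : Γ(X, W)),
      ∀ z : W, X.presheaf.germ W z.1 z.2 r = t ⟨z.1, j z.2⟩) :
    ∃ r : Γ(X, V), ∀ y : V, X.presheaf.germ V y.1 y.2 r = t y := by
  choose W hy j r hr using h
  have hcompat : TopCat.Presheaf.IsCompatible X.presheaf W r := by
    intro i k
    apply TopCat.Presheaf.section_ext X.sheaf (W i ⊓ W k)
    intro z hz
    change X.presheaf.germ (W i ⊓ W k) z hz (X.presheaf.map (Opens.infLELeft _ _).op (r i)) =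
      X.presheaf.germ _ z hz (X.presheaf.map (Opens.infLERight _ _).op (r k))
    rw [TopCat.Presheaf.germ_res_apply, TopCat.Presheaf.germ_res_apply]
    rw [hr i ⟨z, hz.1⟩, hr k ⟨z, hz.2⟩]
  obtain ⟨g, hg, -⟩ := TopCat.Sheaf.existsUnique_gluing' X.sheaf W V
    (fun y => homOfLE (j y)) (fun y hyV => Opens.mem_iSup.2 ⟨⟨y, hyV⟩, hy ⟨y, hyV⟩⟩) r hcompat
  have hg' : ∀ i, X.presheaf.map (homOfLE (j i)).op (g : Γ(X, V)) = r i := hg
  refine ⟨g, fun y => ?_⟩
  rw [← TopCat.Presheaf.germ_res_apply X.presheaf (homOfLE (j y)) y.1 (hy y), hg' y]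
  exact hr y ⟨y.1, hy y⟩

variable {ι : Type*} (U : ι → X.Opens) (hU : iSup U = ⊤)
  (η : ∀ i j : ι, (Γ(X, U i ⊓ U j))ˣ)
  (hη : ∀ i j k : ι,
      X.presheaf.map (homOfLE (inf_le_inf_right (U k) inf_le_left : U i ⊓ U j ⊓ U k ≤ U i ⊓ U k)).op
          (η i k : Γ(X, U i ⊓ U k)) =
        X.presheaf.map (homOfLE (inf_le_left : U i ⊓ U j ⊓ U k ≤ U i ⊓ U j)).op (η i j : Γ(X, U i ⊓ U j)) *
          X.presheaf.map (homOfLE (inf_le_inf_right (U k) inf_le_right : U i ⊓ U j ⊓ U k ≤ U j ⊓ U k)).op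
            (η j k : Γ(X, U j ⊓ U k)))

/-- the germ of `η i j` at `y`. -/
noncomputable def ηg (i j : ι) (y : X) (hi : y ∈ U i) (hj : y ∈ U j) : X.presheaf.stalk y :=
  X.presheaf.germ (U i ⊓ U j) y ⟨hi, hj⟩ (η i j : Γ(X, U i ⊓ U j))

lemma isUnit_ηg (i j : ι) (y : X) (hi : y ∈ U i) (hj : y ∈ U j) : IsUnit (ηg U η i j y hi hj) :=
  (η i j).isUnit.map _

include hη in
lemma ηg_cocycle (i j k : ι) (y : X) (hi : y ∈ U i) (hj : y ∈ U j) (hk : y ∈ U k) :
    ηg U η i k y hi hk = ηg U η i j y hi hj * ηg U η j k y hj hk := by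
  have := congrArg (X.presheaf.germ (U i ⊓ U j ⊓ U k) y ⟨⟨hi, hj⟩, hk⟩) (hη i j k)
  rw [map_mul, TopCat.Presheaf.germ_res_apply, TopCat.Presheaf.germ_res_apply,
    TopCat.Presheaf.germ_res_apply] at this
  exact this

/-- the local predicate: locally `f_y = r_y * η_{k(x), k(y)}`. -/
def IsTw {V : X.Opens} (f : ∀ x : V, X.presheaf.stalk x.1) : Prop :=
  ∀ x : V, ∃ (W : X.Opens) (_ : x.1 ∈ W) (hWV : W ≤ V) (hWk : W ≤ U (idx U hU x.1)) (r : Γ(X, W)),
    ∀ y : W, f ⟨y.1, hWV y.2⟩ = X.presheaf.germ W y.1 y.2 r *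
      ηg U η (idx U hU x.1) (idx U hU y.1) y.1 (hWk y.2) (idx_mem U hU y.1)

/-- the local predicate cutting out the glued module. -/
def twLoc : TopCat.LocalPredicate (fun x : X => X.presheaf.stalk x) where
  pred {V} f := IsTw U hU η f
  res {V' V} i f h := fun x => by
    obtain ⟨W, hxW, hWV, hWk, r, hr⟩ := h ⟨x.1, i.le x.2⟩
    refine ⟨W ⊓ V', ⟨hxW, x.2⟩, inf_le_right, inf_le_left.trans hWk,
      X.presheaf.map (homOfLE (inf_le_left : W ⊓ V' ≤ W)).op r, fun y => ?_⟩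
    rw [TopCat.Presheaf.germ_res_apply]
    exact hr ⟨y.1, y.2.1⟩
  locality {V} f h := fun x => by
    obtain ⟨V', hxV', i, h'⟩ := h x
    obtain ⟨W, hxW, hWV, hWk, r, hr⟩ := h' ⟨x.1, hxV'⟩
    exact ⟨W, hxW, hWV.trans i.le, hWk, r, fun y => hr y⟩

instance : Mero.IsModPred (twLoc U hU η) where
  zero V := fun x =>
    ⟨V ⊓ U (idx U hU x.1), ⟨x.2, idx_mem U hU x.1⟩, inf_le_left, inf_le_right, 0, fun y => by
      rw [map_zero, zero_mul]; rfl⟩
  add V f g hf hg := fun x => by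
    obtain ⟨W, hxW, hWV, hWk, r, hr⟩ := hf x
    obtain ⟨W', hxW', hWV', hWk', r', hr'⟩ := hg x
    refine ⟨W ⊓ W', ⟨hxW, hxW'⟩, inf_le_left.trans hWV, inf_le_left.trans hWk,
      X.presheaf.map (homOfLE (inf_le_left : W ⊓ W' ≤ W)).op r +
        X.presheaf.map (homOfLE (inf_le_right : W ⊓ W' ≤ W')).op r', fun y => ?_⟩
    rw [Pi.add_apply, map_add, add_mul, TopCat.Presheaf.germ_res_apply,
      TopCat.Presheaf.germ_res_apply]
    exact congrArg₂ (· + ·) (hr ⟨y.1, y.2.1⟩) (hr' ⟨y.1, y.2.2⟩)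
  smul V a f hf := fun x => by
    obtain ⟨W, hxW, hWV, hWk, r, hr⟩ := hf x
    refine ⟨W, hxW, hWV, hWk, X.presheaf.map (homOfLE hWV).op a * r, fun y => ?_⟩
    rw [map_mul, TopCat.Presheaf.germ_res_apply, mul_assoc, ← hr y]
    rfl

/-- the glued module. -/
noncomputable def glued : X.Modules := Mero.modOf (twLoc U hU η)

include hη in
/-- the local generators of the glued module. -/
noncomputable def sec (i : ι) : Γ(glued U hU η, U i) :=
  ⟨fun y => ηg U η i (idx U hU y.1) y.1 y.2 (idx_mem U hU y.1), fun x => by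
    refine ⟨U i ⊓ U (idx U hU x.1), ⟨x.2, idx_mem U hU x.1⟩, inf_le_left, inf_le_right,
      (η i (idx U hU x.1) : Γ(X, U i ⊓ U (idx U hU x.1))), fun y => ?_⟩
    exact ηg_cocycle U η hη i (idx U hU x.1) (idx U hU y.1) y.1 y.2.1 y.2.2 (idx_mem U hU y.1)⟩

lemma sec_apply (i : ι) (y : U i) :
    (sec U hU η hη i).1 y = ηg U η i (idx U hU y.1) y.1 y.2 (idx_mem U hU y.1) := rfl

/-- the transition relation. -/
theorem sec_transition (i j : ι) :
    (glued U hU η).presheaf.map (homOfLE (inf_le_left : U i ⊓ U j ≤ U i)).op (sec U hU η hη i) =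
      (η i j : Γ(X, U i ⊓ U j)) •
        (glued U hU η).presheaf.map (homOfLE (inf_le_right : U i ⊓ U j ≤ U j)).op
          (sec U hU η hη j) := by
  refine Subtype.ext (funext fun y => ?_)
  exact ηg_cocycle U η hη i j (idx U hU y.1) y.1 y.2.1 y.2.2 (idx_mem U hU y.1)

/-- the local generators generate freely. -/
theorem genSec_sec (i : ι) : GenSec (glued U hU η) (sec U hU η hη i) := by
  intro V hV
  constructor
  · intro r r' hrr
    simp only at hrr
    apply TopCat.Presheaf.section_ext X.sheaf V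
    intro y hy
    have h1 := congrArg (fun f : Γ(glued U hU η, V) => f.1 ⟨y, hy⟩) hrr
    change X.presheaf.germ V y hy r * ηg U η i (idx U hU y) y (hV hy) (idx_mem U hU y) =
      X.presheaf.germ V y hy r' * ηg U η i (idx U hU y) y (hV hy) (idx_mem U hU y) at h1
    exact (isUnit_ηg U η i (idx U hU y) y (hV hy) (idx_mem U hU y)).mul_left_injective h1
  · intro f
    let t : ∀ y : V, X.presheaf.stalk y.1 := fun y =>
      f.1 y * ((isUnit_ηg U η i (idx U hU y.1) y.1 (hV y.2)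
            (idx_mem U hU y.1)).unit⁻¹ : (X.presheaf.stalk y.1)ˣ)
    have hloc : ∀ y : V, ∃ (W : X.Opens) (_ : y.1 ∈ W) (j : W ≤ V) (r : Γ(X, W)),
        ∀ z : W, X.presheaf.germ W z.1 z.2 r = t ⟨z.1, j z.2⟩ := by
      intro x
      obtain ⟨W, hxW, hWV, hWk, r, hr⟩ := f.2 x
      have hWi : W ≤ U (idx U hU x.1) ⊓ U i := le_inf hWk (hWV.trans hV)
      refine ⟨W, hxW, hWV, r * X.presheaf.map (homOfLE hWi).op
        (η (idx U hU x.1) i : Γ(X, U (idx U hU x.1) ⊓ U i)), fun z => ?_⟩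
      change _ = f.1 ⟨z.1, hWV z.2⟩ * _
      rw [hr z, ηg_cocycle U η hη (idx U hU x.1) i (idx U hU z.1) z.1 (hWk z.2) (hV (hWV z.2))
        (idx_mem U hU z.1), map_mul, TopCat.Presheaf.germ_res_apply, ← mul_assoc, mul_assoc,
        IsUnit.mul_val_inv, mul_one]
      rfl
    obtain ⟨r, hr⟩ := exists_glue_fun V t hloc
    refine ⟨r, Subtype.ext (funext fun y => ?_)⟩
    change X.presheaf.germ V y.1 y.2 r * ηg U η i (idx U hU y.1) y.1 (hV y.2) (idx_mem U hU y.1) =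
      f.1 y
    rw [hr y]
    change f.1 y * _ * _ = _
    rw [mul_assoc, IsUnit.val_inv_mul, mul_one]

include hη in
theorem isInvertible_glued : PicF.IsInvertible (glued U hU η) := by
  rw [isInvertible_iff_exists_isGen]
  intro x
  exact ⟨U (idx U hU x), idx_mem U hU x, sec U hU η hη (idx U hU x),
    fun y hy => (genSec_sec U hU η hη (idx U hU x)).isGen y hy⟩

end Groth.Agent.Helper23.CechGlue
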