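import Groth.Agent.Lib.Helper23.DivInv2
import Groth.Prelude.Def_SecTwist

set_option autoImplicit false
set_option linter.style.haveILetI false

open CategoryTheory AlgebraicGeometry Opposite TopologicalSpace IsLocalRing

universe u

namespace Groth.Agent.Helper23.DivInv

open Groth.Agent.Helper23.CDivDepth Groth.Agent.Helper13.Inv Groth.Agent.Helper13.Tensor
open Groth.Agent.Helper13.QCoh Groth.Agent.Helper13.LocFree

variable {X : Scheme.{u}}

theorem divCond_mul (D E : Mero.Divisor X) (x : X) {t t' : Mero.KStalk X x}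
    (h : Mero.DivCond D x t) (h' : Mero.DivCond E x t') : Mero.DivCond (D * E) x (t * t') := by
  intro g hg
  obtain ⟨g₁, hg₁⟩ := QuotientGroup.mk_surjective (D.1 x)
  obtain ⟨g₂, hg₂⟩ := QuotientGroup.mk_surjective (E.1 x)
  have h1 := h g₁ hg₁.symm
  have h2 := h' g₂ hg₂.symm
  have h3 : (QuotientGroup.mk (g₁ * g₂) : Mero.Germ X x) = QuotientGroup.mk g := by
    rw [QuotientGroup.mk_mul, hg₁, hg₂]; exact hg
  have h4 : (g₁ * g₂)⁻¹ * g ∈ Mero.stalkUnits X x := QuotientGroup.eq.1 h3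
  obtain ⟨u, hu⟩ := h4
  have h5 : (g : Mero.KStalk X x) = (g₁ : Mero.KStalk X x) * g₂ *
      (((g₁ * g₂)⁻¹ * g : (Mero.KStalk X x)ˣ) : Mero.KStalk X x) := by
    rw [← Units.val_mul, ← Units.val_mul, mul_inv_cancel_left]
  have h6 : t * t' * g = (t * g₁) * (t' * g₂) *
      (((g₁ * g₂)⁻¹ * g : (Mero.KStalk X x)ˣ) : Mero.KStalk X x) := by
    rw [h5]; ring
  rw [h6, ← hu]
  exact mul_mem (mul_mem h1 h2) ⟨(u : X.presheaf.stalk x), rfl⟩

/-- the product of a section of `O_X(D)` and a section of `O_X(E)` -/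
noncomputable def mulSec (D E : Mero.Divisor X) (U : X.Opens) (t : Γ(Mero.divMod D, U))
    (t' : Γ(Mero.divMod E, U)) : Γ(Mero.divMod (D * E), U) :=
  ⟨fun x => t.1 x * t'.1 x, ⟨Mero.kLoc_mul X U t.1 t'.1 t.2.1 t'.2.1,
    fun x => divCond_mul D E x.1 (t.2.2 x) (t'.2.2 x)⟩⟩

theorem mulSec_apply (D E : Mero.Divisor X) (U : X.Opens) (t : Γ(Mero.divMod D, U))
    (t' : Γ(Mero.divMod E, U)) (x : U) : (mulSec D E U t t').1 x = t.1 x * t'.1 x := rfl

/-- multiplication of fractional ideals as a bilinear family -/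
noncomputable def mulFamily (D E : Mero.Divisor X) :
    BilinFamily (Mero.divMod D) (Mero.divMod E) (Mero.divMod (D * E)) where
  β U := LinearMap.mk₂ Γ(X, U) (mulSec D E U)
    (fun _ _ _ => Subtype.ext (funext fun _ => add_mul _ _ _))
    (fun _ _ _ => Subtype.ext (funext fun _ => smul_mul_assoc _ _ _))
    (fun _ _ _ => Subtype.ext (funext fun _ => mul_add _ _ _))
    (fun _ _ _ => Subtype.ext (funext fun _ => mul_smul_comm _ _ _))
  res _ _ _ := rfl


theorem mulFamily_hom_app_tmul (D E : Mero.Divisor X) (U : X.Opens) (t : Γ(Mero.divMod D, U))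
    (t' : Γ(Mero.divMod E, U)) :
    (mulFamily D E).hom.app U (tmul (Mero.divMod D) (Mero.divMod E) t t') = mulSec D E U t t' := by
  rw [BilinFamily.hom_app_tmul]
  rfl

theorem isIso_mulFamily_hom (D E : Mero.Divisor X) : IsIso (mulFamily D E).hom := by
  apply isIso_of_stalk_bijective
  intro x
  obtain ⟨W₁, a₁, b₁, ha₁, hb₁, hxW₁, hrep₁⟩ := exists_isRep D x
  obtain ⟨W₂, a₂, b₂, ha₂, hb₂, hxW₂, hrep₂⟩ := exists_isRep E x
  let W : X.Opens := W₁ ⊓ W₂
  have hxW : x ∈ W := ⟨hxW₁, hxW₂⟩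
  have hr₁ := hrep₁.res (inf_le_left : W ≤ W₁)
  have hr₂ := hrep₂.res (inf_le_right : W ≤ W₂)
  have ha₁' := Mero.regSub_res (homOfLE (inf_le_left : W ≤ W₁)) ha₁
  have ha₂' := Mero.regSub_res (homOfLE (inf_le_right : W ≤ W₂)) ha₂
  have hb₁' := Mero.regSub_res (homOfLE (inf_le_left : W ≤ W₁)) hb₁
  have hb₂' := Mero.regSub_res (homOfLE (inf_le_right : W ≤ W₂)) hb₂
  let σ₁ := genSec D W _ _ ha₁' hb₁' hr₁
  let σ₂ := genSec E W _ _ ha₂' hb₂' hr₂
  have hg₁ : IsGen (Mero.divMod D) σ₁ x hxW :=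
    isGen_of_rep D W _ _ ha₁' hb₁' hr₁ σ₁ (fun y hy => rfl) x hxW
  have hg₂ : IsGen (Mero.divMod E) σ₂ x hxW :=
    isGen_of_rep E W _ _ ha₂' hb₂' hr₂ σ₂ (fun y hy => rfl) x hxW
  have hg : IsGen (CohB1.tensorMod (Mero.divMod D) (Mero.divMod E))
      (tmul (Mero.divMod D) (Mero.divMod E) σ₁ σ₂) x hxW := isGen_tmul _ _ σ₁ σ₂ x hxW hg₁ hg₂
  have hg' : IsGen (Mero.divMod (D * E)) (mulSec D E W σ₁ σ₂) x hxW := by
    refine isGen_of_rep (D * E) W _ _ (Submonoid.mul_mem _ ha₁' ha₂') (Submonoid.mul_mem _ hb₁' hb₂')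
      (hr₁.mul hr₂) _ (fun y hy => ?_) x hxW
    rw [mulSec_apply, genSec_apply, genSec_apply]
    refine LocalizedModule.mk_mul_mk.trans (Mero.mk_congr ?_ ?_)
    · rw [map_mul]
    · change _ * _ = X.presheaf.germ W y hy (_ * _)
      rw [map_mul]
  have hcomp : (fun m => stalkMap (mulFamily D E).hom x m) ∘
      (fun r : X.presheaf.stalk x => r • (CohB1.tensorMod (Mero.divMod D) (Mero.divMod E)).presheaf.germ
        W x hxW (tmul (Mero.divMod D) (Mero.divMod E) σ₁ σ₂)) =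
      (fun r : X.presheaf.stalk x => r • (Mero.divMod (D * E)).presheaf.germ W x hxW
        (mulSec D E W σ₁ σ₂)) := by
    funext r
    simp only [Function.comp_apply]
    rw [stalkMap_smul, stalkMap_germ, mulFamily_hom_app_tmul]
  have h1 : Function.Bijective ((fun m => stalkMap (mulFamily D E).hom x m) ∘
      (fun r : X.presheaf.stalk x => r • (CohB1.tensorMod (Mero.divMod D) (Mero.divMod E)).presheaf.germ
        W x hxW (tmul (Mero.divMod D) (Mero.divMod E) σ₁ σ₂))) := by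
    rw [hcomp]; exact hg'
  exact (Function.Bijective.of_comp_iff _ hg).1 h1

theorem exists_mul_iso (D E : Mero.Divisor X) :
    ∃ μ : CohB1.tensorMod (Mero.divMod D) (Mero.divMod E) ⟶ Mero.divMod (D * E),
      (∀ (U : X.Opens) (t : Γ(Mero.divMod D, U)) (t' : Γ(Mero.divMod E, U)),
        (Mero.divModι (D * E)).app U (μ.app U (SecTwist.tmul (Mero.divMod D) (Mero.divMod E) U t t')) =
          (Mero.divModι D).app U t * (Mero.divModι E).app U t') ∧
      IsIso μ := by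
  refine ⟨(mulFamily D E).hom, fun U t t' => ?_, isIso_mulFamily_hom D E⟩
  have h1 : SecTwist.tmul (Mero.divMod D) (Mero.divMod E) U t t' =
      tmul (Mero.divMod D) (Mero.divMod E) t t' := rfl
  rw [h1, mulFamily_hom_app_tmul]
  rfl

end Groth.Agent.Helper23.DivInv
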