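import Groth.Agent.Lib.Helper23.FracIdeal
import Groth.Agent.Lib.Helper23.DivMul

set_option autoImplicit false
set_option linter.style.haveILetI false

open CategoryTheory AlgebraicGeometry Opposite TopologicalSpace IsLocalRing

universe u

namespace Groth.Agent.Helper23.RegMero

open Groth.Agent.Helper23.CDivDepth Groth.Agent.Helper13.Inv Groth.Agent.Helper13.MeroLib
open Groth.Agent.Helper13.QCoh Groth.Agent.Helper23.FracIdeal

variable {X : Scheme.{u}} (L : X.Modules)

/-- a local generator of `L` on `W` -/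
def IsGenOn {W : X.Opens} (e : Γ(L, W)) : Prop := ∀ (y : X) (hy : y ∈ W), IsGen L e y hy

variable {L}

theorem IsGenOn.res {W V : X.Opens} {e : Γ(L, W)} (he : IsGenOn L e) (hV : V ≤ W) :
    IsGenOn L (L.presheaf.map (homOfLE hV).op e) := fun y hy =>
  (isGen_res L (homOfLE hV) e y hy).2 (he y (hV hy))

/-- germs of sections equal on a neighbourhood -/
theorem germ_congr_res (L : X.Modules) {V N : X.Opens} (hN : N ≤ V) (y : X) (hy : y ∈ N)
    (m : Γ(L, V)) :
    L.presheaf.germ N y hy (L.presheaf.map (homOfLE hN).op m) = L.presheaf.germ V y (hN hy) m :=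
  TopCat.Presheaf.germ_res_apply L.presheaf (homOfLE hN) y hy m

/-- restriction is functorial -/
theorem res_res (L : X.Modules) {U V N : X.Opens} (hV : V ≤ U) (hN : N ≤ V) (m : Γ(L, U)) :
    L.presheaf.map (homOfLE hN).op (L.presheaf.map (homOfLE hV).op m) =
      L.presheaf.map (homOfLE (hN.trans hV)).op m := by
  apply TopCat.Presheaf.section_ext ⟨L.presheaf, L.isSheaf⟩
  intro z hz
  change L.presheaf.germ N z hz _ = L.presheaf.germ N z hz _
  rw [TopCat.Presheaf.germ_res_apply, TopCat.Presheaf.germ_res_apply,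
    TopCat.Presheaf.germ_res_apply]

/-- uniqueness of the coefficient with respect to a generator -/
theorem IsGenOn.smul_injective {W : X.Opens} {e : Γ(L, W)} (he : IsGenOn L e)
    (a a' : Γ(X, W)) (h : a • e = a' • e) : a = a' := by
  apply TopCat.Presheaf.section_ext X.sheaf
  intro z hz
  apply (he z hz).1
  simp only
  have := congrArg (L.presheaf.germ W z hz) h
  rwa [Mero.germ_smul, Mero.germ_smul] at this

/-- a section killed by restriction to a neighbourhood of each point is zero; here: sections of `L`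
which agree locally agree -/
theorem eq_of_locally_eq (L : X.Modules) {V : X.Opens} (m m' : Γ(L, V))
    (h : ∀ y : V, ∃ (N : X.Opens) (hN : N ≤ V), y.1 ∈ N ∧
      L.presheaf.map (homOfLE hN).op m = L.presheaf.map (homOfLE hN).op m') : m = m' := by
  apply TopCat.Presheaf.section_ext ⟨L.presheaf, L.isSheaf⟩
  intro z hz
  obtain ⟨N, hN, hzN, e⟩ := h ⟨z, hz⟩
  change L.presheaf.germ V z hz m = L.presheaf.germ V z hz m'
  rw [← germ_congr_res L hN z hzN, ← germ_congr_res L hN z hzN, e]

/-- existence of the coefficient with respect to a generator -/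
theorem IsGenOn.exists_smul_eq {W : X.Opens} {e : Γ(L, W)} (he : IsGenOn L e) (m : Γ(L, W)) :
    ∃ a : Γ(X, W), m = a • e := by
  have hloc : ∀ y : W, ∃ (N : X.Opens) (hN : N ≤ W) (_ : y.1 ∈ N) (α : Γ(X, N)),
      L.presheaf.map (homOfLE hN).op m = α • L.presheaf.map (homOfLE hN).op e := by
    rintro ⟨y, hy⟩
    obtain ⟨r, hr⟩ := (he y hy).2 (L.presheaf.germ W y hy m)
    simp only at hr
    obtain ⟨N₁, hyN₁, α₁, rfl⟩ := X.presheaf.exists_germ_eq r
    have hyN : y ∈ W ⊓ N₁ := ⟨hy, hyN₁⟩
    have h1 : L.presheaf.germ (W ⊓ N₁) y hyN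
        (X.presheaf.map (homOfLE (inf_le_right : W ⊓ N₁ ≤ N₁)).op α₁ •
        L.presheaf.map (homOfLE (inf_le_left : W ⊓ N₁ ≤ W)).op e) =
        L.presheaf.germ W y hy m := by
      rw [Mero.germ_smul, TopCat.Presheaf.germ_res_apply, TopCat.Presheaf.germ_res_apply]
      exact hr
    obtain ⟨N₂, hyN₂, i₁, i₂, e2⟩ := L.presheaf.germ_eq y hyN hy _ _ h1
    have h2W : N₂ ≤ W := i₂.le
    have h21 : N₂ ≤ N₁ := i₁.le.trans inf_le_right
    refine ⟨N₂, h2W, hyN₂, X.presheaf.map (homOfLE h21).op α₁, ?_⟩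
    have e3 : L.presheaf.map i₁.op (X.presheaf.map (homOfLE (inf_le_right : W ⊓ N₁ ≤ N₁)).op α₁ •
        L.presheaf.map (homOfLE (inf_le_left : W ⊓ N₁ ≤ W)).op e) =
        X.presheaf.map (homOfLE h21).op α₁ • L.presheaf.map (homOfLE h2W).op e := by
      apply TopCat.Presheaf.section_ext ⟨L.presheaf, L.isSheaf⟩
      intro z hz
      change L.presheaf.germ N₂ z hz _ = L.presheaf.germ N₂ z hz _
      rw [TopCat.Presheaf.germ_res_apply, Mero.germ_smul, Mero.germ_smul,
        TopCat.Presheaf.germ_res_apply, TopCat.Presheaf.germ_res_apply,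
        TopCat.Presheaf.germ_res_apply, TopCat.Presheaf.germ_res_apply]
    rw [← e3, e2]
    rfl
  choose N hN hyN α hα using hloc
  have hcompat : TopCat.Presheaf.IsCompatible X.presheaf N α := by
    intro i j
    have hij : N i ⊓ N j ≤ W := inf_le_left.trans (hN i)
    apply (he.res hij).smul_injective
    have e1 := congrArg (L.presheaf.map (homOfLE (inf_le_left : N i ⊓ N j ≤ N i)).op) (hα i)
    have e2 := congrArg (L.presheaf.map (homOfLE (inf_le_right : N i ⊓ N j ≤ N j)).op) (hα j)
    rw [res_smul, res_res, res_res] at e1 e2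
    exact e1.symm.trans e2
  obtain ⟨r₀, hr₀, -⟩ := X.sheaf.existsUnique_gluing' N W (fun i => homOfLE (hN i))
    (fun y hy => Opens.mem_iSup.2 ⟨⟨y, hy⟩, hyN ⟨y, hy⟩⟩) α hcompat
  let r : Γ(X, W) := r₀
  have hr : ∀ i, X.presheaf.map (homOfLE (hN i)).op r = α i := hr₀
  refine ⟨r, ?_⟩
  apply eq_of_locally_eq
  intro y
  refine ⟨N y, hN y, hyN y, ?_⟩
  rw [res_smul, hr, hα]

/-- coefficients over smaller opens -/
theorem IsGenOn.exists_smul_eq' {W V : X.Opens} {e : Γ(L, W)} (he : IsGenOn L e) (hV : V ≤ W)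
    (m : Γ(L, V)) : ∃ a : Γ(X, V), m = a • L.presheaf.map (homOfLE hV).op e :=
  (he.res hV).exists_smul_eq m

/-- a regular section is a nonzerodivisor on sections of the structure sheaf -/
theorem eq_zero_of_regSub_mul {W : X.Opens} (b r : Γ(X, W)) (hb : b ∈ Mero.regSub X W)
    (h : b * r = 0) : r = 0 := by
  apply TopCat.Presheaf.section_ext X.sheaf
  intro z hz
  have h1 := congrArg (X.presheaf.germ W z hz) h
  rw [map_mul, map_zero] at h1
  change X.presheaf.germ W z hz r = X.presheaf.germ W z hz 0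
  rw [map_zero]
  exact (mul_left_mem_nonZeroDivisors_eq_zero_iff (hb ⟨z, hz⟩)).1 h1

/-- Lemma Z: on an affine open, a function vanishing on the non-vanishing locus of a regular section
is zero -/
theorem eq_zero_of_res_basicOpen {W : X.Opens} (hW : IsAffineOpen W) (b r : Γ(X, W))
    (hb : b ∈ Mero.regSub X W)
    (h : X.presheaf.map (homOfLE (X.basicOpen_le b)).op r = 0) : r = 0 := by
  haveI := hW.isLocalization_basicOpen b
  have h1 : algebraMap Γ(X, W) Γ(X, X.basicOpen b) r = algebraMap Γ(X, W) Γ(X, X.basicOpen b) 0 := by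
    rw [map_zero]; exact h
  obtain ⟨⟨_, n, rfl⟩, hc⟩ := (IsLocalization.eq_iff_exists (Submonoid.powers b) _).1 h1
  simp only [mul_zero] at hc
  exact eq_zero_of_regSub_mul (b ^ n) r (pow_mem hb n) hc

end Groth.Agent.Helper23.RegMero
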