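import Groth.Agent.Lib.Helper23.RegPull

set_option autoImplicit false
set_option linter.style.haveILetI false

open CategoryTheory AlgebraicGeometry Opposite TopologicalSpace IsLocalRing

universe u

namespace Groth.Agent.Helper23.RegPull

variable (X : Scheme.{u})

/-- every prime of the local ring at `x` is the preimage of the maximal ideal at a
generization of `x` -/
theorem exists_generization_of_isPrime (x : X) (q : Ideal (X.presheaf.stalk x)) [hqp : q.IsPrime] :
    ∃ (ξ : X) (h : ξ ⤳ x),
      q = Ideal.comap (X.presheaf.stalkSpecializes h).hom (maximalIdeal (X.presheaf.stalk ξ)) := by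
  let P : PrimeSpectrum (X.presheaf.stalk x) := ⟨q, hqp⟩
  have hinj : Function.Injective (X.fromSpecStalk x).base :=
    (X.fromSpecStalk x).isEmbedding.injective
  let ξ : X := (X.fromSpecStalk x).base P
  have h : ξ ⤳ x := by
    have : ξ ∈ Set.range (X.fromSpecStalk x).base := ⟨P, rfl⟩
    rw [Scheme.range_fromSpecStalk] at this
    exact this
  refine ⟨ξ, h, ?_⟩
  have h1 := Scheme.SpecMap_stalkSpecializes_fromSpecStalk h
  have h2 : (X.fromSpecStalk x).base
      ((Spec.map (X.presheaf.stalkSpecializes h)).base (closedPoint (X.presheaf.stalk ξ))) =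
      (X.fromSpecStalk x).base P := by
    have h5 : (Spec.map (X.presheaf.stalkSpecializes h) ≫ X.fromSpecStalk x).base
        (closedPoint (X.presheaf.stalk ξ)) = ξ := by
      rw [h1]; exact Scheme.fromSpecStalk_closedPoint
    exact h5
  have h3 := hinj h2
  have h4 := congrArg PrimeSpectrum.asIdeal h3
  exact h4.symm

/-- the specialization map `O_{X,x} → O_{X,ξ}` is the localization at the corresponding prime -/
theorem isLocalization_stalkSpecializes {x ξ : X} (h : ξ ⤳ x) :
    letI : Algebra (X.presheaf.stalk x) (X.presheaf.stalk ξ) :=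
      (X.presheaf.stalkSpecializes h).hom.toAlgebra
    haveI : (Ideal.comap (X.presheaf.stalkSpecializes h).hom
      (maximalIdeal (X.presheaf.stalk ξ))).IsPrime := Ideal.comap_isPrime _ _
    IsLocalization.AtPrime (X.presheaf.stalk ξ)
      (Ideal.comap (X.presheaf.stalkSpecializes h).hom (maximalIdeal (X.presheaf.stalk ξ))) := by
  letI alg : Algebra (X.presheaf.stalk x) (X.presheaf.stalk ξ) :=
    (X.presheaf.stalkSpecializes h).hom.toAlgebra
  haveI : (Ideal.comap (X.presheaf.stalkSpecializes h).hom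
    (maximalIdeal (X.presheaf.stalk ξ))).IsPrime := Ideal.comap_isPrime _ _
  obtain ⟨_, ⟨U, hU, rfl⟩, hxU, -⟩ :=
    X.isBasis_affineOpens.exists_subset_of_mem_open (Set.mem_univ x) isOpen_univ
  have hξU : ξ ∈ U := h.mem_open U.2 hxU
  letI algx : Algebra Γ(X, U) (X.presheaf.stalk x) :=
    TopCat.Presheaf.algebra_section_stalk X.presheaf ⟨x, hxU⟩
  letI algξ : Algebra Γ(X, U) (X.presheaf.stalk ξ) :=
    TopCat.Presheaf.algebra_section_stalk X.presheaf ⟨ξ, hξU⟩
  haveI locx : IsLocalization.AtPrime (X.presheaf.stalk x) (hU.primeIdealOf ⟨x, hxU⟩).asIdeal :=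
    hU.isLocalization_stalk ⟨x, hxU⟩
  haveI locξ : IsLocalization.AtPrime (X.presheaf.stalk ξ) (hU.primeIdealOf ⟨ξ, hξU⟩).asIdeal :=
    hU.isLocalization_stalk ⟨ξ, hξU⟩
  set px := (hU.primeIdealOf ⟨x, hxU⟩).asIdeal with hpx
  set pξ := (hU.primeIdealOf ⟨ξ, hξU⟩).asIdeal with hpξ
  have halg : ∀ a : Γ(X, U), algebraMap (X.presheaf.stalk x) (X.presheaf.stalk ξ)
      (algebraMap Γ(X, U) (X.presheaf.stalk x) a) = algebraMap Γ(X, U) (X.presheaf.stalk ξ) a := by
    intro a
    change (X.presheaf.stalkSpecializes h).hom (X.presheaf.germ U x hxU a) =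
      X.presheaf.germ U ξ hξU a
    rw [← CommRingCat.comp_apply, TopCat.Presheaf.germ_stalkSpecializes]
  haveI : IsScalarTower Γ(X, U) (X.presheaf.stalk x) (X.presheaf.stalk ξ) :=
    IsScalarTower.of_algebraMap_eq fun a => (halg a).symm
  have hunit : ∀ a : Γ(X, U), IsUnit (algebraMap Γ(X, U) (X.presheaf.stalk ξ) a) ↔ a ∈ pξ.primeCompl :=
    fun a => IsLocalization.AtPrime.isUnit_to_map_iff (X.presheaf.stalk ξ) pξ a
  have hunitx : ∀ a : Γ(X, U), IsUnit (algebraMap Γ(X, U) (X.presheaf.stalk x) a) ↔ a ∈ px.primeCompl :=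
    fun a => IsLocalization.AtPrime.isUnit_to_map_iff (X.presheaf.stalk x) px a
  have hle : px.primeCompl ≤ pξ.primeCompl := by
    intro a ha
    rw [← hunit, ← halg]
    exact ((hunitx a).2 ha).map _
  have loc1 : IsLocalization (pξ.primeCompl.map (algebraMap Γ(X, U) (X.presheaf.stalk x)))
      (X.presheaf.stalk ξ) :=
    IsLocalization.isLocalization_of_submonoid_le (X.presheaf.stalk x) (X.presheaf.stalk ξ)
      px.primeCompl pξ.primeCompl hle
  refine IsLocalization.isLocalization_of_is_exists_mul_mem (X.presheaf.stalk ξ)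
    (pξ.primeCompl.map (algebraMap Γ(X, U) (X.presheaf.stalk x))) _ ?_ ?_
  · rintro _ ⟨a, ha, rfl⟩
    change algebraMap Γ(X, U) (X.presheaf.stalk x) a ∉ Ideal.comap _ _
    rw [Ideal.mem_comap]
    change ¬ (algebraMap (X.presheaf.stalk x) (X.presheaf.stalk ξ)
      (algebraMap Γ(X, U) (X.presheaf.stalk x) a) ∈ maximalIdeal _)
    rw [halg, mem_maximalIdeal, mem_nonunits_iff, not_not, hunit]
    exact ha
  · rintro ⟨y, hy⟩
    obtain ⟨⟨a, s⟩, hys⟩ := IsLocalization.surj px.primeCompl y
    simp only at hys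
    refine ⟨algebraMap Γ(X, U) (X.presheaf.stalk x) s.1, a, ?_, ?_⟩
    · -- a ∉ pξ
      rw [SetLike.mem_coe, ← hunit, ← halg, ← hys, map_mul]
      refine IsUnit.mul ?_ ?_
      · have hy' : y ∉ Ideal.comap (X.presheaf.stalkSpecializes h).hom
            (maximalIdeal (X.presheaf.stalk ξ)) := hy
        rw [Ideal.mem_comap, mem_maximalIdeal, mem_nonunits_iff, not_not] at hy'
        exact hy'
      · rw [halg, hunit]
        exact hle s.2
    · rw [← hys, mul_comm]


/-- associated primes localize: if the prime of `O_{X,x}` cut out by the generization `ξ` is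
associated, then `ξ` is an associated point -/
theorem maximalIdeal_mem_associatedPrimes_of_comap {x ξ : X} (h : ξ ⤳ x)
    (hq : Ideal.comap (X.presheaf.stalkSpecializes h).hom (maximalIdeal (X.presheaf.stalk ξ)) ∈
      associatedPrimes (X.presheaf.stalk x) (X.presheaf.stalk x)) :
    maximalIdeal (X.presheaf.stalk ξ) ∈
      associatedPrimes (X.presheaf.stalk ξ) (X.presheaf.stalk ξ) := by
  letI alg : Algebra (X.presheaf.stalk x) (X.presheaf.stalk ξ) :=
    (X.presheaf.stalkSpecializes h).hom.toAlgebra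
  haveI : (Ideal.comap (X.presheaf.stalkSpecializes h).hom
    (maximalIdeal (X.presheaf.stalk ξ))).IsPrime := Ideal.comap_isPrime _ _
  haveI := isLocalization_stalkSpecializes X h
  exact Module.associatedPrimes.mem_associatedPrimes_of_comap_mem_associatedPrimes_of_isLocalizedModule
    (Ideal.comap (X.presheaf.stalkSpecializes h).hom
      (maximalIdeal (X.presheaf.stalk ξ))).primeCompl
    (Algebra.linearMap (X.presheaf.stalk x) (X.presheaf.stalk ξ)) (maximalIdeal _) hq

/-- in a Noetherian ring a zero divisor lies in an associated prime -/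
theorem exists_mem_associatedPrimes_of_notMem_nonZeroDivisors {R : Type*} [CommRing R]
    [IsNoetherianRing R] (a : R) (ha : a ∉ nonZeroDivisors R) :
    ∃ q ∈ associatedPrimes R R, a ∈ q := by
  have h1 : a ∈ ((nonZeroDivisors R : Set R))ᶜ := ha
  rw [← biUnion_associatedPrimes_eq_compl_nonZeroDivisors] at h1
  obtain ⟨q, hq, haq⟩ := Set.mem_iUnion₂.1 h1
  exact ⟨q, hq, haq⟩

/-- elements of an associated prime are zero divisors -/
theorem notMem_nonZeroDivisors_of_mem_associatedPrimes {R : Type*} [CommRing R]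
    [IsNoetherianRing R] (q : Ideal R) (hq : q ∈ associatedPrimes R R) (a : R) (ha : a ∈ q) :
    a ∉ nonZeroDivisors R := by
  have h1 : a ∈ ⋃ p ∈ associatedPrimes R R, (p : Set R) := Set.mem_iUnion₂.2 ⟨q, hq, ha⟩
  rw [biUnion_associatedPrimes_eq_compl_nonZeroDivisors] at h1
  exact h1

end Groth.Agent.Helper23.RegPull
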