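import Mathlib

/-!
# Descending morphisms of finite étale covers along universal homeomorphisms (helper23)
-/

set_option autoImplicit false
set_option linter.style.haveILetI false

open CategoryTheory CategoryTheory.Limits AlgebraicGeometry

universe u

namespace Groth.Agent.Helper23.FEtFull

/-- an étale surjective universally injective morphism is an isomorphism -/
theorem isIso_of_etale {W A : Scheme.{u}} (g : W ⟶ A) [Etale g] [Surjective g]
    [UniversallyInjective g] : IsIso g := by
  haveI : Surjective (pullback.diagonal g) := (UniversallyInjective.iff_diagonal g).1 inferInstance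
  haveI : IsOpenImmersion (pullback.diagonal g) := inferInstance
  haveI : Epi (pullback.diagonal g).base :=
    (TopCat.epi_iff_surjective _).2 (pullback.diagonal g).surjective
  haveI : IsIso (pullback.diagonal g) := IsOpenImmersion.isIso _
  haveI : Mono g := (pullback.isIso_diagonal_iff g).1 inferInstance
  haveI : IsOpenImmersion g := IsOpenImmersion.of_flat_of_mono g
  haveI : Epi g.base := (TopCat.epi_iff_surjective _).2 g.surjective
  exact IsOpenImmersion.isIso g

/-- a morphism from the spectrum of a field to the spectrum of a field is an epimorphism -/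
theorem epi_of_fields {K : Type u} [Field K] {L : CommRingCat.{u}} [Field L]
    (e : Spec L ⟶ Spec (CommRingCat.of K)) : Epi e := by
  haveI : Flat e := inferInstance
  haveI : Nonempty ↥(Spec L) := inferInstance
  haveI : Surjective e := ⟨fun y => ⟨Classical.arbitrary _, Subsingleton.elim _ _⟩⟩
  exact Flat.epi_of_flat_of_surjective e

section
variable {X Y : Scheme.{u}} (f : X ⟶ Y)
  {A B : Scheme.{u}} (a : A ⟶ Y) (b : B ⟶ Y)
  (φ : pullback a f ⟶ pullback b f) (hφ : φ ≫ pullback.snd b f = pullback.snd a f)

/-- the structure map of `A ×_Y B` -/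
noncomputable abbrev cc : pullback a b ⟶ Y := pullback.fst a b ≫ a

include hφ in
theorem graph_cond1 : pullback.fst a f ≫ a = (φ ≫ pullback.fst b f) ≫ b := by
  rw [Category.assoc, pullback.condition (f := b), ← Category.assoc, hφ, pullback.condition]

/-- the graph of `φ` inside `(A ×_Y B) ×_Y X` -/
noncomputable def graph : pullback a f ⟶ pullback (cc a b) f :=
  pullback.lift (pullback.lift (pullback.fst a f) (φ ≫ pullback.fst b f) (graph_cond1 f a b φ hφ))
    (pullback.snd a f) (by
      rw [← Category.assoc, pullback.lift_fst, pullback.condition])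

theorem graph_fst_fst : graph f a b φ hφ ≫ pullback.fst (cc a b) f ≫ pullback.fst a b =
    pullback.fst a f := by
  rw [graph, ← Category.assoc, pullback.lift_fst, pullback.lift_fst]

theorem graph_fst_snd : graph f a b φ hφ ≫ pullback.fst (cc a b) f ≫ pullback.snd a b =
    φ ≫ pullback.fst b f := by
  rw [graph, ← Category.assoc, pullback.lift_fst, pullback.lift_snd]

theorem graph_snd : graph f a b φ hφ ≫ pullback.snd (cc a b) f = pullback.snd a f := by
  rw [graph, pullback.lift_snd]

instance : Mono (graph f a b φ hφ) := by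
  refine ⟨fun {Z} u v huv => ?_⟩
  apply pullback.hom_ext
  · rw [← graph_fst_fst f a b φ hφ, ← Category.assoc, ← Category.assoc, huv]
    simp only [Category.assoc]
  · rw [← graph_snd f a b φ hφ, ← Category.assoc, ← Category.assoc, huv]


section props
variable [IsFinite a] [Etale a] [IsFinite b] [Etale b]

instance : IsFinite (cc a b) := by unfold cc; infer_instance
instance : Etale (cc a b) := by unfold cc; infer_instance

theorem etale_graph : Etale (graph f a b φ hφ) := by
  haveI : Etale (graph f a b φ hφ ≫ pullback.snd (cc a b) f) := by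
    rw [graph_snd]; infer_instance
  exact Etale.of_comp (graph f a b φ hφ) (pullback.snd (cc a b) f)

theorem isOpenImmersion_graph : IsOpenImmersion (graph f a b φ hφ) := by
  haveI := etale_graph f a b φ hφ
  exact IsOpenImmersion.of_flat_of_mono _

end props

end

set_option maxHeartbeats 800000 in
theorem exists_descent {X Y : Scheme.{u}} (f : X ⟶ Y) [IsIntegralHom f] [UniversallyInjective f]
    [Surjective f] {A B : Scheme.{u}} (a : A ⟶ Y) (b : B ⟶ Y) [IsFinite a] [Etale a] [IsFinite b]
    [Etale b] (φ : pullback a f ⟶ pullback b f)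
    (hφ : φ ≫ pullback.snd b f = pullback.snd a f) :
    ∃ ψ : A ⟶ B, ψ ≫ b = a ∧ pullback.fst a f ≫ ψ = φ ≫ pullback.fst b f := by
  set γ := graph f a b φ hφ with hγ
  haveI hγo : IsOpenImmersion γ := isOpenImmersion_graph f a b φ hφ
  set q := pullback.fst (cc a b) f with hq
  haveI : IsIntegralHom q := inferInstance
  haveI : UniversallyInjective q :=
    UniversallyInjective.isStableUnderBaseChange.of_isPullback
      (IsPullback.of_hasPullback (cc a b) f).flip inferInstance
  haveI : Surjective q := inferInstance
  -- the open subset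
  have hqcl : IsClosedMap q.base := q.isClosedMap
  have hqinj : Function.Injective q.base := q.injective
  have hqsurj : Function.Surjective q.base := q.surjective
  have hW0 : IsOpen (q.base '' Set.range γ.base) := by
    have : q.base '' Set.range γ.base = (q.base '' (Set.range γ.base)ᶜ)ᶜ := by
      rw [Set.image_compl_eq ⟨hqinj, hqsurj⟩, compl_compl]
    rw [this]
    exact (hqcl _ γ.isOpenEmbedding.isOpen_range.isClosed_compl).isOpen_compl
  let W : (pullback a b).Opens := ⟨q.base '' Set.range γ.base, hW0⟩
  set g : (W : Scheme) ⟶ A := W.ι ≫ pullback.fst a b with hg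
  haveI : Etale g := by rw [hg]; infer_instance
  -- points of W
  have hmemW : ∀ x : ↥(pullback a f), q.base (γ.base x) ∈ W := fun x => ⟨γ.base x, ⟨x, rfl⟩, rfl⟩
  have hrange : Set.range (γ ≫ q).base ⊆ Set.range W.ι.base := by
    rintro _ ⟨x, rfl⟩
    rw [Scheme.Opens.range_ι]
    exact hmemW x
  let γW : pullback a f ⟶ (W : Scheme) := IsOpenImmersion.lift W.ι (γ ≫ q) hrange
  have hγW : γW ≫ W.ι = γ ≫ q := IsOpenImmersion.lift_fac _ _ _
  have hγWg : γW ≫ g = pullback.fst a f := by
    rw [hg, ← Category.assoc, hγW, Category.assoc]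
    exact graph_fst_fst f a b φ hφ
  haveI : Surjective g := by
    refine ⟨fun x => ?_⟩
    obtain ⟨x', rfl⟩ := (pullback.fst a f).surjective x
    exact ⟨γW.base x', by rw [← hγWg]; rfl⟩
  haveI : UniversallyInjective g := by
    refine ((tfae_universallyInjective g).out 1 0).1 ?_
    intro K _ t1 t2 ht
    replace ht : t1 ≫ g = t2 ≫ g := ht
    obtain ⟨L, hL, e, a', hea⟩ : ∃ (L : CommRingCat.{u}) (_ : Field L)
        (e : Spec L ⟶ Spec (.of K)) (a' : Spec L ⟶ pullback a f),
        e ≫ t1 ≫ g = a' ≫ pullback.fst a f := by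
      obtain ⟨z, -⟩ := (pullback.fst (t1 ≫ g) (pullback.fst a f)).surjective
        (IsLocalRing.closedPoint K)
      refine ⟨(pullback (t1 ≫ g) (pullback.fst a f)).residueField z, inferInstance,
        (pullback (t1 ≫ g) (pullback.fst a f)).fromSpecResidueField z ≫
          pullback.fst (t1 ≫ g) (pullback.fst a f),
        (pullback (t1 ≫ g) (pullback.fst a f)).fromSpecResidueField z ≫
          pullback.snd (t1 ≫ g) (pullback.fst a f), ?_⟩
      simp only [Category.assoc, pullback.condition]
    have hea2 : e ≫ t2 ≫ g = a' ≫ pullback.fst a f := by rw [← ht]; exact hea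
    have hu : ∀ t : Spec (.of K) ⟶ (W : Scheme), e ≫ t ≫ g = a' ≫ pullback.fst a f →
        e ≫ t ≫ W.ι = a' ≫ γ ≫ q := by
      intro t het
      have hc : (e ≫ t ≫ W.ι) ≫ cc a b = (a' ≫ pullback.snd a f) ≫ f := by
        have : (e ≫ t ≫ W.ι) ≫ cc a b = (e ≫ t ≫ g) ≫ a := by
          simp only [cc, hg, Category.assoc]
        rw [this, het, Category.assoc, pullback.condition, Category.assoc]
      let u : _ ⟶ pullback (cc a b) f :=
        pullback.lift (e ≫ t ≫ W.ι) (a' ≫ pullback.snd a f) hc
      have hu1 : u ≫ q = e ≫ t ≫ W.ι := pullback.lift_fst _ _ _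
      have hu2 : u ≫ pullback.snd (cc a b) f = a' ≫ pullback.snd a f := pullback.lift_snd _ _ _
      have hur : Set.range u.base ⊆ Set.range γ.base := by
        rintro _ ⟨y, rfl⟩
        have hmem : q.base (u.base y) ∈ W := by
          have h1 : q.base (u.base y) = W.ι.base (t.base (e.base y)) := by
            have := congrArg (fun m => m.base y) hu1
            simpa using this
          rw [h1]
          exact (t.base (e.base y)).2
        obtain ⟨_, ⟨x, rfl⟩, hx⟩ := hmem
        exact ⟨x, hqinj hx⟩
      let v := IsOpenImmersion.lift γ u hur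
      have hv : v ≫ γ = u := IsOpenImmersion.lift_fac _ _ _
      have hva : v = a' := by
        apply pullback.hom_ext
        · calc v ≫ pullback.fst a f = v ≫ γ ≫ q ≫ pullback.fst a b := by
                rw [hγ, hq, graph_fst_fst f a b φ hφ]
            _ = (u ≫ q) ≫ pullback.fst a b := by
                rw [← Category.assoc v, hv, Category.assoc]
            _ = e ≫ t ≫ g := by rw [hu1, hg]; simp only [Category.assoc]
            _ = a' ≫ pullback.fst a f := het
        · calc v ≫ pullback.snd a f = (v ≫ γ) ≫ pullback.snd (cc a b) f := by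
                rw [Category.assoc, hγ, graph_snd f a b φ hφ]
            _ = a' ≫ pullback.snd a f := by rw [hv, hu2]
      rw [← hu1, ← hv, hva, Category.assoc]
    have h3 : e ≫ t1 ≫ W.ι = e ≫ t2 ≫ W.ι := (hu t1 hea).trans (hu t2 hea2).symm
    haveI := epi_of_fields e
    have h4 : t1 ≫ W.ι = t2 ≫ W.ι := (cancel_epi e).1 h3
    exact (cancel_mono W.ι).1 h4
  haveI : IsIso g := isIso_of_etale g
  refine ⟨inv g ≫ W.ι ≫ pullback.snd a b, ?_, ?_⟩
  · rw [Category.assoc, Category.assoc, ← pullback.condition, ← Category.assoc W.ι, ← hg,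
      IsIso.inv_hom_id_assoc]
  · have : pullback.fst a f ≫ inv g = γW := by
      rw [← hγWg, Category.assoc, IsIso.hom_inv_id, Category.comp_id]
    rw [← Category.assoc, this, ← Category.assoc, hγW, Category.assoc]
    exact graph_fst_snd f a b φ hφ

set_option maxHeartbeats 800000 in
/-- general descent of morphisms of finite étale covers along `f : X ⟶ Y`, provided the graph
(a clopen subset upstairs) is the preimage of a clopen subset downstairs, and locally constant
functions on the source are detected on the image of the base change -/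
theorem exists_descent_of_clopen {X Y : Scheme.{u}} (f : X ⟶ Y)
    {A B : Scheme.{u}} (a : A ⟶ Y) (b : B ⟶ Y) [IsFinite a] [Etale a] [IsFinite b]
    [Etale b] (φ : pullback a f ⟶ pullback b f)
    (hφ : φ ≫ pullback.snd b f = pullback.snd a f)
    (hC : ∀ Z : Set ↥(pullback (cc a b) f), IsClopen Z →
      ∃ W : Set ↥(pullback a b), IsClopen W ∧ (pullback.fst (cc a b) f).base ⁻¹' W = Z)
    (hE : ∀ d : ↥A → ℕ, IsLocallyConstant d →
      (∀ z : ↥(pullback a f), d ((pullback.fst a f).base z) = 1) → ∀ x, d x = 1) :
    ∃ ψ : A ⟶ B, ψ ≫ b = a ∧ pullback.fst a f ≫ ψ = φ ≫ pullback.fst b f := by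
  set γ := graph f a b φ hφ with hγ
  haveI hγo : IsOpenImmersion γ := isOpenImmersion_graph f a b φ hφ
  haveI hγf : IsFinite γ := by
    haveI : IsFinite (γ ≫ pullback.snd (cc a b) f) := by
      rw [hγ, graph_snd]; infer_instance
    exact IsFinite.of_comp γ (pullback.snd (cc a b) f)
  set q := pullback.fst (cc a b) f with hq
  have hγcl : IsClopen (Set.range γ.base) :=
    ⟨γ.isClosedMap.isClosed_range, γ.isOpenEmbedding.isOpen_range⟩
  obtain ⟨W₀, hW₀, hW₀q⟩ := hC _ hγcl
  let W : (pullback a b).Opens := ⟨W₀, hW₀.2⟩
  haveI : IsClosedImmersion W.ι :=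
    IsClosedImmersion.of_isPreimmersion W.ι (by rw [Scheme.Opens.range_ι]; exact hW₀.1)
  set g : (W : Scheme) ⟶ A := W.ι ≫ pullback.fst a b with hg
  haveI : Etale g := by rw [hg]; infer_instance
  haveI : IsFinite g := by rw [hg]; infer_instance
  have hmemW : ∀ x : ↥(pullback a f), q.base (γ.base x) ∈ W := fun x => by
    have : γ.base x ∈ q.base ⁻¹' W₀ := by rw [hW₀q]; exact ⟨x, rfl⟩
    exact this
  have hrange : Set.range (γ ≫ q).base ⊆ Set.range W.ι.base := by
    rintro _ ⟨x, rfl⟩
    rw [Scheme.Opens.range_ι]
    exact hmemW x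
  let γW : pullback a f ⟶ (W : Scheme) := IsOpenImmersion.lift W.ι (γ ≫ q) hrange
  have hγW : γW ≫ W.ι = γ ≫ q := IsOpenImmersion.lift_fac _ _ _
  have hγWg : γW ≫ g = pullback.fst a f := by
    rw [hg, ← Category.assoc, hγW, Category.assoc]
    exact graph_fst_fst f a b φ hφ
  -- the base change of `g` is an isomorphism
  set g₀ := pullback.snd g (pullback.fst a f) with hg₀
  let σ : pullback a f ⟶ pullback g (pullback.fst a f) :=
    pullback.lift γW (𝟙 _) (by rw [hγWg, Category.id_comp])
  have hσ1 : σ ≫ pullback.fst g (pullback.fst a f) = γW := pullback.lift_fst _ _ _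
  have hσ2 : σ ≫ g₀ = 𝟙 _ := pullback.lift_snd _ _ _
  haveI : Etale g₀ := inferInstance
  haveI : Surjective g₀ := by
    refine ⟨fun z => ⟨σ.base z, ?_⟩⟩
    have := congrArg (fun m => m.base z) hσ2
    simpa using this
  have hkey : ∀ (K : Type u) [Field K] (t : Spec (.of K) ⟶ pullback g (pullback.fst a f)),
      t = (t ≫ g₀) ≫ σ := by
    intro K _ t
    obtain ⟨w, hw⟩ : ∃ w, w = t ≫ pullback.fst g (pullback.fst a f) := ⟨_, rfl⟩
    obtain ⟨z, hz⟩ : ∃ z, z = t ≫ g₀ := ⟨_, rfl⟩
    rw [← hz]
    have hwz : w ≫ g = z ≫ pullback.fst a f := by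
      rw [hw, hz, hg₀, Category.assoc, Category.assoc, pullback.condition]
    have hc : (w ≫ W.ι) ≫ cc a b = (z ≫ pullback.snd a f) ≫ f := by
      have : (w ≫ W.ι) ≫ cc a b = (w ≫ g) ≫ a := by
        simp only [cc, hg, Category.assoc]
      rw [this, hwz, Category.assoc, pullback.condition, Category.assoc]
    let y : _ ⟶ pullback (cc a b) f := pullback.lift (w ≫ W.ι) (z ≫ pullback.snd a f) hc
    have hy1 : y ≫ q = w ≫ W.ι := pullback.lift_fst _ _ _
    have hy2 : y ≫ pullback.snd (cc a b) f = z ≫ pullback.snd a f := pullback.lift_snd _ _ _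
    have hyr : Set.range y.base ⊆ Set.range γ.base := by
      rintro _ ⟨pt, rfl⟩
      have hmem : q.base (y.base pt) ∈ W₀ := by
        have h1 : q.base (y.base pt) = W.ι.base (w.base pt) := by
          have := congrArg (fun m => m.base pt) hy1
          simpa using this
        rw [h1]
        exact (w.base pt).2
      rw [← hW₀q]
      exact hmem
    let z' := IsOpenImmersion.lift γ y hyr
    have hz' : z' ≫ γ = y := IsOpenImmersion.lift_fac _ _ _
    have hz'z : z' = z := by
      apply pullback.hom_ext
      · calc z' ≫ pullback.fst a f = z' ≫ γ ≫ q ≫ pullback.fst a b := by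
              rw [hγ, hq, graph_fst_fst f a b φ hφ]
          _ = (y ≫ q) ≫ pullback.fst a b := by
              rw [← Category.assoc z', hz', Category.assoc]
          _ = w ≫ g := by rw [hy1, hg]; simp only [Category.assoc]
          _ = z ≫ pullback.fst a f := hwz
      · calc z' ≫ pullback.snd a f = (z' ≫ γ) ≫ pullback.snd (cc a b) f := by
              rw [Category.assoc, hγ, graph_snd f a b φ hφ]
          _ = z ≫ pullback.snd a f := by rw [hz', hy2]
    have hwγ : w = z ≫ γW := by
      apply (cancel_mono W.ι).1
      rw [← hy1, ← hz', hz'z, Category.assoc, Category.assoc, hγW]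
    apply pullback.hom_ext
    · rw [Category.assoc, hσ1, ← hw]
      exact hwγ
    · rw [Category.assoc, ← hg₀, hσ2, Category.comp_id, hz]
  haveI : UniversallyInjective g₀ := by
    refine ((tfae_universallyInjective g₀).out 1 0).1 ?_
    intro K _ t1 t2 ht
    replace ht : t1 ≫ g₀ = t2 ≫ g₀ := ht
    rw [hkey K t1, hkey K t2, ht]
  haveI : IsIso g₀ := isIso_of_etale g₀
  -- degrees
  have hdeg : ∀ x, Scheme.Hom.finrank g x = 1 := by
    refine hE _ (Scheme.Hom.isLocallyConstant_finrank g) (fun z => ?_)
    rw [← Scheme.Hom.finrank_pullback_snd g (pullback.fst a f) z, ← hg₀,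
      Scheme.Hom.finrank_eq_one_of_isIso g₀]
    rfl
  haveI : IsIso g := (Scheme.Hom.isIso_iff_finrank_eq g).2 (funext hdeg)
  refine ⟨inv g ≫ W.ι ≫ pullback.snd a b, ?_, ?_⟩
  · rw [Category.assoc, Category.assoc, ← pullback.condition, ← Category.assoc W.ι, ← hg,
      IsIso.inv_hom_id_assoc]
  · have : pullback.fst a f ≫ inv g = γW := by
      rw [← hγWg, Category.assoc, IsIso.hom_inv_id, Category.comp_id]
    rw [← Category.assoc, this, ← Category.assoc, hγW, Category.assoc]
    exact graph_fst_snd f a b φ hφ

theorem finite_connectedComponents (α : Type*) [TopologicalSpace α] [TopologicalSpace.NoetherianSpace α] :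
    Finite (ConnectedComponents α) := by
  haveI : TopologicalSpace.NoetherianSpace (ConnectedComponents α) :=
    TopologicalSpace.noetherianSpace_of_surjective _ ConnectedComponents.continuous_coe
      ConnectedComponents.surjective_coe
  have hfin := TopologicalSpace.NoetherianSpace.finite_irreducibleComponents (α := ConnectedComponents α)
  have hsub : ∀ s ∈ irreducibleComponents (ConnectedComponents α), s.Subsingleton := by
    intro s hs
    exact (hs.1.isPreirreducible.isPreconnected).subsingleton
  rw [← Set.finite_univ_iff, ← sUnion_irreducibleComponents]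
  exact hfin.sUnion (fun s hs => (hsub s hs).finite)

theorem isClopen_preimage_mk (α : Type*) [TopologicalSpace α] [TopologicalSpace.NoetherianSpace α]
    (T : Set (ConnectedComponents α)) : IsClopen ((↑) ⁻¹' T : Set α) := by
  haveI := finite_connectedComponents α
  haveI : DiscreteTopology (ConnectedComponents α) := inferInstance
  exact (isClopen_discrete T).preimage ConnectedComponents.continuous_coe

end Groth.Agent.Helper23.FEtFull
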