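import Groth.Prelude.Def_WeilCoh

/-!
# Formal consequences of the axioms of a Weil cohomology theory (helper23)
-/

set_option autoImplicit false
universe u v w

open CategoryTheory AlgebraicGeometry

namespace Groth.Agent.Helper23.WeilLib

open WeilCoh

variable {k : Type u} [Field k] {P : ObjectProperty (Over (Spec (CommRingCat.of k)))}
variable {K : Type v} [Field K] (T : WeilCoh.TheoryOn.{u, v, w} k P K)

/-- transport of graded membership along an equality of degrees -/
theorem mem_gr_of_eq {X : P.FullSubcategory} {m m' : ℤ} {x : T.H X} (h : x ∈ T.gr X m)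
    (e : m = m') : x ∈ T.gr X m' := e ▸ h

/-- the defining property of the push-forward -/
theorem tr_push_mul {X Y : P.FullSubcategory} (f : X ⟶ Y) (i : ℤ) (a : T.gr X i)
    (b : T.H Y) (hb : b ∈ T.gr Y (2 * (dim X.obj.left : ℤ) - i)) :
    T.tr Y ((T.push f i a : T.H Y) * b) = T.tr X ((a : T.H X) * T.pull f b) := by
  have hperf := T.duality Y (i + 2 * (dim Y.obj.left : ℤ) - 2 * (dim X.obj.left : ℤ))
    (2 * (dim X.obj.left : ℤ) - i) (by omega)
  have h := LinearMap.apply_symm_toPerfPair_self
    (pairing K (T.gr Y (i + 2 * (dim Y.obj.left : ℤ) - 2 * (dim X.obj.left : ℤ)))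
      (T.gr Y (2 * (dim X.obj.left : ℤ) - i)) (T.tr Y)) (T.pushFunctional f i a)
  have h2 := congrArg (fun φ => φ ⟨b, hb⟩) h
  exact h2

/-- trace of a product of homogeneous elements of non-complementary degrees vanishes -/
theorem tr_mul_eq_zero {X : P.FullSubcategory} (i j : ℤ) (a b : T.H X) (ha : a ∈ T.gr X i)
    (hb : b ∈ T.gr X j) (hij : i + j ≠ 2 * (dim X.obj.left : ℤ)) : T.tr X (a * b) = 0 :=
  T.tr_vanish X (i + j) (a * b) (SetLike.mul_mem_graded ha hb) hij

/-- nondegeneracy of Poincaré duality, left form -/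
theorem eq_of_tr_mul_eq {X : P.FullSubcategory} (m : ℤ) (u v : T.H X) (hu : u ∈ T.gr X m)
    (hv : v ∈ T.gr X m)
    (h : ∀ b ∈ T.gr X (2 * (dim X.obj.left : ℤ) - m), T.tr X (u * b) = T.tr X (v * b)) : u = v := by
  have hperf := T.duality X m (2 * (dim X.obj.left : ℤ) - m) (by omega)
  have hinj := (LinearMap.IsPerfPair.bijective_left
    (pairing K (T.gr X m) (T.gr X (2 * (dim X.obj.left : ℤ) - m)) (T.tr X))).1
  have : (⟨u, hu⟩ : T.gr X m) = ⟨v, hv⟩ := by
    apply hinj
    apply LinearMap.ext
    intro b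
    exact h b.1 b.2
  exact congrArg Subtype.val this

/-- nondegeneracy of Poincaré duality, right form -/
theorem eq_of_tr_mul_eq' {X : P.FullSubcategory} (m : ℤ) (u v : T.H X) (hu : u ∈ T.gr X m)
    (hv : v ∈ T.gr X m)
    (h : ∀ b ∈ T.gr X (2 * (dim X.obj.left : ℤ) - m), T.tr X (b * u) = T.tr X (b * v)) : u = v := by
  have hperf := T.duality X (2 * (dim X.obj.left : ℤ) - m) m (by omega)
  have hinj := (LinearMap.IsPerfPair.bijective_right
    (pairing K (T.gr X (2 * (dim X.obj.left : ℤ) - m)) (T.gr X m) (T.tr X))).1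
  have : (⟨u, hu⟩ : T.gr X m) = ⟨v, hv⟩ := by
    apply hinj
    apply LinearMap.ext
    intro b
    exact h b.1 b.2
  exact congrArg Subtype.val this

/-- the top cohomology is one-dimensional -/
theorem finrank_top {X : P.FullSubcategory} :
    Module.finrank K (T.gr X (2 * (dim X.obj.left : ℤ))) = 1 := by
  have e := LinearEquiv.ofBijective _ (T.tr_bijective X)
  rw [e.finrank_eq, Module.finrank_self]

/-- Poincaré duality: complementary degrees have the same dimension -/
theorem finrank_compl {X : P.FullSubcategory} (i j : ℤ) (hij : i + j = 2 * (dim X.obj.left : ℤ)) :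
    Module.finrank K (T.gr X i) = Module.finrank K (T.gr X j) := by
  have hperf := T.duality X i j hij
  exact Module.finrank_of_isPerfPair (pairing K (T.gr X i) (T.gr X j) (T.tr X))

/-- the cohomology ring is nonzero -/
theorem one_ne_zero {X : P.FullSubcategory} : (1 : T.H X) ≠ 0 := by
  intro h
  obtain ⟨x, hx⟩ := (T.tr_bijective X).2 1
  have hx0 : (x : T.H X) = 0 := by rw [← mul_one (x : T.H X), h, mul_zero]
  have : (T.tr X) (x : T.H X) = 1 := hx
  rw [hx0, map_zero] at this
  exact zero_ne_one this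

/-- `H⁰ = K · 1` -/
theorem smul_one_bijective {X : P.FullSubcategory} :
    Function.Bijective (fun c : K =>
      (⟨c • (1 : T.H X), (T.gr X 0).smul_mem c (SetLike.one_mem_graded (T.gr X))⟩ : ↥(T.gr X 0))) := by
  let φ : K →ₗ[K] T.gr X 0 :=
    { toFun := fun c => ⟨c • (1 : T.H X), (T.gr X 0).smul_mem c (SetLike.one_mem_graded (T.gr X))⟩
      map_add' := fun a b => by apply Subtype.ext; simp [add_smul]
      map_smul' := fun a b => by apply Subtype.ext; simp [mul_smul] }
  have hinj : Function.Injective φ := by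
    rw [← LinearMap.ker_eq_bot, LinearMap.ker_eq_bot']
    intro c hc
    have h1 : c • (1 : T.H X) = 0 := congrArg Subtype.val hc
    rcases smul_eq_zero.mp h1 with h | h
    · exact h
    · exact absurd h (one_ne_zero T)
  have hfr : Module.finrank K K = Module.finrank K (T.gr X 0) := by
    rw [Module.finrank_self, finrank_compl T 0 (2 * (dim X.obj.left : ℤ)) (by ring), finrank_top]
  exact ⟨hinj, (LinearMap.injective_iff_surjective_of_finrank_eq_finrank hfr).mp hinj⟩

/-- every degree-zero class is a scalar -/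
theorem exists_smul_one_of_mem_gr_zero {X : P.FullSubcategory} (x : T.H X) (hx : x ∈ T.gr X 0) :
    ∃ c : K, x = c • (1 : T.H X) := by
  obtain ⟨c, hc⟩ := (smul_one_bijective T (X := X)).2 ⟨x, hx⟩
  exact ⟨c, (congrArg Subtype.val hc).symm⟩

/-- there is a top-degree class of trace one -/
theorem exists_top_tr_one (X : P.FullSubcategory) :
    ∃ a : T.H X, a ∈ T.gr X (2 * (dim X.obj.left : ℤ)) ∧ T.tr X a = 1 := by
  obtain ⟨x, hx⟩ := (T.tr_bijective X).2 1
  exact ⟨x.1, x.2, hx⟩

include T in
/-- the dimension of a product is the sum of the dimensions (forced by the trace axioms) -/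
theorem dim_prod {X Y Q : P.FullSubcategory} (p : Q ⟶ X) (q : Q ⟶ Y) (hQ : IsProd p q) :
    (dim Q.obj.left : ℤ) = (dim X.obj.left : ℤ) + (dim Y.obj.left : ℤ) := by
  obtain ⟨a, ha, hta⟩ := exists_top_tr_one T X
  obtain ⟨b, hb, htb⟩ := exists_top_tr_one T Y
  have h1 := T.tr_prod p q hQ a b ha hb
  rw [hta, htb, mul_one] at h1
  by_contra hne
  have h2 := T.tr_vanish Q (2 * (dim X.obj.left : ℤ) + 2 * (dim Y.obj.left : ℤ))
    (T.pull p a * T.pull q b)
    (SetLike.mul_mem_graded (T.pull_mem p _ a ha) (T.pull_mem q _ b hb)) (by omega)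
  rw [h2] at h1
  exact zero_ne_one h1

/-- elements of degree above `2 dim` vanish -/
theorem eq_zero_of_mem_gr_of_lt {X : P.FullSubcategory} (i : ℤ) (x : T.H X) (hx : x ∈ T.gr X i)
    (hi : i < 0 ∨ 2 * (dim X.obj.left : ℤ) < i) : x = 0 := by
  have := T.vanish X i hi
  rw [this] at hx
  exact (Submodule.mem_bot K).mp hx

end Groth.Agent.Helper23.WeilLib
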