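import Mathlib
import Groth.Prelude.Def_WeilCoh
import Groth.Agent.Lib.Helper23.WeilLib

/-!
# The point as a variety, closed points and the class of the generic point (helper23)
-/

set_option autoImplicit false
universe u v w
open CategoryTheory CategoryTheory.Limits AlgebraicGeometry

namespace Groth.Agent.Helper23.WeilPt

/-! ### A section of projective space (construction as in helper6's `ProjSpaceSec`) -/

/-- the ring hom `R[X₀..Xₙ] → Γ(Spec R, ⊤)` evaluating all variables at `1`. -/
noncomputable def evOne (n : ℕ) (R : Type u) [CommRing R] :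
    MvPolynomial (Fin (n + 1)) R →+* Γ(Spec (CommRingCat.of R), ⊤) :=
  (Scheme.ΓSpecIso (CommRingCat.of R)).inv.hom.comp (MvPolynomial.eval (fun _ => (1 : R)))

theorem evOne_irrelevant (n : ℕ) (R : Type u) [CommRing R] :
    (HomogeneousIdeal.irrelevant (CohB1.polyGrading n R)).toIdeal.map (evOne n R) = ⊤ := by
  rw [Ideal.eq_top_iff_one]
  have h1 : (MvPolynomial.X 0 : MvPolynomial (Fin (n + 1)) R) ∈
      (HomogeneousIdeal.irrelevant (CohB1.polyGrading n R)).toIdeal :=
    HomogeneousIdeal.mem_irrelevant_of_mem _ Nat.one_pos (MvPolynomial.isHomogeneous_X R 0)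
  have h2 := Ideal.mem_map_of_mem (evOne n R) h1
  have h3 : evOne n R (MvPolynomial.X 0) = 1 := by
    simp [evOne]
  rwa [h3] at h2

/-- A section of the structure morphism of projective space. -/
noncomputable def sec0 (n : ℕ) (R : Type u) [CommRing R] :
    Spec (CommRingCat.of R) ⟶ Proj (CohB1.polyGrading n R) :=
  Proj.fromOfGlobalSections (CohB1.polyGrading n R) (evOne n R) (evOne_irrelevant n R)

theorem sec0_toSpec (n : ℕ) (R : Type u) [CommRing R] :
    sec0 n R ≫ (Proj.toSpecZero (CohB1.polyGrading n R) ≫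
      Spec.map (CommRingCat.ofHom (algebraMap R (CohB1.polyGrading n R 0)))) = 𝟙 _ := by
  rw [sec0, Proj.fromOfGlobalSections_toSpecZero_assoc, ← Spec.map_comp,
    ← CommRingCat.ofHom_comp]
  have e : ((evOne n R).comp (algebraMap (CohB1.polyGrading n R 0) _)).comp
      (algebraMap R (CohB1.polyGrading n R 0)) = (Scheme.ΓSpecIso (CommRingCat.of R)).inv.hom := by
    ext r
    simp [evOne]
  rw [e]
  exact toSpecΓ_SpecMap_ΓSpecIso_inv _

/-- A section of the structure morphism of projective space. -/
noncomputable def sec (n : ℕ) (R : Type u) [CommRing R] :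
    Spec (CommRingCat.of R) ⟶ CohB1.ProjSpace n R := sec0 n R

theorem sec_toSpec (n : ℕ) (R : Type u) [CommRing R] :
    sec n R ≫ CohB1.ProjSpace.toSpec n R = 𝟙 _ := sec0_toSpec n R

instance (n : ℕ) (R : Type u) [CommRing R] : IsSeparated (CohB1.ProjSpace.toSpec n R) := by
  show IsSeparated (Proj.toSpecZero (CohB1.polyGrading n R) ≫
    Spec.map (CommRingCat.ofHom (algebraMap R (CohB1.polyGrading n R 0))))
  infer_instance

instance (n : ℕ) (S : Scheme.{u}) : IsSeparated (CohB1.ProjSpaceOver.toBase n S) := by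
  show IsSeparated (pullback.snd (CohB1.ProjSpace.toSpec n (ULift.{u} ℤ)) (specULiftZIsTerminal.from S))
  infer_instance

/-- a section of `P^n_S ⟶ S` -/
noncomputable def secOver (n : ℕ) (S : Scheme.{u}) : S ⟶ CohB1.ProjSpaceOver n S :=
  pullback.lift (specULiftZIsTerminal.from S ≫ sec n (ULift.{u} ℤ)) (𝟙 S) (by
    rw [Category.assoc, sec_toSpec, Category.comp_id, Category.id_comp])

theorem secOver_toBase (n : ℕ) (S : Scheme.{u}) :
    secOver n S ≫ CohB1.ProjSpaceOver.toBase n S = 𝟙 S := by
  unfold secOver CohB1.ProjSpaceOver.toBase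
  exact pullback.lift_snd _ _ _

instance (n : ℕ) (S : Scheme.{u}) : IsClosedImmersion (secOver n S) := by
  have : IsClosedImmersion (secOver n S ≫ CohB1.ProjSpaceOver.toBase n S) := by
    rw [secOver_toBase]; infer_instance
  exact IsClosedImmersion.of_comp (secOver n S) (CohB1.ProjSpaceOver.toBase n S)

theorem isProjectiveOver_id (k : Type u) [Field k] :
    Neron.IsProjectiveOver k (Over.mk (𝟙 (Spec (CommRingCat.of k)))) :=
  ⟨0, secOver 0 _, inferInstance, secOver_toBase 0 _⟩

/-- the point `Spec k` as an object of `Var k` -/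
noncomputable def ptVar (k : Type u) [Field k] : WeilCoh.Var k :=
  ⟨Over.mk (𝟙 (Spec (CommRingCat.of k))), by
    refine ⟨?_, isProjectiveOver_id k, ?_⟩
    · show Smooth (𝟙 (Spec (CommRingCat.of k)))
      infer_instance
    · show IrreducibleSpace ↥(Spec (CommRingCat.of k))
      infer_instance⟩

/-- the structure morphism to the point, as a morphism of `Var k` -/
noncomputable def toPt {k : Type u} [Field k] (X : WeilCoh.Var k) : X ⟶ ptVar k :=
  ObjectProperty.homMk (Over.homMk X.obj.hom (by simp [ptVar]))

theorem sm_toPt {k : Type u} [Field k] (X : WeilCoh.Var k) : WeilCoh.sm (toPt X) = X.obj.hom := rfl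


theorem natDim_of_subsingleton (T : Type u) [TopologicalSpace T] [Subsingleton T] :
    WeilCoh.natDim T = 0 := by
  unfold WeilCoh.natDim
  have h : topologicalKrullDim T ≤ 0 := topologicalKrullDim_zero_of_discreteTopology T
  rcases hd : topologicalKrullDim T with _ | d
  · rfl
  · rw [hd] at h
    have : (d : WithBot ℕ∞) ≤ ((0 : ℕ∞) : WithBot ℕ∞) := h
    rw [WithBot.coe_le_coe] at this
    have : d = 0 := le_antisymm this zero_le
    subst this
    rfl

theorem natDim_eq_of_homeomorph {T T' : Type u} [TopologicalSpace T] [TopologicalSpace T']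
    (e : T ≃ₜ T') : WeilCoh.natDim T = WeilCoh.natDim T' := by
  unfold WeilCoh.natDim
  rw [IsHomeomorph.topologicalKrullDim_eq e e.isHomeomorph]

theorem natDim_univ (T : Type u) [TopologicalSpace T] :
    WeilCoh.natDim ↥(Set.univ : Set T) = WeilCoh.natDim T :=
  natDim_eq_of_homeomorph (Homeomorph.Set.univ T)

theorem pdim_genericPoint (X : Scheme.{u}) [IrreducibleSpace X] :
    WeilCoh.pdim X (genericPoint X) = WeilCoh.dim X := by
  unfold WeilCoh.pdim WeilCoh.dim
  have h : closure ({genericPoint X} : Set X) = Set.univ := genericPoint_spec X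
  rw [h]
  exact natDim_univ _

theorem pdim_of_isClosed (X : Scheme.{u}) (x : X) (hx : IsClosed ({x} : Set X)) :
    WeilCoh.pdim X x = 0 := by
  unfold WeilCoh.pdim
  rw [hx.closure_eq]
  exact natDim_of_subsingleton _

theorem dim_of_subsingleton (X : Scheme.{u}) [Subsingleton X] : WeilCoh.dim X = 0 :=
  natDim_of_subsingleton _

theorem pdim_of_subsingleton (X : Scheme.{u}) [Subsingleton X] (x : X) : WeilCoh.pdim X x = 0 := by
  unfold WeilCoh.pdim
  exact natDim_of_subsingleton _


/-- In a field-like local ring target, the extension of a proper ideal along a local hom is `⊥`. -/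
theorem map_eq_bot_of_isField {R S : Type*} [CommRing R] [CommRing S] [IsLocalRing R] [IsLocalRing S]
    (hS : IsField S) (φ : R →+* S) [IsLocalHom φ] (I : Ideal R) (hI : I ≠ ⊤) :
    Ideal.map φ I = ⊥ := by
  rw [eq_bot_iff]
  have h1 : I ≤ IsLocalRing.maximalIdeal R := IsLocalRing.le_maximalIdeal hI
  have h2 : Ideal.map φ (IsLocalRing.maximalIdeal R) ≤ IsLocalRing.maximalIdeal S := by
    rw [Ideal.map_le_iff_le_comap]
    intro x hx
    rw [Ideal.mem_comap, IsLocalRing.mem_maximalIdeal, mem_nonunits_iff] at *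
    intro hu
    exact hx (isUnit_of_map_unit φ x hu)
  have h3 : IsLocalRing.maximalIdeal S = ⊥ := IsLocalRing.isField_iff_maximalIdeal_eq.mp hS
  exact (Ideal.map_mono h1).trans (h2.trans h3.le)

theorem length_quot_bot_of_isField {S : Type*} [CommRing S] (hS : IsField S) (J : Ideal S)
    (hJ : J = ⊥) : Module.length S (S ⧸ J) = 1 := by
  subst hJ
  letI := hS.toField
  rw [(Submodule.quotEquivOfEqBot (⊥ : Ideal S) rfl).length_eq]
  exact Module.length_eq_one S S



section
variable {k : Type u} [Field k]

instance : Subsingleton ↥(ptVar k).obj.left :=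
  inferInstanceAs (Subsingleton (PrimeSpectrum k))

theorem dim_pt : WeilCoh.dim (ptVar k).obj.left = 0 := dim_of_subsingleton _

instance (X : WeilCoh.Var k) : Smooth X.obj.hom := X.property.1

instance (X : WeilCoh.Var k) : IrreducibleSpace ↥X.obj.left := X.property.2.2

variable [IsAlgClosed k]

instance (X : WeilCoh.Var k) : JacobsonSpace ↥X.obj.left :=
  LocallyOfFiniteType.jacobsonSpace X.obj.hom

theorem exists_closedPoint (X : WeilCoh.Var k) : ∃ x : X.obj.left, IsClosed ({x} : Set X.obj.left) := by
  have h := closure_closedPoints (X := ↥X.obj.left)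
  have hne : (closedPoints ↥X.obj.left).Nonempty := by
    by_contra hcon
    rw [Set.not_nonempty_iff_eq_empty] at hcon
    rw [hcon, closure_empty] at h
    exact Set.empty_ne_univ h
  obtain ⟨x, hx⟩ := hne
  exact ⟨x, hx⟩

/-- the `k`-point of a closed point, as a morphism of varieties -/
noncomputable def ptTo (X : WeilCoh.Var k) (x : X.obj.left) (hx : IsClosed ({x} : Set X.obj.left)) :
    ptVar k ⟶ X :=
  ObjectProperty.homMk (Over.homMk (pointOfClosedPoint X.obj.hom x hx)
    (pointOfClosedPoint_comp X.obj.hom x hx))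

theorem sm_ptTo_apply (X : WeilCoh.Var k) (x : X.obj.left) (hx : IsClosed ({x} : Set X.obj.left))
    (a : (ptVar k).obj.left) : WeilCoh.sm (ptTo X x hx) a = x :=
  pointOfClosedPoint_apply X.obj.hom x hx a

/-- multiplicity one for morphisms out of the point -/
theorem preimMult_pt {Y : Scheme.{u}} (f : (ptVar k).obj.left ⟶ Y) (ξ : Y) (w : (ptVar k).obj.left)
    (h : f w ∈ closure ({ξ} : Set Y)) : WeilCoh.preimMult f ξ w h = 1 := by
  unfold WeilCoh.preimMult
  have hw : w = genericPoint ↥(ptVar k).obj.left := Subsingleton.elim _ _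
  have hfield : IsField ((ptVar k).obj.left.presheaf.stalk w) := by
    rw [hw]
    have : IsIntegral (ptVar k).obj.left := by
      show IsIntegral (Spec (CommRingCat.of k))
      infer_instance
    exact Field.toIsField ((ptVar k).obj.left.functionField)
  have hker : RingHom.ker (Cyc.specMap (f w) ξ (specializes_iff_mem_closure.mpr h)) ≠ ⊤ :=
    RingHom.ker_ne_top _
  have hbot := map_eq_bot_of_isField hfield (f.stalkMap w).hom _ hker
  rw [length_quot_bot_of_isField hfield _ hbot]
  rfl

end

section Theory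
variable {k : Type u} [Field k] [IsAlgClosed k] {K : Type v} [Field K] [CharZero K]
  (T : WeilCoh.Theory k K)

theorem cl_pt (ξ : (ptVar k).obj.left) : T.cl (ptVar k) ξ = 1 := (T.point (ptVar k) dim_pt).1 ξ

theorem tr_pt_one : T.tr (ptVar k) 1 = 1 := (T.point (ptVar k) dim_pt).2

theorem codim_genericPoint (X : WeilCoh.Var k) :
    WeilCoh.codim X.obj.left (genericPoint ↥X.obj.left) = 0 := by
  unfold WeilCoh.codim
  rw [pdim_genericPoint]; simp

theorem cl_genericPoint (X : WeilCoh.Var k) : T.cl X (genericPoint ↥X.obj.left) = 1 := by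
  obtain ⟨x, hx⟩ := exists_closedPoint X
  set i := ptTo X x hx with hi
  set η := genericPoint ↥X.obj.left with hη
  have hpre : (WeilCoh.sm i) ⁻¹' closure ({η} : Set X.obj.left) = Set.univ := by
    rw [hη, genericPoint_spec]; rfl
  have hcomp : ∀ w : (ptVar k).obj.left,
      WeilCoh.IsCompPt ((WeilCoh.sm i) ⁻¹' closure ({η} : Set X.obj.left)) w := by
    intro w
    rw [hpre]
    exact ⟨Set.mem_univ _, fun w' _ _ => Subsingleton.elim _ _⟩
  have h1 := T.cl_pull i η (by
    intro w _
    rw [pdim_of_subsingleton, hη, pdim_genericPoint, dim_pt]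
    push_cast; ring) (Or.inr (fun w hw => preimMult_pt _ _ _ _))
  -- the finsum over a unique type
  let w₀ : {w : (ptVar k).obj.left // WeilCoh.IsCompPt ((WeilCoh.sm i) ⁻¹' closure ({η} : Set X.obj.left)) w} :=
    ⟨IsLocalRing.closedPoint k, hcomp _⟩
  have huniq : ∀ w : {w : (ptVar k).obj.left //
      WeilCoh.IsCompPt ((WeilCoh.sm i) ⁻¹' closure ({η} : Set X.obj.left)) w}, w = w₀ :=
    fun w => Subtype.ext (Subsingleton.elim _ _)
  rw [finsum_eq_single _ w₀ (fun w hw => absurd (huniq w) hw)] at h1
  rw [preimMult_pt, cl_pt, Nat.cast_one, one_smul] at h1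
  -- cl η is a scalar
  have hmem : T.cl X η ∈ T.gr X 0 := by
    have := T.cl_mem X η
    rw [hη, codim_genericPoint] at this
    simpa using this
  obtain ⟨c, hc⟩ := WeilLib.exists_smul_one_of_mem_gr_zero T _ hmem
  rw [hc, map_smul, map_one] at h1
  have hc1 : c = 1 := by
    have h2 : (c - 1) • (1 : T.H (ptVar k)) = 0 := by rw [sub_smul, h1, one_smul, sub_self]
    rcases smul_eq_zero.mp h2 with h | h
    · exact sub_eq_zero.mp h
    · exact absurd h (WeilLib.one_ne_zero T)
  rw [hc, hc1, one_smul]

end Theory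



/-- residue degree one when the residue field map is bijective -/
theorem residueDegree_eq_one_of_bijective {X Y : Scheme.{u}} (f : X ⟶ Y) (x : X)
    (h : Function.Bijective (f.residueFieldMap x).hom) : f.residueDegree x = 1 := by
  unfold Scheme.Hom.residueDegree
  letI := (f.residueFieldMap x).hom.toAlgebra
  have e : (Y.residueField (f x)) ≃ₗ[Y.residueField (f x)] (X.residueField x) :=
    (AlgEquiv.ofBijective (Algebra.ofId (Y.residueField (f x)) (X.residueField x)) h).toLinearEquiv
  rw [← e.finrank_eq, Module.finrank_self]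

/-- the residue degree of a closed point over an algebraically closed field is one -/
theorem residueDegree_closedPoint {k : Type u} [Field k] [IsAlgClosed k] {X : Scheme.{u}}
    (f : X ⟶ Spec (CommRingCat.of k)) [LocallyOfFiniteType f] (x : X) (hx : IsClosed ({x} : Set X)) :
    f.residueDegree x = 1 := by
  apply residueDegree_eq_one_of_bijective
  refine ⟨(f.residueFieldMap x).hom.injective, ?_⟩
  -- ψ = γ ≫ resMap
  let ψ := (residueFieldIsoBase f x hx).inv
  let γ := Spec.preimage ((Spec (CommRingCat.of k)).fromSpecResidueField (f x))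
  have h1 : Spec.map ψ = Spec.map (γ ≫ f.residueFieldMap x) := by
    rw [Spec.map_comp, Spec.map_preimage, Scheme.Hom.SpecMap_residueFieldMap_fromSpecResidueField]
    exact SpecMap_residueFieldIsoBase_inv f x hx
  have h2 : ψ = γ ≫ f.residueFieldMap x := Spec.map_injective h1
  have hsurj : Function.Surjective ψ.hom := by
    have : IsIso ψ := inferInstance
    exact ((ConcreteCategory.isIso_iff_bijective ψ).mp this).2
  intro z
  obtain ⟨c, hc⟩ := hsurj z
  refine ⟨γ.hom c, ?_⟩
  rw [← hc, h2]
  rfl

section Theory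
variable {k : Type u} [Field k] [IsAlgClosed k] {K : Type v} [Field K] [CharZero K]
  (T : WeilCoh.Theory k K)

theorem tr_cl_closedPoint (X : WeilCoh.Var k) (x : X.obj.left) (hx : IsClosed ({x} : Set X.obj.left)) :
    T.tr X (T.cl X x) = 1 := by
  have h := T.cl_push (toPt X) x 1 (by
    rw [pdim_of_isClosed _ x hx]
    simpa using SetLike.one_mem_graded (T.gr (ptVar k)))
  rw [map_one, mul_one, cl_pt, mul_one, tr_pt_one, mul_one] at h
  have h2 : (WeilCoh.sm (toPt X)).residueDegree x = 1 :=
    residueDegree_closedPoint X.obj.hom x hx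
  rw [h2, Nat.cast_one] at h
  exact h

end Theory


end Groth.Agent.Helper23.WeilPt
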