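import Mathlib
import Groth.Prelude.Def_WeilCoh
import Groth.Agent.Lib.Helper23.WeilPt

/-!
# Dimension facts for the varieties of a Weil cohomology theory (helper23)
-/

set_option autoImplicit false
set_option linter.unusedSectionVars false
universe u v w
open CategoryTheory CategoryTheory.Limits AlgebraicGeometry TopologicalSpace

namespace Groth.Agent.Helper23.WeilDim

open WeilCoh Groth.Agent.Helper23

section TopDim
/-! The next three lemmas are copied from helper9's `Lib/Helper9/TopDim.lean` (to keep this file
self-contained). -/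
variable {X : Type*} [TopologicalSpace X]

lemma coheight_le_dim_of_open (U : Set X) (hU : IsOpen U) (Z : IrreducibleCloseds X)
    (h : ((Z : Set X) ∩ U).Nonempty) :
    ((Order.coheight Z : ℕ∞) : WithBot ℕ∞) ≤ topologicalKrullDim U := by
  have hemb : Topology.IsOpenEmbedding (Subtype.val : U → X) := hU.isOpenEmbedding_subtypeVal
  let e := IrreducibleCloseds.orderIsoOfIsOpenEmbedding _ hemb
  have hZ : (Subtype.val ⁻¹' (Z : Set X) : Set U).Nonempty := by
    obtain ⟨x, hxZ, hxU⟩ := h
    exact ⟨⟨x, hxU⟩, hxZ⟩
  let W : IrreducibleCloseds U := e.symm ⟨Z, hZ⟩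
  have h1 : IrreducibleCloseds.map Subtype.val hemb.continuous W = Z := by
    have := e.apply_symm_apply ⟨Z, hZ⟩
    exact congrArg Subtype.val this
  rw [← h1, hemb.coheight_map W]
  exact Order.coheight_le_krullDim W

lemma dim_le_of_forall_coheight (d : WithBot ℕ∞)
    (h : ∀ Z : IrreducibleCloseds X, ((Order.coheight Z : ℕ∞) : WithBot ℕ∞) ≤ d) :
    topologicalKrullDim X ≤ d := by
  unfold topologicalKrullDim
  rw [Order.krullDim_eq_iSup_coheight]
  exact iSup_le h

theorem dim_eq_iSup_of_open_cover {ι : Type*} (U : ι → Opens X) (hcov : ⨆ i, U i = ⊤) :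
    topologicalKrullDim X = ⨆ i, topologicalKrullDim (U i) := by
  apply le_antisymm
  · apply dim_le_of_forall_coheight
    intro Z
    obtain ⟨x, hx⟩ := Z.isIrreducible.nonempty
    have hxU : x ∈ ((⨆ i, U i : Opens X) : Set X) := by rw [hcov]; trivial
    rw [Opens.coe_iSup, Set.mem_iUnion] at hxU
    obtain ⟨i, hi⟩ := hxU
    exact (coheight_le_dim_of_open (U i : Set X) (U i).isOpen Z ⟨x, hx, hi⟩).trans
      (le_iSup (fun i => topologicalKrullDim (U i)) i)
  · exact iSup_le fun i => topologicalKrullDim_subspace_le X _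

end TopDim

instance (n : ℕ) (R : Type u) [CommRing R] :
    IsScalarTower R (CohB1.polyGrading n R 0) (MvPolynomial (Fin (n + 1)) R) := by
  refine ⟨fun r s a => ?_⟩
  change ((r • s : CohB1.polyGrading n R 0) : MvPolynomial (Fin (n + 1)) R) * a =
    r • ((s : MvPolynomial (Fin (n + 1)) R) * a)
  rw [Submodule.coe_smul, smul_mul_assoc]

instance (n : ℕ) (R : Type u) [CommRing R] :
    Algebra.FiniteType (CohB1.polyGrading n R 0) (MvPolynomial (Fin (n + 1)) R) := by
  have : Algebra.FiniteType R (MvPolynomial (Fin (n + 1)) R) := inferInstance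
  exact Algebra.FiniteType.of_restrictScalars_finiteType R _ _

instance (n : ℕ) (R : Type u) [CommRing R] : QuasiCompact (CohB1.ProjSpace.toSpec n R) := by
  show QuasiCompact (Proj.toSpecZero (CohB1.polyGrading n R) ≫
    Spec.map (CommRingCat.ofHom (algebraMap R (CohB1.polyGrading n R 0))))
  infer_instance

instance (n : ℕ) (S : Scheme.{u}) : QuasiCompact (CohB1.ProjSpaceOver.toBase n S) := by
  show QuasiCompact (pullback.snd (CohB1.ProjSpace.toSpec n (ULift.{u} ℤ)) (specULiftZIsTerminal.from S))
  infer_instance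

section Var
variable {k : Type u} [Field k]

instance quasiCompact_var (X : WeilCoh.Var k) : QuasiCompact X.obj.hom := by
  obtain ⟨n, i, hi, hcomp⟩ := X.property.2.1
  rw [← hcomp]
  infer_instance

instance isSeparated_var (X : WeilCoh.Var k) : IsSeparated X.obj.hom := by
  obtain ⟨n, i, hi, hcomp⟩ := X.property.2.1
  rw [← hcomp]
  infer_instance

instance compactSpace_var (X : WeilCoh.Var k) : CompactSpace ↥X.obj.left :=
  (HasAffineProperty.iff_of_isAffine (P := @QuasiCompact) (f := X.obj.hom)).1 inferInstance

end Var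

/-- a finitely generated algebra over a field has finite Krull dimension -/
theorem ringKrullDim_ne_top_of_finiteType (k : Type u) [Field k] (B : Type u) [CommRing B]
    [Algebra k B] [Algebra.FiniteType k B] : ringKrullDim B ≠ ⊤ := by
  obtain ⟨n, f, hf⟩ := Algebra.FiniteType.iff_quotient_mvPolynomial''.1
    (inferInstance : Algebra.FiniteType k B)
  have h1 : ringKrullDim B ≤ ringKrullDim (MvPolynomial (Fin n) k) :=
    ringKrullDim_le_of_surjective f.toRingHom hf
  rw [MvPolynomial.ringKrullDim_of_isNoetherianRing, ringKrullDim_eq_zero_of_field] at h1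
  intro htop
  rw [htop] at h1
  simp at h1
  have h2 : ((n : ℕ∞) : WithBot ℕ∞) = ((⊤ : ℕ∞) : WithBot ℕ∞) := h1
  rw [WithBot.coe_eq_coe] at h2
  exact ENat.natCast_ne_top n h2

/-- affine opens of a scheme locally of finite type over a field have finite dimension -/
theorem affine_dim_ne_top {k : Type u} [Field k] {X : Scheme.{u}}
    (f : X ⟶ Spec (CommRingCat.of k)) [LocallyOfFiniteType f] (U : X.Opens) (hU : IsAffineOpen U) :
    topologicalKrullDim ↥U ≠ ⊤ := by
  have h1 : topologicalKrullDim ↥U = ringKrullDim Γ(X, U) := by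
    rw [← PrimeSpectrum.topologicalKrullDim_eq_ringKrullDim Γ(X, U)]
    exact IsHomeomorph.topologicalKrullDim_eq _ hU.isoSpec.hom.homeomorph.isHomeomorph
  rw [h1]
  have hft : (f.appLE ⊤ U (by simp)).hom.FiniteType :=
    f.finiteType_appLE (isAffineOpen_top _) hU _
  let φ : k →+* Γ(X, U) :=
    (f.appLE ⊤ U (by simp)).hom.comp (Scheme.ΓSpecIso (CommRingCat.of k)).inv.hom
  have hφ : φ.FiniteType := by
    refine RingHom.FiniteType.comp hft (RingHom.FiniteType.of_surjective _ ?_)
    exact ((ConcreteCategory.isIso_iff_bijective _).1 inferInstance).2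
  letI := φ.toAlgebra
  haveI : Algebra.FiniteType k Γ(X, U) := hφ
  exact ringKrullDim_ne_top_of_finiteType k Γ(X, U)

/-- a quasi-compact scheme locally of finite type over a field has finite dimension -/
theorem krullDim_ne_top {k : Type u} [Field k] {X : Scheme.{u}}
    (f : X ⟶ Spec (CommRingCat.of k)) [LocallyOfFiniteType f] [CompactSpace X] :
    topologicalKrullDim X ≠ ⊤ := by
  let 𝒰 := X.affineCover.finiteSubcover
  let U : 𝒰.I₀ → Opens X := fun i => (𝒰.f i).opensRange
  have hcov : ⨆ i, U i = ⊤ := 𝒰.iSup_opensRange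
  rw [dim_eq_iSup_of_open_cover U hcov]
  have hU : ∀ i, topologicalKrullDim ↥(U i) ≠ ⊤ := fun i =>
    affine_dim_ne_top f (U i) (isAffineOpen_opensRange (𝒰.f i))
  by_cases hne : Nonempty 𝒰.I₀
  · obtain ⟨i, hi⟩ := Finite.exists_max (fun i => topologicalKrullDim ↥(U i))
    have : (⨆ i, topologicalKrullDim ↥(U i)) = topologicalKrullDim ↥(U i) :=
      le_antisymm (iSup_le hi) (le_iSup (fun i => topologicalKrullDim ↥(U i)) i)
    rw [this]
    exact hU i
  · haveI : IsEmpty 𝒰.I₀ := not_nonempty_iff.1 hne
    rw [iSup_of_empty]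
    exact bot_ne_top

section Var2
variable {k : Type u} [Field k]

instance locallyOfFiniteType_var (X : WeilCoh.Var k) : LocallyOfFiniteType X.obj.hom := by
  have : Smooth X.obj.hom := X.property.1
  infer_instance

theorem natDim_le_of_le {S S' : Type u} [TopologicalSpace S] [TopologicalSpace S']
    (h : topologicalKrullDim S ≤ topologicalKrullDim S') (htop : topologicalKrullDim S' ≠ ⊤) :
    natDim S ≤ natDim S' := by
  unfold natDim
  generalize topologicalKrullDim S = D at h
  generalize topologicalKrullDim S' = D' at h htop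
  induction D with
  | bot => simp
  | coe a =>
    induction D' with
    | bot => simp at h
    | coe b =>
      simp only [WithBot.unbotD_coe]
      refine ENat.toNat_le_toNat (WithBot.coe_le_coe.1 h) ?_
      intro hb
      apply htop
      rw [hb]; rfl

/-- the closure of a point has dimension at most that of the variety -/
theorem pdim_le_dim (X : WeilCoh.Var k) (ξ : X.obj.left) :
    pdim X.obj.left ξ ≤ dim X.obj.left :=
  natDim_le_of_le (topologicalKrullDim_subspace_le _ _) (krullDim_ne_top X.obj.hom)

theorem codim_add_pdim (X : WeilCoh.Var k) (ξ : X.obj.left) :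
    codim X.obj.left ξ + pdim X.obj.left ξ = dim X.obj.left := by
  unfold codim
  exact Nat.sub_add_cancel (pdim_le_dim X ξ)

/-- a section of a morphism of varieties is a closed immersion -/
theorem isClosedImmersion_section {X P : WeilCoh.Var k} (d : X ⟶ P) (p : P ⟶ X) (h : d ≫ p = 𝟙 X) :
    IsClosedImmersion (sm d) := by
  haveI : IsSeparated (sm p ≫ X.obj.hom) := by
    rw [Over.w p.hom]; infer_instance
  haveI : IsSeparated (sm p) := IsSeparated.of_comp (sm p) X.obj.hom
  haveI : IsClosedImmersion (sm d ≫ sm p) := by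
    have : sm d ≫ sm p = 𝟙 X.obj.left := congrArg sm h
    rw [this]; infer_instance
  exact IsClosedImmersion.of_comp (sm d) (sm p)

/-- a section of a morphism of varieties preserves the dimension of the closure of a point -/
theorem pdim_section {X P : WeilCoh.Var k} (d : X ⟶ P) (p : P ⟶ X) (h : d ≫ p = 𝟙 X)
    (η : X.obj.left) : pdim P.obj.left (sm d η) = pdim X.obj.left η := by
  haveI := isClosedImmersion_section d p h
  have e : Topology.IsClosedEmbedding ⇑(sm d) := (sm d).isClosedEmbedding
  have hcl : closure ({sm d η} : Set P.obj.left) = ⇑(sm d) '' closure ({η} : Set X.obj.left) := by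
    rw [← e.closure_image_eq, Set.image_singleton]
  unfold pdim
  rw [hcl]
  exact (WeilPt.natDim_eq_of_homeomorph (e.isEmbedding.homeomorphImage _)).symm

end Var2

end Groth.Agent.Helper23.WeilDim
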