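import Groth.Prelude.Def_GrSyz
import Mathlib.Tactic

/-!
# Helper library for `GrSyz` (graded free resolutions over polynomial rings)
-/

set_option autoImplicit false

universe u v

open GrSyz MvPolynomial

namespace Groth.Agent.Helper23.GrSyzLib

section Basic

variable (k : Type u) [CommRing k] (σ : Type v)

theorem weight_one (d : σ →₀ ℕ) :
    Finsupp.weight (fun _ : σ => (1 : ℤ)) d = ((d.sum fun _ n => n : ℕ) : ℤ) := by
  rw [Finsupp.weight_apply]
  simp only [Finsupp.sum, nsmul_eq_mul, mul_one]
  push_cast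
  rfl

theorem weight_one_nonneg (d : σ →₀ ℕ) : 0 ≤ Finsupp.weight (fun _ : σ => (1 : ℤ)) d := by
  rw [weight_one]; exact Int.natCast_nonneg _

theorem weight_one_eq_zero_iff (d : σ →₀ ℕ) :
    Finsupp.weight (fun _ : σ => (1 : ℤ)) d = 0 ↔ d = 0 := by
  rw [weight_one]
  constructor
  · intro h
    have h' : (d.sum fun _ n => n) = 0 := by exact_mod_cast h
    ext i
    by_contra hi
    have : d i ≤ d.sum fun _ n => n := by
      rw [Finsupp.sum]
      exact Finset.single_le_sum (f := fun j => d j) (fun _ _ => Nat.zero_le _)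
        (Finsupp.mem_support_iff.mpr hi)
    simp only [Finsupp.coe_zero, Pi.zero_apply] at hi
    omega
  · rintro rfl; simp

/-- a homogeneous polynomial of degree `≤ 0` with zero constant coefficient is zero -/
theorem eq_zero_of_mem_stdGr_of_nonpos {n : ℤ} (hn : n ≤ 0) {p : MvPolynomial σ k}
    (hp : p ∈ stdGr k σ n) (h0 : constantCoeff p = 0) : p = 0 := by
  rw [mem_stdGr_iff] at hp
  ext d
  rw [coeff_zero]
  by_contra hd
  have hw := hp hd
  have hnn := weight_one_nonneg σ d
  have hn0 : n = 0 := le_antisymm hn (hw ▸ hnn)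
  rw [hn0, weight_one_eq_zero_iff] at hw
  subst hw
  exact hd h0

/-- homogeneous of degree `≤ 0` means constant -/
theorem eq_C_of_mem_stdGr_of_nonpos {n : ℤ} (hn : n ≤ 0) {p : MvPolynomial σ k}
    (hp : p ∈ stdGr k σ n) : p = C (constantCoeff p) := by
  classical
  rw [mem_stdGr_iff] at hp
  ext d
  by_cases hd0 : d = 0
  · subst hd0; simp [constantCoeff_eq]
  · rw [coeff_C, if_neg (Ne.symm hd0)]
    by_contra hd
    have hw := hp hd
    have hnn := weight_one_nonneg σ d
    have hn0 : n = 0 := le_antisymm hn (hw ▸ hnn)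
    rw [hn0, weight_one_eq_zero_iff] at hw
    exact hd0 hw

theorem constantCoeff_eq_zero_of_mem_stdGr_pos {n : ℤ} (hn : 0 < n) {p : MvPolynomial σ k}
    (hp : p ∈ stdGr k σ n) : constantCoeff p = 0 := by
  rw [mem_stdGr_iff] at hp
  by_contra h
  have hw := hp (d := 0) (by rwa [constantCoeff_eq] at h)
  rw [map_zero] at hw
  omega

theorem irrel_le_ker_constantCoeff :
    (irrel (stdGr k σ)).toIdeal ≤ RingHom.ker (constantCoeff : MvPolynomial σ k →+* k) := by
  change Ideal.span _ ≤ _
  rw [Ideal.span_le]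
  rintro p ⟨n, hn, hp⟩
  exact constantCoeff_eq_zero_of_mem_stdGr_pos k σ hn hp

theorem constantCoeff_eq_zero_of_mem_irrel {p : MvPolynomial σ k}
    (hp : p ∈ (irrel (stdGr k σ)).toIdeal) : constantCoeff p = 0 :=
  irrel_le_ker_constantCoeff k σ hp

theorem one_not_mem_irrel [Nontrivial k] : (1 : MvPolynomial σ k) ∉ (irrel (stdGr k σ)).toIdeal := by
  intro h
  have := constantCoeff_eq_zero_of_mem_irrel k σ h
  simp at this

theorem mem_irrel_of_pos {n : ℤ} (hn : 0 < n) {p : MvPolynomial σ k}
    (hp : p ∈ stdGr k σ n) : p ∈ (irrel (stdGr k σ)).toIdeal :=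
  Ideal.subset_span ⟨n, hn, hp⟩

/-- a homogeneous element in the irrelevant ideal of degree `≤ 0` vanishes -/
theorem eq_zero_of_mem_stdGr_of_mem_irrel {n : ℤ} (hn : n ≤ 0) {p : MvPolynomial σ k}
    (hp : p ∈ stdGr k σ n) (hp' : p ∈ (irrel (stdGr k σ)).toIdeal) : p = 0 :=
  eq_zero_of_mem_stdGr_of_nonpos k σ hn hp (constantCoeff_eq_zero_of_mem_irrel k σ hp')

end Basic

section Field

variable (k : Type u) [Field k] (σ : Type v)

/-- over a field, a homogeneous element outside the irrelevant ideal is a unit -/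
theorem isUnit_of_mem_stdGr_of_not_mem_irrel {n : ℤ} {p : MvPolynomial σ k}
    (hp : p ∈ stdGr k σ n) (hp' : p ∉ (irrel (stdGr k σ)).toIdeal) : IsUnit p := by
  have hn : n ≤ 0 := by
    by_contra h
    exact hp' (mem_irrel_of_pos k σ (not_le.mp h) hp)
  have hC := eq_C_of_mem_stdGr_of_nonpos k σ hn hp
  have hne : constantCoeff p ≠ 0 := by
    intro h0
    apply hp'
    rw [eq_zero_of_mem_stdGr_of_nonpos k σ hn hp h0]
    exact Ideal.zero_mem _
  rw [hC]
  exact (isUnit_iff_ne_zero.mpr hne).map C

end Field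

end Groth.Agent.Helper23.GrSyzLib

namespace Groth.Agent.Helper23.GrSyzLib

section Redundant

variable {S : Type u} [CommRing S] {N : Type v} [AddCommGroup N] [Module S N]
  {ι : Type*} [Fintype ι] [DecidableEq ι]

/-- a member of a finite family is redundant iff there is a relation with coefficient one on it -/
theorem redundant_iff (g : ι → N) (b : ι) :
    g b ∈ Submodule.span S (g '' {b' | b' ≠ b}) ↔ ∃ v : ι → S, v b = 1 ∧ ∑ c, v c • g c = 0 := by
  constructor
  · intro h
    rw [Finsupp.mem_span_image_iff_linearCombination] at h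
    obtain ⟨l, hl, hlx⟩ := h
    have hlb : l b = 0 := by
      by_contra hne
      have : b ∈ l.support := Finsupp.mem_support_iff.mpr hne
      exact (hl this) rfl
    refine ⟨fun c => (if c = b then 1 else 0) - l c, by simp [hlb], ?_⟩
    simp only [sub_smul, Finset.sum_sub_distrib, ite_smul, one_smul, zero_smul,
      Finset.sum_ite_eq', Finset.mem_univ, if_true]
    rw [Finsupp.linearCombination_apply, Finsupp.sum_fintype l (fun i a => a • g i) (fun _ => zero_smul _ _)] at hlx
    rw [hlx, sub_self]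
  · rintro ⟨v, hvb, hv⟩
    rw [← Finset.add_sum_erase _ _ (Finset.mem_univ b), hvb, one_smul] at hv
    have : g b = -∑ c ∈ Finset.univ.erase b, v c • g c := eq_neg_of_add_eq_zero_left hv
    rw [this]
    apply Submodule.neg_mem
    apply Submodule.sum_mem
    intro c hc
    apply Submodule.smul_mem
    apply Submodule.subset_span
    exact ⟨c, Finset.ne_of_mem_erase hc, rfl⟩

end Redundant

section Minimal

variable {k : Type u} [Field k] {σ : Type}
  {M : Type u} [AddCommGroup M] [Module k M] [Module (MvPolynomial σ k) M]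
  {ℳ : ℤ → Submodule k M} [DirectSum.Decomposition ℳ] [SetLike.GradedSMul (stdGr k σ) ℳ]
  (F : FreeRes (stdGr k σ) ℳ)

theorem sum_smul_col {m n : ℕ} (A : Matrix (Fin m) (Fin n) (MvPolynomial σ k))
    (v : Fin n → MvPolynomial σ k) :
    ∑ c, v c • (fun a => A a c) = A.mulVec v := by
  funext a
  simp only [Finset.sum_apply, Pi.smul_apply, smul_eq_mul, Matrix.mulVec, dotProduct]
  exact Finset.sum_congr rfl fun c _ => mul_comm (v c) (A a c)

theorem mulVec_apply_mem_irrel {m n : ℕ} (A : Matrix (Fin m) (Fin n) (MvPolynomial σ k))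
    (hA : ∀ a b, A a b ∈ (irrel (stdGr k σ)).toIdeal) (v : Fin n → MvPolynomial σ k) (a : Fin m) :
    A.mulVec v a ∈ (irrel (stdGr k σ)).toIdeal := by
  rw [Matrix.mulVec, dotProduct]
  exact Ideal.sum_mem _ fun c _ => Ideal.mul_mem_right _ _ (hA a c)

theorem isMinimal_iff :
    F.IsMinimal (irrel (stdGr k σ)).toIdeal ↔
      ((∀ b : Fin (F.rk 0), F.aug b ∉ Submodule.span (MvPolynomial σ k) (F.aug '' {b' | b' ≠ b})) ∧
        ∀ (i : ℕ) (b : Fin (F.rk (i + 1))),
          (fun a => F.d i a b) ∉
            Submodule.span (MvPolynomial σ k) ((fun b' a => F.d i a b') '' {b' | b' ≠ b})) := by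
  constructor
  · intro hmin
    constructor
    · intro b hb
      rw [redundant_iff] at hb
      obtain ⟨v, hvb, hv⟩ := hb
      have hker : v ∈ LinearMap.ker (Fintype.linearCombination (MvPolynomial σ k) F.aug) := by
        rw [LinearMap.mem_ker, Fintype.linearCombination_apply]; exact hv
      rw [F.exact_zero] at hker
      obtain ⟨w, hw⟩ := hker
      have := mulVec_apply_mem_irrel (F.d 0) (hmin 0) w b
      rw [Matrix.mulVecLin_apply] at hw
      rw [hw, hvb] at this
      exact one_not_mem_irrel k σ this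
    · intro i b hb
      rw [redundant_iff (g := fun b' a => F.d i a b')] at hb
      obtain ⟨v, hvb, hv⟩ := hb
      have hker : v ∈ LinearMap.ker (Matrix.mulVecLin (F.d i)) := by
        rw [LinearMap.mem_ker, Matrix.mulVecLin_apply, ← sum_smul_col]; exact hv
      rw [F.exact_succ i] at hker
      obtain ⟨w, hw⟩ := hker
      have := mulVec_apply_mem_irrel (F.d (i + 1)) (hmin (i + 1)) w b
      rw [Matrix.mulVecLin_apply] at hw
      rw [hw, hvb] at this
      exact one_not_mem_irrel k σ this
  · rintro ⟨h0, h1⟩ i a b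
    by_contra hnot
    obtain ⟨u, hu⟩ := isUnit_of_mem_stdGr_of_not_mem_irrel k σ (F.d_mem i a b) hnot
    cases i with
    | zero =>
      apply h0 a
      rw [redundant_iff]
      have hmem : (F.d 0).mulVec (Pi.single b 1) ∈
          LinearMap.ker (Fintype.linearCombination (MvPolynomial σ k) F.aug) := by
        rw [F.exact_zero]; exact ⟨Pi.single b 1, rfl⟩
      rw [LinearMap.mem_ker, Fintype.linearCombination_apply] at hmem
      refine ⟨fun a' => (↑u⁻¹ : MvPolynomial σ k) * F.d 0 a' b, ?_, ?_⟩
      · show (↑u⁻¹ : MvPolynomial σ k) * F.d 0 a b = 1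
        rw [← hu]; exact u.inv_mul
      · have : ∀ c, (F.d 0).mulVec (Pi.single b 1) c = F.d 0 c b := by
          intro c; simp [Matrix.mulVec_single]
        simp only [this] at hmem
        simp only [mul_smul]
        rw [← Finset.smul_sum, hmem, smul_zero]
    | succ j =>
      apply h1 j a
      rw [redundant_iff (g := fun b' a' => F.d j a' b')]
      have hmem : (F.d (j + 1)).mulVec (Pi.single b 1) ∈ LinearMap.ker (Matrix.mulVecLin (F.d j)) := by
        rw [F.exact_succ j]; exact ⟨Pi.single b 1, rfl⟩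
      rw [LinearMap.mem_ker, Matrix.mulVecLin_apply, ← sum_smul_col] at hmem
      refine ⟨fun a' => (↑u⁻¹ : MvPolynomial σ k) * F.d (j + 1) a' b, ?_, ?_⟩
      · show (↑u⁻¹ : MvPolynomial σ k) * F.d (j + 1) a b = 1
        rw [← hu]; exact u.inv_mul
      · have : ∀ c, (F.d (j + 1)).mulVec (Pi.single b 1) c = F.d (j + 1) c b := by
          intro c; simp [Matrix.mulVec_single]
        simp only [this] at hmem
        simp only [mul_smul]
        rw [← Finset.smul_sum, hmem, smul_zero]

end Minimal

end Groth.Agent.Helper23.GrSyzLib
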