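import Groth.Agent.Lib.Helper23.DepthExt2

set_option autoImplicit false
set_option linter.style.haveILetI false

open CategoryTheory AlgebraicGeometry Opposite TopologicalSpace

universe u

namespace Groth.Agent.Helper23.DepthExt

variable {X : Scheme.{u}}

/-- restriction of sections from an affine open `V` to a quasi-compact open `U' ≤ V` is bijective
provided the local rings at the points of `V \ U'` have a regular pair (depth at least 2) -/
theorem bijective_res_of_hasRegPair (V : X.Opens) (hV : IsAffineOpen V)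
    [IsNoetherianRing Γ(X, V)] (U' : X.Opens) (hle : U' ≤ V) (hU'c : IsCompact (U' : Set X))
    (hdepth : ∀ x : X, x ∈ V → x ∉ U' → HasRegPair (X.presheaf.stalk x)) :
    Function.Bijective (X.presheaf.map (homOfLE hle).op).hom := by
  letI : Algebra Γ(X, V) Γ(X, U') := (X.presheaf.map (homOfLE hle).op).hom.toAlgebra
  have halg : ∀ r : Γ(X, V), algebraMap Γ(X, V) Γ(X, U') r = (X.presheaf.map (homOfLE hle).op).hom r :=
    fun r => rfl
  have hsmul : ∀ (r : Γ(X, V)) (g : Γ(X, U')), r • g = (X.presheaf.map (homOfLE hle).op).hom r * g :=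
    fun r g => rfl
  let ι := {a : Γ(X, V) // X.basicOpen a ≤ U'}
  -- restriction to `D(a)` of `res a` is a unit
  have hunit : ∀ i : ι, IsUnit ((X.presheaf.map (homOfLE i.2).op).hom
      ((X.presheaf.map (homOfLE hle).op).hom i.1)) := by
    intro i
    have h0 : (X.presheaf.map (homOfLE i.2).op).hom ((X.presheaf.map (homOfLE hle).op).hom i.1) =
        (X.presheaf.map (homOfLE (X.basicOpen_le i.1)).op).hom i.1 := by
      rw [← CommRingCat.comp_apply, ← Functor.map_comp]; rfl
    rw [h0]
    exact RingedSpace.isUnit_res_basicOpen X.toRingedSpace i.1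
  -- a section of `U'` vanishing on `D(a)` is killed by a power of `a`
  have hkill : ∀ (i : ι) (g : Γ(X, U')), (X.presheaf.map (homOfLE i.2).op).hom g = 0 →
      ∃ n : ℕ, (i.1 ^ n) • g = 0 := by
    intro i g hg
    have hbo : X.basicOpen ((X.presheaf.map (homOfLE hle).op).hom i.1) ≤ X.basicOpen i.1 := by
      rw [Scheme.basicOpen_res]; exact inf_le_right
    have H : (X.presheaf.map (homOfLE (X.basicOpen_le
        ((X.presheaf.map (homOfLE hle).op).hom i.1))).op).hom g = 0 := by
      have : (X.presheaf.map (homOfLE (X.basicOpen_le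
          ((X.presheaf.map (homOfLE hle).op).hom i.1))).op) =
          X.presheaf.map (homOfLE i.2).op ≫ X.presheaf.map (homOfLE hbo).op := by
        rw [← Functor.map_comp]; rfl
      rw [this, CommRingCat.hom_comp, RingHom.comp_apply, hg, map_zero]
    obtain ⟨n, hn⟩ := exists_pow_mul_eq_zero_of_res_basicOpen_eq_zero_of_isCompact X hU'c g
      ((X.presheaf.map (homOfLE hle).op).hom i.1) H
    exact ⟨n, by rw [hsmul, map_pow]; exact hn⟩
  refine bijective_of_hasRegPair (R := Γ(X, V)) (G := Γ(X, U')) (fun i : ι => i.1) ?_ ?_ ?_ ?_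
  · -- E1
    intro g i
    haveI := hV.isLocalization_basicOpen i.1
    obtain ⟨n, x, hx⟩ := IsLocalization.Away.surj i.1 ((X.presheaf.map (homOfLE i.2).op).hom g)
    have hz : (X.presheaf.map (homOfLE i.2).op).hom
        ((i.1 ^ n) • g - algebraMap Γ(X, V) Γ(X, U') x) = 0 := by
      rw [map_sub, hsmul, map_mul, sub_eq_zero, mul_comm]
      simp only [map_pow]
      have h1 : (X.presheaf.map (homOfLE i.2).op).hom ((X.presheaf.map (homOfLE hle).op).hom i.1) =
          algebraMap Γ(X, V) Γ(X, X.basicOpen i.1) i.1 := by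
        rw [← CommRingCat.comp_apply, ← Functor.map_comp]; rfl
      have h2 : (X.presheaf.map (homOfLE i.2).op).hom (algebraMap Γ(X, V) Γ(X, U') x) =
          algebraMap Γ(X, V) Γ(X, X.basicOpen i.1) x := by
        rw [halg, ← CommRingCat.comp_apply, ← Functor.map_comp]; rfl
      rw [h1, h2]
      exact hx
    obtain ⟨m, hm⟩ := hkill i _ hz
    refine ⟨m + n, i.1 ^ m * x, ?_⟩
    rw [smul_sub, sub_eq_zero] at hm
    rw [pow_add, mul_smul, hm, map_mul, Algebra.smul_def]
  · -- E2
    intro r i hr
    have H : (X.presheaf.map (homOfLE (X.basicOpen_le i.1)).op).hom r = 0 := by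
      have : X.presheaf.map (homOfLE (X.basicOpen_le i.1)).op =
          X.presheaf.map (homOfLE hle).op ≫ X.presheaf.map (homOfLE i.2).op := by
        rw [← Functor.map_comp]; rfl
      rw [this, CommRingCat.hom_comp, RingHom.comp_apply, ← halg, hr, map_zero]
    exact exists_pow_mul_eq_zero_of_res_basicOpen_eq_zero_of_isAffineOpen X hV r i.1 H
  · -- E3
    intro g hg
    have hcover : U' ≤ ⨆ i : ι, X.basicOpen i.1 := by
      intro x hx
      obtain ⟨f, hf1, hf2⟩ := hV.exists_basicOpen_le (V := U') ⟨x, hx⟩ (hle hx)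
      exact Opens.mem_iSup.2 ⟨⟨f, hf1⟩, hf2⟩
    refine TopCat.Sheaf.eq_of_locally_eq' X.sheaf (fun i : ι => X.basicOpen i.1) U'
      (fun i => homOfLE i.2) hcover g 0 ?_
    intro i
    obtain ⟨n, hn⟩ := hg i
    have h1 : (X.presheaf.map (homOfLE i.2).op).hom ((i.1 ^ n) • g) = 0 := by rw [hn, map_zero]
    rw [hsmul, map_mul] at h1
    simp only [map_pow] at h1
    have h2 := ((hunit i).pow n).mul_right_eq_zero.1 h1
    show (X.presheaf.map (homOfLE i.2).op).hom g = (X.presheaf.map (homOfLE i.2).op).hom 0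
    rw [h2, map_zero]
  · -- depth
    intro p hp hap
    set x : X := hV.fromSpec.base ⟨p, hp⟩ with hx
    have hxV : x ∈ V := (hV.isoSpec.inv _).2
    have hxU : x ∉ U' := by
      intro hxU
      obtain ⟨f, hf1, hf2⟩ := hV.exists_basicOpen_le (V := U') ⟨x, hxU⟩ hxV
      have h1 : (⟨p, hp⟩ : PrimeSpectrum Γ(X, V)) ∈ hV.fromSpec ⁻¹ᵁ X.basicOpen f := hf2
      rw [hV.fromSpec_preimage_basicOpen] at h1
      exact h1 (hap ⟨f, hf1⟩)
    have hreg := hdepth x hxV hxU
    letI : Algebra Γ(X, V) (X.presheaf.stalk x) :=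
      TopCat.Presheaf.algebra_section_stalk X.presheaf ⟨x, hxV⟩
    haveI : IsLocalization.AtPrime (X.presheaf.stalk x) p :=
      hV.isLocalization_stalk' ⟨p, hp⟩ hxV
    exact hreg.of_ringEquiv (IsLocalization.algEquiv p.primeCompl (X.presheaf.stalk x)
      (Localization.AtPrime p)).toRingEquiv

end Groth.Agent.Helper23.DepthExt
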