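import Mathlib

/-!
# Connectedness of a scheme and idempotent global functions (helper23)
-/

set_option autoImplicit false

universe u

open CategoryTheory AlgebraicGeometry TopologicalSpace Opposite

namespace Groth.Agent.Helper23.QsGeo

/-- On a quasi-compact connected scheme every idempotent global function is `0` or `1`. -/
theorem idempotent_trivial_of_preconnected (X : Scheme.{u}) [CompactSpace X] [PreconnectedSpace X]
    (e : Γ(X, ⊤)) (he : IsIdempotentElem e) : e = 0 ∨ e = 1 := by
  have hdisj : X.basicOpen e ⊓ X.basicOpen (1 - e) = ⊥ := by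
    rw [← Scheme.basicOpen_mul]
    have : e * (1 - e) = 0 := by rw [mul_sub, mul_one, he.eq, sub_self]
    rw [this, Scheme.basicOpen_zero]
  have hcov : ∀ x : X, x ∈ X.basicOpen e ∨ x ∈ X.basicOpen (1 - e) := by
    intro x
    rw [Scheme.mem_basicOpen_top, Scheme.mem_basicOpen_top, map_sub, map_one]
    exact IsLocalRing.isUnit_or_isUnit_one_sub_self _
  have hcompl : ((X.basicOpen e : Set X))ᶜ = (X.basicOpen (1 - e) : Set X) := by
    ext x
    constructor
    · intro hx
      exact (hcov x).resolve_left hx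
    · intro hx hx'
      have : x ∈ X.basicOpen e ⊓ X.basicOpen (1 - e) := ⟨hx', hx⟩
      rw [hdisj] at this
      exact this
  have hclopen : IsClopen (X.basicOpen e : Set X) := by
    refine ⟨?_, (X.basicOpen e).isOpen⟩
    rw [← isOpen_compl_iff, hcompl]
    exact (X.basicOpen (1 - e)).isOpen
  have hnil : ∀ f : Γ(X, ⊤), IsIdempotentElem f → X.basicOpen f = ⊥ → f = 0 := by
    intro f hf hbot
    obtain ⟨n, hn⟩ := (Scheme.isNilpotent_iff_basicOpen_eq_bot f).mpr hbot
    rcases n with _ | n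
    · rw [pow_zero] at hn
      rw [← mul_one f, hn, mul_zero]
    · rwa [hf.pow_succ_eq] at hn
  rcases isClopen_iff.mp hclopen with h | h
  · left
    apply hnil e he
    ext1
    exact h
  · right
    have h2 : X.basicOpen (1 - e) = ⊥ := by
      ext1
      rw [← hcompl, h]
      simp
    have := hnil (1 - e) he.one_sub h2
    exact (sub_eq_zero.mp this).symm

/-- If `1 = 0` in the ring of sections over an open, the open is empty. -/
theorem eq_bot_of_one_eq_zero (Y : Scheme.{u}) (U : Y.Opens) (h : (1 : Γ(Y, U)) = 0) : U = ⊥ := by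
  rw [← Scheme.basicOpen_one (X := Y) (U := U), h, Scheme.basicOpen_zero]

/-- A scheme which is not preconnected has a nontrivial idempotent global function. -/
theorem exists_idempotent_of_not_preconnected (Y : Scheme.{u}) (h : ¬ PreconnectedSpace Y) :
    ∃ e : Γ(Y, ⊤), IsIdempotentElem e ∧ e ≠ 0 ∧ e ≠ 1 := by
  rw [preconnectedSpace_iff_clopen] at h
  push Not at h
  obtain ⟨s, hs, hs0, hs1⟩ := h
  let U : Y.Opens := ⟨s, hs.isOpen⟩
  let V : Y.Opens := ⟨sᶜ, hs.isClosed.isOpen_compl⟩
  have hUV : U ⊓ V = ⊥ := by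
    ext x
    simp [U, V]
  have hU0 : U ≠ ⊥ := by
    intro hU
    obtain ⟨x, hx⟩ := hs0
    have hxU : x ∈ U := hx
    rw [hU] at hxU
    exact hxU
  have hV0 : V ≠ ⊥ := by
    intro hV
    apply hs1
    have := congrArg (fun W : Y.Opens => (W : Set Y)) hV
    simpa [V, Set.compl_empty_iff] using this
  let Uf : Bool → Y.Opens := fun b => Bool.rec V U b
  let sf : ∀ b : Bool, Γ(Y, Uf b) := fun b => Bool.rec (0 : Γ(Y, V)) (1 : Γ(Y, U)) b
  have hsub : Subsingleton Γ(Y, U ⊓ V) := by
    rw [hUV]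
    infer_instance
  have hsub' : Subsingleton Γ(Y, V ⊓ U) := by
    rw [inf_comm, hUV]
    infer_instance
  have hcompat : TopCat.Presheaf.IsCompatible Y.sheaf.1 Uf sf := by
    rintro (_ | _) (_ | _)
    · show Y.presheaf.map _ (0 : Γ(Y, V)) = Y.presheaf.map _ (0 : Γ(Y, V))
      rw [map_zero, map_zero]
    · exact hsub'.elim _ _
    · exact hsub.elim _ _
    · show Y.presheaf.map _ (1 : Γ(Y, U)) = Y.presheaf.map _ (1 : Γ(Y, U))
      rw [map_one, map_one]
  have hcover : (⊤ : Y.Opens) ≤ iSup Uf := by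
    intro x _
    rw [Opens.mem_iSup]
    by_cases hx : x ∈ s
    · exact ⟨true, hx⟩
    · exact ⟨false, hx⟩
  obtain ⟨e₀, he, -⟩ := Y.sheaf.existsUnique_gluing' Uf ⊤ (fun b => homOfLE le_top) hcover sf hcompat
  let e : Γ(Y, ⊤) := e₀
  have he1 : (Y.presheaf.map (homOfLE (le_top : U ≤ ⊤)).op).hom e = 1 := he true
  have he0 : (Y.presheaf.map (homOfLE (le_top : V ≤ ⊤)).op).hom e = 0 := he false
  refine ⟨e, ?_, ?_, ?_⟩
  · apply Y.sheaf.eq_of_locally_eq' Uf ⊤ (fun b => homOfLE le_top) hcover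
    rintro (_ | _)
    · show (Y.presheaf.map (homOfLE (le_top : V ≤ ⊤)).op).hom (e * e) =
        (Y.presheaf.map (homOfLE (le_top : V ≤ ⊤)).op).hom e
      rw [RingHom.map_mul, he0, mul_zero]
    · show (Y.presheaf.map (homOfLE (le_top : U ≤ ⊤)).op).hom (e * e) =
        (Y.presheaf.map (homOfLE (le_top : U ≤ ⊤)).op).hom e
      rw [RingHom.map_mul, he1, mul_one]
  · intro h0
    rw [h0, RingHom.map_zero] at he1
    exact hU0 (eq_bot_of_one_eq_zero Y U he1.symm)
  · intro h1
    rw [h1, RingHom.map_one] at he0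
    exact hV0 (eq_bot_of_one_eq_zero Y V he0)

end Groth.Agent.Helper23.QsGeo
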