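import Groth.Agent.Lib.Helper23.CountDense

set_option autoImplicit false

open TopologicalSpace Set AlgebraicGeometry

namespace Groth.Agent.Helper23.CountDense

universe u

theorem coheight_lt_top (S : Scheme.{u}) [IsLocallyNoetherian S] (x : S) :
    Order.coheight x < ⊤ := by
  have h1 := ringKrullDim_stalk_eq_coheight x
  have h2 : ringKrullDim (S.presheaf.stalk x) < ⊤ := ringKrullDim_lt_top
  rw [h1] at h2
  exact WithBot.coe_lt_coe.1 (by simpa using h2)

attribute [local instance] specializationOrder in
theorem wellFoundedGT_irreducibleCloseds (S : Scheme.{u}) [IsLocallyNoetherian S] :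
    WellFoundedGT (IrreducibleCloseds S) := by
  let r : IrreducibleCloseds S → ℕ := fun Z =>
    (Order.coheight (α := S) (irreducibleSetEquivPoints Z)).toNat
  have hr : StrictAnti r := by
    intro Z Z' h
    have h' : (irreducibleSetEquivPoints Z : S) < irreducibleSetEquivPoints Z' :=
      (OrderIso.lt_iff_lt _).2 h
    have h3 := Order.coheight_strictAnti h' (coheight_lt_top S _)
    obtain ⟨a, ha⟩ := ENat.ne_top_iff_exists.1 (coheight_lt_top S (irreducibleSetEquivPoints Z)).ne
    obtain ⟨b, hb⟩ := ENat.ne_top_iff_exists.1 (coheight_lt_top S (irreducibleSetEquivPoints Z')).ne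
    change (Order.coheight (α := S) (irreducibleSetEquivPoints Z')).toNat <
      (Order.coheight (α := S) (irreducibleSetEquivPoints Z)).toNat
    rw [← ha, ← hb] at h3 ⊢
    rw [ENat.toNat_natCast, ENat.toNat_natCast]
    exact ENat.natCast_lt_natCast.1 h3
  exact hr.wellFoundedGT

theorem exists_countable_dense (S : Scheme.{u}) [IsNoetherian S] (T : Set S) (hd : Dense T) :
    ∃ E : Set S, E ⊆ T ∧ E.Countable ∧ Dense E := by
  have := wellFoundedGT_irreducibleCloseds S
  obtain ⟨E, hE, hEc, hEd⟩ := exists_countable_closure_le T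
  refine ⟨E, hE, hEc, ?_⟩
  rw [dense_iff_closure_eq] at hd ⊢
  rw [hd] at hEd
  exact Set.eq_univ_of_univ_subset hEd

end Groth.Agent.Helper23.CountDense
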