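import Mathlib
import Groth.Prelude.Def_ProCons

/-!
# Pro- and ind-constructible sets: preimages under morphisms of schemes (helper23)
-/

open CategoryTheory AlgebraicGeometry
universe u
open ProCons

namespace Groth.Agent.Helper23.ProConsLib

theorem mem_iff' {α : Type*} {a b : α} (e : a = b) (A : Set α) : a ∈ A ↔ b ∈ A := by rw [e]

theorem morphismRestrict_apply_eq {X Y : Scheme.{u}} (f : X ⟶ Y) (U : Y.Opens)
    (x' : X) (hx' : x' ∈ f.base ⁻¹' (U : Set Y)) :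
    (f ∣_ U) (⟨x', hx'⟩ : ↥(f ⁻¹ᵁ U)) = (⟨f.base x', hx'⟩ : ↥U) :=
  Subtype.ext (morphismRestrict_base_coe f U ⟨x', hx'⟩)

open Topology in
theorem isLocallyConstructible_preimage {X Y : Scheme.{u}} (f : X ⟶ Y) {T : Set Y}
    (hT : IsLocallyConstructible T) : IsLocallyConstructible (f.base ⁻¹' T) := by
  intro x
  obtain ⟨U, hxU, hU, hUT⟩ := hT (f.base x)
  refine ⟨f.base ⁻¹' U, f.continuous.continuousAt.preimage_mem_nhds hxU,
    hU.preimage f.continuous, ?_⟩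
  have h1 := (f ∣_ (⟨U, hU⟩ : Y.Opens)).isConstructible_preimage
    (s := (Subtype.val ⁻¹' T : Set ↥U)) hUT
  have h2 : (Subtype.val ⁻¹' (f.base ⁻¹' T) : Set ↥(f.base ⁻¹' U)) =
      (f ∣_ (⟨U, hU⟩ : Y.Opens)) ⁻¹' (Subtype.val ⁻¹' T : Set ↥U) := by
    ext ⟨x', hx'⟩
    simp only [Set.mem_preimage]
    exact (mem_iff' (morphismRestrict_apply_eq f ⟨U, hU⟩ x' hx')
      (Subtype.val ⁻¹' T : Set ↥U)).symm
  rw [h2]
  exact h1

theorem isProConstructible_preimage {X Y : Scheme.{u}} (f : X ⟶ Y) (T : Set Y)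
    (hT : ProCons.IsProConstructible T) :
    ProCons.IsProConstructible (f.base ⁻¹' T) := by
  intro x
  obtain ⟨U, hU, hxU, S, hS, hST⟩ := hT (f.base x)
  refine ⟨f.base ⁻¹' U, hU.preimage f.continuous, hxU,
    (fun A : Set ↥U => ((f ∣_ (⟨U, hU⟩ : Y.Opens)) ⁻¹' A : Set ↥(f.base ⁻¹' U))) '' S, ?_, ?_⟩
  · rintro _ ⟨A, hA, rfl⟩
    exact isLocallyConstructible_preimage (f ∣_ (⟨U, hU⟩ : Y.Opens)) (hS A hA)
  · ext ⟨x', hx'⟩
    simp only [Set.mem_preimage, Set.mem_sInter, Set.mem_image, forall_exists_index, and_imp,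
      forall_apply_eq_imp_iff₂]
    have h1 : (⟨f.base x', hx'⟩ : ↥U) ∈ (Subtype.val ⁻¹' T : Set ↥U) ↔
        (⟨f.base x', hx'⟩ : ↥U) ∈ ⋂₀ S := by rw [hST]
    simp only [Set.mem_preimage, Set.mem_sInter] at h1
    rw [h1]
    constructor
    · intro h A hA
      exact (mem_iff' (morphismRestrict_apply_eq f ⟨U, hU⟩ x' hx') A).2 (h A hA)
    · intro h A hA
      exact (mem_iff' (morphismRestrict_apply_eq f ⟨U, hU⟩ x' hx') A).1 (h A hA)

theorem isIndConstructible_preimage {X Y : Scheme.{u}} (f : X ⟶ Y) (T : Set Y)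
    (hT : ProCons.IsIndConstructible T) :
    ProCons.IsIndConstructible (f.base ⁻¹' T) := by
  intro x
  obtain ⟨U, hU, hxU, S, hS, hST⟩ := hT (f.base x)
  refine ⟨f.base ⁻¹' U, hU.preimage f.continuous, hxU,
    (fun A : Set ↥U => ((f ∣_ (⟨U, hU⟩ : Y.Opens)) ⁻¹' A : Set ↥(f.base ⁻¹' U))) '' S, ?_, ?_⟩
  · rintro _ ⟨A, hA, rfl⟩
    exact isLocallyConstructible_preimage (f ∣_ (⟨U, hU⟩ : Y.Opens)) (hS A hA)
  · ext ⟨x', hx'⟩
    simp only [Set.mem_preimage, Set.mem_sUnion, Set.mem_image, exists_exists_and_eq_and]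
    have h1 : (⟨f.base x', hx'⟩ : ↥U) ∈ (Subtype.val ⁻¹' T : Set ↥U) ↔
        (⟨f.base x', hx'⟩ : ↥U) ∈ ⋃₀ S := by rw [hST]
    simp only [Set.mem_preimage, Set.mem_sUnion] at h1
    rw [h1]
    constructor
    · rintro ⟨A, hA, h⟩
      exact ⟨A, hA, (mem_iff' (morphismRestrict_apply_eq f ⟨U, hU⟩ x' hx') A).2 h⟩
    · rintro ⟨A, hA, h⟩
      exact ⟨A, hA, (mem_iff' (morphismRestrict_apply_eq f ⟨U, hU⟩ x' hx') A).1 h⟩

end Groth.Agent.Helper23.ProConsLib
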