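import Mathlib

/-!
# Formal unramifiedness from fibrewise epimorphisms (helper23)
-/

set_option autoImplicit false
set_option linter.style.haveILetI false

open TensorProduct

universe u

namespace Groth.Agent.Helper23.MonoFib

/-- an epimorphic algebra has no Kähler differentials -/
theorem subsingleton_kaehler_of_isEpi (K T : Type u) [CommRing K] [CommRing T] [Algebra K T]
    [hE : Algebra.IsEpi K T] : Subsingleton Ω[T⁄K] := by
  have h := (Algebra.isEpi_iff_forall_one_tmul_eq K T).1 hE
  have hD : ∀ t : T, KaehlerDifferential.D K T t = 0 := by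
    intro t
    rw [KaehlerDifferential.D_apply]
    have : (⟨1 ⊗ₜ t - t ⊗ₜ 1, KaehlerDifferential.one_smul_sub_smul_one_mem_ideal K t⟩ :
        KaehlerDifferential.ideal K T) = 0 := by
      apply Subtype.ext
      show (1 : T) ⊗ₜ[K] t - t ⊗ₜ[K] (1 : T) = 0
      rw [h t, sub_self]
    rw [this]
    exact map_zero _
  have htop : (⊤ : Submodule T Ω[T⁄K]) = ⊥ := by
    rw [← KaehlerDifferential.span_range_derivation, Submodule.span_eq_bot]
    rintro _ ⟨t, rfl⟩
    exact hD t
  exact (Submodule.subsingleton_iff T).1 (subsingleton_of_bot_eq_top htop.symm)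

attribute [local instance] Algebra.TensorProduct.rightAlgebra in
/-- a finite-type algebra all of whose fibres have vanishing differentials is formally
unramified -/
theorem formallyUnramified_of_fiber (R S : Type u) [CommRing R] [CommRing S] [Algebra R S]
    [Algebra.FiniteType R S]
    (h : ∀ p : PrimeSpectrum R, Subsingleton Ω[(p.asIdeal.Fiber S)⁄p.asIdeal.ResidueField]) :
    Algebra.FormallyUnramified R S := by
  rw [Algebra.formallyUnramified_iff]
  haveI : Module.Finite S Ω[S⁄R] := inferInstance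
  rw [← Module.support_eq_empty_iff (R := S), Set.eq_empty_iff_forall_notMem]
  intro q hq
  rw [Module.mem_support_iff_nontrivial_residueField_tensorProduct] at hq
  let p : PrimeSpectrum R := q.comap (algebraMap R S)
  -- the fibre of the differentials over `p` vanishes
  haveI hsub : Subsingleton (p.asIdeal.ResidueField ⊗[R] Ω[S⁄R]) :=
    (KaehlerDifferential.tensorKaehlerEquivBase R p.asIdeal.ResidueField S
      (p.asIdeal.Fiber S)).toEquiv.subsingleton_congr.2 (h p)
  -- the comparison map
  let ι : p.asIdeal.ResidueField →ₐ[R] q.asIdeal.ResidueField :=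
    Ideal.ResidueField.mapₐ p.asIdeal q.asIdeal (Algebra.ofId R S) rfl
  let ψ : p.asIdeal.ResidueField ⊗[R] Ω[S⁄R] →ₗ[R] q.asIdeal.ResidueField ⊗[S] Ω[S⁄R] :=
    (TensorProduct.mapOfCompatibleSMul S R R q.asIdeal.ResidueField Ω[S⁄R]).comp
      (TensorProduct.map ι.toLinearMap LinearMap.id)
  have h1 : ∀ ω : Ω[S⁄R], (1 : q.asIdeal.ResidueField) ⊗ₜ[S] ω = 0 := by
    intro ω
    have : ψ (1 ⊗ₜ ω) = (1 : q.asIdeal.ResidueField) ⊗ₜ[S] ω := by
      show TensorProduct.mapOfCompatibleSMul S R R q.asIdeal.ResidueField Ω[S⁄R]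
        (TensorProduct.map ι.toLinearMap LinearMap.id (1 ⊗ₜ ω)) = _
      rw [TensorProduct.map_tmul, AlgHom.toLinearMap_apply, map_one, LinearMap.id_apply,
        TensorProduct.mapOfCompatibleSMul_tmul]
    rw [← this, Subsingleton.elim (1 ⊗ₜ[R] ω : p.asIdeal.ResidueField ⊗[R] Ω[S⁄R]) 0, map_zero]
  obtain ⟨x, y, hxy⟩ := hq
  apply hxy
  have hz : ∀ z : q.asIdeal.ResidueField ⊗[S] Ω[S⁄R], z = 0 := by
    intro z
    induction z using TensorProduct.induction_on with
    | zero => rfl
    | tmul c ω =>
      have : c ⊗ₜ[S] ω = c • ((1 : q.asIdeal.ResidueField) ⊗ₜ[S] ω) := by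
        rw [TensorProduct.smul_tmul', smul_eq_mul, mul_one]
      rw [this, h1, smul_zero]
    | add a b ha hb => rw [ha, hb, add_zero]
  rw [hz x, hz y]

end Groth.Agent.Helper23.MonoFib
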