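import Mathlib
import Groth.Agent.Lib.Helper23.MonoFib1

/-!
# A morphism locally of finite type with monomorphic fibres is a monomorphism (helper23)
-/

set_option autoImplicit false
set_option linter.style.haveILetI false

open CategoryTheory CategoryTheory.Limits AlgebraicGeometry

universe u

namespace Groth.Agent.Helper23.MonoFib

variable {X Y : Scheme.{u}}

/-- all fibre structure maps `X_y ⟶ Spec κ(y)` are monomorphisms -/
def FibMono (f : X ⟶ Y) : Prop := ∀ y : Y, Mono (f.fiberToSpecResidueField y)

theorem FibMono.pullback_snd {f : X ⟶ Y} (hf : FibMono f) {Z : Scheme.{u}} (g : Z ⟶ Y) :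
    FibMono (pullback.snd f g) := by
  intro z
  have h := isPullback_fiberToSpecResidueField_of_isPullback (IsPullback.of_hasPullback f g) z
  exact @PullbackCone.mono_snd_of_is_pullback_of_mono _ _ _ _ _ _ _ h.cone h.isLimit (hf _)

theorem mono_pullback_map_of_mono {A B C A' B' : Scheme.{u}} (f : A ⟶ C) (g : B ⟶ C)
    (f' : A' ⟶ C) (g' : B' ⟶ C) (i₁ : A ⟶ A') (i₂ : B ⟶ B') [Mono i₁] [Mono i₂]
    (e₁ : f = i₁ ≫ f') (e₂ : g = i₂ ≫ g') :
    Mono (pullback.map f g f' g' i₁ i₂ (𝟙 C) (by simp [e₁]) (by simp [e₂])) := by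
  refine ⟨fun a b hab => ?_⟩
  apply pullback.hom_ext
  · rw [← cancel_mono i₁]
    have := congrArg (· ≫ pullback.fst f' g') hab
    simp only [Category.assoc] at this
    rw [pullback.lift_fst] at this
    simpa using this
  · rw [← cancel_mono i₂]
    have := congrArg (· ≫ pullback.snd f' g') hab
    simp only [Category.assoc] at this
    rw [pullback.lift_snd] at this
    simpa using this

theorem FibMono.comp_mono {f : X ⟶ Y} (hf : FibMono f) {U : Scheme.{u}} (j : U ⟶ X) [Mono j] :
    FibMono (j ≫ f) := by
  intro y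
  show Mono (pullback.snd (j ≫ f) (Y.fromSpecResidueField y))
  haveI hm := mono_pullback_map_of_mono (j ≫ f) (Y.fromSpecResidueField y) f
    (Y.fromSpecResidueField y) j (𝟙 _) rfl (by simp)
  have hm2 : pullback.snd (j ≫ f) (Y.fromSpecResidueField y) =
      pullback.map (j ≫ f) (Y.fromSpecResidueField y) f (Y.fromSpecResidueField y) j (𝟙 _) (𝟙 Y)
        (by simp) (by simp) ≫ pullback.snd f (Y.fromSpecResidueField y) := by
    rw [pullback.lift_snd, Category.comp_id]
  haveI : Mono (pullback.snd f (Y.fromSpecResidueField y)) := hf y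
  rw [hm2]
  exact mono_comp _ _

/-- the affine case -/
theorem formallyUnramified_of_fibMono_Spec {R S : CommRingCat.{u}} (φ : R ⟶ S)
    (hft : φ.hom.FiniteType) (h : FibMono (Spec.map φ)) : φ.hom.FormallyUnramified := by
  algebraize [φ.hom]
  have hφ : φ = CommRingCat.ofHom (algebraMap R S) := rfl
  show Algebra.FormallyUnramified R S
  apply formallyUnramified_of_fiber
  intro p
  have hm : Mono ((Spec.map (CommRingCat.ofHom (algebraMap R S))).fiberToSpecResidueField p) := by
    have := h p
    rwa [hφ] at this
  have hm2 : Mono (Spec.map (CommRingCat.ofHom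
      (algebraMap p.asIdeal.ResidueField (p.asIdeal.Fiber S)))) :=
    ((MorphismProperty.monomorphisms Scheme.{u}).arrow_mk_iso_iff
      (Spec.fiberToSpecResidueFieldIso R S p)).1 hm
  haveI hepi : Epi (CommRingCat.ofHom (algebraMap p.asIdeal.ResidueField (p.asIdeal.Fiber S))) := by
    refine ⟨fun {T} a b hab => ?_⟩
    apply Spec.map_injective
    rw [← cancel_mono (Spec.map (CommRingCat.ofHom
      (algebraMap p.asIdeal.ResidueField (p.asIdeal.Fiber S)))), ← Spec.map_comp, ← Spec.map_comp,
      hab]
  haveI : Algebra.IsEpi p.asIdeal.ResidueField (p.asIdeal.Fiber S) :=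
    CommRingCat.epi_iff_epi.1 hepi
  exact subsingleton_kaehler_of_isEpi _ _

theorem formallyUnramified_of_fibMono (f : X ⟶ Y) [LocallyOfFiniteType f] (h : FibMono f) :
    FormallyUnramified f := by
  apply IsZariskiLocalAtTarget.of_openCover (P := @FormallyUnramified) Y.affineCover
  intro i
  apply IsZariskiLocalAtSource.of_openCover (P := @FormallyUnramified)
    (pullback f (Y.affineCover.f i)).affineCover
  intro j
  have hQ : FibMono ((pullback f (Y.affineCover.f i)).affineCover.f j ≫
      Y.affineCover.pullbackHom f i) := (h.pullback_snd _).comp_mono _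
  haveI hlft : LocallyOfFiniteType ((pullback f (Y.affineCover.f i)).affineCover.f j ≫
      Y.affineCover.pullbackHom f i) := by
    unfold Scheme.Cover.pullbackHom
    infer_instance
  generalize (pullback f (Y.affineCover.f i)).affineCover.f j ≫
      Y.affineCover.pullbackHom f i = g at hQ hlft
  obtain ⟨φ, rfl⟩ := Spec.map_surjective g
  exact (HasRingHomProperty.Spec_iff (P := @FormallyUnramified)).2
    (formallyUnramified_of_fibMono_Spec φ
      ((HasRingHomProperty.Spec_iff (P := @LocallyOfFiniteType)).1 hlft) hQ)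

end Groth.Agent.Helper23.MonoFib
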