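import Mathlib
import Groth.Agent.Lib.Helper23.MonoFib2

/-!
# A morphism locally of finite type with monomorphic fibres is a monomorphism, II (helper23)
-/

set_option autoImplicit false
set_option linter.style.haveILetI false

open CategoryTheory CategoryTheory.Limits AlgebraicGeometry

universe u

namespace Groth.Agent.Helper23.MonoFib

variable {X Y : Scheme.{u}}

/-- two `K`-points of `X` with the same image in `Y` agree when the fibres are monomorphic -/
theorem eq_of_fibMono {f : X ⟶ Y} (h : FibMono f) {K : Type u} [Field K]
    (a b : Spec (CommRingCat.of K) ⟶ X) (hab : a ≫ f = b ≫ f) : a = b := by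
  -- factor the common composite through a residue field
  obtain ⟨⟨y, ψ⟩, hc⟩ : ∃ yψ : Σ y : Y, Y.residueField y ⟶ CommRingCat.of K,
      Spec.map yψ.2 ≫ Y.fromSpecResidueField yψ.1 = a ≫ f :=
    ⟨Scheme.SpecToEquivOfField K Y (a ≫ f), (Scheme.SpecToEquivOfField K Y).symm_apply_apply _⟩
  let a' : Spec (CommRingCat.of K) ⟶ pullback f (Y.fromSpecResidueField y) :=
    pullback.lift a (Spec.map ψ) hc.symm
  let b' : Spec (CommRingCat.of K) ⟶ pullback f (Y.fromSpecResidueField y) :=
    pullback.lift b (Spec.map ψ) (hab ▸ hc.symm)
  haveI : Mono (pullback.snd f (Y.fromSpecResidueField y)) := h y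
  have hab' : a' = b' := by
    rw [← cancel_mono (pullback.snd f (Y.fromSpecResidueField y))]
    rw [pullback.lift_snd, pullback.lift_snd]
  have ha : a = a' ≫ pullback.fst f (Y.fromSpecResidueField y) := (pullback.lift_fst _ _ _).symm
  have hb : b = b' ≫ pullback.fst f (Y.fromSpecResidueField y) := (pullback.lift_fst _ _ _).symm
  rw [ha, hb, hab']

theorem mono_of_fibMono (f : X ⟶ Y) [LocallyOfFiniteType f] (h : FibMono f) : Mono f := by
  haveI : FormallyUnramified f := formallyUnramified_of_fibMono f h
  haveI : IsOpenImmersion (pullback.diagonal f) := inferInstance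
  rw [← pullback.isIso_diagonal_iff]
  have hsurj : Function.Surjective (pullback.diagonal f).base := by
    intro w
    let t : Spec (CommRingCat.of ↑((pullback f f).residueField w)) ⟶ pullback f f :=
      (pullback f f).fromSpecResidueField w
    have hab : t ≫ pullback.fst f f = t ≫ pullback.snd f f :=
      eq_of_fibMono h _ _ (by rw [Category.assoc, Category.assoc, pullback.condition])
    have ht : t = (t ≫ pullback.fst f f) ≫ pullback.diagonal f := by
      apply pullback.hom_ext
      · rw [Category.assoc, pullback.diagonal_fst, Category.comp_id]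
      · rw [Category.assoc, pullback.diagonal_snd, Category.comp_id, hab]
    refine ⟨(t ≫ pullback.fst f f).base (IsLocalRing.closedPoint _), ?_⟩
    have h2 : ((t ≫ pullback.fst f f) ≫ pullback.diagonal f).base (IsLocalRing.closedPoint _) =
        t.base (IsLocalRing.closedPoint _) := by rw [← ht]
    exact h2.trans (Scheme.fromSpecResidueField_apply _ _)
  haveI : Epi (pullback.diagonal f).base := (TopCat.epi_iff_surjective _).2 hsurj
  exact IsOpenImmersion.isIso _

end Groth.Agent.Helper23.MonoFib
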