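import Mathlib

/-!
# fpqc descent of ideal sheaves: existence (helper23)
-/

set_option autoImplicit false

universe u

open CategoryTheory AlgebraicGeometry TopologicalSpace Opposite Limits

namespace Groth.Agent.Helper23.FpqcIdeal

/-- The map to the scheme-theoretic image has trivial kernel. -/
theorem ker_toImage {X Y : Scheme.{u}} (f : X ⟶ Y) : f.toImage.ker = ⊥ := by
  have h1 : (f.toImage.imageι ≫ f.imageι).ker = f.imageι.ker := by
    apply le_antisymm
    · have h2 : f.toImage.toImage ≫ (f.toImage.imageι ≫ f.imageι) = f := by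
        rw [← Category.assoc, Scheme.Hom.toImage_imageι, Scheme.Hom.toImage_imageι]
      calc (f.toImage.imageι ≫ f.imageι).ker
          ≤ (f.toImage.toImage ≫ (f.toImage.imageι ≫ f.imageι)).ker :=
            Scheme.Hom.le_ker_comp _ _
        _ = f.ker := by rw [h2]
        _ = f.imageι.ker := (Scheme.IdealSheafData.ker_subschemeι _).symm
    · rw [Scheme.Hom.ker_comp, ← Scheme.IdealSheafData.map_bot]
      exact Scheme.IdealSheafData.map_mono _ bot_le
  haveI : IsIso f.toImage.imageι :=
    IsClosedImmersion.isIso_of_ker_eq (f.toImage.imageι ≫ f.imageι) f.imageι f.toImage.imageι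
      rfl h1
  exact (Scheme.isIso_subschemeι_iff_eq_bot f.toImage.ker).mp this

instance isSchemeTheoreticallyDominant_toImage {X Y : Scheme.{u}} (f : X ⟶ Y) :
    IsSchemeTheoreticallyDominant f.toImage :=
  ⟨ker_toImage f⟩

/-- An effective epimorphism of schemes is scheme-theoretically dominant. -/
theorem isSchemeTheoreticallyDominant_of_effectiveEpi {X Y : Scheme.{u}} (f : X ⟶ Y)
    [EffectiveEpi f] : IsSchemeTheoreticallyDominant f := by
  constructor
  have key : ∀ {W : Scheme.{u}} (g₁ g₂ : W ⟶ X), g₁ ≫ f = g₂ ≫ f →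
      g₁ ≫ f.toImage = g₂ ≫ f.toImage := by
    intro W g₁ g₂ h12
    rw [← cancel_mono f.imageι, Category.assoc, Category.assoc, Scheme.Hom.toImage_imageι, h12]
  let s := EffectiveEpi.desc f f.toImage key
  have hs : f ≫ s = f.toImage := EffectiveEpi.fac f f.toImage key
  have h1 : s ≫ f.imageι = 𝟙 _ := by
    rw [← cancel_epi f, ← Category.assoc, hs, Scheme.Hom.toImage_imageι, Category.comp_id]
  haveI : IsSplitEpi f.imageι := ⟨⟨⟨s, h1⟩⟩⟩
  haveI : IsIso f.imageι := isIso_of_mono_of_isSplitEpi _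
  exact (Scheme.isIso_subschemeι_iff_eq_bot f.ker).mp this

theorem isSchemeTheoreticallyDominant_of_fpqc {X Y : Scheme.{u}} (f : X ⟶ Y)
    [Flat f] [Surjective f] [QuasiCompact f] : IsSchemeTheoreticallyDominant f :=
  isSchemeTheoreticallyDominant_of_effectiveEpi f

/-- Flat base change of the scheme-theoretic image. -/
theorem ker_fst_imageι {S S' Z' : Scheme.{u}} (g : S' ⟶ S) [Flat g] (f : Z' ⟶ S)
    [QuasiCompact f] :
    (pullback.fst g f.imageι).ker = (pullback.fst g f).ker := by
  let m : pullback g f ⟶ pullback g f.imageι :=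
    pullback.map g f g f.imageι (𝟙 _) f.toImage (𝟙 _) (by simp) (by simp)
  have hm1 : m ≫ pullback.fst g f.imageι = pullback.fst g f := by
    simp only [m, pullback.map, pullback.lift_fst, Category.comp_id]
  have hm2 : m ≫ pullback.snd g f.imageι = pullback.snd g f ≫ f.toImage := by
    simp only [m, pullback.map, pullback.lift_snd]
  have hpb : IsPullback (pullback.snd g f) m f.toImage (pullback.snd g f.imageι) := by
    refine IsPullback.of_bot ?_ hm2.symm (IsPullback.of_hasPullback g f.imageι).flip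
    rw [hm1, Scheme.Hom.toImage_imageι]
    exact (IsPullback.of_hasPullback g f).flip
  haveI : IsSchemeTheoreticallyDominant m := IsSchemeTheoreticallyDominant.of_isPullback hpb
  rw [← hm1, Scheme.Hom.ker_comp, Scheme.Hom.ker_eq_bot m, Scheme.IdealSheafData.map_bot]

theorem exists_comap_eq {S S' : Scheme.{u}} (g : S' ⟶ S) [Flat g] [Surjective g]
    [QuasiCompact g] (J' : S'.IdealSheafData)
    (h : J'.comap (pullback.fst g g) = J'.comap (pullback.snd g g)) :
    ∃ J : S.IdealSheafData, J.comap g = J' := by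
  obtain ⟨ι', hι'⟩ : ∃ ι', ι' = J'.subschemeι := ⟨_, rfl⟩
  haveI : IsClosedImmersion ι' := by rw [hι']; infer_instance
  obtain ⟨p₁, hp₁⟩ : ∃ p₁, p₁ = pullback.fst g g := ⟨_, rfl⟩
  obtain ⟨p₂, hp₂⟩ : ∃ p₂, p₂ = pullback.snd g g := ⟨_, rfl⟩
  have hp : p₁ ≫ g = p₂ ≫ g := by rw [hp₁, hp₂]; exact pullback.condition
  haveI : Flat p₁ := by rw [hp₁]; infer_instance
  haveI : Surjective p₁ := by rw [hp₁]; infer_instance
  haveI : QuasiCompact p₁ := by rw [hp₁]; infer_instance
  refine ⟨(ι' ≫ g).ker, ?_⟩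
  have hA : ((ι' ≫ g).ker).comap g = (pullback.fst g (ι' ≫ g)).ker :=
    ker_fst_imageι g (ι' ≫ g)
  rw [hA]
  -- Step B
  have e1 : (pullback.fst g (ι' ≫ g)).ker = (pullback.fst p₂ ι' ≫ p₁).ker := by
    rw [← Scheme.Hom.ker_comp_of_isIso (pullbackLeftPullbackSndIso g g ι').hom
      (pullback.fst g (ι' ≫ g)), pullbackLeftPullbackSndIso_hom_fst, hp₁, hp₂]
  have e2 : (pullback.fst p₂ ι').ker = (pullback.fst p₁ ι').ker := by
    have h' := h.symm
    rw [← hp₁, ← hp₂] at h'
    rw [hι']
    exact h'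
  haveI : IsSchemeTheoreticallyDominant (pullback.snd p₁ ι') :=
    isSchemeTheoreticallyDominant_of_fpqc _
  rw [e1, Scheme.Hom.ker_comp, e2, ← Scheme.Hom.ker_comp, pullback.condition,
    Scheme.Hom.ker_comp, Scheme.Hom.ker_eq_bot (pullback.snd p₁ ι'),
    Scheme.IdealSheafData.map_bot, hι', Scheme.IdealSheafData.ker_subschemeι]

end Groth.Agent.Helper23.FpqcIdeal
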