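import Mathlib
import Groth.Prelude
import Groth.Agent.Lib.Helper20.GrSG11

/-!
# Degree-one generators of the irrelevant ideal from generators of the localized maximal ideal
-/

set_option autoImplicit false
set_option linter.unusedVariables false
set_option linter.unusedSectionVars false
set_option linter.style.haveILetI false

open DirectSum

namespace Groth.Agent.Helper23.APoly

universe u

section Loc

/-- generators of the maximal ideal of a localization at a prime, with numerators in the prime -/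
theorem exists_num_generators {R : Type u} [CommRing R] [IsNoetherianRing R] (p : Ideal R)
    [p.IsPrime] (r : ℕ)
    (hr : (IsLocalRing.maximalIdeal (Localization.AtPrime p)).spanFinrank = r) :
    ∃ z : Fin r → R, (∀ i, z i ∈ p) ∧
      ∀ w ∈ p, ∃ u : R, u ∉ p ∧ u * w ∈ Ideal.span (Set.range z) := by
  classical
  set S := Localization.AtPrime p with hS
  haveI : IsNoetherianRing S := IsLocalization.isNoetherianRing p.primeCompl S inferInstance
  have hfg : (IsLocalRing.maximalIdeal S).FG := IsNoetherian.noetherian _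
  obtain ⟨G, hcard, hspan⟩ := Submodule.FG.exists_span_finset_card_eq_spanFinrank hfg
  rw [hr] at hcard
  have hsurj : ∀ g : S, ∃ x : R × p.primeCompl, g * algebraMap R S x.2 = algebraMap R S x.1 :=
    IsLocalization.surj p.primeCompl
  choose nd hnd using hsurj
  let e : G ≃ Fin r := G.equivFinOfCardEq hcard
  have hGmem : ∀ g ∈ G, g ∈ IsLocalRing.maximalIdeal S := by
    intro g hg
    rw [← hspan]
    exact Submodule.subset_span hg
  refine ⟨fun i => (nd (e.symm i : S)).1, ?_, ?_⟩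
  · intro i
    have h1 : algebraMap R S (nd (e.symm i : S)).1 ∈ IsLocalRing.maximalIdeal S := by
      rw [← hnd]
      exact Ideal.mul_mem_right _ _ (hGmem _ (e.symm i).2)
    exact (IsLocalization.AtPrime.to_map_mem_maximal_iff S p _).1 h1
  · intro w hw
    set J : Ideal R := Ideal.span (Set.range fun i => (nd (e.symm i : S)).1) with hJ
    have hle : IsLocalRing.maximalIdeal S ≤ Ideal.map (algebraMap R S) J := by
      rw [← hspan]
      apply Submodule.span_le.2
      intro g hg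
      have h1 : g * algebraMap R S (nd g).2 ∈ Ideal.map (algebraMap R S) J := by
        rw [hnd]
        apply Ideal.mem_map_of_mem
        apply Ideal.subset_span
        refine ⟨e ⟨g, hg⟩, ?_⟩
        simp
      exact (Ideal.mul_unit_mem_iff_mem _ (IsLocalization.map_units S (nd g).2)).1 h1
    have hw' : algebraMap R S w ∈ Ideal.map (algebraMap R S) J :=
      hle ((IsLocalization.AtPrime.to_map_mem_maximal_iff S p _).2 hw)
    rw [IsLocalization.mem_map_algebraMap_iff p.primeCompl S] at hw'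
    obtain ⟨⟨a, s⟩, has⟩ := hw'
    rw [← map_mul, IsLocalization.eq_iff_exists p.primeCompl S] at has
    obtain ⟨c, hc⟩ := has
    refine ⟨(c : R) * (s : R), ?_, ?_⟩
    · exact (c * s).2
    · have : (c : R) * (s : R) * w = (c : R) * (a : R) := by
        rw [← hc]; ring
      rw [this]
      exact Ideal.mul_mem_left _ _ a.2

end Loc

section Deg

variable {R : Type u} [CommRing R] (𝒜 : ℤ → AddSubgroup R) [GradedRing 𝒜]

/-- the degree-zero part of an element of the irrelevant ideal vanishes -/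
theorem decompose_zero_of_mem_irrel (hpos : ∀ n : ℤ, n < 0 → 𝒜 n = ⊥) {z : R}
    (hz : z ∈ Ideal.span (⋃ n ∈ Set.Ioi (0 : ℤ), (𝒜 n : Set R))) :
    ((decompose 𝒜 z 0 : 𝒜 0) : R) = 0 := by
  induction hz using Submodule.closure_induction with
  | zero => rw [decompose_zero, DirectSum.zero_apply, ZeroMemClass.coe_zero]
  | add x y _ _ hx hy =>
    rw [decompose_add, DirectSum.add_apply, AddMemClass.coe_add, hx, hy, add_zero]
  | smul_mem c y hy =>
    simp only [Set.mem_iUnion] at hy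
    obtain ⟨n, hn, hyn⟩ := hy
    have hn' : (0 : ℤ) < n := hn
    have h1 := DirectSum.coe_decompose_mul_add_of_right_mem 𝒜 (i := -n) (a := c) hyn
    rw [neg_add_cancel] at h1
    rw [smul_eq_mul, h1]
    have h2 : ((decompose 𝒜 c (-n) : 𝒜 (-n)) : R) ∈ 𝒜 (-n) := (decompose 𝒜 c (-n)).2
    have h3 : ((decompose 𝒜 c (-n) : 𝒜 (-n)) : R) ∈ (⊥ : AddSubgroup R) :=
      (hpos (-n) (by omega)) ▸ h2
    rw [AddSubgroup.mem_bot.1 h3, zero_mul]

/-- the degree-one part of a product in a positively graded ring -/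
theorem decompose_one_mul (hpos : ∀ n : ℤ, n < 0 → 𝒜 n = ⊥) (a z : R) :
    ((decompose 𝒜 (a * z) 1 : 𝒜 1) : R) =
      ((decompose 𝒜 a 0 : 𝒜 0) : R) * ((decompose 𝒜 z 1 : 𝒜 1) : R) +
      ((decompose 𝒜 a 1 : 𝒜 1) : R) * ((decompose 𝒜 z 0 : 𝒜 0) : R) := by
  induction z using DirectSum.Decomposition.inductionOn 𝒜 with
  | zero =>
    rw [mul_zero, decompose_zero, DirectSum.zero_apply, DirectSum.zero_apply,
      ZeroMemClass.coe_zero]
    simp
  | @homogeneous j y =>
    have hy : (y : R) ∈ 𝒜 j := y.2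
    have h1 := DirectSum.coe_decompose_mul_add_of_right_mem 𝒜 (i := 1 - j) (a := a) hy
    rw [sub_add_cancel] at h1
    rw [h1]
    rcases lt_trichotomy j 0 with hj | hj | hj
    · have h3 : (y : R) ∈ (⊥ : AddSubgroup R) := (hpos j hj) ▸ hy
      rw [AddSubgroup.mem_bot.1 h3, mul_zero, decompose_zero, DirectSum.zero_apply,
        DirectSum.zero_apply, ZeroMemClass.coe_zero]
      simp
    · subst hj
      rw [decompose_of_mem_same 𝒜 hy, decompose_of_mem_ne 𝒜 hy (by omega : (0 : ℤ) ≠ 1)]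
      simp
    · rcases eq_or_lt_of_le (show (1 : ℤ) ≤ j by omega) with hj1 | hj1
      · subst hj1
        rw [decompose_of_mem_same 𝒜 hy, decompose_of_mem_ne 𝒜 hy (by omega : (1 : ℤ) ≠ 0)]
        simp
      · rw [decompose_of_mem_ne 𝒜 hy (by omega : j ≠ 1),
          decompose_of_mem_ne 𝒜 hy (by omega : j ≠ 0)]
        have h2 : ((decompose 𝒜 a (1 - j) : 𝒜 (1 - j)) : R) ∈ 𝒜 (1 - j) :=
          (decompose 𝒜 a (1 - j)).2
        have h3 : ((decompose 𝒜 a (1 - j) : 𝒜 (1 - j)) : R) ∈ (⊥ : AddSubgroup R) :=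
          (hpos (1 - j) (by omega)) ▸ h2
        rw [AddSubgroup.mem_bot.1 h3]
        simp
  | add x y hx hy =>
    rw [mul_add, decompose_add, DirectSum.add_apply, AddMemClass.coe_add, hx, hy,
      decompose_add, DirectSum.add_apply, DirectSum.add_apply, AddMemClass.coe_add,
      AddMemClass.coe_add]
    ring

/-- an element whose degree-zero part vanishes lies in the irrelevant ideal -/
theorem mem_irrel_of_decompose_zero (hpos : ∀ n : ℤ, n < 0 → 𝒜 n = ⊥) {u : R}
    (hu : ((decompose 𝒜 u 0 : 𝒜 0) : R) = 0) :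
    u ∈ Ideal.span (⋃ n ∈ Set.Ioi (0 : ℤ), (𝒜 n : Set R)) := by
  classical
  rw [← DirectSum.sum_support_decompose 𝒜 u]
  apply Ideal.sum_mem
  intro j _
  rcases lt_trichotomy j 0 with hj | hj | hj
  · have h2 : ((decompose 𝒜 u j : 𝒜 j) : R) ∈ 𝒜 j := (decompose 𝒜 u j).2
    have h3 : ((decompose 𝒜 u j : 𝒜 j) : R) ∈ (⊥ : AddSubgroup R) := (hpos j hj) ▸ h2
    rw [AddSubgroup.mem_bot.1 h3]
    exact zero_mem _
  · subst hj
    rw [hu]
    exact zero_mem _
  · apply Ideal.subset_span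
    simp only [Set.mem_iUnion]
    exact ⟨j, hj, (decompose 𝒜 u j).2⟩

/-- **degree-one generators**: if finitely many elements `z i` of the irrelevant ideal generate it
up to a factor outside of it, their degree-one parts span `R₁` over the field `R₀` -/
theorem span_of_generators (hpos : ∀ n : ℤ, n < 0 → 𝒜 n = ⊥) (h0 : IsField (GrLC.deg0 𝒜))
    {r : ℕ} (z : Fin r → R)
    (hz : ∀ i, z i ∈ Ideal.span (⋃ n ∈ Set.Ioi (0 : ℤ), (𝒜 n : Set R)))
    (hgen : ∀ w ∈ Ideal.span (⋃ n ∈ Set.Ioi (0 : ℤ), (𝒜 n : Set R)), ∃ u : R,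
      u ∉ Ideal.span (⋃ n ∈ Set.Ioi (0 : ℤ), (𝒜 n : Set R)) ∧
        u * w ∈ Ideal.span (Set.range z)) :
    ∀ w ∈ 𝒜 1, w ∈ Submodule.span (GrLC.deg0 𝒜)
      (Set.range fun i => ((decompose 𝒜 (z i) 1 : 𝒜 1) : R)) := by
  intro w hw
  have hwm : w ∈ Ideal.span (⋃ n ∈ Set.Ioi (0 : ℤ), (𝒜 n : Set R)) := by
    apply Ideal.subset_span
    simp only [Set.mem_iUnion]
    exact ⟨1, by simp, hw⟩
  obtain ⟨u, hu, huw⟩ := hgen w hwm
  rw [Ideal.mem_span_range_iff_exists_fun] at huw
  obtain ⟨c, hc⟩ := huw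
  have hu0 : ((decompose 𝒜 u 0 : 𝒜 0) : R) ≠ 0 := fun h =>
    hu (mem_irrel_of_decompose_zero 𝒜 hpos h)
  -- degree-one parts
  have h1 : ((decompose 𝒜 (u * w) 1 : 𝒜 1) : R) = ((decompose 𝒜 u 0 : 𝒜 0) : R) * w := by
    rw [decompose_one_mul 𝒜 hpos, decompose_of_mem_same 𝒜 hw,
      decompose_of_mem_ne 𝒜 hw (by omega : (1 : ℤ) ≠ 0), mul_zero, add_zero]
  have h2 : ((decompose 𝒜 (u * w) 1 : 𝒜 1) : R) =
      ∑ i, ((decompose 𝒜 (c i) 0 : 𝒜 0) : R) * ((decompose 𝒜 (z i) 1 : 𝒜 1) : R) := by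
    rw [← hc, decompose_sum, DFinsupp.finset_sum_apply, AddSubmonoidClass.coe_finset_sum]
    apply Finset.sum_congr rfl
    intro i _
    rw [decompose_one_mul 𝒜 hpos, decompose_zero_of_mem_irrel 𝒜 hpos (hz i), mul_zero, add_zero]
  let u0 : GrLC.deg0 𝒜 := ⟨((decompose 𝒜 u 0 : 𝒜 0) : R), (decompose 𝒜 u 0).2⟩
  have hu0' : u0 ≠ 0 := fun h => hu0 (congrArg Subtype.val h)
  obtain ⟨b, hb⟩ := h0.mul_inv_cancel hu0'
  have hb' : (b : R) * ((decompose 𝒜 u 0 : 𝒜 0) : R) = 1 := by
    have := congrArg Subtype.val hb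
    rw [mul_comm] at this
    exact this
  have hw2 : w = b • ∑ i, (⟨((decompose 𝒜 (c i) 0 : 𝒜 0) : R), (decompose 𝒜 (c i) 0).2⟩ :
      GrLC.deg0 𝒜) • ((decompose 𝒜 (z i) 1 : 𝒜 1) : R) := by
    have e1 : ∀ i, (⟨((decompose 𝒜 (c i) 0 : 𝒜 0) : R), (decompose 𝒜 (c i) 0).2⟩ :
        GrLC.deg0 𝒜) • ((decompose 𝒜 (z i) 1 : 𝒜 1) : R) =
        ((decompose 𝒜 (c i) 0 : 𝒜 0) : R) * ((decompose 𝒜 (z i) 1 : 𝒜 1) : R) := fun i => rfl
    simp only [e1]
    rw [← h2, h1]
    show w = (b : R) * (((decompose 𝒜 u 0 : 𝒜 0) : R) * w)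
    rw [← mul_assoc, hb', one_mul]
  rw [hw2]
  apply Submodule.smul_mem
  apply Submodule.sum_mem
  intro i _
  apply Submodule.smul_mem
  exact Submodule.subset_span ⟨i, rfl⟩

end Deg

end Groth.Agent.Helper23.APoly
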