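import Mathlib
import Groth.Prelude
import Groth.Agent.Lib.Helper20.GrSG11
import Groth.Agent.Lib.Helper23.APoly4
import Groth.Agent.Lib.Lead.Depth16

/-!
# The irrelevant ideal of a positively graded ring over a field; regular elements and the
generic linear form
-/

set_option autoImplicit false
set_option linter.unusedVariables false
set_option linter.unusedSectionVars false
set_option linter.style.haveILetI false

open DirectSum Groth.Agent.Helper20.GrInj Polynomial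

namespace Groth.Agent.Helper23.APoly

universe u

variable {R : Type u} [CommRing R] (𝒜 : ℤ → AddSubgroup R) [GradedRing 𝒜]

/-- the irrelevant ideal `R₊`, as a homogeneous ideal -/
noncomputable def irrel : HomogeneousIdeal 𝒜 :=
  ⟨Ideal.span (⋃ n ∈ Set.Ioi (0 : ℤ), (𝒜 n : Set R)), Ideal.homogeneous_span 𝒜 _ (by
    intro x hx
    simp only [Set.mem_iUnion] at hx
    obtain ⟨n, _, hxn⟩ := hx
    exact ⟨n, hxn⟩)⟩

theorem irrel_toIdeal :
    (irrel 𝒜).toIdeal = Ideal.span (⋃ n ∈ Set.Ioi (0 : ℤ), (𝒜 n : Set R)) := rfl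

theorem one_notMem_irrel [Nontrivial R] (hpos : ∀ n : ℤ, n < 0 → 𝒜 n = ⊥) :
    (1 : R) ∉ (irrel 𝒜).toIdeal := by
  intro h
  have h1 := decompose_zero_of_mem_irrel 𝒜 hpos h
  have h2 : (1 : R) ∈ 𝒜 0 := SetLike.GradedOne.one_mem
  rw [decompose_of_mem_same 𝒜 h2] at h1
  exact one_ne_zero h1

/-- every proper homogeneous ideal lies in the irrelevant ideal when `R₀` is a field -/
theorem le_irrel_of_ne_top (hpos : ∀ n : ℤ, n < 0 → 𝒜 n = ⊥) (h0 : IsField (GrLC.deg0 𝒜))
    (J : HomogeneousIdeal 𝒜) (hJ : J.toIdeal ≠ ⊤) : J.toIdeal ≤ (irrel 𝒜).toIdeal := by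
  intro x hx
  apply mem_irrel_of_decompose_zero 𝒜 hpos
  by_contra hne
  apply hJ
  have hx0 : ((decompose 𝒜 x 0 : 𝒜 0) : R) ∈ J.toIdeal := J.isHomogeneous 0 hx
  let u0 : GrLC.deg0 𝒜 := ⟨((decompose 𝒜 x 0 : 𝒜 0) : R), (decompose 𝒜 x 0).2⟩
  have hu0 : u0 ≠ 0 := fun h => hne (congrArg Subtype.val h)
  obtain ⟨b, hb⟩ := h0.mul_inv_cancel hu0
  have hb' : ((decompose 𝒜 x 0 : 𝒜 0) : R) * (b : R) = 1 := congrArg Subtype.val hb
  rw [Ideal.eq_top_iff_one, ← hb']
  exact Ideal.mul_mem_right _ _ hx0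

theorem isStarLocal_irrel [Nontrivial R] (hpos : ∀ n : ℤ, n < 0 → 𝒜 n = ⊥)
    (h0 : IsField (GrLC.deg0 𝒜)) : GrLC.IsStarLocal 𝒜 (irrel 𝒜) := by
  have hne : (irrel 𝒜).toIdeal ≠ ⊤ := fun h =>
    one_notMem_irrel 𝒜 hpos ((Ideal.eq_top_iff_one _).1 h)
  have hco : IsCoatom (irrel 𝒜) := by
    refine ⟨fun h => hne (by rw [h]; rfl), ?_⟩
    intro b hb
    by_contra hbt
    have hbt' : b.toIdeal ≠ ⊤ := fun h => hbt (HomogeneousIdeal.toIdeal_injective (by rw [h]; rfl))
    have h1 : b.toIdeal ≤ (irrel 𝒜).toIdeal := le_irrel_of_ne_top 𝒜 hpos h0 b hbt'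
    exact absurd (lt_of_lt_of_le hb h1) (lt_irrefl _)
  refine ⟨hco, ?_⟩
  intro n hn
  have hnt : n.toIdeal ≠ ⊤ := fun h => hn.1 (HomogeneousIdeal.toIdeal_injective (by rw [h]; rfl))
  have h1 : n ≤ irrel 𝒜 := le_irrel_of_ne_top 𝒜 hpos h0 n hnt
  rcases eq_or_lt_of_le h1 with h | h
  · exact h
  · exact absurd (hn.2 _ h) (fun h' => hne (by rw [h']; rfl))

/-- a Cohen–Macaulay positively graded ring over a field of positive dimension has a
non-zero-divisor in its irrelevant ideal -/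
theorem exists_regular_mem_irrel [LocCoh.IsCohenMacaulayRing R]
    (hpos : ∀ n : ℤ, n < 0 → 𝒜 n = ⊥) (h0 : IsField (GrLC.deg0 𝒜))
    (h1 : 1 ≤ ringKrullDim R) : ∃ x ∈ (irrel 𝒜).toIdeal, IsSMulRegular R x := by
  haveI : Nontrivial R := by
    by_contra h
    rw [not_nontrivial_iff_subsingleton] at h
    rw [ringKrullDim_eq_bot_of_subsingleton] at h1
    exact absurd h1 (by simp)
  have hm := isStarLocal_irrel 𝒜 hpos h0
  have hmax : (irrel 𝒜).toIdeal.IsMaximal := isMaximal_of_isStarLocal hpos _ hm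
  have hdim : ringKrullDim R = (irrel 𝒜).toIdeal.height :=
    ringKrullDim_eq_height_of_isStarLocal _ hm hmax
  have hdepth : LocCoh.idealDepth (irrel 𝒜).toIdeal R = (irrel 𝒜).toIdeal.height :=
    (Groth.Agent.Lead.Depth.isCohenMacaulayRing_iff_idealDepth_eq_height.mp inferInstance)
      _ hmax.ne_top
  have hht : (1 : ℕ∞) ≤ (irrel 𝒜).toIdeal.height := by
    rw [hdim] at h1
    exact_mod_cast h1
  have htop : (irrel 𝒜).toIdeal • (⊤ : Submodule R R) ≠ ⊤ := by
    rw [smul_eq_mul, Ideal.mul_top]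
    exact hmax.ne_top
  obtain ⟨rs, hlen, hreg, hmem⟩ := Groth.Agent.Lead.Depth.exists_of_le_idealDepth _ R htop 1
    (by rw [hdepth]; exact_mod_cast hht)
  match rs, hlen, hreg, hmem with
  | [x], _, hreg, hmem =>
    rw [RingTheory.Sequence.isWeaklyRegular_cons_iff] at hreg
    exact ⟨x, hmem x (by simp), hreg.1⟩

/-- **the generic linear form** is a non-zero-divisor on `R[X]` -/
theorem exists_generic [LocCoh.IsCohenMacaulayRing R]
    (hpos : ∀ n : ℤ, n < 0 → 𝒜 n = ⊥) (h0 : IsField (GrLC.deg0 𝒜))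
    (hstd : Ideal.span (⋃ n ∈ Set.Ioi (0 : ℤ), (𝒜 n : Set R)) =
      Ideal.span ((𝒜 1 : AddSubgroup R) : Set R))
    (h1 : 1 ≤ ringKrullDim R) :
    ∃ (N : ℕ) (x : Fin N → R), (∀ i, x i ∈ 𝒜 1) ∧
      (∑ i : Fin N, monomial (i : ℕ) (x i)) ∈ nonZeroDivisors R[X] := by
  classical
  obtain ⟨x₀, hx₀m, hx₀⟩ := exists_regular_mem_irrel 𝒜 hpos h0 h1
  have hfg : (Ideal.span ((𝒜 1 : AddSubgroup R) : Set R)).FG := IsNoetherian.noetherian _
  obtain ⟨s', hs'sub, hs'span⟩ := (Submodule.fg_span_iff_fg_span_finset_subset _).1 hfg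
  let e : s' ≃ Fin s'.card := s'.equivFin
  refine ⟨s'.card, fun i => ((e.symm i : s') : R), fun i => hs'sub (e.symm i).2, ?_⟩
  by_contra hnot
  obtain ⟨a, ha, haf⟩ := Polynomial.notMem_nonZeroDivisors_iff.1 hnot
  have hcoef : ∀ i : Fin s'.card, a * ((e.symm i : s') : R) = 0 := by
    intro i
    have h2 := congrArg (fun p : R[X] => p.coeff (i : ℕ)) haf
    simp only [Polynomial.coeff_smul, Polynomial.finset_sum_coeff, Polynomial.coeff_monomial,
      Polynomial.coeff_zero, smul_eq_mul] at h2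
    rw [Finset.sum_eq_single i] at h2
    · simpa using h2
    · intro j _ hji
      rw [if_neg]
      exact fun h => hji (Fin.ext h)
    · intro h; exact absurd (Finset.mem_univ i) h
  have hall : ∀ y ∈ (irrel 𝒜).toIdeal, a * y = 0 := by
    intro y hy
    rw [irrel_toIdeal, hstd] at hy
    have hy' : y ∈ Submodule.span R (s' : Set R) := hs'span ▸ hy
    clear hy
    induction hy' using Submodule.span_induction with
    | mem y hy =>
      have := hcoef (e ⟨y, hy⟩)
      rwa [Equiv.symm_apply_apply] at this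
    | zero => exact mul_zero a
    | add y z _ _ hy hz => rw [mul_add, hy, hz, add_zero]
    | smul c y _ hy => rw [smul_eq_mul, mul_left_comm, hy, mul_zero]
  have := hall x₀ hx₀m
  apply ha
  apply hx₀
  show x₀ • a = x₀ • 0
  rw [smul_eq_mul, smul_eq_mul, mul_zero, mul_comm]
  exact this

end Groth.Agent.Helper23.APoly
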