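import Mathlib
import Groth.Prelude
import Groth.Agent.Lib.Helper20.GrHt4
import Groth.Agent.Lib.Helper20.GrArt3
import Groth.Agent.Lib.Helper20.GrExt4
import Groth.Agent.Lib.Helper8.LCDepth
import Groth.Agent.Lib.Lead.Depth16

/-!
# Graded local cohomology of a Cohen–Macaulay *local ring vanishes below the dimension
-/

set_option autoImplicit false
set_option linter.unusedVariables false
set_option linter.unusedSectionVars false
set_option linter.style.haveILetI false

open DirectSum Groth.Agent.Helper20.GrInj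

namespace Groth.Agent.Helper23.AInv

universe u

variable {R : Type u} [CommRing R] {𝒜 : ℤ → AddSubgroup R} [GradedRing 𝒜]

/-- `H^i_m(R) = 0` for `i < dim R` when `R` is a Cohen–Macaulay positively graded *local ring -/
theorem H_eq_zero_of_CM [LocCoh.IsCohenMacaulayRing R] (hpos : ∀ n : ℤ, n < 0 → 𝒜 n = ⊥)
    (m : HomogeneousIdeal 𝒜) (hm : GrLC.IsStarLocal 𝒜 m) (n : ℕ) (hn : ringKrullDim R = n)
    (I : GrLC.StarInjRes 𝒜 𝒜) (i : ℕ) (hi : i < n) : ∀ w : I.H m i, w = 0 := by
  have hmax : m.toIdeal.IsMaximal := isMaximal_of_isStarLocal hpos m hm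
  have hdim : ringKrullDim R = m.toIdeal.height :=
    ringKrullDim_eq_height_of_isStarLocal m hm hmax
  have hdepth : LocCoh.idealDepth m.toIdeal R = m.toIdeal.height :=
    (Groth.Agent.Lead.Depth.isCohenMacaulayRing_iff_idealDepth_eq_height.mp inferInstance)
      m.toIdeal hmax.ne_top
  have hht : m.toIdeal.height = (n : ℕ∞) := by
    rw [hn] at hdim
    have : ((n : ℕ∞) : WithBot ℕ∞) = ((m.toIdeal.height : ℕ∞) : WithBot ℕ∞) := by
      exact_mod_cast hdim
    exact (WithBot.coe_injective this).symm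
  have hle : (n : ℕ∞) ≤ LocCoh.idealDepth m.toIdeal R := by
    rw [hdepth, hht]
  haveI := (Groth.Agent.Helper8.LC.le_idealDepth_iff_H' m.toIdeal n R).mp hle i hi
  obtain ⟨e⟩ := nonempty_H_equiv_LC I m i
  intro w
  apply e.injective
  exact Subsingleton.elim _ _

end Groth.Agent.Helper23.AInv
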