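import Mathlib
import Groth.Agent.Lib.Helper20.GrKos8
import Groth.Agent.Lib.Helper20.GrIrr5
import Groth.Agent.Lib.Helper20.GrStd

/-!
# Regularity: general lemmas on `HVan`, graded free modules
-/

set_option autoImplicit false
set_option linter.unusedVariables false
set_option linter.unusedSectionVars false

open DirectSum Groth.Agent.Helper20.GrInj

namespace Groth.Agent.Helper23.Reg

universe u

variable {ι : Type} [AddCommGroup ι] [DecidableEq ι]
variable {R : Type u} [CommRing R]
variable {σ : Type u} [SetLike σ R] [AddSubgroupClass σ R] {𝒜 : ι → σ} [GradedRing 𝒜]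

section Exact

variable {X' X X'' : GrLC.GMod.{u} 𝒜} (α : X'.carrier →ₗ[R] X.carrier)
  (β : X.carrier →ₗ[R] X''.carrier) (hαgr : GrLC.IsGrHom X'.gr X.gr α)
  (hβgr : GrLC.IsGrHom X.gr X''.gr β) (hα : Function.Injective α)
  (hex : LinearMap.range α = LinearMap.ker β) (hβ : Function.Surjective β)
  (a : HomogeneousIdeal 𝒜)

include hαgr hβgr hα hex hβ

theorem HVan_left_zero (n : ι) (h : HVan X a 0 n) : HVan X' a 0 n := by
  intro E'
  let E := starInjRes 𝒜 X.gr
  let E'' := starInjRes 𝒜 X''.gr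
  let A := liftCh E' E α hαgr
  let B := liftCh E E'' β hβgr
  obtain ⟨hinj, _, _⟩ := exists_les E' E E'' α β hαgr hα hex hβ
    A (liftCh_isGr _ _ _ _) (liftCh_lifts _ _ _ _) B (liftCh_isGr _ _ _ _) (liftCh_lifts _ _ _ _) a
  exact Hcomp_eq_bot_of_injective a 0 0 (A.Hmap a 0)
    (ChMap.Hmap_isGr (liftCh_isGr _ _ _ _) a 0) hinj n (h E)

theorem HVan_left (j : ℕ) (n : ι) (h1 : HVan X'' a j n) (h2 : HVan X a (j + 1) n) :
    HVan X' a (j + 1) n := by
  intro E'
  let E := starInjRes 𝒜 X.gr
  let E'' := starInjRes 𝒜 X''.gr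
  let A := liftCh E' E α hαgr
  let B := liftCh E E'' β hβgr
  obtain ⟨_, _, δ, hδgr, _, hδ2⟩ := exists_les E' E E'' α β hαgr hα hex hβ
    A (liftCh_isGr _ _ _ _) (liftCh_lifts _ _ _ _) B (liftCh_isGr _ _ _ _) (liftCh_lifts _ _ _ _) a
  exact Hcomp_eq_bot_of_exact a j (j + 1) (j + 1) (δ j) (A.Hmap a (j + 1)) (hδgr j)
    (ChMap.Hmap_isGr (liftCh_isGr _ _ _ _) a (j + 1)) (hδ2 j) n (h1 E'') (h2 E)

end Exact

/-- invariance of `HVan` under graded isomorphisms (only one direction of gradedness needed) -/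
theorem HVan_of_equiv [IsNoetherianRing R] {X Y : GrLC.GMod.{u} 𝒜} (e : X.carrier ≃ₗ[R] Y.carrier)
    (he : GrLC.IsGrHom X.gr Y.gr e.toLinearMap) (a : HomogeneousIdeal 𝒜) (j : ℕ) (n : ι)
    (h : HVan X a j n) : HVan Y a j n := by
  refine HVan_mid (X' := X) (X := Y) (X'' := zeroGMod 𝒜) e.toLinearMap
    (0 : Y.carrier →ₗ[R] (zeroGMod 𝒜).carrier) he ?_ e.injective ?_ ?_ a j n h ?_
  · intro g y _
    exact zero_mem _
  · rw [LinearMap.ker_zero]
    exact LinearMap.range_eq_top.mpr e.surjective
  · intro z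
    exact ⟨0, Subsingleton.elim (α := PUnit.{u + 1}) _ _⟩
  · exact HVan_of_forall_eq_zero (fun z => Subsingleton.elim (α := PUnit.{u + 1}) _ _) a j n

/-! ## graded free modules -/

section Free

variable (𝒜) (n : ℕ) (deg : Fin n → ι)

/-- the pieces of the graded free module `⊕_b R(-deg b)` -/
def freeGr : ι → AddSubgroup (Fin n → R) := fun m =>
  { carrier := {v | ∀ b, v b ∈ 𝒜 (m - deg b)}
    zero_mem' := fun b => zero_mem _
    add_mem' := fun {v w} hv hw b => add_mem (hv b) (hw b)
    neg_mem' := fun {v} hv b => neg_mem (hv b) }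

omit [DecidableEq ι] [GradedRing 𝒜] in
theorem mem_freeGr {m : ι} {v : Fin n → R} : v ∈ freeGr 𝒜 n deg m ↔ ∀ b, v b ∈ 𝒜 (m - deg b) :=
  Iff.rfl

theorem freeGr_isInternal : DirectSum.IsInternal (freeGr 𝒜 n deg) := by
  classical
  apply isInternal_of
  · intro v
    refine ⟨Finset.univ.biUnion (fun b => (decompose 𝒜 (v b)).support.image (fun u => u + deg b)),
      fun m => fun b => (decompose 𝒜 (v b) (m - deg b) : R),
      fun m b => (decompose 𝒜 (v b) (m - deg b)).2, ?_⟩
    funext b
    rw [Finset.sum_apply]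
    have h1 : ∀ m, m ∉ (decompose 𝒜 (v b)).support.image (fun u => u + deg b) →
        (decompose 𝒜 (v b) (m - deg b) : R) = 0 := by
      intro m hm
      by_contra h
      apply hm
      rw [Finset.mem_image]
      refine ⟨m - deg b, ?_, sub_add_cancel _ _⟩
      rw [DFinsupp.mem_support_iff]
      intro h0
      apply h
      rw [h0]
      rfl
    have hsub : (decompose 𝒜 (v b)).support.image (fun u => u + deg b) ⊆
        Finset.univ.biUnion (fun b => (decompose 𝒜 (v b)).support.image (fun u => u + deg b)) :=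
      Finset.subset_biUnion_of_mem (fun b => (decompose 𝒜 (v b)).support.image (fun u => u + deg b))
        (Finset.mem_univ b)
    rw [← Finset.sum_subset hsub (fun m _ hm => h1 m hm),
      Finset.sum_image (fun x _ y _ hxy => add_right_cancel hxy)]
    conv_lhs => rw [← sum_support_decompose 𝒜 (v b)]
    apply Finset.sum_congr rfl
    intro u _
    rw [add_sub_cancel_right]
  · intro s c hc hsum i hi
    funext b
    have h1 : ∑ m ∈ s, c m b = 0 := by
      have := congrFun hsum b
      rwa [Finset.sum_apply] at this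
    -- reindex by `m - deg b`
    have h2 := decompose_sum_homog_gen 𝒜 (s.image (fun m => m - deg b))
      (fun u => c (u + deg b) b) (fun u => by
        have := hc (u + deg b) b
        rwa [add_sub_cancel_right] at this) (i - deg b)
    rw [Finset.sum_image (fun x _ y _ hxy => sub_left_injective hxy)] at h2
    have h3 : ∑ x ∈ s, c (x - deg b + deg b) b = ∑ m ∈ s, c m b :=
      Finset.sum_congr rfl (fun x _ => by rw [sub_add_cancel])
    rw [h3, h1, decompose_zero, DirectSum.zero_apply, ZeroMemClass.coe_zero,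
      if_pos (Finset.mem_image_of_mem _ hi), sub_add_cancel] at h2
    exact h2.symm

theorem freeGr_gradedSMul : SetLike.GradedSMul 𝒜 (freeGr 𝒜 n deg) :=
  ⟨fun {i m} {r} {v} hr hv b => by
    have h := SetLike.GradedMul.mul_mem hr (hv b)
    have e : i + (m - deg b) = (i +ᵥ m) - deg b := by
      rw [vadd_eq_add, add_sub_assoc]
    show r * v b ∈ 𝒜 ((i +ᵥ m) - deg b)
    rw [← e]
    exact h⟩

instance freeGr_gradedSMul_inst : SetLike.GradedSMul 𝒜 (freeGr 𝒜 n deg) :=
  freeGr_gradedSMul 𝒜 n deg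

noncomputable instance freeGr_decomposition : DirectSum.Decomposition (freeGr 𝒜 n deg) :=
  (freeGr_isInternal 𝒜 n deg).chooseDecomposition

/-- the graded free module `⊕_b R(-deg b)` on `Fin n → R` -/
noncomputable def freeGMod : GrLC.GMod.{u} 𝒜 :=
  GrLC.GMod.of 𝒜 (Fin n → R) (freeGr 𝒜 n deg)

/-- the ring as a bundled graded module over itself -/
noncomputable def selfGMod : GrLC.GMod.{u} 𝒜 := GrLC.GMod.of 𝒜 R (addGr 𝒜)

variable {𝒜 n deg}

theorem HVan_free [IsNoetherianRing R] (a : HomogeneousIdeal 𝒜) (j : ℕ) (m : ι) :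
    ∀ (n : ℕ) (deg : Fin n → ι), (∀ b, HVan (selfGMod 𝒜) a j (m - deg b)) →
      HVan (freeGMod 𝒜 n deg) a j m := by
  intro n
  induction n with
  | zero =>
    intro deg _
    exact HVan_of_forall_eq_zero (X := freeGMod 𝒜 0 deg)
      (fun z => funext (fun b => b.elim0)) a j m
  | succ n ih =>
    intro deg h
    refine HVan_mid (X' := shiftGMod 𝒜 (selfGMod 𝒜) (-deg 0)) (X := freeGMod 𝒜 (n + 1) deg)
      (X'' := freeGMod 𝒜 n (fun b => deg b.succ))
      (LinearMap.single R (fun _ : Fin (n + 1) => R) 0)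
      (LinearMap.funLeft R R Fin.succ) ?_ ?_ ?_ ?_ ?_ a j m ?_ ?_
    · intro g x hx b
      by_cases hb : b = 0
      · subst hb
        show (Pi.single 0 x : Fin (n + 1) → R) 0 ∈ 𝒜 (g - deg 0)
        rw [Pi.single_eq_same, sub_eq_add_neg]
        exact hx
      · show (Pi.single 0 x : Fin (n + 1) → R) b ∈ 𝒜 (g - deg b)
        rw [Pi.single_eq_of_ne hb]
        exact zero_mem _
    · intro g v hv b
      exact hv b.succ
    · intro x y hxy
      have := congrFun hxy 0
      change (Pi.single 0 x : Fin (n + 1) → R) 0 = (Pi.single 0 y : Fin (n + 1) → R) 0 at this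
      rwa [Pi.single_eq_same, Pi.single_eq_same] at this
    · ext v
      rw [LinearMap.mem_range, LinearMap.mem_ker]
      constructor
      · rintro ⟨x, rfl⟩
        funext b
        show (Pi.single 0 x : Fin (n + 1) → R) b.succ = 0
        rw [Pi.single_eq_of_ne (Fin.succ_ne_zero b)]
      · intro hv
        refine ⟨v 0, ?_⟩
        funext b
        show (Pi.single 0 (v 0) : Fin (n + 1) → R) b = v b
        refine Fin.cases ?_ (fun b' => ?_) b
        · rw [Pi.single_eq_same]
        · rw [Pi.single_eq_of_ne (Fin.succ_ne_zero b')]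
          exact (congrFun hv b').symm
    · intro w
      refine ⟨Fin.cons 0 w, ?_⟩
      funext b
      show (Fin.cons 0 w : Fin (n + 1) → R) b.succ = w b
      rw [Fin.cons_succ]
    · apply HVan_shift
      rw [← sub_eq_add_neg]
      exact h 0
    · exact ih (fun b => deg b.succ) (fun b => h b.succ)

end Free

end Groth.Agent.Helper23.Reg
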