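import Mathlib
import Groth.Agent.Lib.Helper23.Reg1

/-!
# Regularity: graded local cohomology of the polynomial ring vanishes in degrees `> -i`
-/

set_option autoImplicit false
set_option linter.unusedVariables false
set_option linter.unusedSectionVars false

open DirectSum Groth.Agent.Helper20.GrInj MvPolynomial

namespace Groth.Agent.Helper23.Reg

universe u

variable {k : Type u} [Field k] {σ : Type}

/-- the irrelevant ideal of the standard graded polynomial ring satisfies `IsIrr` -/
theorem isIrr_std : IsIrr (GrSyz.stdGr k σ) (GrSyz.irrel (GrSyz.stdGr k σ)) where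
  pos := fun n hn x hx => stdGr_eq_zero_of_neg n hn x hx
  mem := fun n hn x hx => Ideal.subset_span ⟨n, hn, hx⟩
  gen := fun q hq => Ideal.span_le.mpr (fun x ⟨n, hn, hx⟩ => hq n hn x hx)

variable (k) in
/-- the ideal generated by the variables outside `T` -/
noncomputable def varIdeal (T : Finset σ) : Ideal (MvPolynomial σ k) :=
  Ideal.span (X '' {i | i ∉ T})

theorem varIdeal_isHomogeneous (T : Finset σ) :
    Submodule.IsHomogeneous (varIdeal k T) (addGr (GrSyz.stdGr k σ)) := by
  apply span_isHomogeneous_of_homog (GrSyz.stdGr k σ) (addGr (GrSyz.stdGr k σ))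
  rintro _ ⟨i, _, rfl⟩
  refine ⟨1, ?_⟩
  show X i ∈ GrSyz.stdGr k σ 1
  rw [GrSyz.mem_stdGr_iff]
  exact isWeightedHomogeneous_X k _ i

variable (k) in
/-- the graded module `S / (x_i : i ∉ T)` -/
noncomputable def varQuot (T : Finset σ) : GrLC.GMod.{u} (GrSyz.stdGr k σ) :=
  quotGMod (addGr (GrSyz.stdGr k σ)) (GrSyz.stdGr k σ) (varIdeal k T) (varIdeal_isHomogeneous T)

variable (k) in
/-- the quotient map `S → S / (x_i : i ∉ T)` -/
noncomputable def varMk (T : Finset σ) : MvPolynomial σ k →ₗ[MvPolynomial σ k] (varQuot k T).carrier :=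
  quotMk (GrSyz.stdGr k σ) (addGr (GrSyz.stdGr k σ)) (varIdeal k T) (varIdeal_isHomogeneous T)

theorem varMk_surjective (T : Finset σ) : Function.Surjective (varMk k T) :=
  quotMk_surjective _ _ _ _

theorem varMk_eq_zero_iff (T : Finset σ) (s : MvPolynomial σ k) :
    varMk k T s = 0 ↔ s ∈ varIdeal k T :=
  quotMk_eq_zero_iff _ _ _ _

theorem varMk_grHom (T : Finset σ) :
    GrLC.IsGrHom (addGr (GrSyz.stdGr k σ)) (varQuot k T).gr (varMk k T) :=
  quotMk_grHom _ _ _ _

theorem mem_varQuot_gr (T : Finset σ) (n : ℤ) (z : (varQuot k T).carrier) :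
    z ∈ (varQuot k T).gr n ↔ ∃ y ∈ GrSyz.stdGr k σ n, varMk k T y = z := Iff.rfl

/-- a homogeneous polynomial of positive degree lies in the ideal of all variables -/
theorem mem_varIdeal_empty_of_pos {n : ℤ} (hn : 0 < n) {y : MvPolynomial σ k}
    (hy : y ∈ GrSyz.stdGr k σ n) : y ∈ varIdeal k (∅ : Finset σ) := by
  rw [varIdeal, mem_ideal_span_X_image]
  intro m hm
  rw [GrSyz.mem_stdGr_iff] at hy
  have hw : Finsupp.weight (fun _ : σ => (1 : ℤ)) m = n := hy (mem_support_iff.1 hm)
  by_contra hcon
  push Not at hcon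
  have : m = 0 := Finsupp.ext (fun i => hcon i (by simp))
  rw [this, map_zero] at hw
  omega

theorem irrel_le_varIdeal_empty :
    (GrSyz.irrel (GrSyz.stdGr k σ)).toIdeal ≤ varIdeal k (∅ : Finset σ) := by
  show Ideal.span {r : MvPolynomial σ k | ∃ n : ℤ, 0 < n ∧ r ∈ GrSyz.stdGr k σ n} ≤ _
  rw [Ideal.span_le]
  rintro p ⟨n, hn, hp⟩
  exact mem_varIdeal_empty_of_pos hn hp

theorem X_mem_irrel (v : σ) : (X v : MvPolynomial σ k) ∈ (GrSyz.irrel (GrSyz.stdGr k σ)).toIdeal := by
  refine Ideal.subset_span ⟨1, one_pos, ?_⟩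
  rw [GrSyz.mem_stdGr_iff]
  exact isWeightedHomogeneous_X k _ v

/-- `x_v` is a nonzerodivisor modulo the variables outside `T` when `v ∈ T` -/
theorem X_regular_varQuot [DecidableEq σ] (T : Finset σ) {v : σ} (hv : v ∈ T)
    (z : (varQuot k T).carrier) (hz : (X v : MvPolynomial σ k) • z = 0) : z = 0 := by
  obtain ⟨s, rfl⟩ := varMk_surjective T z
  rw [← map_smul, varMk_eq_zero_iff, smul_eq_mul, varIdeal, mem_ideal_span_X_image] at hz
  rw [varMk_eq_zero_iff, varIdeal, mem_ideal_span_X_image]
  intro m hm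
  have h1 : Finsupp.single v 1 + m ∈ (X v * s).support := by
    rw [support_X_mul, Finset.mem_map]
    exact ⟨m, hm, rfl⟩
  obtain ⟨i, hi, hne⟩ := hz _ h1
  refine ⟨i, hi, ?_⟩
  have hiv : v ≠ i := by
    rintro rfl
    exact hi hv
  rwa [Finsupp.add_apply, Finsupp.single_eq_of_ne hiv.symm, zero_add] at hne

theorem varIdeal_insert [DecidableEq σ] (T : Finset σ) {v : σ} (hv : v ∉ T) :
    varIdeal k T = varIdeal k (insert v T) ⊔ Ideal.span {(X v : MvPolynomial σ k)} := by
  have hset : {i | i ∉ T} = {i | i ∉ insert v T} ∪ {v} := by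
    ext i
    simp only [Set.mem_setOf_eq, Finset.mem_insert, not_or, Set.union_singleton, Set.mem_insert_iff]
    constructor
    · intro hi
      by_cases hiv : i = v
      · exact Or.inl hiv
      · exact Or.inr ⟨hiv, hi⟩
    · rintro (rfl | ⟨_, hi⟩)
      · exact hv
      · exact hi
  rw [varIdeal, varIdeal, hset, Set.image_union, Ideal.span_union, Set.image_singleton]

section Step

variable [DecidableEq σ] (T : Finset σ) {v : σ} (hv : v ∉ T)

/-- the projection `S/(x_i : i ∉ insert v T) → S/(x_i : i ∉ T)` -/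
noncomputable def varProj : (varQuot k (insert v T)).carrier →ₗ[MvPolynomial σ k] (varQuot k T).carrier :=
  quotLift (GrSyz.stdGr k σ) (addGr (GrSyz.stdGr k σ)) (varIdeal k (insert v T))
    (varIdeal_isHomogeneous _) (varMk k T) (by
      intro s hs
      rw [LinearMap.mem_ker, varMk_eq_zero_iff]
      have : varIdeal k (insert v T) ≤ varIdeal k T := by
        apply Ideal.span_mono
        apply Set.image_mono
        intro i hi hiT
        exact hi (Finset.mem_insert_of_mem hiT)
      exact this hs)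

theorem varProj_varMk (s : MvPolynomial σ k) :
    varProj (k := k) T (v := v) (varMk k (insert v T) s) = varMk k T s := rfl

theorem varProj_surjective : Function.Surjective (varProj (k := k) T (v := v)) := by
  intro z
  obtain ⟨s, rfl⟩ := varMk_surjective T z
  exact ⟨varMk k (insert v T) s, rfl⟩

theorem varProj_grHom :
    GrLC.IsGrHom (varQuot k (insert v T)).gr (varQuot k T).gr (varProj (k := k) T (v := v)) :=
  quotLift_grHom _ _ _ _ _ _ _ (varMk_grHom T)

include hv in
theorem varProj_ker :
    LinearMap.ker (varProj (k := k) T (v := v)) =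
      LinearMap.range (LinearMap.lsmul (MvPolynomial σ k) (varQuot k (insert v T)).carrier (X v)) := by
  ext z
  obtain ⟨s, rfl⟩ := varMk_surjective (insert v T) z
  rw [LinearMap.mem_ker, varProj_varMk, varMk_eq_zero_iff, varIdeal_insert T hv, Submodule.mem_sup,
    LinearMap.mem_range]
  constructor
  · rintro ⟨j, hj, t, ht, rfl⟩
    obtain ⟨c, rfl⟩ := (Ideal.mem_span_singleton' (x := t) (y := (X v : MvPolynomial σ k))).mp ht
    refine ⟨varMk k (insert v T) c, ?_⟩
    rw [LinearMap.lsmul_apply, ← map_smul, map_add, (varMk_eq_zero_iff _ j).mpr hj, zero_add,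
      smul_eq_mul, mul_comm]
  · rintro ⟨w, hw⟩
    obtain ⟨c, rfl⟩ := varMk_surjective (insert v T) w
    rw [LinearMap.lsmul_apply, ← map_smul, ← sub_eq_zero, ← map_sub, varMk_eq_zero_iff] at hw
    have h2 : (X v : MvPolynomial σ k) * c ∈ Ideal.span {(X v : MvPolynomial σ k)} :=
      Ideal.mul_mem_right _ _ (Ideal.subset_span rfl)
    refine ⟨s - (X v : MvPolynomial σ k) • c, ?_, (X v : MvPolynomial σ k) * c, h2, ?_⟩
    · have := (varIdeal k (insert v T)).neg_mem hw
      rwa [neg_sub] at this
    · rw [smul_eq_mul, sub_add_cancel]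

end Step

/-- the main vanishing on the chain of quotients -/
theorem HVan_varQuot [Finite σ] [DecidableEq σ] (T : Finset σ) :
    ∀ (i : ℕ) (n : ℤ), 1 - (i : ℤ) ≤ n →
      HVan (varQuot k T) (GrSyz.irrel (GrSyz.stdGr k σ)) i n := by
  induction T using Finset.induction_on with
  | empty =>
    intro i n hn
    cases i with
    | zero =>
      intro E
      apply Hcomp_zero_eq_bot E _ n
      intro m hm _
      obtain ⟨y, hy, rfl⟩ := (mem_varQuot_gr _ n m).mp hm
      rw [varMk_eq_zero_iff]
      exact mem_varIdeal_empty_of_pos (by push_cast at hn; omega) hy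
    | succ i =>
      apply HVan_of_torsion
      rw [eq_top_iff]
      intro z _
      refine ⟨1, fun r hr => ?_⟩
      rw [pow_one] at hr
      obtain ⟨s, rfl⟩ := varMk_surjective _ z
      rw [← map_smul, varMk_eq_zero_iff]
      exact Ideal.mul_mem_right _ _ (irrel_le_varIdeal_empty hr)
  | insert v T hv ih =>
    intro i n hn
    have hreg : ∀ z : (varQuot k (insert v T)).carrier, (X v : MvPolynomial σ k) • z = 0 → z = 0 :=
      X_regular_varQuot (insert v T) (Finset.mem_insert_self v T)
    cases i with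
    | zero =>
      intro E
      apply Hcomp_zero_eq_bot E _ n
      intro m _ hm
      obtain ⟨N, hN⟩ := hm
      have h1 : (X v : MvPolynomial σ k) ^ N • m = 0 :=
        hN _ (Ideal.pow_mem_pow (X_mem_irrel v) N)
      clear hN
      induction N with
      | zero => rwa [pow_zero, one_smul] at h1
      | succ N ihN =>
        apply ihN
        apply hreg
        rw [← mul_smul, ← pow_succ']
        exact h1
    | succ i =>
      intro E
      have hx : (X v : MvPolynomial σ k) ∈ GrSyz.stdGr k σ 1 := by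
        rw [GrSyz.mem_stdGr_iff]
        exact isWeightedHomogeneous_X k _ v
      refine Hcomp_succ_eq_bot_of_regular (GrSyz.irrel (GrSyz.stdGr k σ)) one_pos hx (X_mem_irrel v)
        hreg (varProj T) (varProj_surjective T) (varProj_grHom T) (varProj_ker T hv) E
        (starInjRes (GrSyz.stdGr k σ) (varQuot k T).gr) i (1 - (i : ℤ))
        (fun n hn => ih i n hn _) n ?_
      push_cast at hn
      omega

/-- **graded local cohomology of the polynomial ring**: `H^i_𝔪(S)_n = 0` for `n > -i` -/
theorem HVan_self [Fintype σ] [DecidableEq σ] (i : ℕ) (n : ℤ) (hn : 1 - (i : ℤ) ≤ n) :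
    HVan (selfGMod (GrSyz.stdGr k σ)) (GrSyz.irrel (GrSyz.stdGr k σ)) i n := by
  have hbot : varIdeal k (Finset.univ : Finset σ) = ⊥ := by
    rw [varIdeal]
    have : {i : σ | i ∉ (Finset.univ : Finset σ)} = ∅ := by
      ext i
      simp
    rw [this, Set.image_empty, Ideal.span_empty]
  let e : (varQuot k (Finset.univ : Finset σ)).carrier ≃ₗ[MvPolynomial σ k] MvPolynomial σ k :=
    Submodule.quotEquivOfEqBot _ hbot
  refine HVan_of_equiv (X := varQuot k Finset.univ) (Y := selfGMod (GrSyz.stdGr k σ)) e ?_ _ i n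
    (HVan_varQuot Finset.univ i n hn)
  intro g z hz
  obtain ⟨y, hy, rfl⟩ := (mem_varQuot_gr _ g z).mp hz
  have : e (varMk k Finset.univ y) = y := Submodule.quotEquivOfEqBot_apply_mk _ hbot y
  show e (varMk k Finset.univ y) ∈ GrSyz.stdGr k σ g
  rw [this]
  exact hy

end Groth.Agent.Helper23.Reg
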