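import Mathlib
import Groth.Agent.Lib.Helper23.Reg2

/-!
# Regularity: Grothendieck vanishing for graded local cohomology at the irrelevant ideal
-/

set_option autoImplicit false
set_option linter.unusedVariables false
set_option linter.unusedSectionVars false

open DirectSum Groth.Agent.Helper20.GrInj
open scoped Pointwise

namespace Groth.Agent.Helper23.Reg

universe u

section General

variable {R : Type u} [CommRing R] {M : Type u} [AddCommGroup M] [Module R M]

theorem smul_top_eq_range_lsmul (x : R) :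
    x • (⊤ : Submodule R M) = LinearMap.range (LinearMap.lsmul R M x) := by
  ext z
  rw [Submodule.mem_smul_pointwise_iff_exists, LinearMap.mem_range]
  constructor
  · rintro ⟨m, _, rfl⟩
    exact ⟨m, rfl⟩
  · rintro ⟨m, rfl⟩
    exact ⟨m, Submodule.mem_top, rfl⟩

/-- a regular element lies in no minimal prime of the annihilator -/
theorem notMem_minimalPrimes_of_regular [IsNoetherianRing R] [Module.Finite R M] {x : R}
    (hreg : ∀ m : M, x • m = 0 → m = 0) :
    ∀ p ∈ (Module.annihilator R M).minimalPrimes, x ∉ p := by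
  intro p hp hxp
  have hass : IsAssociatedPrime p M :=
    Module.associatedPrimes.minimalPrimes_annihilator_subset_associatedPrimes R M hp
  obtain ⟨hprime, m, hm⟩ := isAssociatedPrime_iff.mp hass
  have h1 : x ∈ Submodule.colon (⊥ : Submodule R M) {m} := hm ▸ hxp
  rw [Submodule.mem_colon_singleton, Submodule.mem_bot] at h1
  have hm0 : m = 0 := hreg m h1
  apply hprime.ne_top
  rw [hm, hm0, eq_top_iff]
  intro r _
  rw [Submodule.mem_colon_singleton, smul_zero]
  exact Submodule.zero_mem _

theorem supportDim_quot_range_lsmul_lt [IsNoetherianRing R] [Module.Finite R M] {x : R}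
    (hreg : ∀ m : M, x • m = 0 → m = 0) (N : ℕ)
    (h : Module.supportDim R M < ((N + 1 : ℕ) : WithBot ℕ∞)) :
    Module.supportDim R (M ⧸ LinearMap.range (LinearMap.lsmul R M x)) < (N : WithBot ℕ∞) := by
  have h1 := Module.supportDim_quotSMulTop_succ_le_of_notMem_minimalPrimes
    (notMem_minimalPrimes_of_regular hreg)
  have e : QuotSMulTop x M ≃ₗ[R] (M ⧸ LinearMap.range (LinearMap.lsmul R M x)) :=
    Submodule.quotEquivOfEq _ _ (smul_top_eq_range_lsmul x)
  rw [← Module.supportDim_eq_of_equiv e]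
  have h3 : Module.supportDim R (QuotSMulTop x M) + 1 < ((N + 1 : ℕ) : WithBot ℕ∞) :=
    lt_of_le_of_lt h1 h
  generalize Module.supportDim R (QuotSMulTop x M) = D at h3
  induction D using WithBot.recBotCoe with
  | bot => exact WithBot.bot_lt_coe _
  | coe e' =>
    have h4 : (e' + 1 : ℕ∞) < (N : ℕ∞) + 1 := by exact_mod_cast h3
    have h5 : e' < (N : ℕ∞) := (ENat.add_lt_add_iff_right ENat.one_ne_top).mp h4
    exact_mod_cast h5

end General

section IntGraded

variable {R : Type u} [CommRing R]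
variable {σ : Type u} [SetLike σ R] [AddSubgroupClass σ R] {𝒜 : ℤ → σ} [GradedRing 𝒜]

/-- **Grothendieck vanishing** for graded local cohomology at the irrelevant ideal. -/
theorem Hcomp_eq_bot_of_supportDim_lt [IsNoetherianRing R] (a : HomogeneousIdeal 𝒜)
    (hirr : IsIrr 𝒜 a) (N : ℕ) :
    ∀ (M : Type u) [AddCommGroup M] [Module R M] [Module.Finite R M] (ℳ : ℤ → AddSubgroup M)
      [DirectSum.Decomposition ℳ] [SetLike.GradedSMul 𝒜 ℳ],
      Module.supportDim R M < (N : WithBot ℕ∞) → ∀ (i : ℕ), N ≤ i → ∀ (n : ℤ)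
        (E : GrLC.StarInjRes 𝒜 ℳ), E.Hcomp a i n = ⊥ := by
  induction N with
  | zero =>
    intro M _ _ _ ℳ _ _ hdim i _ n E
    have hbot : Module.supportDim R M = ⊥ := by
      by_contra hne
      obtain ⟨e, he⟩ := WithBot.ne_bot_iff_exists.mp hne
      rw [← he] at hdim
      have h1 : (e : WithBot ℕ∞) < ((0 : ℕ∞) : WithBot ℕ∞) := by exact_mod_cast hdim
      exact absurd (WithBot.coe_lt_coe.mp h1) not_lt_zero
    haveI : Subsingleton M := (Module.supportDim_eq_bot_iff_subsingleton R M).mp hbot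
    exact Hcomp_eq_bot_of_forall_eq_zero (fun m => Subsingleton.elim _ _) E a i n
  | succ N ih =>
    intro M _ _ _ ℳ _ _ hdim i hi n E
    obtain ⟨i', rfl⟩ : ∃ i', i = i' + 1 := ⟨i - 1, by omega⟩
    have hi' : N ≤ i' := by omega
    haveI : IsNoetherian R M := isNoetherian_of_isNoetherianRing_of_finite R M
    -- kill the torsion
    have hT : (GrLC.gam a.toIdeal M).IsHomogeneous ℳ := gam_isHomogeneous 𝒜 ℳ a
    let Q := quotGMod ℳ 𝒜 (GrLC.gam a.toIdeal M) hT
    let β := quotMk 𝒜 ℳ (GrLC.gam a.toIdeal M) hT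
    have hβ : Function.Surjective β := quotMk_surjective 𝒜 ℳ _ hT
    have hβg : GrLC.IsGrHom ℳ Q.gr β := quotMk_grHom 𝒜 ℳ _ hT
    have hβker : LinearMap.ker β = GrLC.gam a.toIdeal M := quotMk_ker 𝒜 ℳ _ hT
    haveI : Module.Finite R Q.carrier := Module.Finite.of_surjective β hβ
    have hQ : ∀ q ∈ GrLC.gam a.toIdeal Q.carrier, q = 0 :=
      gam_eq_zero_of_ker_eq_gam a.toIdeal β hβ hβker
    let Ē := starInjRes 𝒜 Q.gr
    let B := liftCh E Ē β hβg
    have hinj : Function.Injective (B.Hmap a (i' + 1)) :=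
      Hmap_injective_of_torsion_ker a β hβ hβg hβker.le E Ē B (liftCh_isGr _ _ _ _)
        (liftCh_lifts _ _ _ _) i'
    have hBgr := ChMap.Hmap_isGr (liftCh_isGr E Ē β hβg) a (i' + 1)
    suffices h : Ē.Hcomp a (i' + 1) n = ⊥ from
      Hcomp_eq_bot_of_injective a (i' + 1) (i' + 1) _ hBgr hinj n h
    have hdimQ : Module.supportDim R Q.carrier < ((N + 1 : ℕ) : WithBot ℕ∞) :=
      lt_of_le_of_lt (Module.supportDim_le_of_surjective β hβ) hdim
    -- a homogeneous regular element on `Q`
    obtain ⟨g, x, hg, hx, hxa, hreg⟩ := exists_homog_regular 𝒜 Q.gr hirr.pos a hirr.mem hirr.gen hQ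
    have hrange : (LinearMap.range (LinearMap.lsmul R Q.carrier x)).IsHomogeneous Q.gr :=
      range_isHomogeneous (shiftGr Q.gr (-g)) Q.gr (lsmul_isGrHom_shift hx)
    let N' := quotGMod Q.gr 𝒜 (LinearMap.range (LinearMap.lsmul R Q.carrier x)) hrange
    let π := quotMk 𝒜 Q.gr (LinearMap.range (LinearMap.lsmul R Q.carrier x)) hrange
    have hπ : Function.Surjective π := quotMk_surjective 𝒜 Q.gr _ hrange
    have hπg : GrLC.IsGrHom Q.gr N'.gr π := quotMk_grHom 𝒜 Q.gr _ hrange
    have hπker : LinearMap.ker π = LinearMap.range (LinearMap.lsmul R Q.carrier x) :=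
      quotMk_ker 𝒜 Q.gr _ hrange
    haveI : Module.Finite R N'.carrier := Module.Finite.of_surjective π hπ
    have hdimN : Module.supportDim R N'.carrier < (N : WithBot ℕ∞) :=
      supportDim_quot_range_lsmul_lt hreg N hdimQ
    have hvan := ih N'.carrier N'.gr hdimN i' hi'
    exact Hcomp_succ_eq_bot_of_regular a hg hx hxa hreg π hπ hπg hπker Ē (starInjRes 𝒜 N'.gr) i'
      (n + g) (fun m _ => hvan m _) n (by omega)

end IntGraded

end Groth.Agent.Helper23.Reg
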