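import Mathlib
import Groth.Prelude.Def_GrSyz
import Groth.Agent.Lib.Helper23.Reg3

/-!
# Regularity: syzygy modules of a graded free resolution
-/

set_option autoImplicit false
set_option linter.unusedVariables false
set_option linter.unusedSectionVars false

open DirectSum Groth.Agent.Helper20.GrInj

namespace Groth.Agent.Helper23.Reg

universe u

variable {R : Type u} [CommRing R] {σ' : Type u} [SetLike σ' R] [AddSubgroupClass σ' R]
  {𝒜 : ℤ → σ'} [GradedRing 𝒜]
variable {M : Type u} [AddCommGroup M] [Module R M] {τ : Type u} [SetLike τ M]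
  [AddSubgroupClass τ M] {ℳ : ℤ → τ} [DirectSum.Decomposition ℳ] [SetLike.GradedSMul 𝒜 ℳ]
variable (F : GrSyz.FreeRes 𝒜 ℳ)

/-- the `i`-th term of the resolution as a bundled graded module -/
noncomputable abbrev FM (i : ℕ) : GrLC.GMod.{u} 𝒜 := freeGMod 𝒜 (F.rk i) (F.deg i)

theorem dLin_grHom (i : ℕ) :
    GrLC.IsGrHom (freeGr 𝒜 (F.rk (i + 1)) (F.deg (i + 1))) (freeGr 𝒜 (F.rk i) (F.deg i))
      (F.dLin i) := by
  intro m v hv a
  show ∑ b, F.d i a b * v b ∈ 𝒜 (m - F.deg i a)
  apply sum_mem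
  intro b _
  have h := SetLike.GradedMul.mul_mem (F.d_mem i a b) (hv b)
  have e : F.deg (i + 1) b - F.deg i a + (m - F.deg (i + 1) b) = m - F.deg i a := by ring
  rw [e] at h
  exact h

theorem augLin_grHom :
    GrLC.IsGrHom (freeGr 𝒜 (F.rk 0) (F.deg 0)) (addGr ℳ) F.augLin := by
  intro m v hv
  show Fintype.linearCombination R F.aug v ∈ ℳ m
  rw [Fintype.linearCombination_apply]
  apply sum_mem
  intro b _
  have h := SetLike.GradedSMul.smul_mem (A := 𝒜) (B := ℳ) (hv b) (F.aug_mem b)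
  rw [vadd_eq_add, sub_add_cancel] at h
  exact h

theorem range_dLin_isHomogeneous (j : ℕ) :
    (LinearMap.range (F.dLin j)).IsHomogeneous (freeGr 𝒜 (F.rk j) (F.deg j)) :=
  range_isHomogeneous _ _ (dLin_grHom F j)

/-- the syzygy modules: `K_0 = M`, `K_{j+1} = im (F_{j+1} → F_j)` -/
noncomputable def syz : ℕ → GrLC.GMod.{u} 𝒜
  | 0 => GrLC.GMod.of 𝒜 M (addGr ℳ)
  | (j + 1) => subGMod (freeGr 𝒜 (F.rk j) (F.deg j)) 𝒜 (LinearMap.range (F.dLin j))
      (range_dLin_isHomogeneous F j)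

/-- the inclusion `K_{j+1} → F_j` -/
noncomputable def syzι (j : ℕ) : (syz F (j + 1)).carrier →ₗ[R] (Fin (F.rk j) → R) :=
  subVal 𝒜 (freeGr 𝒜 (F.rk j) (F.deg j)) (LinearMap.range (F.dLin j)) (range_dLin_isHomogeneous F j)

/-- the surjection `F_j → K_j` -/
noncomputable def syzφ : ∀ j : ℕ, (Fin (F.rk j) → R) →ₗ[R] (syz F j).carrier
  | 0 => F.augLin
  | (j + 1) => subLift 𝒜 (freeGr 𝒜 (F.rk j) (F.deg j)) (LinearMap.range (F.dLin j))
      (range_dLin_isHomogeneous F j) (F.dLin j) (fun v => LinearMap.mem_range_self _ v)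

theorem syzι_grHom (j : ℕ) :
    GrLC.IsGrHom (syz F (j + 1)).gr (freeGr 𝒜 (F.rk j) (F.deg j)) (syzι F j) :=
  subVal_grHom _ _ _ _

theorem syzι_injective (j : ℕ) : Function.Injective (syzι F j) :=
  subVal_injective _ _ _ _

theorem syzι_range (j : ℕ) : LinearMap.range (syzι F j) = LinearMap.range (F.dLin j) :=
  subVal_range _ _ _ _

theorem syzφ_grHom (j : ℕ) :
    GrLC.IsGrHom (freeGr 𝒜 (F.rk j) (F.deg j)) (syz F j).gr (syzφ F j) := by
  cases j with
  | zero => exact augLin_grHom F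
  | succ j =>
    exact subLift_grHom 𝒜 (freeGr 𝒜 (F.rk j) (F.deg j)) (LinearMap.range (F.dLin j))
      (range_dLin_isHomogeneous F j) (freeGr 𝒜 (F.rk (j + 1)) (F.deg (j + 1))) (F.dLin j)
      (fun v => LinearMap.mem_range_self _ v) (dLin_grHom F j)

theorem syzφ_surjective (j : ℕ) : Function.Surjective (syzφ F j) := by
  cases j with
  | zero => exact F.aug_surjective
  | succ j =>
    rintro ⟨_, v, rfl⟩
    exact ⟨v, rfl⟩

theorem syzφ_ker (j : ℕ) : LinearMap.ker (syzφ F j) = LinearMap.range (F.dLin j) := by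
  cases j with
  | zero => exact F.exact_zero
  | succ j =>
    rw [← F.exact_succ j]
    ext v
    rw [LinearMap.mem_ker, LinearMap.mem_ker]
    constructor
    · intro h
      exact congrArg Subtype.val h
    · intro h
      exact Subtype.ext h

theorem syz_exact (j : ℕ) : LinearMap.range (syzι F j) = LinearMap.ker (syzφ F j) := by
  rw [syzι_range, syzφ_ker]

theorem syz_finite [Module.Finite R M] (j : ℕ) : Module.Finite R (syz F j).carrier := by
  cases j with
  | zero => exact ‹Module.Finite R M›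
  | succ j => exact Module.Finite.of_surjective (syzφ F (j + 1)) (syzφ_surjective F (j + 1))

/-- minimality: the syzygies lie in `𝔪 F_j` coordinatewise -/
theorem syzι_mem_of_isMinimal {𝔪 : Ideal R} (hF : F.IsMinimal 𝔪) (j : ℕ)
    (z : (syz F (j + 1)).carrier) (a : Fin (F.rk j)) : syzι F j z a ∈ 𝔪 := by
  have hz : syzι F j z ∈ LinearMap.range (F.dLin j) := by
    rw [← syzι_range]
    exact LinearMap.mem_range_self _ z
  obtain ⟨v, hv⟩ := hz
  rw [← hv]
  show ∑ b, F.d j a b * v b ∈ 𝔪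
  exact Ideal.sum_mem _ (fun b _ => Ideal.mul_mem_right _ _ (hF j a b))

/-! ## From generator degrees to local cohomology -/

section Forward

variable [IsNoetherianRing R] [Module.Finite R M] (a : HomogeneousIdeal 𝒜)
  (hself : ∀ (i : ℕ) (n : ℤ), 1 - (i : ℤ) ≤ n → HVan (selfGMod 𝒜) a i n)
  (c : ℕ) (hcd : ∀ (X : GrLC.GMod.{u} 𝒜), Module.Finite R X.carrier →
    ∀ i : ℕ, c ≤ i → ∀ n : ℤ, HVan X a i n)

include hself in
theorem HVan_FM (d : ℤ) (j : ℕ) (hgen : ∀ b, F.deg j b ≤ d + j) (i : ℕ) (n : ℤ)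
    (hn : d + j - i < n) : HVan (FM F j) a i n := by
  apply HVan_free
  intro b
  apply hself
  have := hgen b
  omega

include hself hcd in
theorem HVan_syz_of_isGenLE (d : ℤ) (hF : F.IsGenLE d) :
    ∀ (t i : ℕ), c ≤ i + t → ∀ (j : ℕ) (n : ℤ), d + j - i < n → HVan (syz F j) a i n := by
  intro t
  induction t with
  | zero =>
    intro i hi j n _
    exact hcd (syz F j) (syz_finite F j) i (by omega) n
  | succ t ih =>
    intro i hi j n hn
    refine HVan_right (X' := syz F (j + 1)) (X := FM F j) (X'' := syz F j) (syzι F j) (syzφ F j)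
      (syzι_grHom F j) (syzφ_grHom F j) (syzι_injective F j) (syz_exact F j)
      (syzφ_surjective F j) a i n ?_ ?_
    · exact HVan_FM F a hself d j (fun b => hF j b) i n hn
    · apply ih (i + 1) (by omega) (j + 1) n
      push_cast
      omega

end Forward

end Groth.Agent.Helper23.Reg
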