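import Mathlib
import Groth.Agent.Lib.Helper23.Reg4

/-!
# Regularity: from local cohomology to generator degrees
-/

set_option autoImplicit false
set_option linter.unusedVariables false
set_option linter.unusedSectionVars false

open DirectSum Groth.Agent.Helper20.GrInj

namespace Groth.Agent.Helper23.Reg

universe u

variable {R : Type u} [CommRing R] {σ' : Type u} [SetLike σ' R] [AddSubgroupClass σ' R]
  {𝒜 : ℤ → σ'} [GradedRing 𝒜]
variable {M : Type u} [AddCommGroup M] [Module R M] {τ : Type u} [SetLike τ M]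
  [AddSubgroupClass τ M] {ℳ : ℤ → τ} [DirectSum.Decomposition ℳ] [SetLike.GradedSMul 𝒜 ℳ]
variable (F : GrSyz.FreeRes 𝒜 ℳ)

theorem mem_of_mem_smul_top_pi {n : ℕ} (𝔪 : Ideal R) {f : Fin n → R}
    (hf : f ∈ 𝔪 • (⊤ : Submodule R (Fin n → R))) (b : Fin n) : f b ∈ 𝔪 := by
  refine Submodule.smul_induction_on hf ?_ ?_
  · intro r hr v _
    exact Ideal.mul_mem_right _ _ hr
  · intro x y hx hy
    exact Ideal.add_mem _ hx hy

theorem mem_of_mem_range_dLin {𝔪 : Ideal R} (hF : F.IsMinimal 𝔪) (j : ℕ)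
    {v : Fin (F.rk j) → R} (hv : v ∈ LinearMap.range (F.dLin j)) (a : Fin (F.rk j)) : v a ∈ 𝔪 := by
  obtain ⟨w, rfl⟩ := hv
  show ∑ b, F.d j a b * w b ∈ 𝔪
  exact Ideal.sum_mem _ (fun b _ => Ideal.mul_mem_right _ _ (hF j a b))

/-- minimal generators have degrees bounded by the generation degree -/
theorem deg_le_of_genIn (a : HomogeneousIdeal 𝒜) (h1 : (1 : R) ∉ a.toIdeal)
    (hF : F.IsMinimal a.toIdeal) (j : ℕ) (e : ℤ)
    (hgen : ∀ m : ℤ, e < m → GenIn (syz F j) a.toIdeal m) : ∀ b, F.deg j b ≤ e := by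
  classical
  intro b
  by_contra hb
  push Not at hb
  let eb : Fin (F.rk j) → R := Pi.single b 1
  have heb : eb ∈ freeGr 𝒜 (F.rk j) (F.deg j) (F.deg j b) := by
    intro b'
    by_cases hbb : b' = b
    · subst hbb
      show (Pi.single b' 1 : Fin (F.rk j) → R) b' ∈ _
      rw [Pi.single_eq_same, sub_self]
      exact SetLike.GradedOne.one_mem
    · show (Pi.single b 1 : Fin (F.rk j) → R) b' ∈ _
      rw [Pi.single_eq_of_ne hbb]
      exact zero_mem _
  have h2 : syzφ F j eb ∈ a.toIdeal • (⊤ : Submodule R (syz F j).carrier) :=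
    hgen _ hb _ (syzφ_grHom F j _ _ heb)
  have htop : (⊤ : Submodule R (syz F j).carrier) =
      Submodule.map (syzφ F j) (⊤ : Submodule R (Fin (F.rk j) → R)) := by
    rw [Submodule.map_top, LinearMap.range_eq_top.mpr (syzφ_surjective F j)]
  rw [htop, ← Submodule.map_smul''] at h2
  obtain ⟨f, hf, hfe⟩ := h2
  have h3 : eb - f ∈ LinearMap.range (F.dLin j) := by
    rw [← syzφ_ker, LinearMap.mem_ker, map_sub, hfe, sub_self]
  have h4 := mem_of_mem_range_dLin F hF j h3 b
  have h5 := mem_of_mem_smul_top_pi a.toIdeal hf b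
  apply h1
  have h6 : (1 : R) = (eb - f) b + f b := by
    show (1 : R) = (Pi.single b 1 : Fin (F.rk j) → R) b - f b + f b
    rw [Pi.single_eq_same, sub_add_cancel]
  rw [h6]
  exact Ideal.add_mem _ h4 h5

section Backward

variable [IsNoetherianRing R] [Module.Finite R M] (a : HomogeneousIdeal 𝒜)
  (hhom : a.toIdeal = Ideal.span ((𝒜 1 : σ') : Set R)) (h1 : (1 : R) ∉ a.toIdeal)
  (hF : F.IsMinimal a.toIdeal)
  (hself : ∀ (i : ℕ) (n : ℤ), 1 - (i : ℤ) ≤ n → HVan (selfGMod 𝒜) a i n)

include hhom h1 hF hself in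
theorem HVan_syz_and_deg (d : ℤ)
    (h0 : ∀ (i : ℕ) (n : ℤ), d - i < n → HVan (syz F 0) a i n) :
    ∀ j : ℕ, (∀ (i : ℕ) (n : ℤ), d + j - i < n → HVan (syz F j) a i n) ∧
      ∀ b, F.deg j b ≤ d + j := by
  have hG : ∀ j : ℕ, (∀ (i : ℕ) (n : ℤ), d + j - i < n → HVan (syz F j) a i n) →
      ∀ b, F.deg j b ≤ d + j := by
    intro j hB
    apply deg_le_of_genIn F a h1 hF j
    intro m hm
    exact genIn_of_HVan (M := (syz F j).carrier) (ℳ := (syz F j).gr) a hhom m
      (fun t => hB t (m - t) (by omega))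
  intro j
  induction j with
  | zero =>
    have hB : ∀ (i : ℕ) (n : ℤ), d + (0 : ℕ) - i < n → HVan (syz F 0) a i n := by
      intro i n hn
      apply h0
      push_cast at hn
      omega
    exact ⟨hB, hG 0 hB⟩
  | succ j ih =>
    obtain ⟨hB, hdeg⟩ := ih
    have hB' : ∀ (i : ℕ) (n : ℤ), d + ((j + 1 : ℕ) : ℤ) - i < n → HVan (syz F (j + 1)) a i n := by
      intro i n hn
      push_cast at hn
      cases i with
      | zero =>
        refine HVan_left_zero (X' := syz F (j + 1)) (X := FM F j) (X'' := syz F j) (syzι F j)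
          (syzφ F j) (syzι_grHom F j) (syzφ_grHom F j) (syzι_injective F j) (syz_exact F j)
          (syzφ_surjective F j) a n ?_
        exact HVan_FM F a hself d j hdeg 0 n (by push_cast at hn ⊢; omega)
      | succ i =>
        refine HVan_left (X' := syz F (j + 1)) (X := FM F j) (X'' := syz F j) (syzι F j)
          (syzφ F j) (syzι_grHom F j) (syzφ_grHom F j) (syzι_injective F j) (syz_exact F j)
          (syzφ_surjective F j) a i n ?_ ?_
        · exact hB i n (by push_cast at hn ⊢; omega)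
        · exact HVan_FM F a hself d j hdeg (i + 1) n (by push_cast at hn ⊢; omega)
    exact ⟨hB', hG (j + 1) hB'⟩

include hhom h1 hF hself in
theorem isGenLE_of_HVan (d : ℤ)
    (h0 : ∀ (i : ℕ) (n : ℤ), d - i < n → HVan (syz F 0) a i n) : F.IsGenLE d :=
  fun j b => (HVan_syz_and_deg F a hhom h1 hF hself d h0 j).2 b

end Backward

end Groth.Agent.Helper23.Reg
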