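import Mathlib
import Groth.Agent.Lib.Helper23.Reg5

/-!
# Regularity: the polynomial ring case — generator degrees of a minimal resolution versus graded
local cohomology
-/

set_option autoImplicit false
set_option linter.unusedVariables false
set_option linter.unusedSectionVars false

open DirectSum Groth.Agent.Helper20.GrInj

namespace Groth.Agent.Helper23.Reg

universe u

section Arith

theorem add_coe_le_coe_iff (x : WithBot (WithTop ℤ)) (i d : ℤ) :
    x + ((i : WithTop ℤ) : WithBot (WithTop ℤ)) ≤ ((d : WithTop ℤ) : WithBot (WithTop ℤ)) ↔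
      x ≤ (((d - i : ℤ) : WithTop ℤ) : WithBot (WithTop ℤ)) := by
  induction x using WithBot.recBotCoe with
  | bot => simp
  | coe y =>
    induction y using WithTop.recTopCoe with
    | top =>
      constructor
      · intro h
        rw [← WithBot.coe_add, WithBot.coe_le_coe, WithTop.top_add] at h
        exact absurd h (by simp)
      · intro h
        rw [WithBot.coe_le_coe] at h
        exact absurd h (by simp)
    | coe m =>
      rw [← WithBot.coe_add, ← WithTop.coe_add, WithBot.coe_le_coe, WithTop.coe_le_coe,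
        WithBot.coe_le_coe, WithTop.coe_le_coe]
      omega

variable {M : Type u} [AddCommGroup M]

theorem endDeg_add_le_iff (ℳ : ℤ → AddSubgroup M) (i d : ℤ) :
    GrLC.endDeg ℳ + ((i : WithTop ℤ) : WithBot (WithTop ℤ)) ≤
        ((d : WithTop ℤ) : WithBot (WithTop ℤ)) ↔ ∀ n : ℤ, d - i < n → ℳ n = ⊥ := by
  rw [add_coe_le_coe_iff, endDeg_le_coe_iff]

end Arith

section Poly

variable {k : Type u} [Field k] {r : ℕ}

theorem one_notMem_irrel {σ : Type} :
    (1 : MvPolynomial σ k) ∉ (GrSyz.irrel (GrSyz.stdGr k σ)).toIdeal := by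
  classical
  intro h
  have h0 := decompose_eq_zero_of_mem_span_pos (GrSyz.stdGr k σ)
    (fun n hn x hx => stdGr_eq_zero_of_neg n hn x hx) 1 h 0 le_rfl
  rw [decompose_of_mem_same (GrSyz.stdGr k σ) (SetLike.GradedOne.one_mem)] at h0
  exact one_ne_zero h0

theorem supportDim_lt_poly (X : Type u) [AddCommGroup X] [Module (MvPolynomial (Fin (r + 1)) k) X] :
    Module.supportDim (MvPolynomial (Fin (r + 1)) k) X < ((r + 2 : ℕ) : WithBot ℕ∞) := by
  refine lt_of_le_of_lt (Module.supportDim_le_ringKrullDim _ _) ?_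
  rw [MvPolynomial.ringKrullDim_of_isNoetherianRing, ringKrullDim_eq_zero_of_field, zero_add,
    Nat.card_eq_fintype_card, Fintype.card_fin]
  exact_mod_cast Nat.lt_succ_self (r + 1)

theorem hcd_poly (X : GrLC.GMod.{u} (GrSyz.stdGr k (Fin (r + 1))))
    (hX : Module.Finite (MvPolynomial (Fin (r + 1)) k) X.carrier) (i : ℕ) (hi : r + 2 ≤ i) (n : ℤ) :
    HVan X (GrSyz.irrel (GrSyz.stdGr k (Fin (r + 1)))) i n := by
  intro E
  exact Hcomp_eq_bot_of_supportDim_lt (GrSyz.irrel (GrSyz.stdGr k (Fin (r + 1)))) isIrr_std (r + 2)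
    X.carrier X.gr (supportDim_lt_poly X.carrier) i hi n E

variable {M : Type u} [AddCommGroup M] [Module k M] [Module (MvPolynomial (Fin (r + 1)) k) M]
  [IsScalarTower k (MvPolynomial (Fin (r + 1)) k) M] [Module.Finite (MvPolynomial (Fin (r + 1)) k) M]
  {ℳ : ℤ → Submodule k M} [DirectSum.Decomposition ℳ]
  [SetLike.GradedSMul (GrSyz.stdGr k (Fin (r + 1))) ℳ]

/-- **Eisenbud–Goto**: for a minimal graded free resolution over the polynomial ring, `F_i` is
generated in degrees `≤ d + i` for all `i` iff `H^i_𝔪(M)_n = 0` for all `n > d - i`. -/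
theorem isGenLE_iff_Hcomp (F : GrSyz.FreeRes (GrSyz.stdGr k (Fin (r + 1))) ℳ)
    (hF : F.IsMinimal (GrSyz.irrel (GrSyz.stdGr k (Fin (r + 1)))).toIdeal)
    (E : GrLC.StarInjRes (GrSyz.stdGr k (Fin (r + 1))) ℳ) (d : ℤ) :
    F.IsGenLE d ↔ ∀ (i : ℕ) (n : ℤ), d - i < n →
      E.Hcomp (GrSyz.irrel (GrSyz.stdGr k (Fin (r + 1)))) i n = ⊥ := by
  constructor
  · intro hgen i n hn
    have h := HVan_syz_of_isGenLE F (GrSyz.irrel (GrSyz.stdGr k (Fin (r + 1))))
      (fun i n hn => HVan_self i n hn) (r + 2) (fun X hX i hi n => hcd_poly X hX i hi n) d hgen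
      (r + 2) i (by omega) 0 n (by push_cast; omega)
    let E' : GrLC.StarInjRes (GrSyz.stdGr k (Fin (r + 1))) (addGr ℳ) := resToAdd E
    exact h E'
  · intro h
    refine isGenLE_of_HVan F (GrSyz.irrel (GrSyz.stdGr k (Fin (r + 1)))) irrel_stdGr_eq_span
      one_notMem_irrel hF (fun i n hn => HVan_self i n hn) d ?_
    intro i n hn
    have h' := h i n hn
    let E' : GrLC.StarInjRes (GrSyz.stdGr k (Fin (r + 1))) (addGr ℳ) := resToAdd E
    have h'' : E'.Hcomp (GrSyz.irrel (GrSyz.stdGr k (Fin (r + 1)))) i n = ⊥ := h'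
    exact HVan_of_res (X := syz F 0) E' h''

end Poly

end Groth.Agent.Helper23.Reg
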