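import Mathlib
import Groth.Agent.Lib.Helper20.GrIrr3
import Groth.Agent.Lib.Helper20.GrKos7
import Groth.Agent.Lib.Helper23.Reg6

/-!
# a-invariants under regular elements: graded local cohomology of `M / xM`
-/

set_option autoImplicit false
set_option linter.unusedVariables false
set_option linter.unusedSectionVars false
set_option linter.style.haveILetI false

open DirectSum Groth.Agent.Helper20.GrInj Groth.Agent.Helper23.Reg

namespace Groth.Agent.Helper23.AInv

universe u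

section Arith

theorem le_of_forall_le_coe (y₁ y₂ : WithBot (WithTop ℤ))
    (h : ∀ d : ℤ, y₂ ≤ ((d : WithTop ℤ) : WithBot (WithTop ℤ)) →
      y₁ ≤ ((d : WithTop ℤ) : WithBot (WithTop ℤ))) : y₁ ≤ y₂ := by
  induction y₂ using WithBot.recBotCoe with
  | bot =>
    induction y₁ using WithBot.recBotCoe with
    | bot => exact le_rfl
    | coe z =>
      induction z using WithTop.recTopCoe with
      | top =>
        have := h 0 bot_le
        rw [WithBot.coe_le_coe] at this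
        exact absurd this (by simp)
      | coe m =>
        have := h (m - 1) bot_le
        rw [WithBot.coe_le_coe, WithTop.coe_le_coe] at this
        omega
  | coe z₂ =>
    induction z₂ using WithTop.recTopCoe with
    | top =>
      induction y₁ using WithBot.recBotCoe with
      | bot => exact bot_le
      | coe z => exact WithBot.coe_le_coe.2 le_top
    | coe m => exact h m le_rfl

theorem eq_of_forall_le_coe_iff (y₁ y₂ : WithBot (WithTop ℤ))
    (h : ∀ d : ℤ, y₁ ≤ ((d : WithTop ℤ) : WithBot (WithTop ℤ)) ↔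
      y₂ ≤ ((d : WithTop ℤ) : WithBot (WithTop ℤ))) : y₁ = y₂ :=
  le_antisymm (le_of_forall_le_coe _ _ (fun d hd => (h d).2 hd))
    (le_of_forall_le_coe _ _ (fun d hd => (h d).1 hd))

end Arith

section General

variable {ι : Type} [AddCommGroup ι] [DecidableEq ι]
variable {R : Type u} [CommRing R]
variable {σ : Type u} [SetLike σ R] [AddSubgroupClass σ R] {𝒜 : ι → σ} [GradedRing 𝒜]
variable {M : Type u} [AddCommGroup M] [Module R M] {ℳ : ι → AddSubgroup M}
  [DirectSum.Decomposition ℳ] [SetLike.GradedSMul 𝒜 ℳ]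
variable {N : Type u} [AddCommGroup N] [Module R N] {𝒩 : ι → AddSubgroup N}
  [DirectSum.Decomposition 𝒩] [SetLike.GradedSMul 𝒜 𝒩]

/-- a homogeneous isomorphism preserves vanishing of graded local cohomology -/
theorem H_eq_zero_of_equiv (E : GrLC.StarInjRes 𝒜 ℳ) (F : GrLC.StarInjRes 𝒜 𝒩)
    (e : M ≃ₗ[R] N) (he : GrLC.IsGrHom ℳ 𝒩 e.toLinearMap) (a : HomogeneousIdeal 𝒜) (i : ℕ)
    (h : ∀ w : E.H a i, w = 0) : ∀ v : F.H a i, v = 0 := by
  intro v
  have hb := Hmap_bijective_of_equiv E F e he (liftCh E F e.toLinearMap he)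
    (liftCh_isGr _ _ _ _) (liftCh_lifts _ _ _ _) a i
  obtain ⟨w, rfl⟩ := hb.2 v
  rw [h w, map_zero]

/-- a homogeneous isomorphism preserves the nonvanishing pieces -/
theorem Hcomp_eq_bot_of_equiv (E : GrLC.StarInjRes 𝒜 ℳ) (F : GrLC.StarInjRes 𝒜 𝒩)
    (e : M ≃ₗ[R] N) (he : GrLC.IsGrHom ℳ 𝒩 e.toLinearMap) (a : HomogeneousIdeal 𝒜) (i : ℕ)
    (n : ι) (h : F.Hcomp a i n = ⊥) : E.Hcomp a i n = ⊥ := by
  have hb := Hmap_bijective_of_equiv E F e he (liftCh E F e.toLinearMap he)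
    (liftCh_isGr _ _ _ _) (liftCh_lifts _ _ _ _) a i
  exact Hcomp_eq_bot_of_injective a i i _ (ChMap.Hmap_isGr (liftCh_isGr _ _ _ _) a i) hb.1 n h

theorem Hcomp_eq_bot_iff_of_equiv (E : GrLC.StarInjRes 𝒜 ℳ) (F : GrLC.StarInjRes 𝒜 𝒩)
    (e : M ≃ₗ[R] N) (he : GrLC.IsGrHom ℳ 𝒩 e.toLinearMap) (a : HomogeneousIdeal 𝒜) (i : ℕ)
    (n : ι) : E.Hcomp a i n = ⊥ ↔ F.Hcomp a i n = ⊥ :=
  ⟨Hcomp_eq_bot_of_equiv F E e.symm (symm_isGrHom 𝒩 ℳ e he) a i n,
    Hcomp_eq_bot_of_equiv E F e he a i n⟩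

end General

section IntGraded

variable {R : Type u} [CommRing R]
variable {σ : Type u} [SetLike σ R] [AddSubgroupClass σ R] {𝒜 : ℤ → σ} [GradedRing 𝒜]
variable {M : Type u} [AddCommGroup M] [Module R M] {ℳ : ℤ → AddSubgroup M}
  [DirectSum.Decomposition ℳ] [SetLike.GradedSMul 𝒜 ℳ]
variable {N : Type u} [AddCommGroup N] [Module R N] {𝒩 : ℤ → AddSubgroup N}
  [DirectSum.Decomposition 𝒩] [SetLike.GradedSMul 𝒜 𝒩]

/-- a homogeneous isomorphism preserves the end of graded local cohomology -/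
theorem endDeg_eq_of_equiv (E : GrLC.StarInjRes 𝒜 ℳ) (F : GrLC.StarInjRes 𝒜 𝒩)
    (e : M ≃ₗ[R] N) (he : GrLC.IsGrHom ℳ 𝒩 e.toLinearMap) (a : HomogeneousIdeal 𝒜) (i : ℕ) :
    GrLC.endDeg (E.Hgr a i) = GrLC.endDeg (F.Hgr a i) := by
  apply eq_of_forall_le_coe_iff
  intro d
  rw [endDeg_Hgr_le_iff, endDeg_Hgr_le_iff]
  exact forall_congr' (fun n => imp_congr_right
    (fun _ => Hcomp_eq_bot_iff_of_equiv E F e he a i n))

/-- the long exact sequence of `0 → M(-g) → M → M/xM → 0`, the part around `δ` -/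
theorem exists_delta_of_regular' (a : HomogeneousIdeal 𝒜) {g : ℤ} {x : R} (hx : x ∈ 𝒜 g)
    (hreg : ∀ m : M, x • m = 0 → m = 0)
    (π : M →ₗ[R] N) (hπ : Function.Surjective π) (hπg : GrLC.IsGrHom ℳ 𝒩 π)
    (hker : LinearMap.ker π = LinearMap.range (LinearMap.lsmul R M x))
    (E : GrLC.StarInjRes 𝒜 ℳ) (F : GrLC.StarInjRes 𝒜 𝒩) (i : ℕ) :
    ∃ δ : F.H a i →ₗ[R] (resShift E (-g)).H a (i + 1),
      GrLC.IsGrHom (F.Hgr a i) ((resShift E (-g)).Hgr a (i + 1)) δ ∧
      LinearMap.range ((liftCh E F π hπg).Hmap a i) = LinearMap.ker δ ∧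
      LinearMap.range δ = LinearMap.ker ((smulCh E (g := g) x).Hmap a (i + 1)) := by
  have hinj : Function.Injective (LinearMap.lsmul R M x) := by
    intro m m' h
    have : x • (m - m') = 0 := by
      rw [smul_sub]
      exact sub_eq_zero.2 h
    exact sub_eq_zero.1 (hreg _ this)
  obtain ⟨_, _, δ, hδgr, hδ1, hδ2⟩ := exists_les (resShift E (-g)) E F (LinearMap.lsmul R M x) π
    (lsmul_isGrHom_shift hx) hinj hker.symm hπ
    (smulCh E (g := g) x) (smulCh_isGr E hx) (smulCh_lifts E x)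
    (liftCh E F π hπg) (liftCh_isGr _ _ _ _) (liftCh_lifts _ _ _ _) a
  exact ⟨δ i, hδgr i, hδ1 i, hδ2 i⟩

/-- **Regular step, vanishing downwards**: `H^i(M) = 0 = H^{i+1}(M)` gives `H^i(M/xM) = 0`. -/
theorem H_eq_zero_of_regular (a : HomogeneousIdeal 𝒜) {g : ℤ} {x : R} (hx : x ∈ 𝒜 g)
    (hreg : ∀ m : M, x • m = 0 → m = 0)
    (π : M →ₗ[R] N) (hπ : Function.Surjective π) (hπg : GrLC.IsGrHom ℳ 𝒩 π)
    (hker : LinearMap.ker π = LinearMap.range (LinearMap.lsmul R M x))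
    (E : GrLC.StarInjRes 𝒜 ℳ) (F : GrLC.StarInjRes 𝒜 𝒩) (i : ℕ)
    (h0 : ∀ w : E.H a i, w = 0) (h1 : ∀ w : E.H a (i + 1), w = 0) : ∀ v : F.H a i, v = 0 := by
  obtain ⟨δ, _, hδ1, _⟩ := exists_delta_of_regular' a hx hreg π hπ hπg hker E F i
  intro v
  have hv : v ∈ LinearMap.ker δ := by
    rw [LinearMap.mem_ker]
    exact h1 (δ v)
  rw [← hδ1] at hv
  obtain ⟨w, rfl⟩ := hv
  rw [h0 w, map_zero]

/-- **Regular step, ends**: if `H^i(M) = 0` and `x ∈ a` is homogeneous `M`-regular of degree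
`g ≥ 0`, then `end H^i(M/xM) = end H^{i+1}(M) + g`. -/
theorem endDeg_of_regular (a : HomogeneousIdeal 𝒜) {g : ℤ} (hg : 0 ≤ g) {x : R}
    (hx : x ∈ 𝒜 g) (hxa : x ∈ a.toIdeal) (hreg : ∀ m : M, x • m = 0 → m = 0)
    (π : M →ₗ[R] N) (hπ : Function.Surjective π) (hπg : GrLC.IsGrHom ℳ 𝒩 π)
    (hker : LinearMap.ker π = LinearMap.range (LinearMap.lsmul R M x))
    (E : GrLC.StarInjRes 𝒜 ℳ) (F : GrLC.StarInjRes 𝒜 𝒩) (i : ℕ)
    (h0 : ∀ w : E.H a i, w = 0) :
    GrLC.endDeg (F.Hgr a i) =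
      GrLC.endDeg (E.Hgr a (i + 1)) + ((g : WithTop ℤ) : WithBot (WithTop ℤ)) := by
  obtain ⟨δ, hδgr, hδ1, hδ2⟩ := exists_delta_of_regular' a hx hreg π hπ hπg hker E F i
  have hδinj : ∀ v : F.H a i, δ v = 0 → v = 0 := by
    intro v hv
    have hv' : v ∈ LinearMap.ker δ := LinearMap.mem_ker.2 hv
    rw [← hδ1] at hv'
    obtain ⟨w, rfl⟩ := hv'
    rw [h0 w, map_zero]
  apply eq_of_forall_le_coe_iff
  intro d
  rw [add_coe_le_coe_iff, endDeg_Hgr_le_iff, endDeg_Hgr_le_iff]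
  constructor
  · -- from `M/xM` to `M`
    intro h
    -- multiplication by `x` is injective on pieces of degree `m > d - g`
    have hstar : ∀ m : ℤ, d - g < m → ∀ w ∈ E.Hcomp a (i + 1) m, x • w = 0 → w = 0 := by
      intro m hm w hw hxw
      have key : ∀ w' : (resShift E (-g)).H a (i + 1),
          w' ∈ (resShift E (-g)).Hcomp a (i + 1) (m + g) →
          (smulCh E (g := g) x).Hmap a (i + 1) w' = 0 → w' = 0 := by
        intro w' h1 h2'
        have h2 : w' ∈ LinearMap.ker ((smulCh E (g := g) x).Hmap a (i + 1)) :=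
          LinearMap.mem_ker.2 h2'
        rw [← hδ2] at h2
        obtain ⟨v, hv, rfl⟩ := exists_homog_preimage_H (E := F) (F := resShift E (-g)) a i (i + 1)
          hδgr h1 h2
        rw [h (m + g) (by omega), Submodule.mem_bot] at hv
        rw [hv, map_zero]
      exact key w ((mem_resShift_Hcomp_neg E g a (i + 1) m w).2 hw)
        ((smulCh_Hmap E (g := g) x a (i + 1) w).trans hxw)
    have hpow : ∀ (k : ℕ) (m : ℤ), d - g < m → ∀ w ∈ E.Hcomp a (i + 1) m,
        x ^ k • w = 0 → w = 0 := by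
      intro k
      induction k with
      | zero =>
        intro m _ w _ hw0
        rwa [pow_zero, one_smul] at hw0
      | succ k ih =>
        intro m hm w hw hw0
        rw [pow_succ, mul_smul] at hw0
        have h1 := ih (m + g) (by omega) (x • w) (smul_mem_Hcomp E a (i + 1) hx hw) hw0
        exact hstar m hm w hw h1
    intro m hm
    rw [eq_bot_iff]
    intro w hw
    obtain ⟨k, hk⟩ := H_torsion E a (i + 1) w
    exact (Submodule.mem_bot _).2 (hpow k m hm w hw (hk _ (Ideal.pow_mem_pow hxa k)))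
  · -- from `M` to `M/xM`
    intro h n hn
    rw [eq_bot_iff]
    intro v hv
    rw [Submodule.mem_bot]
    apply hδinj
    have h1 : δ v ∈ (resShift E (-g)).Hcomp a (i + 1) n := hδgr n v hv
    have h2 : ∀ y : E.H a (i + 1), y ∈ E.Hcomp a (i + 1) (n + -g) → y = 0 := by
      intro y hy
      rw [h (n + -g) (by omega), Submodule.mem_bot] at hy
      exact hy
    exact h2 (δ v) ((mem_resShift_Hcomp E (-g) a (i + 1) n _).1 h1)

end IntGraded

end Groth.Agent.Helper23.AInv
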