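import Mathlib
import Groth.Agent.Lib.Helper23.AInv1
import Groth.Agent.Lib.Helper20.GrHull2
import Groth.Agent.Lib.Helper20.GrCoind4

/-!
# a-invariants under regular sequences
-/

set_option autoImplicit false
set_option linter.unusedVariables false
set_option linter.unusedSectionVars false
set_option linter.style.haveILetI false

open DirectSum Groth.Agent.Helper20.GrInj Groth.Agent.Helper23.Reg Pointwise

namespace Groth.Agent.Helper23.AInv

universe u

section Quot

variable {R : Type u} [CommRing R]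
variable {σ : Type u} [SetLike σ R] [AddSubgroupClass σ R] {𝒜 : ℤ → σ} [GradedRing 𝒜]
variable {X : Type u} [AddCommGroup X] [Module R X] (𝒳 : ℤ → AddSubgroup X)
  [DirectSum.Decomposition 𝒳] [SetLike.GradedSMul 𝒜 𝒳]

/-- `x M` is a homogeneous submodule for homogeneous `x` -/
theorem smul_top_isHomogeneous {g : ℤ} {x : R} (hx : x ∈ 𝒜 g) :
    (x • (⊤ : Submodule R X)).IsHomogeneous 𝒳 := by
  intro i y hy
  obtain ⟨z, _, rfl⟩ := (Submodule.mem_smul_pointwise_iff_exists _ _ _).1 hy
  have h := decompose_smul_of_mem 𝒜 𝒳 hx z (i - g)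
  rw [add_sub_cancel] at h
  rw [h]
  exact Submodule.smul_mem_pointwise_smul _ _ _ Submodule.mem_top

theorem smul_top_eq_range (x : R) :
    (x • (⊤ : Submodule R X)) = LinearMap.range (LinearMap.lsmul R X x) := by
  ext y
  rw [Submodule.mem_smul_pointwise_iff_exists, LinearMap.mem_range]
  constructor
  · rintro ⟨z, _, rfl⟩
    exact ⟨z, rfl⟩
  · rintro ⟨z, rfl⟩
    exact ⟨z, Submodule.mem_top, rfl⟩

end Quot

section Seq

variable {R : Type u} [CommRing R]
variable {𝒜 : ℤ → AddSubgroup R} [GradedRing 𝒜]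

theorem coe_sum_succ {t : ℕ} (deg : Fin (t + 1) → ℤ) (y : WithBot (WithTop ℤ)) :
    y + ((deg 0 : WithTop ℤ) : WithBot (WithTop ℤ)) +
        (((∑ i : Fin t, deg i.succ : ℤ) : WithTop ℤ) : WithBot (WithTop ℤ)) =
      y + (((∑ i, deg i : ℤ) : WithTop ℤ) : WithBot (WithTop ℤ)) := by
  rw [add_assoc, Fin.sum_univ_succ, WithTop.coe_add, WithBot.coe_add]

/-- **a-invariant and depth along a regular sequence of homogeneous elements** -/
theorem seq_main (a : HomogeneousIdeal 𝒜) :
    ∀ (t : ℕ) (X : GrLC.GMod.{u} 𝒜) (f : Fin t → R) (deg : Fin t → ℤ)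
      (hdeg : ∀ i, f i ∈ 𝒜 (deg i)) (hnn : ∀ i, 0 ≤ deg i) (hfa : ∀ i, f i ∈ a.toIdeal)
      (hreg : RingTheory.Sequence.IsWeaklyRegular X.carrier (List.ofFn f))
      (n : ℕ) (htn : t ≤ n)
      (hvan : ∀ i < n, ∀ E : GrLC.StarInjRes 𝒜 X.gr, ∀ w : E.H a i, w = 0)
      (Y : GrLC.GMod.{u} 𝒜) (π : X.carrier →ₗ[R] Y.carrier) (hπg : GrLC.IsGrHom X.gr Y.gr π)
      (hπs : Function.Surjective π)
      (hπk : LinearMap.ker π = Ideal.span (Set.range f) • (⊤ : Submodule R X.carrier))
      (E : GrLC.StarInjRes 𝒜 X.gr) (F : GrLC.StarInjRes 𝒜 Y.gr),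
      (∀ i < n - t, ∀ v : F.H a i, v = 0) ∧
      GrLC.endDeg (F.Hgr a (n - t)) = GrLC.endDeg (E.Hgr a n) +
        (((∑ i, deg i : ℤ) : WithTop ℤ) : WithBot (WithTop ℤ)) := by
  intro t
  induction t with
  | zero =>
    intro X f deg hdeg hnn hfa hreg n htn hvan Y π hπg hπs hπk E F
    have hker : LinearMap.ker π = ⊥ := by
      rw [hπk]
      have : Set.range f = ∅ := Set.range_eq_empty f
      rw [this, Ideal.span_empty, Submodule.bot_smul]
    let e : X.carrier ≃ₗ[R] Y.carrier :=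
      LinearEquiv.ofBijective π ⟨LinearMap.ker_eq_bot.1 hker, hπs⟩
    have he : GrLC.IsGrHom X.gr Y.gr e.toLinearMap := hπg
    refine ⟨fun i hi => H_eq_zero_of_equiv E F e he a i (hvan i (by omega) E), ?_⟩
    rw [Nat.sub_zero, ← endDeg_eq_of_equiv E F e he a n, Finset.univ_eq_empty, Finset.sum_empty]
    exact (add_zero _).symm
  | succ t ih =>
    intro X f deg hdeg hnn hfa hreg n htn hvan Y π hπg hπs hπk E F
    obtain ⟨n', rfl⟩ : ∃ n', n = n' + 1 := ⟨n - 1, by omega⟩
    have htn' : t ≤ n' := by omega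
    rw [List.ofFn_succ, RingTheory.Sequence.isWeaklyRegular_cons_iff] at hreg
    obtain ⟨hreg0, hreg1⟩ := hreg
    -- the first quotient
    let P : Submodule R X.carrier := f 0 • (⊤ : Submodule R X.carrier)
    have hP : P.IsHomogeneous X.gr := smul_top_isHomogeneous X.gr (hdeg 0)
    let X₁ : GrLC.GMod.{u} 𝒜 := quotGMod X.gr 𝒜 P hP
    let q : X.carrier →ₗ[R] X₁.carrier := quotMk 𝒜 X.gr P hP
    have hqg : GrLC.IsGrHom X.gr X₁.gr q := quotMk_grHom 𝒜 X.gr P hP
    have hqs : Function.Surjective q := quotMk_surjective 𝒜 X.gr P hP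
    have hqk : LinearMap.ker q = LinearMap.range (LinearMap.lsmul R X.carrier (f 0)) := by
      rw [quotMk_ker]
      exact smul_top_eq_range (f 0)
    have hreg0' : ∀ z : X.carrier, f 0 • z = 0 → z = 0 := by
      intro z hz
      apply hreg0
      simpa using hz
    let E₁ := starInjRes 𝒜 X₁.gr
    have hvan₁ : ∀ i < n', ∀ E' : GrLC.StarInjRes 𝒜 X₁.gr, ∀ w : E'.H a i, w = 0 := by
      intro i hi E'
      exact H_eq_zero_of_regular a (hdeg 0) hreg0' q hqs hqg hqk E E' i
        (hvan i (by omega) E) (hvan (i + 1) (by omega) E)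
    have hend₁ : GrLC.endDeg (E₁.Hgr a n') = GrLC.endDeg (E.Hgr a (n' + 1)) +
        ((deg 0 : WithTop ℤ) : WithBot (WithTop ℤ)) :=
      endDeg_of_regular a (hnn 0) (hdeg 0) (hfa 0) hreg0' q hqs hqg hqk E E₁ n'
        (hvan n' (by omega) E)
    -- the induced map
    have hPle : P ≤ LinearMap.ker π := by
      rw [hπk]
      intro y hy
      obtain ⟨z, _, rfl⟩ := (Submodule.mem_smul_pointwise_iff_exists _ _ _).1 hy
      exact Submodule.smul_mem_smul (Ideal.subset_span ⟨0, rfl⟩) Submodule.mem_top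
    let π₁ : X₁.carrier →ₗ[R] Y.carrier := P.liftQ π hPle
    have hπ₁q : ∀ z, π₁ (q z) = π z := fun z => rfl
    have hπ₁g : GrLC.IsGrHom X₁.gr Y.gr π₁ := by
      intro j y hy
      obtain ⟨z, hz, rfl⟩ := hy
      exact hπg j z hz
    have hπ₁s : Function.Surjective π₁ := by
      intro y
      obtain ⟨z, rfl⟩ := hπs y
      exact ⟨q z, rfl⟩
    have hπ₁k : LinearMap.ker π₁ =
        Ideal.span (Set.range (fun i : Fin t => f i.succ)) • (⊤ : Submodule R X₁.carrier) := by
      have h1 : LinearMap.ker π₁ = (LinearMap.ker π).map q := by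
        have hcomp : π = π₁ ∘ₗ q := rfl
        rw [hcomp, LinearMap.ker_comp, Submodule.map_comap_eq_of_surjective hqs]
      have hrange : Set.range f = insert (f 0) (Set.range (fun i : Fin t => f i.succ)) := by
        ext r
        constructor
        · rintro ⟨i, rfl⟩
          refine Fin.cases ?_ (fun j => ?_) i
          · exact Set.mem_insert _ _
          · exact Set.mem_insert_of_mem _ ⟨j, rfl⟩
        · rintro (rfl | ⟨j, rfl⟩)
          · exact ⟨0, rfl⟩
          · exact ⟨j.succ, rfl⟩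
      have h0 : Ideal.span {f 0} • (⊤ : Submodule R X₁.carrier) = ⊥ := by
        rw [Submodule.ideal_span_singleton_smul, eq_bot_iff]
        intro y hy
        obtain ⟨w, _, rfl⟩ := (Submodule.mem_smul_pointwise_iff_exists _ _ _).1 hy
        obtain ⟨z, rfl⟩ := hqs w
        rw [Submodule.mem_bot, ← map_smul]
        exact (quotMk_eq_zero_iff 𝒜 X.gr P hP).2
          (Submodule.smul_mem_pointwise_smul _ _ _ Submodule.mem_top)
      rw [h1, hπk, Submodule.map_smul'', Submodule.map_top, LinearMap.range_eq_top.2 hqs, hrange,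
        Ideal.span_insert, Submodule.sup_smul, h0, bot_sup_eq]
    obtain ⟨hv, hend⟩ := ih X₁ (fun i => f i.succ) (fun i => deg i.succ) (fun i => hdeg i.succ)
      (fun i => hnn i.succ) (fun i => hfa i.succ) hreg1 n' htn' hvan₁ Y π₁ hπ₁g hπ₁s hπ₁k E₁ F
    rw [Nat.succ_sub_succ]
    refine ⟨hv, ?_⟩
    rw [hend, hend₁]
    exact coe_sum_succ deg _

end Seq

end Groth.Agent.Helper23.AInv
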