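import Mathlib
import Groth.Prelude
import Groth.Agent.Lib.Helper23.AInv1

/-!
# The long exact sequence of `0 → M(-g) → M → M/xM → 0`: surjectivity of `x` on the top local
cohomology and the kernel of `x` (helper23)
-/

set_option autoImplicit false
set_option linter.unusedVariables false
set_option linter.unusedSectionVars false
set_option linter.style.haveILetI false

open DirectSum Groth.Agent.Helper20.GrInj

namespace Groth.Agent.Helper23.KDim

universe u

variable {R : Type u} [CommRing R]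
variable {𝒜 : ℤ → AddSubgroup R} [GradedRing 𝒜]
variable {M : Type u} [AddCommGroup M] [Module R M] {ℳ : ℤ → AddSubgroup M}
  [DirectSum.Decomposition ℳ] [SetLike.GradedSMul 𝒜 ℳ]
variable {N : Type u} [AddCommGroup N] [Module R N] {𝒩 : ℤ → AddSubgroup N}
  [DirectSum.Decomposition 𝒩] [SetLike.GradedSMul 𝒜 𝒩]

/-- the long exact sequence of `0 → M(-g) → M → M/xM → 0` -/
theorem les_regular (a : HomogeneousIdeal 𝒜) {g : ℤ} {x : R} (hx : x ∈ 𝒜 g)
    (hreg : ∀ m : M, x • m = 0 → m = 0)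
    (π : M →ₗ[R] N) (hπ : Function.Surjective π) (hπg : GrLC.IsGrHom ℳ 𝒩 π)
    (hker : LinearMap.ker π = LinearMap.range (LinearMap.lsmul R M x))
    (E : GrLC.StarInjRes 𝒜 ℳ) (F : GrLC.StarInjRes 𝒜 𝒩) :
    (∀ i : ℕ, (∀ v : F.H a i, v = 0) → ∀ w : E.H a i, ∃ w' : E.H a i, x • w' = w) ∧
    ∃ δ : ∀ i : ℕ, F.H a i →ₗ[R] E.H a (i + 1),
      (∀ i : ℕ, (∀ w : E.H a i, w = 0) → Function.Injective (δ i)) ∧
      (∀ i : ℕ, ∀ w : E.H a (i + 1), x • w = 0 ↔ ∃ v : F.H a i, δ i v = w) := by
  have hinj : Function.Injective (LinearMap.lsmul R M x) := by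
    intro m m' h
    have : x • (m - m') = 0 := by
      rw [smul_sub]
      exact sub_eq_zero.2 h
    exact sub_eq_zero.1 (hreg _ this)
  obtain ⟨_, hmid, δ, hδgr, hδ1, hδ2⟩ := exists_les (resShift E (-g)) E F (LinearMap.lsmul R M x) π
    (lsmul_isGrHom_shift hx) hinj hker.symm hπ
    (smulCh E (g := g) x) (smulCh_isGr E hx) (smulCh_lifts E x)
    (liftCh E F π hπg) (liftCh_isGr _ _ _ _) (liftCh_lifts _ _ _ _) a
  refine ⟨?_, (fun i => (δ i : F.H a i →ₗ[R] E.H a (i + 1))), ?_, ?_⟩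
  · intro i hF w
    have hw : w ∈ LinearMap.ker ((liftCh E F π hπg).Hmap a i) := by
      rw [LinearMap.mem_ker]
      exact hF _
    rw [← hmid i] at hw
    obtain ⟨w', hw'⟩ := hw
    exact ⟨w', (smulCh_Hmap E (g := g) x a i w').symm.trans hw'⟩
  · intro i hE v v' hvv
    have h1 : (v - v') ∈ LinearMap.ker (δ i) := by
      rw [LinearMap.mem_ker, map_sub]
      exact sub_eq_zero.2 hvv
    rw [← hδ1 i] at h1
    obtain ⟨w, hw⟩ := h1
    rw [hE w, map_zero] at hw
    exact sub_eq_zero.1 hw.symm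
  · intro i w
    constructor
    · intro hxw
      have h0 : (smulCh E (g := g) x).Hmap a (i + 1) w = 0 := by
        rw [smulCh_Hmap]
        exact hxw
      have hmem : ∀ z : (resShift E (-g)).H a (i + 1),
          (smulCh E (g := g) x).Hmap a (i + 1) z = 0 → ∃ v, δ i v = z := by
        intro z hz
        have h1 : z ∈ LinearMap.ker ((smulCh E (g := g) x).Hmap a (i + 1)) :=
          LinearMap.mem_ker.2 hz
        rw [← hδ2 i] at h1
        exact h1
      exact hmem w h0
    · rintro ⟨v, rfl⟩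
      have h1 : δ i v ∈ LinearMap.range (δ i) := ⟨v, rfl⟩
      rw [hδ2 i] at h1
      have h2 := LinearMap.mem_ker.1 h1
      rw [smulCh_Hmap] at h2
      exact h2

end Groth.Agent.Helper23.KDim
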