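import Mathlib
import Groth.Prelude
import Groth.Agent.Lib.Helper23.AInv2
import Groth.Agent.Lib.Helper23.AInv3
import Groth.Agent.Lib.Helper23.KDim3
import Groth.Agent.Lib.Helper20.GrIrr2
import Groth.Agent.Lib.Helper20.GrKos8
import Groth.Agent.Lib.Helper20.GrExt4
import Groth.Agent.Lib.Helper8.LCVanish

/-!
# A homogeneous regular pair acting on the top local cohomology of a Cohen–Macaulay graded ring
(helper23)

For a Cohen–Macaulay positively graded ring `R` over a field with `dim R = n ≥ 2` there are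
homogeneous `x, y` of positive degrees such that `x` acts surjectively on `H^n_m(R)` and `y` acts
surjectively on the kernel of `x` on `H^n_m(R)`.
-/

set_option autoImplicit false
set_option linter.unusedVariables false
set_option linter.unusedSectionVars false
set_option linter.style.haveILetI false

open DirectSum Groth.Agent.Helper20.GrInj Groth.Agent.Helper23.AInv Pointwise

namespace Groth.Agent.Helper23.KDim

open Groth.Agent.Helper8

universe u

variable {R : Type u} [CommRing R]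
variable {𝒜 : ℤ → AddSubgroup R} [GradedRing 𝒜]

/-- Grothendieck vanishing in the graded formalism, for a finitely generated graded module -/
theorem H_eq_zero_of_supportDim_le [IsNoetherianRing R] (Y : GrLC.GMod.{u} 𝒜)
    [Module.Finite R Y.carrier] (a : HomogeneousIdeal 𝒜) (k : ℕ)
    (hdim : Module.supportDim R Y.carrier ≤ (k : WithBot ℕ∞))
    (F : GrLC.StarInjRes 𝒜 Y.gr) (i : ℕ) (hi : k < i) : ∀ v : F.H a i, v = 0 := by
  obtain ⟨e⟩ := nonempty_H_equiv_LC F a i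
  haveI := LC.H_subsingleton_of_supportDim_le a.toIdeal k Y.carrier hdim i hi
  intro v
  apply e.injective
  exact Subsingleton.elim _ _

/-- the dimension drops modulo a regular element -/
theorem supportDim_quot_le [IsNoetherianRing R] (X : GrLC.GMod.{u} 𝒜)
    [Module.Finite R X.carrier] {g : ℤ} {x : R} (hx : x ∈ 𝒜 g)
    (hreg : ∀ z : X.carrier, x • z = 0 → z = 0) (k : ℕ)
    (hdim : Module.supportDim R X.carrier ≤ ((k + 1 : ℕ) : WithBot ℕ∞)) :
    Module.supportDim R (quotGMod X.gr 𝒜 (x • (⊤ : Submodule R X.carrier))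
      (smul_top_isHomogeneous X.gr hx)).carrier ≤ (k : WithBot ℕ∞) := by
  have hreg' : IsSMulRegular X.carrier x := by
    intro z z' hzz
    have h1 : x • (z - z') = 0 := by
      rw [smul_sub]
      exact sub_eq_zero.2 hzz
    exact sub_eq_zero.1 (hreg _ h1)
  have h1 : Module.supportDim R (QuotSMulTop x X.carrier) + 1 ≤ Module.supportDim R X.carrier :=
    Module.supportDim_quotSMulTop_succ_le_of_notMem_minimalPrimes
      (fun _ => hreg'.notMem_of_mem_minimalPrimes)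
  exact LC.supportDim_le_of_succ_le h1 hdim

/-- torsion-freeness from the vanishing of `H⁰` -/
theorem gam_eq_zero_of_H_zero {M : Type u} [AddCommGroup M] [Module R M] {ℳ : ℤ → AddSubgroup M}
    [DirectSum.Decomposition ℳ] [SetLike.GradedSMul 𝒜 ℳ] (E : GrLC.StarInjRes 𝒜 ℳ)
    (a : HomogeneousIdeal 𝒜) (h : ∀ w : E.H a 0, w = 0) :
    ∀ z ∈ GrLC.gam a.toIdeal M, z = 0 := by
  intro z hz
  have h1 : gamToH E a ⟨z, hz⟩ = 0 := h _
  have h2 := gamToH_injective E a (h1.trans (map_zero _).symm)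
  exact congrArg Subtype.val h2

/-- **the regular pair** -/
theorem exists_pair [LocCoh.IsCohenMacaulayRing R] (hpos : ∀ n : ℤ, n < 0 → 𝒜 n = ⊥)
    (m : HomogeneousIdeal 𝒜) (hm : GrLC.IsStarLocal 𝒜 m)
    (hmsp : m.toIdeal = Ideal.span (⋃ n ∈ Set.Ioi (0 : ℤ), (𝒜 n : Set R)))
    (n : ℕ) (hn : ringKrullDim R = n) (h2 : 2 ≤ n) (I : GrLC.StarInjRes 𝒜 𝒜) :
    ∃ (d e : ℕ) (x y : R), 0 < d ∧ 0 < e ∧ x ∈ 𝒜 (d : ℤ) ∧ y ∈ 𝒜 (e : ℤ) ∧
      (∀ w : I.H m n, ∃ w' : I.H m n, x • w' = w) ∧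
      (∀ w : I.H m n, x • w = 0 → ∃ w' : I.H m n, x • w' = 0 ∧ y • w' = w) := by
  haveI : IsNoetherianRing R := inferInstance
  obtain ⟨n', rfl⟩ : ∃ n', n = n' + 1 := ⟨n - 1, by omega⟩
  obtain ⟨n'', rfl⟩ : ∃ n'', n' = n'' + 1 := ⟨n' - 1, by omega⟩
  let X : GrLC.GMod.{u} 𝒜 := GrLC.GMod.of 𝒜 R 𝒜
  have hvan : ∀ i < n'' + 1 + 1, ∀ E : GrLC.StarInjRes 𝒜 X.gr, ∀ w : E.H m i, w = 0 :=
    fun i hi E => H_eq_zero_of_CM hpos m hm (n'' + 1 + 1) hn E i hi
  have hpos' : ∀ k : ℤ, k < 0 → ∀ z ∈ 𝒜 k, z = 0 := by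
    intro k hk z hz
    have : z ∈ (⊥ : AddSubgroup R) := (hpos k hk) ▸ hz
    exact AddSubgroup.mem_bot.1 this
  have ha : ∀ k : ℤ, 0 < k → ∀ z ∈ 𝒜 k, z ∈ m.toIdeal := by
    intro k hk z hz
    rw [hmsp]
    apply Ideal.subset_span
    simp only [Set.mem_iUnion]
    exact ⟨k, hk, hz⟩
  have hagen : ∀ q : Ideal R, (∀ k : ℤ, 0 < k → ∀ z ∈ 𝒜 k, z ∈ q) → m.toIdeal ≤ q := by
    intro q hq
    rw [hmsp, Ideal.span_le]
    intro z hz
    simp only [Set.mem_iUnion] at hz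
    obtain ⟨k, hk, hz⟩ := hz
    exact hq k hk z hz
  -- the first element
  have hΓ : ∀ z ∈ GrLC.gam m.toIdeal R, z = 0 :=
    gam_eq_zero_of_H_zero I m (hvan 0 (by omega) I)
  obtain ⟨g, x, hg, hx, hxm, hxreg⟩ := exists_homog_regular 𝒜 𝒜 hpos' m ha hagen hΓ
  have hxreg' : ∀ z : X.carrier, x • z = 0 → z = 0 := hxreg
  let P : Submodule R X.carrier := x • (⊤ : Submodule R X.carrier)
  have hP : P.IsHomogeneous X.gr := smul_top_isHomogeneous X.gr hx
  let X₁ : GrLC.GMod.{u} 𝒜 := quotGMod X.gr 𝒜 P hP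
  let q : X.carrier →ₗ[R] X₁.carrier := quotMk 𝒜 X.gr P hP
  have hqg : GrLC.IsGrHom X.gr X₁.gr q := quotMk_grHom 𝒜 X.gr P hP
  have hqs : Function.Surjective q := quotMk_surjective 𝒜 X.gr P hP
  have hqk : LinearMap.ker q = LinearMap.range (LinearMap.lsmul R X.carrier x) := by
    rw [quotMk_ker]
    exact smul_top_eq_range x
  let E₁ := starInjRes 𝒜 X₁.gr
  have hvan₁ : ∀ i < n'' + 1, ∀ E' : GrLC.StarInjRes 𝒜 X₁.gr, ∀ w : E'.H m i, w = 0 := by
    intro i hi E'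
    exact H_eq_zero_of_regular m hx hxreg' q hqs hqg hqk I E' i
      (hvan i (by omega) I) (hvan (i + 1) (by omega) I)
  haveI hfin0 : Module.Finite R X.carrier := Module.Finite.self R
  haveI hfin1 : Module.Finite R X₁.carrier := Module.Finite.of_surjective q hqs
  -- the second element
  have hΓ₁ : ∀ z ∈ GrLC.gam m.toIdeal X₁.carrier, z = 0 :=
    gam_eq_zero_of_H_zero E₁ m (hvan₁ 0 (by omega) E₁)
  obtain ⟨g', y, hg', hy, hym, hyreg⟩ := exists_homog_regular 𝒜 X₁.gr hpos' m ha hagen hΓ₁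
  let P' : Submodule R X₁.carrier := y • (⊤ : Submodule R X₁.carrier)
  have hP' : P'.IsHomogeneous X₁.gr := smul_top_isHomogeneous X₁.gr hy
  let X₂ : GrLC.GMod.{u} 𝒜 := quotGMod X₁.gr 𝒜 P' hP'
  let q' : X₁.carrier →ₗ[R] X₂.carrier := quotMk 𝒜 X₁.gr P' hP'
  have hq'g : GrLC.IsGrHom X₁.gr X₂.gr q' := quotMk_grHom 𝒜 X₁.gr P' hP'
  have hq's : Function.Surjective q' := quotMk_surjective 𝒜 X₁.gr P' hP'
  have hq'k : LinearMap.ker q' = LinearMap.range (LinearMap.lsmul R X₁.carrier y) := by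
    rw [quotMk_ker]
    exact smul_top_eq_range y
  let E₂ := starInjRes 𝒜 X₂.gr
  haveI hfin2 : Module.Finite R X₂.carrier := Module.Finite.of_surjective q' hq's
  -- dimensions
  have hdim0 : Module.supportDim R X.carrier ≤ ((n'' + 1 + 1 : ℕ) : WithBot ℕ∞) := by
    have h1 : Module.supportDim R X.carrier = ringKrullDim R :=
      Module.supportDim_self_eq_ringKrullDim R
    rw [h1, hn]
  have hdim1 : Module.supportDim R X₁.carrier ≤ ((n'' + 1 : ℕ) : WithBot ℕ∞) :=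
    supportDim_quot_le X hx hxreg' (n'' + 1) hdim0
  have hdim2 : Module.supportDim R X₂.carrier ≤ ((n'' : ℕ) : WithBot ℕ∞) :=
    supportDim_quot_le X₁ hy hyreg n'' hdim1
  have hF1 : ∀ v : E₁.H m (n'' + 1 + 1), v = 0 :=
    H_eq_zero_of_supportDim_le X₁ m (n'' + 1) hdim1 E₁ (n'' + 1 + 1) (by omega)
  have hF2 : ∀ v : E₂.H m (n'' + 1), v = 0 :=
    H_eq_zero_of_supportDim_le X₂ m n'' hdim2 E₂ (n'' + 1) (by omega)
  -- the long exact sequences
  obtain ⟨hsurj1, δ, hδinj, hδker⟩ := les_regular m hx hxreg' q hqs hqg hqk I E₁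
  obtain ⟨hsurj2, -⟩ := les_regular m hy hyreg q' hq's hq'g hq'k E₁ E₂
  have hg0 : ((g.toNat : ℕ) : ℤ) = g := Int.toNat_of_nonneg hg.le
  have hg'0 : ((g'.toNat : ℕ) : ℤ) = g' := Int.toNat_of_nonneg hg'.le
  refine ⟨g.toNat, g'.toNat, x, y, by omega, by omega, by rw [hg0]; exact hx,
    by rw [hg'0]; exact hy, hsurj1 (n'' + 1 + 1) hF1, ?_⟩
  intro w hw
  obtain ⟨v, rfl⟩ := (hδker (n'' + 1) w).1 hw
  obtain ⟨v', rfl⟩ := hsurj2 (n'' + 1) hF2 v
  refine ⟨δ (n'' + 1) v', (hδker (n'' + 1) _).2 ⟨v', rfl⟩, ?_⟩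
  exact (map_smul (δ (n'' + 1)) y v').symm

end Groth.Agent.Helper23.KDim
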