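import Mathlib
import Groth.Prelude
import Groth.Agent.Lib.Helper23.KDim4
import Groth.Agent.Lib.Helper20.GrHt4

/-!
# Coregular sequences on a module and the base case of the chain (helper23)
-/

set_option autoImplicit false
set_option linter.unusedSectionVars false
set_option linter.unusedVariables false
set_option linter.style.haveILetI false

open DirectSum Groth.Agent.Helper20.GrInj Groth.Agent.Helper23.AInv Pointwise

namespace Groth.Agent.Helper23.BassB

universe u

section CoReg

variable {R : Type u} [CommRing R]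

/-- the elements of `W` killed by all members of the list `l` -/
def ann (W : Type u) [AddCommGroup W] [Module R W] (l : List R) : Submodule R W where
  carrier := {w | ∀ x ∈ l, x • w = 0}
  add_mem' := by
    intro a b ha hb x hx
    rw [smul_add, ha x hx, hb x hx, add_zero]
  zero_mem' := fun x _ => smul_zero x
  smul_mem' := by
    intro c w hw x hx
    rw [smul_comm, hw x hx, smul_zero]

theorem mem_ann {W : Type u} [AddCommGroup W] [Module R W] {l : List R} {w : W} :
    w ∈ ann W l ↔ ∀ x ∈ l, x • w = 0 := Iff.rfl

/-- `xs` is a coregular sequence on `W`: each member acts surjectively on the elements killed by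
the previous ones -/
def CoReg (W : Type u) [AddCommGroup W] [Module R W] (xs : List R) : Prop :=
  ∀ (t : ℕ) (ht : t < xs.length), ∀ w ∈ ann W (xs.take t), ∃ w' ∈ ann W (xs.take t),
    xs[t] • w' = w

theorem coReg_nil (W : Type u) [AddCommGroup W] [Module R W] : CoReg W ([] : List R) := by
  intro t ht
  simp at ht

variable {W₁ W : Type u} [AddCommGroup W₁] [Module R W₁] [AddCommGroup W] [Module R W]

/-- the cons step: transfer along an injective map onto the kernel of `x` -/
theorem coReg_cons (x : R) (xs : List R) (δ : W₁ →ₗ[R] W) (hδ : Function.Injective δ)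
    (hker : ∀ w : W, x • w = 0 ↔ ∃ v : W₁, δ v = w)
    (hsurj : ∀ w : W, ∃ w' : W, x • w' = w) (h : CoReg W₁ xs) : CoReg W (x :: xs) := by
  intro t ht w hw
  rcases t with _ | t
  · obtain ⟨w', hw'⟩ := hsurj w
    refine ⟨w', ?_, hw'⟩
    intro y hy
    simp at hy
  · rw [List.take_succ_cons] at hw ⊢
    have hxw : x • w = 0 := hw x List.mem_cons_self
    obtain ⟨v, rfl⟩ := (hker w).1 hxw
    have hv : v ∈ ann W₁ (xs.take t) := by
      intro y hy
      apply hδ
      rw [map_smul, map_zero]
      exact hw y (List.mem_cons_of_mem _ hy)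
    have ht' : t < xs.length := by
      rw [List.length_cons] at ht
      omega
    obtain ⟨v', hv', hvv⟩ := h t ht' v hv
    refine ⟨δ v', ?_, ?_⟩
    · intro y hy
      rcases List.mem_cons.1 hy with rfl | hy
      · exact (hker _).2 ⟨v', rfl⟩
      · rw [← map_smul, hv' y hy, map_zero]
    · rw [List.getElem_cons_succ, ← map_smul, hvv]

/-- the kernel side of the cons step -/
noncomputable def annConsEquiv (x : R) (xs : List R) (δ : W₁ →ₗ[R] W) (hδ : Function.Injective δ)
    (hker : ∀ w : W, x • w = 0 ↔ ∃ v : W₁, δ v = w) :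
    ↥(ann W₁ xs) ≃ₗ[R] ↥(ann W (x :: xs)) :=
  LinearEquiv.ofBijective
    ((δ.comp (ann W₁ xs).subtype).codRestrict (ann W (x :: xs)) (by
      intro v y hy
      rcases List.mem_cons.1 hy with rfl | hy
      · exact (hker _).2 ⟨v.1, rfl⟩
      · rw [LinearMap.comp_apply, Submodule.subtype_apply, ← map_smul, v.2 y hy, map_zero]))
    (by
      constructor
      · intro v v' hvv
        apply Subtype.ext
        apply hδ
        exact congrArg Subtype.val hvv
      · intro w
        obtain ⟨v, hv⟩ := (hker w.1).1 (w.2 x List.mem_cons_self)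
        have hvm : v ∈ ann W₁ xs := by
          intro y hy
          apply hδ
          rw [map_smul, map_zero, hv]
          exact w.2 y (List.mem_cons_of_mem _ hy)
        exact ⟨⟨v, hvm⟩, Subtype.ext hv⟩)

end CoReg

section Base

variable {R : Type u} [CommRing R]
variable {𝒜 : ℤ → AddSubgroup R} [GradedRing 𝒜]

theorem annihilator_isHomogeneous (X : GrLC.GMod.{u} 𝒜) :
    (Module.annihilator R X.carrier).IsHomogeneous 𝒜 := by
  intro i r hr
  rw [Module.mem_annihilator] at hr ⊢
  intro x
  induction x using DirectSum.Decomposition.inductionOn X.gr with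
  | zero => rw [smul_zero]
  | @homogeneous j x =>
    rw [← decompose_smul_homog_right 𝒜 X.gr x.2 r i, hr, decompose_zero]
    rfl
  | add x y hx hy => rw [smul_add, hx, hy, add_zero]

/-- a finitely generated graded module of dimension `≤ 0` over a *local ring with maximal
*maximal ideal is torsion -/
theorem gam_eq_top_of_supportDim_le_zero [IsNoetherianRing R] (m : HomogeneousIdeal 𝒜)
    (hm : GrLC.IsStarLocal 𝒜 m) [hmax : m.toIdeal.IsMaximal] (X : GrLC.GMod.{u} 𝒜)
    [Module.Finite R X.carrier] (hdim : Module.supportDim R X.carrier ≤ 0) :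
    GrLC.gam m.toIdeal X.carrier = ⊤ := by
  set J := Module.annihilator R X.carrier with hJdef
  have hJhom : J.IsHomogeneous 𝒜 := annihilator_isHomogeneous X
  by_cases hJ : J = ⊤
  · rw [eq_top_iff]
    intro x _
    have h1 : (1 : R) ∈ J := by rw [hJ]; exact Submodule.mem_top
    have h2 : x = 0 := by
      have := Module.mem_annihilator.1 h1 x
      rwa [one_smul] at this
    rw [h2]
    exact Submodule.zero_mem _
  have hsupp : ∀ (p : Ideal R) (hp : p.IsPrime), J ≤ p →
      (⟨p, hp⟩ : PrimeSpectrum R) ∈ Module.support R X.carrier := by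
    intro p hp hJp
    rw [Module.support_eq_zeroLocus, PrimeSpectrum.mem_zeroLocus]
    exact hJp
  have hprime : ∀ p : Ideal R, p.IsPrime → J ≤ p → p = m.toIdeal := by
    intro p hp hJp
    obtain ⟨p', hp', hp'le⟩ := Ideal.exists_minimalPrimes_le hJp
    haveI := hp'.1.1
    have hp'hom := isHomogeneous_of_mem_minimalPrimes hJhom hp'
    have hp'm : p' ≤ m.toIdeal := by
      have := le_of_isStarLocal m hm ⟨p', hp'hom⟩ (fun h => hp'.1.1.ne_top (by
        have := congrArg HomogeneousIdeal.toIdeal h
        rwa [HomogeneousIdeal.toIdeal_top] at this))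
      exact this
    have hp'eq : p' = m.toIdeal := by
      by_contra hne
      have hlt : p' < m.toIdeal := lt_of_le_of_ne hp'm hne
      have h1 : (1 : WithBot ℕ∞) ≤ Module.supportDim R X.carrier := by
        unfold Module.supportDim
        rw [Order.one_le_krullDim_iff]
        refine ⟨⟨⟨p', hp'.1.1⟩, hsupp p' hp'.1.1 hp'.1.2⟩,
          ⟨⟨m.toIdeal, hmax.isPrime⟩, hsupp _ hmax.isPrime (hp'.1.2.trans hp'm)⟩, ?_⟩
        exact hlt
      have := h1.trans hdim
      exact absurd this (by decide)
    rw [hp'eq] at hp'le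
    exact (hmax.eq_of_le hp.ne_top hp'le).symm
  have hrad : J.radical = m.toIdeal := by
    rw [Ideal.radical_eq_sInf]
    apply le_antisymm
    · obtain ⟨q, hq, hJq⟩ := Ideal.exists_le_maximal J hJ
      have : q = m.toIdeal := hprime q hq.isPrime hJq
      rw [← this]
      exact sInf_le ⟨hJq, hq.isPrime⟩
    · apply le_sInf
      rintro p ⟨hJp, hp⟩
      rw [hprime p hp hJp]
  have hfg : m.toIdeal.FG := IsNoetherian.noetherian _
  obtain ⟨k, hk⟩ := Ideal.exists_pow_le_of_le_radical_of_fg (le_of_eq hrad.symm) hfg
  rw [eq_top_iff]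
  intro x _
  exact ⟨k, fun r hr => Module.mem_annihilator.1 (hk hr) x⟩

end Base

end Groth.Agent.Helper23.BassB
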