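import Mathlib
import Groth.Prelude
import Groth.Agent.Lib.Helper20.GrSG11

/-!
# Standard graded rings: generation by degree one, interpolation of the Hilbert polynomial
-/

set_option autoImplicit false
set_option linter.unusedVariables false
set_option linter.unusedSectionVars false
set_option linter.style.haveILetI false

open DirectSum Groth.Agent.Helper20.GrInj Polynomial

namespace Groth.Agent.Helper23.APoly

universe u

section Interp

/-- the polynomial `(X+1)(X+2)⋯(X+r-1)/(r-1)!` -/
noncomputable def binomPoly (s : ℕ) : ℚ[X] :=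
  C (1 / (s.factorial : ℚ)) * ∏ j ∈ Finset.range s, (X + C ((j : ℚ) + 1))

theorem eval_binomPoly (s : ℕ) (x : ℚ) :
    (binomPoly s).eval x = (1 / (s.factorial : ℚ)) * ∏ j ∈ Finset.range s, (x + ((j : ℚ) + 1)) := by
  unfold binomPoly
  rw [eval_mul, eval_C, eval_prod]
  congr 1
  apply Finset.prod_congr rfl
  intro j _
  rw [eval_add, eval_X, eval_C]

theorem eval_binomPoly_zero (s : ℕ) : (binomPoly s).eval 0 = 1 := by
  rw [eval_binomPoly]
  have : ∏ j ∈ Finset.range s, ((0 : ℚ) + ((j : ℚ) + 1)) = (s.factorial : ℚ) := by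
    rw [← Finset.prod_range_add_one_eq_factorial]
    push_cast
    apply Finset.prod_congr rfl
    intro j _
    ring
  rw [this]
  have : (s.factorial : ℚ) ≠ 0 := by exact_mod_cast s.factorial_ne_zero
  field_simp

theorem eval_binomPoly_one (s : ℕ) : (binomPoly s).eval 1 = (s : ℚ) + 1 := by
  rw [eval_binomPoly]
  have h1 : ∏ j ∈ Finset.range s, ((1 : ℚ) + ((j : ℚ) + 1)) = ((s + 1).factorial : ℚ) := by
    rw [← Finset.prod_range_add_one_eq_factorial, Finset.prod_range_succ']
    push_cast
    rw [mul_one]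
    apply Finset.prod_congr rfl
    intro j _
    ring
  rw [h1, Nat.factorial_succ]
  have : (s.factorial : ℚ) ≠ 0 := by exact_mod_cast s.factorial_ne_zero
  push_cast
  field_simp

theorem eval_binomPoly_neg (s : ℕ) (i : ℕ) (hi : i < s) :
    (binomPoly s).eval (-((i : ℚ) + 1)) = 0 := by
  rw [eval_binomPoly]
  have : ∏ j ∈ Finset.range s, (-((i : ℚ) + 1) + ((j : ℚ) + 1)) = 0 := by
    apply Finset.prod_eq_zero (Finset.mem_range.2 hi)
    ring
  rw [this, mul_zero]

theorem degree_binomPoly_le (s : ℕ) : (binomPoly s).degree ≤ s := by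
  unfold binomPoly
  refine le_trans (degree_mul_le _ _) ?_
  refine le_trans (add_le_add degree_C_le (degree_prod_le _ _)) ?_
  rw [zero_add]
  refine le_trans (Finset.sum_le_sum (fun j _ => (degree_X_add_C ((j : ℚ) + 1)).le)) ?_
  simp

/-- a polynomial of degree `≤ s` vanishing at `-1, …, -s` with value `1` at `0` takes the value
`s + 1` at `1` -/
theorem eval_one_of_interp (s : ℕ) (P : ℚ[X]) (hdeg : P.degree < (s + 1 : ℕ))
    (h0 : P.eval 0 = 1) (hneg : ∀ i : ℕ, i < s → P.eval (-((i : ℚ) + 1)) = 0) :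
    P.eval 1 = (s : ℚ) + 1 := by
  have hPQ : P - binomPoly s = 0 := by
    by_contra hne
    have hdeg' : (P - binomPoly s).degree < (s + 1 : ℕ) := by
      refine lt_of_le_of_lt (degree_sub_le _ _) (max_lt hdeg ?_)
      exact lt_of_le_of_lt (degree_binomPoly_le s) (by exact_mod_cast Nat.lt_succ_self s)
    apply hne
    refine Polynomial.eq_zero_of_natDegree_lt_card_of_eval_eq_zero (P - binomPoly s)
      (f := fun j : Fin (s + 1) => -((j : ℕ) : ℚ)) ?_ ?_ ?_
    · intro a b hab
      have hab' : -((a : ℕ) : ℚ) = -((b : ℕ) : ℚ) := hab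
      have : ((a : ℕ) : ℚ) = ((b : ℕ) : ℚ) := neg_injective hab'
      exact Fin.ext (by exact_mod_cast this)
    · intro j
      rw [eval_sub]
      rcases Nat.eq_zero_or_pos (j : ℕ) with hj | hj
      · rw [hj]
        simp only [Nat.cast_zero, neg_zero]
        rw [h0, eval_binomPoly_zero, sub_self]
      · obtain ⟨i, hi⟩ : ∃ i : ℕ, (j : ℕ) = i + 1 := ⟨(j : ℕ) - 1, by omega⟩
        have his : i < s := by have := j.2; omega
        have e : -((j : ℕ) : ℚ) = -((i : ℚ) + 1) := by rw [hi]; push_cast; ring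
        rw [e, hneg i his, eval_binomPoly_neg s i his, sub_self]
    · rw [Fintype.card_fin, Polynomial.natDegree_lt_iff_degree_lt hne]
      exact hdeg'
  rw [sub_eq_zero.1 hPQ, eval_binomPoly_one]

end Interp

end Groth.Agent.Helper23.APoly
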