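import Mathlib
import Groth.Prelude
import Groth.Agent.Lib.Helper20.GrSG11

/-!
# Standard graded rings: generation by degree one, presentation by a polynomial ring
-/

set_option autoImplicit false
set_option linter.unusedVariables false
set_option linter.unusedSectionVars false
set_option linter.style.haveILetI false

open DirectSum

namespace Groth.Agent.Helper23.APoly

universe u

section Std

variable {R : Type u} [CommRing R] (𝒜 : ℤ → AddSubgroup R) [GradedRing 𝒜]

/-- every piece `𝒜 n`, `n : ℕ`, lies in the subalgebra generated by `𝒜 1` -/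
theorem piece_le_adjoin
    (hstd : Ideal.span (⋃ n ∈ Set.Ioi (0 : ℤ), (𝒜 n : Set R)) =
      Ideal.span ((𝒜 1 : AddSubgroup R) : Set R)) (n : ℕ) :
    ∀ z ∈ 𝒜 (n : ℤ), z ∈ Algebra.adjoin (GrLC.deg0 𝒜) ((𝒜 1 : AddSubgroup R) : Set R) := by
  induction n with
  | zero =>
    intro z hz
    exact Subalgebra.algebraMap_mem _ (⟨z, hz⟩ : GrLC.deg0 𝒜)
  | succ n ih =>
    intro z hz
    have hz' : z ∈ 𝒜 ((n : ℤ) + 1) := by
      have : ((n + 1 : ℕ) : ℤ) = (n : ℤ) + 1 := by push_cast; rfl
      rwa [this] at hz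
    have hz1 : z ∈ Ideal.span ((𝒜 1 : AddSubgroup R) : Set R) := by
      rw [← hstd]
      apply Ideal.subset_span
      simp only [Set.mem_iUnion]
      exact ⟨(n : ℤ) + 1, by simp only [Set.mem_Ioi]; omega, hz'⟩
    have key : ∀ w ∈ Ideal.span ((𝒜 1 : AddSubgroup R) : Set R), ∀ a : R,
        ((decompose 𝒜 (a * w) ((n : ℤ) + 1) : 𝒜 ((n : ℤ) + 1)) : R) ∈
          Algebra.adjoin (GrLC.deg0 𝒜) ((𝒜 1 : AddSubgroup R) : Set R) := by
      intro w hw
      induction hw using Submodule.span_induction with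
      | mem y hy =>
        intro a
        rw [DirectSum.coe_decompose_mul_add_of_right_mem 𝒜 hy]
        exact mul_mem (ih _ (decompose 𝒜 a n).2) (Algebra.subset_adjoin hy)
      | zero =>
        intro a
        rw [mul_zero, decompose_zero, DirectSum.zero_apply, ZeroMemClass.coe_zero]
        exact zero_mem _
      | add x y _ _ hx hy =>
        intro a
        rw [mul_add, decompose_add, DirectSum.add_apply, AddMemClass.coe_add]
        exact add_mem (hx a) (hy a)
      | smul c x _ hx =>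
        intro a
        rw [smul_eq_mul, ← mul_assoc]
        exact hx (a * c)
    have := key z hz1 1
    rw [one_mul, decompose_of_mem_same 𝒜 hz'] at this
    exact this

/-- a standard graded ring is generated over `R₀` by `R₁` -/
theorem adjoin_eq_top (hpos : ∀ n : ℤ, n < 0 → 𝒜 n = ⊥)
    (hstd : Ideal.span (⋃ n ∈ Set.Ioi (0 : ℤ), (𝒜 n : Set R)) =
      Ideal.span ((𝒜 1 : AddSubgroup R) : Set R)) :
    Algebra.adjoin (GrLC.deg0 𝒜) ((𝒜 1 : AddSubgroup R) : Set R) = ⊤ := by
  classical
  rw [eq_top_iff]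
  intro z _
  rw [← DirectSum.sum_support_decompose 𝒜 z]
  apply Subalgebra.sum_mem
  intro i _
  rcases lt_or_ge i 0 with hi | hi
  · have h1 : ((decompose 𝒜 z i : 𝒜 i) : R) ∈ 𝒜 i := (decompose 𝒜 z i).2
    have h2 : ((decompose 𝒜 z i : 𝒜 i) : R) ∈ (⊥ : AddSubgroup R) := (hpos i hi) ▸ h1
    rw [AddSubgroup.mem_bot.1 h2]
    exact zero_mem _
  · obtain ⟨n, rfl⟩ := Int.eq_ofNat_of_zero_le hi
    exact piece_le_adjoin 𝒜 hstd n _ (decompose 𝒜 z n).2

/-- a spanning family of `R₁` gives a surjection from the polynomial ring -/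
theorem aeval_surjective (hpos : ∀ n : ℤ, n < 0 → 𝒜 n = ⊥)
    (hstd : Ideal.span (⋃ n ∈ Set.Ioi (0 : ℤ), (𝒜 n : Set R)) =
      Ideal.span ((𝒜 1 : AddSubgroup R) : Set R)) {s : ℕ} (x : Fin s → R)
    (hspan : ∀ z ∈ 𝒜 1, z ∈ Submodule.span (GrLC.deg0 𝒜) (Set.range x)) :
    Function.Surjective (MvPolynomial.aeval (R := GrLC.deg0 𝒜) x) := by
  rw [← AlgHom.range_eq_top, ← Algebra.adjoin_range_eq_range_aeval, eq_top_iff,
    ← adjoin_eq_top 𝒜 hpos hstd]
  apply Algebra.adjoin_le
  intro z hz
  exact Algebra.span_le_adjoin _ _ (hspan z hz)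

end Std

section Dim

/-- a surjection from a polynomial ring in `r` variables over a field onto a ring of dimension
`r` is injective -/
theorem injective_of_surjective_of_dim {k : Type*} [Field k] {R : Type*} [CommRing R] (r : ℕ)
    (φ : MvPolynomial (Fin r) k →+* R) (hφ : Function.Surjective φ)
    (hr : ringKrullDim R = r) : Function.Injective φ := by
  rw [injective_iff_map_eq_zero]
  intro f hf
  by_contra hne
  have hnzd : f ∈ nonZeroDivisors (MvPolynomial (Fin r) k) := mem_nonZeroDivisors_of_ne_zero hne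
  have h1 := ringKrullDim_quotient_succ_le_of_nonZeroDivisor hnzd
  rw [MvPolynomial.ringKrullDim_of_isNoetherianRing, ringKrullDim_eq_zero_of_field, zero_add,
    Nat.card_fin] at h1
  let ψ : MvPolynomial (Fin r) k ⧸ Ideal.span {f} →+* R := Ideal.Quotient.lift _ φ (by
    intro a ha
    obtain ⟨c, rfl⟩ := Ideal.mem_span_singleton'.1 ha
    rw [map_mul, hf, mul_zero])
  have hψ : Function.Surjective ψ := Ideal.Quotient.lift_surjective_of_surjective _ _ hφ
  have h2 := ringKrullDim_le_of_surjective ψ hψ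
  rw [hr] at h2
  have h3 : ((r : ℕ) : WithBot ℕ∞) + 1 ≤ r := le_trans (add_le_add_left h2 1) h1
  have h4 : ((r + 1 : ℕ) : WithBot ℕ∞) ≤ (r : ℕ) := by
    rw [Nat.cast_add, Nat.cast_one]; exact h3
  have h5 : r + 1 ≤ r := by exact_mod_cast h4
  omega

/-- dimension bound from a surjection -/
theorem dim_le_of_surjective {k : Type*} [Field k] {R : Type*} [CommRing R] (s : ℕ)
    (φ : MvPolynomial (Fin s) k →+* R) (hφ : Function.Surjective φ) :
    ringKrullDim R ≤ s := by
  have h2 := ringKrullDim_le_of_surjective φ hφ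
  rw [MvPolynomial.ringKrullDim_of_isNoetherianRing, ringKrullDim_eq_zero_of_field, zero_add,
    Nat.card_fin] at h2
  exact h2

end Dim

end Groth.Agent.Helper23.APoly
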