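import Mathlib
import Groth.Prelude
import Groth.Agent.Lib.Helper20.GrSG11
import Groth.Agent.Lib.Helper23.APoly1
import Groth.Agent.Lib.Helper23.APoly2

/-!
# `a(R) = -dim R` implies that a standard graded CM ring over a field is a polynomial ring
-/

set_option autoImplicit false
set_option linter.unusedVariables false
set_option linter.unusedSectionVars false
set_option linter.style.haveILetI false

open DirectSum Groth.Agent.Helper20.GrInj Polynomial

namespace Groth.Agent.Helper23.APoly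

universe u

variable {R : Type u} [CommRing R] {𝒜 : ℤ → AddSubgroup R} [GradedRing 𝒜]

/-- core: a spanning family of `R₁` of size `dim R` presents `R` as a polynomial ring -/
theorem aeval_bijective_of_span (hpos : ∀ n : ℤ, n < 0 → 𝒜 n = ⊥) (h0 : IsField (GrLC.deg0 𝒜))
    (hstd : Ideal.span (⋃ n ∈ Set.Ioi (0 : ℤ), (𝒜 n : Set R)) =
      Ideal.span ((𝒜 1 : AddSubgroup R) : Set R)) (r : ℕ) (hr : ringKrullDim R = r)
    (x : Fin r → R) (hspan : ∀ z ∈ 𝒜 1, z ∈ Submodule.span (GrLC.deg0 𝒜) (Set.range x)) :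
    Function.Bijective (MvPolynomial.aeval (R := GrLC.deg0 𝒜) x) := by
  letI : Field (GrLC.deg0 𝒜) := h0.toField
  have hs := aeval_surjective 𝒜 hpos hstd x hspan
  refine ⟨?_, hs⟩
  exact injective_of_surjective_of_dim r
    ((MvPolynomial.aeval (R := GrLC.deg0 𝒜) x : MvPolynomial (Fin r) (GrLC.deg0 𝒜) →ₐ[_] R) :
      MvPolynomial (Fin r) (GrLC.deg0 𝒜) →+* R) hs hr

theorem plen_self_zero_eq_one (h0 : IsField (GrLC.deg0 𝒜)) : plen (𝒜 := 𝒜) 𝒜 0 = 1 := by
  unfold plen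
  letI : Field (GrLC.deg0 𝒜) := h0.toField
  let e : (GrLC.deg0 𝒜) ≃ₗ[GrLC.deg0 𝒜] GrLC.comp 𝒜 𝒜 0 :=
    { toFun := fun c => ⟨(c : R), c.2⟩
      map_add' := fun _ _ => rfl
      map_smul' := fun _ _ => rfl
      invFun := fun z => ⟨z.1, z.2⟩
      left_inv := fun _ => rfl
      right_inv := fun _ => rfl }
  rw [← e.length_eq]
  exact Module.length_eq_one _ _

/-- from `length R₁ = r` to a spanning family -/
theorem exists_span_of_plen (h0 : IsField (GrLC.deg0 𝒜)) (r : ℕ)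
    (h1 : plen (𝒜 := 𝒜) 𝒜 1 = r) :
    ∃ x : Fin r → R, (∀ i, x i ∈ 𝒜 1) ∧
      ∀ z ∈ 𝒜 1, z ∈ Submodule.span (GrLC.deg0 𝒜) (Set.range x) := by
  letI : Field (GrLC.deg0 𝒜) := h0.toField
  unfold plen at h1
  rw [Module.length_eq_rank, Cardinal.toENat_eq_natCast] at h1
  haveI : Module.Finite (GrLC.deg0 𝒜) (GrLC.comp 𝒜 𝒜 1) := Module.finite_of_rank_eq_nat h1
  have hfin : Module.finrank (GrLC.deg0 𝒜) (GrLC.comp 𝒜 𝒜 1) = r :=
    Module.finrank_eq_of_rank_eq h1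
  let b := Module.finBasisOfFinrankEq (GrLC.deg0 𝒜) (GrLC.comp 𝒜 𝒜 1) hfin
  refine ⟨fun i => ((b i : GrLC.comp 𝒜 𝒜 1) : R), fun i => (b i).2, ?_⟩
  intro z hz
  have hv : (⟨z, hz⟩ : GrLC.comp 𝒜 𝒜 1) ∈ Submodule.span (GrLC.deg0 𝒜) (Set.range b) := by
    rw [b.span_eq]; trivial
  have := Submodule.apply_mem_span_image_of_mem_span (GrLC.comp 𝒜 𝒜 1).subtype hv
  rw [← Set.range_comp] at this
  exact this

/-- **forward direction** -/
theorem forward [LocCoh.IsCohenMacaulayRing R]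
    (hpos : ∀ n : ℤ, n < 0 → 𝒜 n = ⊥) (h0 : IsField (GrLC.deg0 𝒜))
    (m : HomogeneousIdeal 𝒜) (hm : GrLC.IsStarLocal 𝒜 m)
    (hstd : Ideal.span (⋃ n ∈ Set.Ioi (0 : ℤ), (𝒜 n : Set R)) =
      Ideal.span ((𝒜 1 : AddSubgroup R) : Set R)) (r : ℕ) (hr : ringKrullDim R = r)
    (I : GrLC.StarInjRes 𝒜 𝒜)
    (hend : GrLC.endDeg (I.Hgr m r) =
      (((-(r : ℤ) : ℤ) : WithTop ℤ) : WithBot (WithTop ℤ))) :
    Nonempty (R ≃+* MvPolynomial (Fin r) (GrLC.deg0 𝒜)) := by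
  haveI : IsArtinianRing (GrLC.deg0 𝒜) := by
    letI : Field (GrLC.deg0 𝒜) := h0.toField
    infer_instance
  haveI hmmax : m.toIdeal.IsMaximal := isMaximal_of_isStarLocal hpos m hm
  obtain ⟨P, hPdeg, hP⟩ := exists_hilbertPoly hpos hstd m hm r hr 𝒜
  have hbot : ∀ n : ℤ, -(r : ℤ) < n → I.Hgr m r n = ⊥ := by
    intro n hn
    by_contra hne
    have h1 : (((n : ℤ) : WithTop ℤ) : WithBot (WithTop ℤ)) ≤ GrLC.endDeg (I.Hgr m r) :=
      le_iSup₂ (f := fun (n : ℤ) (_ : I.Hgr m r n ≠ ⊥) =>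
        ((n : WithTop ℤ) : WithBot (WithTop ℤ))) n hne
    rw [hend] at h1
    have h2 : n ≤ -(r : ℤ) := WithTop.coe_le_coe.1 (WithBot.coe_le_coe.1 h1)
    omega
  have heq : ∀ n : ℤ, -(r : ℤ) < n → P.eval (n : ℚ) = ((plen (𝒜 := 𝒜) 𝒜 n).toNat : ℚ) := by
    intro n hn
    by_contra hne
    exact (eval_ne_iff_Hgr_ne_bot hpos hstd m hm r hr I P hP n).1 hne (hbot n hn)
  have hP1 : P.eval 1 = (r : ℚ) := by
    rcases r with _ | s
    · have hP0 : P = 0 := by
        rw [← Polynomial.degree_eq_bot]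
        exact Nat.WithBot.lt_zero_iff.1 (by exact_mod_cast hPdeg)
      rw [hP0]; simp
    · have h00 : P.eval 0 = 1 := by
        have := heq 0 (by omega)
        rw [Int.cast_zero, plen_self_zero_eq_one h0] at this
        rw [this]; simp
      have hneg : ∀ i : ℕ, i < s → P.eval (-((i : ℚ) + 1)) = 0 := by
        intro i hi
        have := heq (-((i : ℤ) + 1)) (by push_cast; omega)
        rw [plen_self_neg hpos (by omega)] at this
        push_cast at this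
        rw [this]; simp
      have := eval_one_of_interp s P hPdeg h00 hneg
      rw [this]; push_cast; ring
  have hplen : plen (𝒜 := 𝒜) 𝒜 1 = r := by
    have h1 := heq 1 (by omega)
    rw [Int.cast_one, hP1] at h1
    have h2 : (plen (𝒜 := 𝒜) 𝒜 1).toNat = r := by exact_mod_cast h1.symm
    rw [← h2]
    exact (ENat.coe_toNat (plen_ne_top (ℳ := 𝒜) 1)).symm
  obtain ⟨x, hx1, hspan⟩ := exists_span_of_plen h0 r hplen
  have hbij := aeval_bijective_of_span hpos h0 hstd r hr x hspan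
  exact ⟨(RingEquiv.ofBijective
    ((MvPolynomial.aeval (R := GrLC.deg0 𝒜) x : MvPolynomial (Fin r) (GrLC.deg0 𝒜) →ₐ[_] R) :
      MvPolynomial (Fin r) (GrLC.deg0 𝒜) →+* R) hbij).symm⟩

end Groth.Agent.Helper23.APoly
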