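import Mathlib
import Groth.Prelude.Def_GrSyz
import Groth.Agent.Lib.Helper23.GrSyzLib

set_option autoImplicit false
set_option linter.unusedSectionVars false
universe u v

open CategoryTheory CategoryTheory.Limits

namespace Groth.Agent.Helper23.GrSyzProj

variable {R : Type u} [CommRing R] {σ' : Type u} [SetLike σ' R] [AddSubgroupClass σ' R]
  {𝒜 : ℤ → σ'} {M : Type u} [AddCommGroup M] [Module R M] {τ : Type u} [SetLike τ M]
  [AddSubgroupClass τ M] {ℳ : ℤ → τ} [DirectSum.Decomposition ℳ] [SetLike.GradedSMul 𝒜 ℳ]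
  (F : GrSyz.FreeRes 𝒜 ℳ)

/-- the i-th term -/
noncomputable def X (i : ℕ) : ModuleCat.{u} R := ModuleCat.of R (Fin (F.rk i) → R)

/-- the differential -/
noncomputable def d (i : ℕ) : X F (i + 1) ⟶ X F i := ModuleCat.ofHom (F.dLin i)

theorem dLin_comp (i : ℕ) (v : Fin (F.rk (i + 2)) → R) : F.dLin i (F.dLin (i + 1) v) = 0 := by
  have : F.dLin (i + 1) v ∈ LinearMap.ker (F.dLin i) := by
    rw [F.exact_succ i]; exact ⟨v, rfl⟩
  exact this

theorem d_comp_d (i : ℕ) : d F (i + 1) ≫ d F i = 0 := by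
  ext v
  exact dLin_comp F i v

/-- the complex -/
noncomputable def cx : ChainComplex (ModuleCat.{u} R) ℕ :=
  ChainComplex.of (X F) (d F) (d_comp_d F)

theorem cx_d (i : ℕ) : (cx F).d (i + 1) i = d F i := ChainComplex.of_d _ _ _

theorem aug_dLin (v : Fin (F.rk 1) → R) : F.augLin (F.dLin 0 v) = 0 := by
  have : F.dLin 0 v ∈ LinearMap.ker F.augLin := by
    rw [F.exact_zero]; exact ⟨v, rfl⟩
  exact this

/-- the augmentation -/
noncomputable def aug : (cx F).X 0 ⟶ ModuleCat.of R M := ModuleCat.ofHom F.augLin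

theorem d_aug : (cx F).d 1 0 ≫ aug F = 0 := by
  rw [cx_d]
  ext v
  exact aug_dLin F v

noncomputable def π : cx F ⟶ (ChainComplex.single₀ (ModuleCat.{u} R)).obj (ModuleCat.of R M) :=
  ((cx F).toSingle₀Equiv _).symm ⟨aug F, d_aug F⟩


theorem π_f_zero : (π F).f 0 = aug F := by
  simp [π, ChainComplex.toSingle₀Equiv]

theorem quasiIso_π : QuasiIso (π F) where
  quasiIsoAt m := by
    induction m with
    | zero =>
      rw [ChainComplex.quasiIsoAt₀_iff, ShortComplex.quasiIso_iff_of_zeros' _ rfl rfl rfl]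
      constructor
      · rw [ShortComplex.moduleCat_exact_iff_range_eq_ker]
        show LinearMap.range ((cx F).d 1 0).hom = LinearMap.ker ((π F).f 0).hom
        rw [cx_d, π_f_zero]
        exact F.exact_zero.symm
      · show Epi ((π F).f 0)
        rw [π_f_zero, ModuleCat.epi_iff_surjective]
        exact F.aug_surjective
    | succ m _ =>
      rw [quasiIsoAt_iff_exactAt' (hL := ChainComplex.exactAt_succ_single_obj ..),
          HomologicalComplex.exactAt_iff' _ (m + 2) (m + 1) m (by simp) (by simp)]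
      rw [ShortComplex.moduleCat_exact_iff_range_eq_ker]
      show LinearMap.range ((cx F).d (m + 2) (m + 1)).hom = LinearMap.ker ((cx F).d (m + 1) m).hom
      rw [cx_d, cx_d]
      exact (F.exact_succ m).symm

instance (i : ℕ) : Projective ((cx F).X i) := by
  show Projective (ModuleCat.of R (Fin (F.rk i) → R))
  exact ModuleCat.projective_of_free (Pi.basisFun R (Fin (F.rk i)))

/-- the projective resolution attached to a graded free resolution -/
noncomputable def res : ProjectiveResolution (ModuleCat.of R M) where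
  complex := cx F
  π := π F
  quasiIso := quasiIso_π F


open MonoidalCategory

theorem tmul_eq_zero_of_mem {N : Type u} [AddCommGroup N] [Module R N] (𝔪 : Ideal R)
    (hN : ∀ a ∈ 𝔪, ∀ x : N, a • x = 0) {n : ℕ} (x : N) (w : Fin n → R) (hw : ∀ a, w a ∈ 𝔪) :
    x ⊗ₜ[R] w = 0 := by
  have hw' : w = ∑ a, w a • (Pi.single a (1 : R) : Fin n → R) := by
    ext b
    simp [Finset.sum_apply, Pi.single_apply]
  rw [hw', TensorProduct.tmul_sum]
  refine Finset.sum_eq_zero fun a _ => ?_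
  rw [TensorProduct.tmul_smul, TensorProduct.smul_tmul', hN _ (hw a), TensorProduct.zero_tmul]

theorem dLin_apply_mem (𝔪 : Ideal R) (hF : F.IsMinimal 𝔪) (i : ℕ) (v : Fin (F.rk (i + 1)) → R)
    (a : Fin (F.rk i)) : F.dLin i v a ∈ 𝔪 := by
  show (Matrix.mulVec (F.d i) v) a ∈ 𝔪
  rw [Matrix.mulVec, dotProduct]
  exact Ideal.sum_mem _ fun b _ => Ideal.mul_mem_right _ _ (hF i a b)

theorem whiskerLeft_d_eq_zero (N : ModuleCat.{u} R) (𝔪 : Ideal R) (hF : F.IsMinimal 𝔪)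
    (hN : ∀ a ∈ 𝔪, ∀ x : N, a • x = 0) (i : ℕ) : N ◁ d F i = 0 := by
  apply ModuleCat.MonoidalCategory.tensor_ext
  intro x v
  show x ⊗ₜ[R] (F.dLin i v) = 0
  exact tmul_eq_zero_of_mem 𝔪 hN x _ (dLin_apply_mem F 𝔪 hF i v)


/-- the tensored complex `N ⊗ F•` -/
noncomputable abbrev tcx (N : ModuleCat.{u} R) : ChainComplex (ModuleCat.{u} R) ℕ :=
  (((tensoringLeft (ModuleCat.{u} R)).obj N).mapHomologicalComplex (ComplexShape.down ℕ)).obj (cx F)

theorem tcx_d_eq_zero (N : ModuleCat.{u} R) (𝔪 : Ideal R) (hF : F.IsMinimal 𝔪)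
    (hN : ∀ a ∈ 𝔪, ∀ x : N, a • x = 0) (i j : ℕ) : (tcx F N).d i j = 0 := by
  by_cases h : j + 1 = i
  · subst h
    show N ◁ (cx F).d (j + 1) j = 0
    rw [cx_d]
    exact whiskerLeft_d_eq_zero F N 𝔪 hF hN j
  · exact (tcx F N).shape i j h

/-- homology of the tensored complex is the term itself -/
noncomputable def homologyIso (N : ModuleCat.{u} R) (𝔪 : Ideal R) (hF : F.IsMinimal 𝔪)
    (hN : ∀ a ∈ 𝔪, ∀ x : N, a • x = 0) (i : ℕ) :
    (tcx F N).homology i ≅ N ⊗ X F i :=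
  ((tcx F N).isoHomologyπ _ i rfl (tcx_d_eq_zero F N 𝔪 hF hN _ _)).symm ≪≫
    (tcx F N).iCyclesIso i _ rfl (tcx_d_eq_zero F N 𝔪 hF hN _ _)

/-- `Tor_i(N, M) ≅ N ⊗ F_i` for a minimal resolution when `𝔪` kills `N` -/
noncomputable def torIso (N : ModuleCat.{u} R) (𝔪 : Ideal R) (hF : F.IsMinimal 𝔪)
    (hN : ∀ a ∈ 𝔪, ∀ x : N, a • x = 0) (i : ℕ) :
    ((Tor (ModuleCat.{u} R) i).obj N).obj (ModuleCat.of R M) ≅ N ⊗ X F i :=
  (res F).isoLeftDerivedObj ((tensoringLeft (ModuleCat.{u} R)).obj N) i ≪≫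
    homologyIso F N 𝔪 hF hN i

theorem length_tor (N : ModuleCat.{u} R) (𝔪 : Ideal R) (hF : F.IsMinimal 𝔪)
    (hN : ∀ a ∈ 𝔪, ∀ x : N, a • x = 0) (i : ℕ) :
    Module.length R (((Tor (ModuleCat.{u} R) i).obj N).obj (ModuleCat.of R M)) =
      (F.rk i : ℕ∞) * Module.length R N := by
  rw [(torIso F N 𝔪 hF hN i).toLinearEquiv.length_eq]
  show Module.length R (TensorProduct R N (Fin (F.rk i) → R)) = _
  rw [(TensorProduct.piScalarRight R R N (Fin (F.rk i))).length_eq, Module.length_pi]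
  simp

theorem length_tor_quotient (𝔪 : Ideal R) [h𝔪 : 𝔪.IsMaximal] (hF : F.IsMinimal 𝔪) (i : ℕ) :
    Module.length R (((Tor (ModuleCat.{u} R) i).obj (ModuleCat.of R (R ⧸ 𝔪))).obj
      (ModuleCat.of R M)) = (F.rk i : ℕ∞) := by
  rw [length_tor F (ModuleCat.of R (R ⧸ 𝔪)) 𝔪 hF]
  · haveI : IsSimpleModule R (R ⧸ 𝔪) := isSimpleModule_iff_isCoatom.mpr (Ideal.isMaximal_def.mp h𝔪)
    rw [Module.length_eq_one, mul_one]
  · intro a ha x
    obtain ⟨y, rfl⟩ := Ideal.Quotient.mk_surjective x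
    show a • (Ideal.Quotient.mk 𝔪 y) = 0
    rw [← Ideal.Quotient.mk_eq_mk, ← Submodule.Quotient.mk_smul, Submodule.Quotient.mk_eq_zero]
    exact 𝔪.mul_mem_right _ ha


theorem hasProjectiveDimensionLE_of_hasLengthLE (n : ℕ) (h : F.HasLengthLE n) :
    HasProjectiveDimensionLE (ModuleCat.of R M) n := by
  apply HasProjectiveDimensionLT.mk (C := ModuleCat.{u} R)
  intro i hi Y e
  obtain ⟨f, hf, rfl⟩ := (res F).extMk_surjective e (i + 1) rfl
  have hz : IsZero ((res F).complex.X i) := by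
    have hrk : F.rk i = 0 := h i (by omega)
    show IsZero (ModuleCat.of R (Fin (F.rk i) → R))
    rw [hrk]
    exact ModuleCat.isZero_of_subsingleton _
  have : f = 0 := hz.eq_of_src _ _
  subst this
  exact (res F).extMk_zero _ _


/-- the `b`-th coordinate functional with values in `R ⧸ 𝔪` -/
noncomputable def coordMk (𝔪 : Ideal R) (i : ℕ) (b : Fin (F.rk i)) :
    (Fin (F.rk i) → R) →ₗ[R] (R ⧸ 𝔪) :=
  (Submodule.mkQ 𝔪) ∘ₗ (LinearMap.proj b)

theorem map_eq_zero_of_mem (𝔪 : Ideal R) {m : ℕ} (g : (Fin m → R) →ₗ[R] (R ⧸ 𝔪)) (w : Fin m → R)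
    (hw : ∀ a, w a ∈ 𝔪) : g w = 0 := by
  have hw' : w = ∑ a, w a • (Pi.single a (1 : R) : Fin m → R) := by
    ext c
    simp [Finset.sum_apply, Pi.single_apply]
  rw [hw', map_sum]
  refine Finset.sum_eq_zero fun a _ => ?_
  rw [map_smul]
  obtain ⟨y, hy⟩ := Ideal.Quotient.mk_surjective (g (Pi.single a (1 : R)))
  rw [← hy]
  show w a • (Submodule.Quotient.mk y : R ⧸ 𝔪) = 0
  rw [← Submodule.Quotient.mk_smul, Submodule.Quotient.mk_eq_zero]
  exact 𝔪.mul_mem_right _ (hw a)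

theorem hasLengthLE_of_hasProjectiveDimensionLE (𝔪 : Ideal R) (h𝔪 : 𝔪 ≠ ⊤)
    (hF : F.IsMinimal 𝔪) (n : ℕ) (h : HasProjectiveDimensionLE (ModuleCat.of R M) n) :
    F.HasLengthLE n := by
  intro i hi
  by_contra hrk
  obtain ⟨p, rfl⟩ : ∃ p, i = p + 1 := ⟨i - 1, by omega⟩
  have hb : 0 < F.rk (p + 1) := Nat.pos_of_ne_zero hrk
  let b : Fin (F.rk (p + 1)) := ⟨0, hb⟩
  let f : (res F).complex.X (p + 1) ⟶ ModuleCat.of R (R ⧸ 𝔪) :=
    ModuleCat.ofHom (coordMk F 𝔪 (p + 1) b)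
  have hf : (res F).complex.d (p + 1 + 1) (p + 1) ≫ f = 0 := by
    show (cx F).d (p + 1 + 1) (p + 1) ≫ f = 0
    rw [cx_d]
    ext w
    show Submodule.mkQ 𝔪 (F.dLin (p + 1) w b) = 0
    rw [Submodule.mkQ_apply, Submodule.Quotient.mk_eq_zero]
    exact dLin_apply_mem F 𝔪 hF (p + 1) w b
  have hzero : (res F).extMk f (p + 1 + 1) rfl hf = 0 :=
    Abelian.Ext.eq_zero_of_hasProjectiveDimensionLT _ (n + 1) (by omega)
  rw [(res F).extMk_eq_zero_iff f (p + 1 + 1) rfl hf p rfl] at hzero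
  obtain ⟨g, hg⟩ := hzero
  have h1 : f.hom (Pi.single b 1) = 0 := by
    rw [← hg]
    show g.hom (((cx F).d (p + 1) p).hom (Pi.single b 1)) = 0
    rw [cx_d]
    show g.hom (F.dLin p (Pi.single b 1)) = 0
    exact map_eq_zero_of_mem 𝔪 (m := F.rk p) g.hom _ (dLin_apply_mem F 𝔪 hF p _)
  have h2 : f.hom (Pi.single b 1) = Submodule.mkQ 𝔪 (1 : R) := by
    show Submodule.mkQ 𝔪 ((Pi.single b (1 : R) : Fin (F.rk (p + 1)) → R) b) = _
    rw [Pi.single_eq_same]
  rw [h2, Submodule.mkQ_apply, Submodule.Quotient.mk_eq_zero] at h1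
  exact h𝔪 ((Ideal.eq_top_iff_one 𝔪).mpr h1)

theorem hasLengthLE_iff (𝔪 : Ideal R) (h𝔪 : 𝔪 ≠ ⊤) (hF : F.IsMinimal 𝔪) (n : ℕ) :
    F.HasLengthLE n ↔ HasProjectiveDimensionLE (ModuleCat.of R M) n :=
  ⟨hasProjectiveDimensionLE_of_hasLengthLE F n, hasLengthLE_of_hasProjectiveDimensionLE F 𝔪 h𝔪 hF n⟩


section Irrel

open GrSyz MvPolynomial Groth.Agent.Helper23.GrSyzLib

variable (k : Type u) [CommRing k] (σ : Type v)

theorem ker_constantCoeff_le_irrel :
    RingHom.ker (constantCoeff : MvPolynomial σ k →+* k) ≤ (irrel (stdGr k σ)).toIdeal := by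
  classical
  intro p hp
  rw [RingHom.mem_ker] at hp
  rw [p.as_sum]
  refine Ideal.sum_mem _ fun d _ => ?_
  by_cases hd0 : d = 0
  · subst hd0
    rw [← constantCoeff_eq, hp]
    simp
  · have hpos : 0 < Finsupp.weight (fun _ : σ => (1 : ℤ)) d :=
      lt_of_le_of_ne (weight_one_nonneg σ d) (fun h => hd0 ((weight_one_eq_zero_iff σ d).mp h.symm))
    refine mem_irrel_of_pos k σ hpos ?_
    rw [mem_stdGr_iff]
    exact isWeightedHomogeneous_monomial _ _ _ rfl

theorem irrel_eq_ker : (irrel (stdGr k σ)).toIdeal =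
    RingHom.ker (constantCoeff : MvPolynomial σ k →+* k) :=
  le_antisymm (irrel_le_ker_constantCoeff k σ) (ker_constantCoeff_le_irrel k σ)

theorem irrel_isMaximal (k : Type u) [Field k] (σ : Type v) :
    (irrel (stdGr k σ)).toIdeal.IsMaximal := by
  rw [irrel_eq_ker]
  exact RingHom.ker_isMaximal_of_surjective _ (fun c => ⟨C c, constantCoeff_C _ c⟩)

end Irrel

end Groth.Agent.Helper23.GrSyzProj
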