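import Groth.Agent.Lib.Helper23.GrSyzHilb
import Groth.Agent.Lib.Helper23.GrSyzProj

/-!
# Comparison of graded free resolutions (`GrSyz`)
-/

set_option autoImplicit false
set_option linter.unusedSectionVars false
set_option linter.unusedVariables false

universe u v

open GrSyz MvPolynomial DirectSum

namespace Groth.Agent.Helper23.GrSyzCmp

open Groth.Agent.Helper23.GrSyzHilb Groth.Agent.Helper23.GrSyzLib

section Mat

variable {k : Type u} [Field k] {σ : Type}

/-- a matrix is homogeneous of degree zero between graded free modules with basis degrees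
`δ'` (source) and `δ` (target) -/
def IsGrMat {m n : ℕ} (δ : Fin m → ℤ) (δ' : Fin n → ℤ) (A : Matrix (Fin m) (Fin n) (MvPolynomial σ k)) :
    Prop :=
  ∀ a b, A a b ∈ stdGr k σ (δ' b - δ a)

theorem IsGrMat.mul {l m n : ℕ} {δ₁ : Fin l → ℤ} {δ₂ : Fin m → ℤ} {δ₃ : Fin n → ℤ}
    {A : Matrix (Fin l) (Fin m) (MvPolynomial σ k)} {B : Matrix (Fin m) (Fin n) (MvPolynomial σ k)}
    (hA : IsGrMat δ₁ δ₂ A) (hB : IsGrMat δ₂ δ₃ B) : IsGrMat δ₁ δ₃ (A * B) := by
  intro a c
  rw [Matrix.mul_apply]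
  apply Submodule.sum_mem
  intro b _
  have := SetLike.mul_mem_graded (hA a b) (hB b c)
  have hidx : δ₂ b - δ₁ a + (δ₃ c - δ₂ b) = δ₃ c - δ₁ a := by ring
  rw [hidx] at this
  exact this

theorem IsGrMat.sub {m n : ℕ} {δ : Fin m → ℤ} {δ' : Fin n → ℤ}
    {A B : Matrix (Fin m) (Fin n) (MvPolynomial σ k)}
    (hA : IsGrMat δ δ' A) (hB : IsGrMat δ δ' B) : IsGrMat δ δ' (A - B) := by
  intro a b
  rw [Matrix.sub_apply]
  exact Submodule.sub_mem _ (hA a b) (hB a b)

theorem IsGrMat.one {n : ℕ} (δ : Fin n → ℤ) :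
    IsGrMat δ δ (1 : Matrix (Fin n) (Fin n) (MvPolynomial σ k)) := by
  intro a b
  by_cases h : a = b
  · subst h
    rw [Matrix.one_apply_eq, sub_self]
    exact SetLike.GradedOne.one_mem
  · rw [Matrix.one_apply_ne h]
    exact Submodule.zero_mem _

theorem col_mem_pieceV {m n : ℕ} {δ : Fin m → ℤ} {δ' : Fin n → ℤ}
    {A : Matrix (Fin m) (Fin n) (MvPolynomial σ k)} (hA : IsGrMat δ δ' A) (b : Fin n) :
    (fun a => A a b) ∈ pieceV δ (δ' b) := by
  rw [mem_pieceV]
  intro a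
  exact hA a b

/-- the graded factorisation step: a homogeneous matrix all of whose columns lie in the range
of a homogeneous matrix factors through it by a homogeneous matrix -/
theorem exists_factor {l m n : ℕ} {δ₁ : Fin l → ℤ} {δ₂ : Fin m → ℤ} {δs : Fin n → ℤ}
    (D : Matrix (Fin l) (Fin m) (MvPolynomial σ k)) (hD : IsGrMat δ₁ δ₂ D)
    (Φ : Matrix (Fin l) (Fin n) (MvPolynomial σ k)) (hΦ : IsGrMat δ₁ δs Φ)
    (hcol : ∀ b, (fun a => Φ a b) ∈ LinearMap.range (Matrix.mulVecLin D)) :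
    ∃ Ψ : Matrix (Fin m) (Fin n) (MvPolynomial σ k), IsGrMat δ₂ δs Ψ ∧ D * Ψ = Φ := by
  choose u₀ hu₀ using hcol
  refine ⟨Matrix.of (fun c b => projV δ₂ (δs b) (u₀ b) c), ?_, ?_⟩
  · intro c b
    exact (mem_pieceV δ₂ (δs b) _).1 (projV_mem δ₂ (δs b) (u₀ b)) c
  · refine Matrix.ext (fun a b => ?_)
    have h1 : D.mulVec (projV δ₂ (δs b) (u₀ b)) = projV δ₁ (δs b) (D.mulVec (u₀ b)) :=
      mulVec_projV δ₁ δ₂ D hD (δs b) (u₀ b)
    have h2 : D.mulVec (u₀ b) = fun a => Φ a b := hu₀ b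
    rw [h2, projV_of_mem δ₁ (δs b) _ (col_mem_pieceV hΦ b)] at h1
    have := congrFun h1 a
    rw [Matrix.mul_apply]
    rw [Matrix.mulVec, dotProduct] at this
    simpa using this

end Mat

section Comp

variable {k : Type u} [Field k] {σ : Type}
  {M : Type u} [AddCommGroup M] [Module k M] [Module (MvPolynomial σ k) M]
  {ℳ : ℤ → Submodule k M} [DirectSum.Decomposition ℳ] [SetLike.GradedSMul (stdGr k σ) ℳ]

theorem col_eq_mulVec_single {m n : ℕ} (A : Matrix (Fin m) (Fin n) (MvPolynomial σ k)) (b : Fin n) :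
    (fun a => A a b) = A.mulVec (Pi.single b 1) := by
  rw [Matrix.mulVec_single_one]; rfl

theorem col_mul {l m n : ℕ} (A : Matrix (Fin l) (Fin m) (MvPolynomial σ k))
    (B : Matrix (Fin m) (Fin n) (MvPolynomial σ k)) (b : Fin n) :
    (fun a => (A * B) a b) = A.mulVec (fun c => B c b) := by
  rw [col_eq_mulVec_single, col_eq_mulVec_single B, Matrix.mulVec_mulVec]

theorem d_mul_d (F : FreeRes (stdGr k σ) ℳ) (i : ℕ) : F.d i * F.d (i + 1) = 0 := by
  refine Matrix.ext (fun a b => ?_)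
  have h1 : (F.d i * F.d (i + 1)) a b = (F.d i).mulVec (fun c => F.d (i + 1) c b) a :=
    congrFun (col_mul (F.d i) (F.d (i + 1)) b) a
  rw [h1]
  have := GrSyzProj.dLin_comp F i (Pi.single b 1)
  rw [Matrix.mulVecLin_apply, Matrix.mulVecLin_apply, Matrix.mulVec_single_one] at this
  exact congrFun this a

theorem augLin_mulVec_d (F : FreeRes (stdGr k σ) ℳ) (v : Fin (F.rk 1) → MvPolynomial σ k) :
    F.augLin ((F.d 0).mulVec v) = 0 := GrSyzProj.aug_dLin F v

variable (F F' : FreeRes (stdGr k σ) ℳ)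

/-- a graded lift of a homogeneous element along the augmentation -/
theorem exists_aug_lift (e : ℤ) (x : M) (hx : x ∈ ℳ e) :
    ∃ u ∈ pieceV (σ := σ) (F'.deg 0) e, F'.augLin u = x := by
  obtain ⟨u₀, hu₀⟩ := F'.aug_surjective x
  refine ⟨projV (F'.deg 0) e u₀, projV_mem _ _ _, ?_⟩
  change Fintype.linearCombination (MvPolynomial σ k) F'.aug (projV (F'.deg 0) e u₀) = x
  rw [Fintype.linearCombination_apply, comb_projV ℳ (F'.deg 0) F'.aug F'.aug_mem e u₀,
    ← Fintype.linearCombination_apply, hu₀, projM_apply]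
  exact decompose_of_mem_same ℳ hx

/-- the comparison invariant -/
def Inv (i : ℕ) (φ : Matrix (Fin (F'.rk i)) (Fin (F.rk i)) (MvPolynomial σ k)) : Prop :=
  IsGrMat (F'.deg i) (F.deg i) φ ∧
    ∀ b, (fun a => (φ * F.d i) a b) ∈ LinearMap.range (Matrix.mulVecLin (F'.d i))

theorem exists_base : ∃ φ₀ : Matrix (Fin (F'.rk 0)) (Fin (F.rk 0)) (MvPolynomial σ k),
    Inv F F' 0 φ₀ ∧ ∀ v, F'.augLin (φ₀.mulVec v) = F.augLin v := by
  have hex : ∀ b : Fin (F.rk 0), ∃ u ∈ pieceV (σ := σ) (F'.deg 0) (F.deg 0 b), F'.augLin u = F.aug b :=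
    fun b => exists_aug_lift F' (F.deg 0 b) (F.aug b) (F.aug_mem b)
  choose u hu hu' using hex
  let φ₀ : Matrix (Fin (F'.rk 0)) (Fin (F.rk 0)) (MvPolynomial σ k) := Matrix.of (fun a b => u b a)
  have hgr : IsGrMat (F'.deg 0) (F.deg 0) φ₀ := fun a b => (mem_pieceV _ _ _).1 (hu b) a
  have haug : ∀ v, F'.augLin (φ₀.mulVec v) = F.augLin v := by
    have : F'.augLin ∘ₗ Matrix.mulVecLin φ₀ = F.augLin := by
      apply LinearMap.pi_ext'
      intro b
      apply LinearMap.ext_ring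
      change F'.augLin (φ₀.mulVec (Pi.single b 1)) = F.augLin (Pi.single b 1)
      rw [Matrix.mulVec_single_one]
      change F'.augLin (u b) = Fintype.linearCombination (MvPolynomial σ k) F.aug (Pi.single b 1)
      rw [hu' b, Fintype.linearCombination_apply_single, one_smul]
    intro v
    exact LinearMap.congr_fun this v
  refine ⟨φ₀, ⟨hgr, ?_⟩, haug⟩
  intro b
  rw [col_mul, ← F'.exact_zero, LinearMap.mem_ker, haug]
  rw [col_eq_mulVec_single]
  exact augLin_mulVec_d F _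

theorem isGrMat_d (i : ℕ) : IsGrMat (F.deg i) (F.deg (i + 1)) (F.d i) := F.d_mem i

theorem exists_step (i : ℕ) (φ : Matrix (Fin (F'.rk i)) (Fin (F.rk i)) (MvPolynomial σ k))
    (hφ : Inv F F' i φ) :
    ∃ φ' : Matrix (Fin (F'.rk (i + 1))) (Fin (F.rk (i + 1))) (MvPolynomial σ k),
      Inv F F' (i + 1) φ' ∧ F'.d i * φ' = φ * F.d i := by
  obtain ⟨φ', hgr, hcomm⟩ := exists_factor (F'.d i) (isGrMat_d F' i) (φ * F.d i)
    (hφ.1.mul (isGrMat_d F i)) hφ.2
  refine ⟨φ', ⟨hgr, ?_⟩, hcomm⟩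
  intro b
  rw [← F'.exact_succ i, LinearMap.mem_ker, Matrix.mulVecLin_apply, ← col_mul, ← Matrix.mul_assoc,
    hcomm, Matrix.mul_assoc, d_mul_d, Matrix.mul_zero]
  rfl

/-- the sequence of comparison matrices -/
noncomputable def seq : (i : ℕ) →
    {φ : Matrix (Fin (F'.rk i)) (Fin (F.rk i)) (MvPolynomial σ k) // Inv F F' i φ}
  | 0 => ⟨(exists_base F F').choose, (exists_base F F').choose_spec.1⟩
  | (i + 1) => ⟨(exists_step F F' i (seq i).1 (seq i).2).choose,
      (exists_step F F' i (seq i).1 (seq i).2).choose_spec.1⟩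

/-- a graded chain map between two graded free resolutions of the same module lifting the identity -/
structure Comp where
  φ : ∀ i, Matrix (Fin (F'.rk i)) (Fin (F.rk i)) (MvPolynomial σ k)
  gr : ∀ i, IsGrMat (F'.deg i) (F.deg i) (φ i)
  aug : ∀ v, F'.augLin ((φ 0).mulVec v) = F.augLin v
  comm : ∀ i, F'.d i * φ (i + 1) = φ i * F.d i

theorem exists_comp : Nonempty (Comp F F') :=
  ⟨{ φ := fun i => (seq F F' i).1
     gr := fun i => (seq F F' i).2.1
     aug := (exists_base F F').choose_spec.2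
     comm := fun i => (exists_step F F' i (seq F F' i).1 (seq F F' i).2).choose_spec.2 }⟩

theorem exists_factor' {l m n : ℕ} (D : Matrix (Fin l) (Fin m) (MvPolynomial σ k))
    (Φ : Matrix (Fin l) (Fin n) (MvPolynomial σ k))
    (hcol : ∀ b, (fun a => Φ a b) ∈ LinearMap.range (Matrix.mulVecLin D)) :
    ∃ Ψ : Matrix (Fin m) (Fin n) (MvPolynomial σ k), D * Ψ = Φ := by
  choose u hu using hcol
  refine ⟨Matrix.of (fun c b => u b c), ?_⟩
  refine Matrix.ext (fun a b => ?_)
  have h2 : D.mulVec (u b) = fun a => Φ a b := hu b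
  have := congrFun h2 a
  rw [Matrix.mul_apply]
  rw [Matrix.mulVec, dotProduct] at this
  simpa using this

theorem mul_mem_left_entries {l m n : ℕ} (𝔪 : Ideal (MvPolynomial σ k))
    (A : Matrix (Fin l) (Fin m) (MvPolynomial σ k)) (B : Matrix (Fin m) (Fin n) (MvPolynomial σ k))
    (hA : ∀ a c, A a c ∈ 𝔪) (a : Fin l) (b : Fin n) : (A * B) a b ∈ 𝔪 := by
  rw [Matrix.mul_apply]
  exact Ideal.sum_mem _ (fun c _ => Ideal.mul_mem_right _ _ (hA a c))

theorem mul_mem_right_entries {l m n : ℕ} (𝔪 : Ideal (MvPolynomial σ k))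
    (A : Matrix (Fin l) (Fin m) (MvPolynomial σ k)) (B : Matrix (Fin m) (Fin n) (MvPolynomial σ k))
    (hB : ∀ c b, B c b ∈ 𝔪) (a : Fin l) (b : Fin n) : (A * B) a b ∈ 𝔪 := by
  rw [Matrix.mul_apply]
  exact Ideal.sum_mem _ (fun c _ => Ideal.mul_mem_left _ _ (hB c b))

/-- an endomorphism of a minimal resolution lifting zero has all entries in the ideal -/
theorem entries_mem (𝔪 : Ideal (MvPolynomial σ k)) (hF : F.IsMinimal 𝔪)
    (θ : ∀ i, Matrix (Fin (F.rk i)) (Fin (F.rk i)) (MvPolynomial σ k))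
    (haug : ∀ v, F.augLin ((θ 0).mulVec v) = 0)
    (hcomm : ∀ i, F.d i * θ (i + 1) = θ i * F.d i) :
    ∀ i a b, θ i a b ∈ 𝔪 := by
  have key : ∀ i, ∃ h : Matrix (Fin (F.rk (i + 1))) (Fin (F.rk i)) (MvPolynomial σ k),
      (θ i - F.d i * h) * F.d i = 0 ∧ ∀ a b, θ i a b ∈ 𝔪 := by
    intro i
    induction i with
    | zero =>
      obtain ⟨h, hh⟩ := exists_factor' (F.d 0) (θ 0) (by
        intro b
        rw [← F.exact_zero, LinearMap.mem_ker, col_eq_mulVec_single]
        exact haug _)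
      refine ⟨h, ?_, ?_⟩
      · rw [hh, sub_self, Matrix.zero_mul]
      · intro a b
        rw [← hh]
        exact mul_mem_left_entries 𝔪 _ _ (hF 0) a b
    | succ i ih =>
      obtain ⟨h, hh, -⟩ := ih
      obtain ⟨h', hh'⟩ := exists_factor' (F.d (i + 1)) (θ (i + 1) - h * F.d i) (by
        intro b
        rw [← F.exact_succ i, LinearMap.mem_ker, Matrix.mulVecLin_apply, ← col_mul, Matrix.mul_sub,
          hcomm i, ← Matrix.mul_assoc, ← Matrix.sub_mul, hh]
        rfl)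
      have hθ : θ (i + 1) = F.d (i + 1) * h' + h * F.d i := by
        rw [hh']; abel
      refine ⟨h', ?_, ?_⟩
      · rw [hθ, add_sub_cancel_left, Matrix.mul_assoc, d_mul_d, Matrix.mul_zero]
      · intro a b
        rw [hθ, Matrix.add_apply]
        exact Ideal.add_mem _ (mul_mem_left_entries 𝔪 _ _ (hF (i + 1)) a b)
          (mul_mem_right_entries 𝔪 _ _ (hF i) a b)
  intro i
  exact (key i).choose_spec.2

theorem deg_eq_zero_of_constantCoeff_ne_zero {n : ℤ} {p : MvPolynomial σ k}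
    (hp : p ∈ stdGr k σ n) (h : constantCoeff p ≠ 0) : n = 0 := by
  rw [mem_stdGr_iff] at hp
  have hw := hp (d := 0) (by rwa [constantCoeff_eq] at h)
  rw [map_zero] at hw
  exact hw.symm

/-- every generator degree of a minimal resolution occurs in any other resolution -/
theorem exists_deg_eq (hF : F.IsMinimal (irrel (stdGr k σ)).toIdeal) (i : ℕ) (b : Fin (F.rk i)) :
    ∃ a : Fin (F'.rk i), F'.deg i a = F.deg i b := by
  obtain ⟨Φ⟩ := exists_comp F F'
  obtain ⟨Ψ⟩ := exists_comp F' F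
  have hmem := entries_mem F (irrel (stdGr k σ)).toIdeal hF (fun i => Ψ.φ i * Φ.φ i - 1)
    (by
      intro v
      rw [Matrix.sub_mulVec, Matrix.one_mulVec, map_sub, ← Matrix.mulVec_mulVec, Ψ.aug, Φ.aug,
        sub_self])
    (by
      intro i
      rw [Matrix.mul_sub, Matrix.mul_one, ← Matrix.mul_assoc, Ψ.comm i, Matrix.mul_assoc, Φ.comm i,
        Matrix.sub_mul, Matrix.one_mul, Matrix.mul_assoc])
  have h0 := constantCoeff_eq_zero_of_mem_irrel k σ (hmem i b b)
  rw [Matrix.sub_apply, Matrix.one_apply_eq, map_sub, map_one, Matrix.mul_apply, map_sum,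
    sub_eq_zero] at h0
  have hex : ∃ a, constantCoeff (Φ.φ i a b) ≠ 0 := by
    by_contra hcon
    rw [not_exists] at hcon
    have : ∑ a, constantCoeff (Ψ.φ i b a * Φ.φ i a b) = (0 : k) := by
      apply Finset.sum_eq_zero
      intro a _
      have := hcon a
      rw [not_not] at this
      rw [map_mul, this, mul_zero]
    rw [this] at h0
    exact zero_ne_one h0
  obtain ⟨a, ha⟩ := hex
  refine ⟨a, ?_⟩
  have := deg_eq_zero_of_constantCoeff_ne_zero (Φ.gr i a b) ha
  omega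

end Comp

end Groth.Agent.Helper23.GrSyzCmp
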