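import Groth.Agent.Lib.Helper23.GrSyzMin
import Groth.Agent.Lib.Helper23.GrSyzCmp

/-!
# Hilbert's syzygy theorem for `GrSyz.FreeRes`

A minimal graded free resolution over `k[x_1..x_m]` has length at most `m`
(`hasLengthLE`).  Elementary proof: the truncation `F_{≥ j}` stays exact modulo the first `j`
variables (`P_all`).
-/

set_option autoImplicit false
set_option linter.unusedSectionVars false
set_option linter.unusedVariables false

universe u

namespace Groth.Agent.Helper23.HilbSyz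
open GrSyz MvPolynomial DirectSum
open Groth.Agent.Helper23.GrSyzCmp Groth.Agent.Helper23.GrSyzHilb Groth.Agent.Helper23.GrSyzLib
open Groth.Agent.Helper23

section

variable (k : Type u) [Field k] (m : ℕ)

/-- the ideal generated by the first `j` variables -/
noncomputable def Iv (j : ℕ) : Ideal (MvPolynomial (Fin m) k) :=
  Ideal.span (X '' {l : Fin m | (l : ℕ) < j})

variable {k m}

theorem Iv_zero : Iv k m 0 = ⊥ := by
  unfold Iv
  have : {l : Fin m | (l : ℕ) < 0} = ∅ := by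
    ext l; simp
  rw [this, Set.image_empty, Ideal.span_empty]

theorem Iv_mono {j j' : ℕ} (h : j ≤ j') : Iv k m j ≤ Iv k m j' := by
  unfold Iv
  apply Ideal.span_mono
  apply Set.image_mono
  intro l hl
  exact lt_of_lt_of_le hl h

theorem Iv_succ (j : ℕ) (l : Fin m) (hl : (l : ℕ) = j) :
    Iv k m (j + 1) = Iv k m j ⊔ Ideal.span {X l} := by
  unfold Iv
  rw [← Ideal.span_union]
  congr 1
  ext p
  constructor
  · rintro ⟨l', hl', rfl⟩
    rcases Nat.lt_succ_iff_lt_or_eq.mp hl' with h | h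
    · exact Or.inl ⟨l', h, rfl⟩
    · right
      have : l' = l := Fin.ext (h.trans hl.symm)
      rw [this]; rfl
  · rintro (⟨l', hl', rfl⟩ | h)
    · exact ⟨l', Nat.lt_succ_of_lt hl', rfl⟩
    · rw [Set.mem_singleton_iff] at h
      exact ⟨l, by change (l : ℕ) < j + 1; omega, h.symm⟩

theorem mem_Iv_of_X_mul {j : ℕ} (l : Fin m) (hl : (l : ℕ) = j) {p : MvPolynomial (Fin m) k}
    (h : X l * p ∈ Iv k m j) : p ∈ Iv k m j := by
  unfold Iv at h ⊢
  rw [mem_ideal_span_X_image] at h ⊢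
  intro d hd
  have hmem : Finsupp.single l 1 + d ∈ (X l * p).support := by
    rw [support_X_mul]
    exact Finset.mem_map.mpr ⟨d, hd, rfl⟩
  obtain ⟨i, hi, hne⟩ := h _ hmem
  refine ⟨i, hi, ?_⟩
  have hil : l ≠ i := by
    intro h'
    rw [← h'] at hi
    change (l : ℕ) < j at hi
    omega
  rwa [Finsupp.add_apply, Finsupp.single_eq_of_ne' hil, zero_add] at hne

theorem constantCoeff_eq_zero_of_mem_Iv {j : ℕ} {p : MvPolynomial (Fin m) k} (h : p ∈ Iv k m j) :
    constantCoeff p = 0 := by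
  unfold Iv at h
  rw [mem_ideal_span_X_image] at h
  rw [constantCoeff_eq]
  by_contra hne
  obtain ⟨i, -, hi⟩ := h 0 (mem_support_iff.mpr hne)
  exact hi rfl

theorem mem_Iv_top_of_constantCoeff {p : MvPolynomial (Fin m) k} (h : constantCoeff p = 0) :
    p ∈ Iv k m m := by
  unfold Iv
  rw [mem_ideal_span_X_image]
  intro d hd
  by_contra hcon
  have hd0 : d = 0 := by
    ext i
    by_contra hi
    exact hcon ⟨i, i.2, hi⟩
  rw [hd0, mem_support_iff, ← constantCoeff_eq] at hd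
  exact hd h

theorem mulVec_mem {I : Ideal (MvPolynomial (Fin m) k)} {a b : ℕ}
    (A : Matrix (Fin a) (Fin b) (MvPolynomial (Fin m) k)) (v : Fin b → MvPolynomial (Fin m) k)
    (hv : ∀ c, v c ∈ I) (r : Fin a) : A.mulVec v r ∈ I := by
  rw [Matrix.mulVec, dotProduct]
  exact Ideal.sum_mem _ (fun c _ => Ideal.mul_mem_left _ _ (hv c))

theorem mulVec_mem' {I : Ideal (MvPolynomial (Fin m) k)} {a b : ℕ}
    (A : Matrix (Fin a) (Fin b) (MvPolynomial (Fin m) k)) (v : Fin b → MvPolynomial (Fin m) k)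
    (hA : ∀ r c, A r c ∈ I) (r : Fin a) : A.mulVec v r ∈ I := by
  rw [Matrix.mulVec, dotProduct]
  exact Ideal.sum_mem _ (fun c _ => Ideal.mul_mem_right _ _ (hA r c))

end

section Res

variable {k : Type u} [Field k] {m : ℕ}
  {M : Type u} [AddCommGroup M] [Module k M] [Module (MvPolynomial (Fin m) k) M]
  {ℳ : ℤ → Submodule k M} [DirectSum.Decomposition ℳ] [SetLike.GradedSMul (stdGr k (Fin m)) ℳ]
  (F : FreeRes (stdGr k (Fin m)) ℳ)

/-- exactness of the truncated resolution modulo the first `j` variables -/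
def P (j : ℕ) : Prop :=
  ∀ i : ℕ, j ≤ i → ∀ v : Fin (F.rk (i + 1)) → MvPolynomial (Fin m) k,
    (∀ a, (F.d i).mulVec v a ∈ Iv k m j) →
    ∃ (t : Fin (F.rk (i + 1 + 1)) → MvPolynomial (Fin m) k)
      (c : Fin (F.rk (i + 1)) → MvPolynomial (Fin m) k),
      (∀ a, c a ∈ Iv k m j) ∧ v = (F.d (i + 1)).mulVec t + c

theorem P_zero : P F 0 := by
  intro i _ v hv
  have hker : v ∈ LinearMap.ker (Matrix.mulVecLin (F.d i)) := by
    rw [LinearMap.mem_ker, Matrix.mulVecLin_apply]
    funext a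
    have := hv a
    rwa [Iv_zero, Ideal.mem_bot] at this
  rw [F.exact_succ i] at hker
  obtain ⟨t, ht⟩ := hker
  refine ⟨t, 0, fun a => Ideal.zero_mem _, ?_⟩
  rw [add_zero, ← ht, Matrix.mulVecLin_apply]

theorem P_succ (j : ℕ) (hj : j < m) (h : P F j) : P F (j + 1) := by
  intro i hi v hv
  obtain ⟨i', rfl⟩ : ∃ i', i = i' + 1 := ⟨i - 1, by omega⟩
  have hi' : j ≤ i' := by omega
  set l : Fin m := ⟨j, hj⟩ with hl
  have hlj : (l : ℕ) = j := rfl
  -- decompose `d v = α + (X l : MvPolynomial (Fin m) k) • w`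
  have hdec : ∀ a, ∃ α ∈ Iv k m j, ∃ w, (F.d (i' + 1)).mulVec v a = α + X l * w := by
    intro a
    have := hv a
    rw [Iv_succ j l hlj, Submodule.mem_sup] at this
    obtain ⟨α, hα, β, hβ, hsum⟩ := this
    obtain ⟨w, hw⟩ := Ideal.mem_span_singleton'.mp hβ
    exact ⟨α, hα, w, by rw [← hsum, ← hw, mul_comm]⟩
  choose α hα w hw using hdec
  have hdv : (F.d (i' + 1)).mulVec v = α + (X l : MvPolynomial (Fin m) k) • w := by
    funext a
    rw [hw a, Pi.add_apply, Pi.smul_apply, smul_eq_mul]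
  -- apply `d i'`
  have h0 : (F.d i').mulVec ((F.d (i' + 1)).mulVec v) = 0 := by
    rw [Matrix.mulVec_mulVec, d_mul_d, Matrix.zero_mulVec]
  rw [hdv, Matrix.mulVec_add, Matrix.mulVec_smul] at h0
  have hw' : ∀ a, (F.d i').mulVec w a ∈ Iv k m j := by
    intro a
    apply mem_Iv_of_X_mul l hlj
    have h1 := congrFun h0 a
    rw [Pi.add_apply, Pi.smul_apply, smul_eq_mul, Pi.zero_apply] at h1
    have h2 : X l * (F.d i').mulVec w a = -((F.d i').mulVec α a) := by
      rw [eq_neg_iff_add_eq_zero, add_comm]; exact h1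
    rw [h2]
    exact Ideal.neg_mem_iff _ |>.mpr (mulVec_mem _ _ hα a)
  obtain ⟨u, β, hβ, hwu⟩ := h i' hi' w hw'
  -- second application
  have hv2 : ∀ a, (F.d (i' + 1)).mulVec (v - (X l : MvPolynomial (Fin m) k) • u) a ∈ Iv k m j := by
    intro a
    have h3 : (F.d (i' + 1)).mulVec (v - (X l : MvPolynomial (Fin m) k) • u) = α + (X l : MvPolynomial (Fin m) k) • β := by
      rw [Matrix.mulVec_sub, Matrix.mulVec_smul, hdv]
      have : (F.d (i' + 1)).mulVec u = w - β := by
        rw [hwu]; abel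
      rw [this, smul_sub]
      abel
    rw [h3, Pi.add_apply, Pi.smul_apply, smul_eq_mul]
    exact Ideal.add_mem _ (hα a) (Ideal.mul_mem_left _ _ (hβ a))
  obtain ⟨t, c, hc, hvt⟩ := h (i' + 1) (by omega) (v - (X l : MvPolynomial (Fin m) k) • u) hv2
  refine ⟨t, c + (X l : MvPolynomial (Fin m) k) • u, ?_, ?_⟩
  · intro a
    rw [Pi.add_apply, Pi.smul_apply, smul_eq_mul]
    refine Ideal.add_mem _ (Iv_mono (Nat.le_succ j) (hc a)) ?_
    rw [Iv_succ j l hlj]
    exact Ideal.mem_sup_right (Ideal.mul_mem_right _ _ (Ideal.mem_span_singleton_self _))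
  · rw [← add_assoc, ← hvt]
    abel

theorem P_all (j : ℕ) (hj : j ≤ m) : P F j := by
  induction j with
  | zero => exact P_zero F
  | succ j ih => exact P_succ F j (by omega) (ih (by omega))

theorem rk_eq_zero (hF : F.IsMinimal (irrel (stdGr k (Fin m))).toIdeal) (i : ℕ) (hi : m ≤ i) :
    F.rk (i + 1) = 0 := by
  by_contra hne
  have hpos : 0 < F.rk (i + 1) := Nat.pos_of_ne_zero hne
  let b : Fin (F.rk (i + 1)) := ⟨0, hpos⟩
  have hcol : ∀ a, (F.d i).mulVec (Pi.single b 1) a ∈ Iv k m m := by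
    intro a
    apply mem_Iv_top_of_constantCoeff
    apply constantCoeff_eq_zero_of_mem_irrel
    exact mulVec_mem' _ _ (hF i) a
  obtain ⟨t, c, hc, hv⟩ := P_all F m le_rfl i hi (Pi.single b 1) hcol
  have h1 := congrFun hv b
  rw [Pi.single_eq_same, Pi.add_apply] at h1
  have h2 := congrArg constantCoeff h1
  rw [map_one, map_add, constantCoeff_eq_zero_of_mem_Iv (hc b),
    constantCoeff_eq_zero_of_mem_irrel k (Fin m) (mulVec_mem' _ _ (hF (i + 1)) b), add_zero] at h2
  exact one_ne_zero h2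

theorem hasLengthLE (hF : F.IsMinimal (irrel (stdGr k (Fin m))).toIdeal) : F.HasLengthLE m := by
  intro i hi
  obtain ⟨i', rfl⟩ : ∃ i', i = i' + 1 := ⟨i - 1, by omega⟩
  exact rk_eq_zero F hF i' (by omega)

end Res

end Groth.Agent.Helper23.HilbSyz
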