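import Groth.Agent.Lib.Helper23.ABExt2
import Groth.Agent.Lib.Helper23.HilbSyz
import Groth.Agent.Lib.Lead.Depth1

/-!
# `Ext(k, S)` for the polynomial ring `S = k[x_1..x_m]` and the graded Auslander–Buchsbaum formula
-/

set_option autoImplicit false
set_option linter.unusedSectionVars false
set_option linter.unusedVariables false
set_option linter.style.haveILetI false

universe u

open CategoryTheory Abelian GrSyz MvPolynomial

namespace Groth.Agent.Helper23.ABPoly

open Groth.Agent.Helper23.ABExt Groth.Agent.Helper23.HilbSyz Groth.Agent.Helper23.GrSyzLib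
open Groth.Agent.Lead.Depth

section RegSeq

variable (k : Type u) [Field k] (m : ℕ)

/-- the list of variables -/
noncomputable def vars : List (MvPolynomial (Fin m) k) := List.ofFn (fun l : Fin m => X l)

theorem vars_length : (vars k m).length = m := by
  unfold vars; rw [List.length_ofFn]

theorem ofList_take_vars (i : ℕ) : Ideal.ofList ((vars k m).take i) = Iv k m i := by
  unfold Iv Ideal.ofList
  congr 1
  ext p
  simp only [Set.mem_setOf_eq, Set.mem_image]
  rw [List.mem_take_iff_getElem]
  constructor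
  · rintro ⟨j, hj, rfl⟩
    rw [lt_min_iff, vars_length] at hj
    refine ⟨⟨j, hj.2⟩, hj.1, ?_⟩
    unfold vars
    rw [List.getElem_ofFn]
  · rintro ⟨l, hl, rfl⟩
    refine ⟨l.1, ?_, ?_⟩
    · rw [lt_min_iff, vars_length]; exact ⟨hl, l.2⟩
    · unfold vars
      rw [List.getElem_ofFn]

theorem X_mem_irrel (l : Fin m) :
    (X l : MvPolynomial (Fin m) k) ∈ (irrel (stdGr k (Fin m))).toIdeal := by
  refine Ideal.subset_span ⟨1, one_pos, ?_⟩
  rw [GrSyz.mem_stdGr_iff]
  exact isWeightedHomogeneous_X k _ l

theorem irrel_eq_Iv : (irrel (stdGr k (Fin m))).toIdeal = Iv k m m := by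
  apply le_antisymm
  · intro p hp
    exact mem_Iv_top_of_constantCoeff (constantCoeff_eq_zero_of_mem_irrel k (Fin m) hp)
  · unfold Iv
    rw [Ideal.span_le]
    rintro _ ⟨l, -, rfl⟩
    exact X_mem_irrel k m l

theorem isWeaklyRegular_vars :
    RingTheory.Sequence.IsWeaklyRegular (MvPolynomial (Fin m) k) (vars k m) := by
  rw [RingTheory.Sequence.isWeaklyRegular_iff]
  intro i hi
  have him : i < m := by rwa [vars_length] at hi
  have hget : (vars k m)[i] = X (⟨i, him⟩ : Fin m) := by
    unfold vars; rw [List.getElem_ofFn]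
  rw [hget, ofList_take_vars]
  intro a b hab
  induction a using Submodule.Quotient.induction_on with
  | H p =>
    induction b using Submodule.Quotient.induction_on with
    | H q =>
      simp only [] at hab
      rw [← Submodule.Quotient.mk_smul, ← Submodule.Quotient.mk_smul, Submodule.Quotient.eq] at hab
      rw [Submodule.Quotient.eq]
      rw [smul_eq_mul, Ideal.mul_top] at hab ⊢
      rw [← smul_sub, smul_eq_mul] at hab
      exact mem_Iv_of_X_mul (⟨i, him⟩ : Fin m) rfl hab

theorem mem_irrel_of_mem_vars : ∀ r ∈ vars k m, r ∈ (irrel (stdGr k (Fin m))).toIdeal := by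
  intro r hr
  unfold vars at hr
  rw [List.mem_ofFn] at hr
  obtain ⟨l, rfl⟩ := hr
  exact X_mem_irrel k m l

theorem irrel_smul_top_ne_top :
    (irrel (stdGr k (Fin m))).toIdeal • (⊤ : Submodule (MvPolynomial (Fin m) k) (MvPolynomial (Fin m) k))
      ≠ ⊤ := by
  rw [smul_eq_mul, Ideal.mul_top]
  intro h
  exact one_not_mem_irrel k (Fin m) (h ▸ Submodule.mem_top)

/-- `Ext^i(k, S) = 0` for `i < m` -/
theorem ext_self_subsingleton (i : ℕ) (hi : i < m) :
    Subsingleton (Ext (K (irrel (stdGr k (Fin m))).toIdeal)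
      (ModuleCat.of (MvPolynomial (Fin m) k) (MvPolynomial (Fin m) k)) i) := by
  have h1 := le_idealDepth_of_isWeaklyRegular (irrel (stdGr k (Fin m))).toIdeal
    (MvPolynomial (Fin m) k) (vars k m) (isWeaklyRegular_vars k m) (mem_irrel_of_mem_vars k m)
  rw [vars_length] at h1
  exact (le_idealDepth_iff_ext _ _ (irrel_smul_top_ne_top k m) m).mp h1 i hi

end RegSeq

end Groth.Agent.Helper23.ABPoly
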