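import Mathlib
import Groth.Prelude
import Groth.Agent.Lib.Helper20.GrSG11
import Groth.Agent.Lib.Helper20.GrHull2
import Groth.Agent.Lib.Helper20.GrCoind4
import Groth.Agent.Lib.Helper23.APoly3
import Groth.Agent.Lib.Helper23.APoly4
import Groth.Agent.Lib.Helper23.AInv2
import Groth.Agent.Lib.Helper23.AInv3
import Groth.Agent.Lib.Helper23.ABPoly

/-!
# A standard graded CM ring over a field that is abstractly a polynomial ring has `a(R) = -dim R`
-/

set_option autoImplicit false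
set_option linter.unusedVariables false
set_option linter.unusedSectionVars false
set_option linter.style.haveILetI false

open DirectSum Groth.Agent.Helper20.GrInj

namespace Groth.Agent.Helper23.APoly

universe u

variable {R : Type u} [CommRing R] {𝒜 : ℤ → AddSubgroup R} [GradedRing 𝒜]

section Conc

variable {M : Type u} [AddCommGroup M] [Module R M] {ℳ : ℤ → AddSubgroup M}
  [DirectSum.Decomposition ℳ] [SetLike.GradedSMul 𝒜 ℳ]

theorem plen_eq_zero_iff (n : ℤ) : plen (𝒜 := 𝒜) ℳ n = 0 ↔ ℳ n = ⊥ := by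
  unfold plen
  rw [Module.length_eq_zero_iff]
  constructor
  · intro h
    rw [eq_bot_iff]
    intro x hx
    have : (⟨x, hx⟩ : GrLC.comp 𝒜 ℳ n) = 0 := Subsingleton.elim _ _
    exact AddSubgroup.mem_bot.2 (congrArg Subtype.val this)
  · intro h
    constructor
    rintro ⟨x, hx⟩ ⟨y, hy⟩
    have hx' : x ∈ ℳ n := hx
    have hy' : y ∈ ℳ n := hy
    rw [h] at hx' hy'
    apply Subtype.ext
    show x = y
    rw [AddSubgroup.mem_bot.1 hx', AddSubgroup.mem_bot.1 hy']

/-- `H^0_a` of a torsion module concentrated in degree `0` ends in degree `0` -/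
theorem endDeg_H0_of_conc (a : HomogeneousIdeal 𝒜) (hΓ : GrLC.gam a.toIdeal M = ⊤)
    (h0 : ℳ 0 ≠ ⊥) (hne : ∀ n : ℤ, n ≠ 0 → ℳ n = ⊥) (F : GrLC.StarInjRes 𝒜 ℳ) :
    GrLC.endDeg (F.Hgr a 0) = (((0 : ℤ) : WithTop ℤ) : WithBot (WithTop ℤ)) := by
  have hiff : ∀ n : ℤ, F.Hgr a 0 n = ⊥ ↔ ℳ n = ⊥ := by
    intro n
    rw [← hlen_eq_zero_iff, hlen_zero_of_gam_eq_top F a hΓ n, plen_eq_zero_iff]
  apply le_antisymm
  · apply iSup₂_le
    intro n hn
    have : n = 0 := by
      by_contra h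
      exact hn ((hiff n).2 (hne n h))
    subst this
    exact le_refl _
  · exact le_iSup₂ (f := fun (n : ℤ) (_ : F.Hgr a 0 n ≠ ⊥) =>
      ((n : WithTop ℤ) : WithBot (WithTop ℤ))) 0 (fun h => h0 ((hiff 0).1 h))

end Conc

/-- **backward direction** -/
theorem backward [LocCoh.IsCohenMacaulayRing R]
    (hpos : ∀ n : ℤ, n < 0 → 𝒜 n = ⊥) (h0 : IsField (GrLC.deg0 𝒜))
    (m : HomogeneousIdeal 𝒜) (hm : GrLC.IsStarLocal 𝒜 m)
    (hmsp : m.toIdeal = Ideal.span (⋃ n ∈ Set.Ioi (0 : ℤ), (𝒜 n : Set R)))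
    (hstd : Ideal.span (⋃ n ∈ Set.Ioi (0 : ℤ), (𝒜 n : Set R)) =
      Ideal.span ((𝒜 1 : AddSubgroup R) : Set R)) (r : ℕ) (hr : ringKrullDim R = r)
    (I : GrLC.StarInjRes 𝒜 𝒜)
    (e : R ≃+* MvPolynomial (Fin r) (GrLC.deg0 𝒜)) :
    GrLC.endDeg (I.Hgr m r) =
      (((-(r : ℤ) : ℤ) : WithTop ℤ) : WithBot (WithTop ℤ)) := by
  letI : Field (GrLC.deg0 𝒜) := h0.toField
  haveI hmmax : m.toIdeal.IsMaximal := isMaximal_of_isStarLocal hpos m hm
  haveI : IsRegularRing (MvPolynomial (Fin r) (GrLC.deg0 𝒜)) := inferInstance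
  haveI : IsRegularRing R := IsRegularRing.of_ringEquiv e.symm
  haveI : IsRegularLocalRing (Localization.AtPrime m.toIdeal) := inferInstance
  -- the localized maximal ideal needs `r` generators
  have hsf : (IsLocalRing.maximalIdeal (Localization.AtPrime m.toIdeal)).spanFinrank = r := by
    have h1 := IsRegularLocalRing.spanFinrank_maximalIdeal (R := Localization.AtPrime m.toIdeal)
    rw [IsLocalization.AtPrime.ringKrullDim_eq_height m.toIdeal (Localization.AtPrime m.toIdeal),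
      ← ringKrullDim_eq_height_of_isStarLocal m hm hmmax, hr] at h1
    exact_mod_cast h1
  obtain ⟨z, hzm, hgen⟩ := exists_num_generators m.toIdeal r hsf
  rw [hmsp] at hzm hgen
  have hspan := span_of_generators 𝒜 hpos h0 z hzm hgen
  set x : Fin r → R := fun i => ((decompose 𝒜 (z i) 1 : 𝒜 1) : R) with hx
  have hx1 : ∀ i, x i ∈ 𝒜 1 := fun i => (decompose 𝒜 (z i) 1).2
  have hbij := aeval_bijective_of_span hpos h0 hstd r hr x hspan
  -- the irrelevant ideal is generated by the `x i`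
  have hmx : m.toIdeal = Ideal.span (Set.range x) := by
    rw [hmsp, hstd]
    apply le_antisymm
    · rw [Ideal.span_le]
      intro w hw
      have h1 := hspan w hw
      have h2 : Submodule.span (GrLC.deg0 𝒜) (Set.range x) ≤
          (Ideal.span (Set.range x)).restrictScalars (GrLC.deg0 𝒜) := by
        rw [Submodule.span_le]
        intro y hy
        exact Ideal.subset_span hy
      exact h2 h1
    · rw [Ideal.span_le]
      rintro _ ⟨i, rfl⟩
      exact Ideal.subset_span (hx1 i)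
  have hxm : ∀ i, x i ∈ m.toIdeal := fun i => by
    rw [hmx]; exact Ideal.subset_span ⟨i, rfl⟩
  -- the `x i` form a (weakly) regular sequence
  have hreg : RingTheory.Sequence.IsWeaklyRegular R (List.ofFn x) := by
    let φ : MvPolynomial (Fin r) (GrLC.deg0 𝒜) ≃+* R := RingEquiv.ofBijective
      ((MvPolynomial.aeval (R := GrLC.deg0 𝒜) x :
        MvPolynomial (Fin r) (GrLC.deg0 𝒜) →ₐ[_] R) :
        MvPolynomial (Fin r) (GrLC.deg0 𝒜) →+* R) hbij
    have hφX : ∀ i, φ (MvPolynomial.X i) = x i := fun i => MvPolynomial.aeval_X x i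
    have h1 := ABPoly.isWeaklyRegular_vars (GrLC.deg0 𝒜) r
    refine (AddEquiv.isWeaklyRegular_congr (e := φ.toAddEquiv) ?_).1 h1
    unfold ABPoly.vars
    have : List.ofFn x = (List.ofFn (fun l : Fin r =>
        (MvPolynomial.X l : MvPolynomial (Fin r) (GrLC.deg0 𝒜)))).map φ := by
      rw [List.map_ofFn]
      congr 1
      funext i
      exact (hφX i).symm
    rw [this, List.forall₂_map_right_iff, List.forall₂_same]
    intro p _ q
    show φ (p * q) = φ p * φ q
    exact map_mul φ p q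
  -- the quotient `R ⧸ m`
  let X : GrLC.GMod.{u} 𝒜 := GrLC.GMod.of 𝒜 R 𝒜
  let P : Submodule R X.carrier := m.toIdeal
  have hP : P.IsHomogeneous X.gr := m.isHomogeneous
  let Y : GrLC.GMod.{u} 𝒜 := quotGMod X.gr 𝒜 P hP
  let π : X.carrier →ₗ[R] Y.carrier := quotMk 𝒜 X.gr P hP
  have hπg : GrLC.IsGrHom X.gr Y.gr π := quotMk_grHom 𝒜 X.gr P hP
  have hπs : Function.Surjective π := quotMk_surjective 𝒜 X.gr P hP
  have hπk : LinearMap.ker π = Ideal.span (Set.range x) • (⊤ : Submodule R X.carrier) := by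
    rw [quotMk_ker]
    show m.toIdeal = _
    rw [hmx]
    exact (Ideal.mul_top _).symm
  let F : GrLC.StarInjRes 𝒜 Y.gr := starInjRes 𝒜 Y.gr
  have hvan : ∀ i < r, ∀ E : GrLC.StarInjRes 𝒜 X.gr, ∀ w : E.H m i, w = 0 :=
    fun i hi E => AInv.H_eq_zero_of_CM hpos m hm r hr E i hi
  have hmain := (AInv.seq_main m r X x (fun _ => 1) hx1 (fun _ => by omega) hxm hreg r le_rfl hvan
    Y π hπg hπs hπk I F).2
  -- the end of `H^0_m(R ⧸ m)`
  have hΓ : GrLC.gam m.toIdeal Y.carrier = ⊤ := by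
    rw [eq_top_iff]
    intro y _
    obtain ⟨w, rfl⟩ := hπs y
    refine ⟨1, fun c hc => ?_⟩
    rw [pow_one] at hc
    rw [← map_smul, quotMk_eq_zero_iff]
    have hw : c * (show R from w) ∈ m.toIdeal := Ideal.mul_mem_right _ _ hc
    exact hw
  have hY0 : Y.gr 0 ≠ ⊥ := by
    intro h
    have h11 : (1 : R) ∈ 𝒜 0 := SetLike.GradedOne.one_mem
    have h1 : π (show X.carrier from (1 : R)) ∈ Y.gr 0 :=
      hπg 0 (show X.carrier from (1 : R)) h11
    rw [h, AddSubgroup.mem_bot, quotMk_eq_zero_iff] at h1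
    have h2 : (1 : R) ∈ m.toIdeal := h1
    exact hmmax.ne_top ((Ideal.eq_top_iff_one _).2 h2)
  have hYne : ∀ n : ℤ, n ≠ 0 → Y.gr n = ⊥ := by
    intro n hn
    rw [eq_bot_iff]
    rintro y ⟨w, hw, rfl⟩
    rw [AddSubgroup.mem_bot]
    show quotMk 𝒜 X.gr P hP w = 0
    rw [quotMk_eq_zero_iff]
    rcases lt_or_gt_of_ne hn with hlt | hgt
    · have hw' : (show R from w) ∈ 𝒜 n := hw
      have hw'' : (show R from w) ∈ (⊥ : AddSubgroup R) := (hpos n hlt) ▸ hw'
      have hw0 : w = 0 := AddSubgroup.mem_bot.1 hw''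
      rw [hw0]
      exact zero_mem _
    · show (show R from w) ∈ m.toIdeal
      rw [hmsp]
      apply Ideal.subset_span
      simp only [Set.mem_iUnion]
      exact ⟨n, hgt, hw⟩
  have hend0 := endDeg_H0_of_conc m hΓ hY0 hYne F
  rw [Nat.sub_self, hend0] at hmain
  -- conclude
  have hsum : (∑ i : Fin r, (1 : ℤ)) = r := by simp
  rw [hsum] at hmain
  have hmain' : (((0 : ℤ) : WithTop ℤ) : WithBot (WithTop ℤ)) =
      GrLC.endDeg (I.Hgr m r) + ((((r : ℤ) : ℤ) : WithTop ℤ) : WithBot (WithTop ℤ)) := hmain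
  clear hmain
  revert hmain'
  generalize GrLC.endDeg (I.Hgr m r) = y
  intro hmain
  induction y using WithBot.recBotCoe with
  | bot => exact absurd hmain (by simp)
  | coe y =>
    induction y using WithTop.recTopCoe with
    | top =>
      exfalso
      have : (((0 : ℤ) : WithTop ℤ) : WithBot (WithTop ℤ)) =
          (((⊤ : WithTop ℤ) + ((r : ℤ) : WithTop ℤ) : WithTop ℤ) : WithBot (WithTop ℤ)) := by
        rw [WithBot.coe_add]; exact hmain
      rw [WithTop.top_add] at this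
      have h2 := WithBot.coe_injective this
      exact WithTop.coe_ne_top h2
    | coe y =>
      have : (((0 : ℤ) : WithTop ℤ) : WithBot (WithTop ℤ)) =
          (((y + (r : ℤ) : ℤ) : WithTop ℤ) : WithBot (WithTop ℤ)) := by
        rw [WithTop.coe_add, WithBot.coe_add]; exact hmain
      have h2 : (0 : ℤ) = y + r := WithTop.coe_injective (WithBot.coe_injective this)
      have h3 : y = -(r : ℤ) := by omega
      rw [h3]

end Groth.Agent.Helper23.APoly
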