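import Mathlib

/-!
# Morphisms into separated unramified schemes are determined on a dense base change (helper23)
-/

set_option autoImplicit false
set_option linter.style.haveILetI false

open CategoryTheory CategoryTheory.Limits AlgebraicGeometry

universe u

namespace Groth.Agent.Helper23.FEtDense

set_option backward.isDefEq.respectTransparency false in
/-- the equalizer of two morphisms into an unramified `S`-scheme is an open subscheme -/
theorem isOpenImmersion_equalizer_ι_left {S : Scheme.{u}} {X Y : Over S}
    [IsOpenImmersion (pullback.diagonal Y.hom)]
    (f g : X ⟶ Y) : IsOpenImmersion (equalizer.ι f g).left := by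
  refine MorphismProperty.of_isPullback (P := @IsOpenImmersion)
    ((Limits.isPullback_equalizer_prod f g).map (Over.forget _)).flip ?_
  rw [← MorphismProperty.cancel_right_of_respectsIso @IsOpenImmersion _
    (Over.prodLeftIsoPullback Y Y).hom]
  convert! (inferInstance : IsOpenImmersion (pullback.diagonal Y.hom))
  ext1 <;> simp [← Over.comp_left]

/-- two morphisms of `Y`-schemes into a separated unramified `Y`-scheme agree as soon as they agree
after base change along a morphism with dense image, provided the source is universally open
over `Y` -/
theorem eq_of_pullback_fst_comp_eq {X Y : Scheme.{u}} (f : X ⟶ Y) (h : DenseRange f.base)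
    (A B : Over Y) [UniversallyOpen A.hom] [IsSeparated B.hom]
    [IsOpenImmersion (pullback.diagonal B.hom)]
    (a b : A ⟶ B)
    (hab : pullback.fst A.hom f ≫ a.left = pullback.fst A.hom f ≫ b.left) : a = b := by
  haveI hcl : IsClosedImmersion (equalizer.ι a b).left := inferInstance
  haveI hop : IsOpenImmersion (equalizer.ι a b).left := isOpenImmersion_equalizer_ι_left a b
  -- the pullback projection factors through the equalizer
  let P : Over Y := Over.mk (pullback.fst A.hom f ≫ A.hom)
  let pr : P ⟶ A := Over.homMk (pullback.fst A.hom f) rfl
  have hpr : pr ≫ a = pr ≫ b := by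
    ext1
    exact hab
  let l : P ⟶ equalizer a b := equalizer.lift pr hpr
  have hl : l ≫ equalizer.ι a b = pr := equalizer.lift_ι pr hpr
  -- surjectivity of the equalizer inclusion
  have hsurj : Function.Surjective (equalizer.ι a b).left.base := by
    by_contra hns
    have hrange : IsClosed (Set.range (equalizer.ι a b).left.base) :=
      (equalizer.ι a b).left.isClosedEmbedding.isClosed_range
    have hW : IsOpen (Set.range (equalizer.ι a b).left.base)ᶜ := hrange.isOpen_compl
    have hne : (Set.range (equalizer.ι a b).left.base)ᶜ.Nonempty := by
      rw [Set.nonempty_compl]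
      intro htop
      exact hns (Set.range_eq_univ.1 htop)
    have himg : IsOpen (A.hom.base '' (Set.range (equalizer.ι a b).left.base)ᶜ) :=
      A.hom.isOpenMap _ hW
    obtain ⟨x, u, hu, hux⟩ := h.exists_mem_open himg (hne.image _)
    obtain ⟨z, hz1, hz2⟩ := Scheme.Pullback.exists_preimage_pullback (f := A.hom) (g := f) u x hux
    apply hu
    refine ⟨l.left.base z, ?_⟩
    have : (l ≫ equalizer.ι a b).left = pr.left := congrArg CommaMorphism.left hl
    rw [Over.comp_left] at this
    have h2 := congrArg (fun φ : P.left ⟶ A.left => φ.base z) this
    simp only [Scheme.Hom.comp_base, TopCat.hom_comp, ContinuousMap.comp_apply] at h2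
    rw [h2]
    exact hz1
  haveI : Epi (equalizer.ι a b).left.base := (TopCat.epi_iff_surjective _).2 hsurj
  haveI : IsIso (equalizer.ι a b).left := IsOpenImmersion.isIso _
  haveI : IsIso ((Over.forget Y).map (equalizer.ι a b)) := this
  haveI : IsIso (equalizer.ι a b) := isIso_of_reflects_iso _ (Over.forget Y)
  exact (cancel_epi (equalizer.ι a b)).1 (equalizer.condition a b)

end Groth.Agent.Helper23.FEtDense
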