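import Mathlib

/-!
# The monomial basis of a quotient by monic polynomials in separate variables

For monic `G i ∈ R[X]`, the quotient `R[X_1,…,X_r]/(G_1(X_1),…,G_r(X_r))` is free over `R` with
basis the monomials `∏ X_i^{e_i}`, `e_i < deg G_i`.
-/

set_option autoImplicit false
set_option linter.unusedSectionVars false
set_option linter.unusedVariables false

universe u

open scoped TensorProduct

namespace Groth.Agent.Helper23.MonicBasis

variable {R : Type u} [CommRing R] {r : ℕ} (G : Fin r → Polynomial R)

/-- the polynomial `G i` in the variable `X i` -/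
noncomputable def FG (i : Fin r) : MvPolynomial (Fin r) R :=
  Polynomial.aeval (MvPolynomial.X i : MvPolynomial (Fin r) R) (G i)

theorem aeval_FG {B : Type u} [CommRing B] [Algebra R B] (y : Fin r → B) (i : Fin r) :
    MvPolynomial.aeval y (FG G i) = Polynomial.aeval (y i) (G i) := by
  unfold FG
  rw [← Polynomial.aeval_algHom_apply, MvPolynomial.aeval_X]

/-- the quotient ring -/
abbrev QG : Type u := MvPolynomial (Fin r) R ⧸ Ideal.span (Set.range (FG G))

/-- the class of the `i`-th variable -/
noncomputable def x (i : Fin r) : QG G := Ideal.Quotient.mk _ (MvPolynomial.X i)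

theorem aeval_x (i : Fin r) : Polynomial.aeval (x G i) (G i) = 0 := by
  have h : Polynomial.aeval (x G i) (G i) =
      (Ideal.Quotient.mkₐ R (Ideal.span (Set.range (FG G)))) (FG G i) := by
    unfold FG x
    rw [← Polynomial.aeval_algHom_apply]
    rfl
  rw [h]
  exact Ideal.Quotient.eq_zero_iff_mem.2 (Ideal.subset_span ⟨i, rfl⟩)

/-- the monomials -/
noncomputable def mon (e : ∀ i : Fin r, Fin (G i).natDegree) : QG G :=
  ∏ i, x G i ^ (e i : ℕ)

section Indep

variable (hG : ∀ i, (G i).Monic)

/-- the tensor product model -/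
abbrev TG : Type u := PiTensorProduct R (fun i : Fin r => AdjoinRoot (G i))

noncomputable def rho (i : Fin r) : TG G :=
  PiTensorProduct.singleAlgHom (R := R) (A := fun i : Fin r => AdjoinRoot (G i)) i
    (AdjoinRoot.root (G i))

theorem aeval_rho (i : Fin r) : Polynomial.aeval (rho G i) (G i) = 0 := by
  unfold rho
  rw [Polynomial.aeval_algHom_apply, AdjoinRoot.aeval_eq, AdjoinRoot.mk_self, map_zero]

noncomputable def psi₀ : MvPolynomial (Fin r) R →ₐ[R] TG G := MvPolynomial.aeval (rho G)

theorem psi₀_FG (i : Fin r) : psi₀ G (FG G i) = 0 := by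
  unfold FG psi₀
  rw [← Polynomial.aeval_algHom_apply, MvPolynomial.aeval_X]
  exact aeval_rho G i

noncomputable def psi : QG G →ₐ[R] TG G :=
  Ideal.Quotient.liftₐ _ (psi₀ G) (by
    intro a ha
    have hle : Ideal.span (Set.range (FG G)) ≤ RingHom.ker (psi₀ G) := by
      rw [Ideal.span_le]
      rintro _ ⟨i, rfl⟩
      exact psi₀_FG G i
    exact hle ha)

theorem psi_x (i : Fin r) : psi G (x G i) = rho G i := by
  unfold psi x
  rw [Ideal.Quotient.liftₐ_apply, Ideal.Quotient.lift_mk]
  exact MvPolynomial.aeval_X _ _

theorem prod_single (y : ∀ i : Fin r, AdjoinRoot (G i)) :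
    ∏ i, PiTensorProduct.singleAlgHom (R := R) (A := fun i : Fin r => AdjoinRoot (G i)) i (y i) =
      PiTensorProduct.tprod R y := by
  simp only [PiTensorProduct.singleAlgHom_apply]
  rw [← PiTensorProduct.tprod_prod]
  congr 1
  exact Finset.univ_prod_mulSingle y

include hG in
theorem psi_mon (e : ∀ i : Fin r, Fin (G i).natDegree) :
    psi G (mon G e) =
      Basis.piTensorProduct (fun i => AdjoinRoot.powerBasisAux' (hG i)) e := by
  unfold mon
  rw [map_prod, Basis.piTensorProduct_apply]
  have h1 : ∀ i, psi G (x G i ^ (e i : ℕ)) =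
      PiTensorProduct.singleAlgHom (R := R) (A := fun i : Fin r => AdjoinRoot (G i)) i
        (AdjoinRoot.root (G i) ^ (e i : ℕ)) := by
    intro i
    rw [map_pow, psi_x, map_pow]
    rfl
  rw [Finset.prod_congr rfl (fun i _ => h1 i), prod_single]
  congr 1
  funext i
  exact ((AdjoinRoot.powerBasis' (hG i)).basis_eq_pow (e i)).symm

include hG in
theorem linearIndependent_mon : LinearIndependent R (mon G) := by
  have h : LinearIndependent R ((psi G).toLinearMap ∘ mon G) := by
    have h2 : (psi G).toLinearMap ∘ mon G =
        Basis.piTensorProduct (fun i => AdjoinRoot.powerBasisAux' (hG i)) := by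
      funext e
      exact psi_mon G hG e
    rw [h2]
    exact (Basis.piTensorProduct (fun i => AdjoinRoot.powerBasisAux' (hG i))).linearIndependent
  exact LinearIndependent.of_comp _ h

end Indep

section Span

variable (hG : ∀ i, (G i).Monic)

/-- the span of the monomials -/
noncomputable def W : Submodule R (QG G) := Submodule.span R (Set.range (mon G))

/-- the part of a monomial away from `i` -/
noncomputable def rest (i : Fin r) (e : ∀ i : Fin r, Fin (G i).natDegree) : QG G :=
  ∏ l ∈ Finset.univ.erase i, x G l ^ (e l : ℕ)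

theorem mon_eq (i : Fin r) (e : ∀ i : Fin r, Fin (G i).natDegree) :
    mon G e = x G i ^ (e i : ℕ) * rest G i e := by
  unfold mon rest
  exact (Finset.mul_prod_erase Finset.univ (fun l => x G l ^ (e l : ℕ)) (Finset.mem_univ i)).symm

theorem rest_update (i : Fin r) (e : ∀ i : Fin r, Fin (G i).natDegree) (t : Fin (G i).natDegree) :
    rest G i (Function.update e i t) = rest G i e := by
  unfold rest
  apply Finset.prod_congr rfl
  intro l hl
  rw [Function.update_of_ne (Finset.ne_of_mem_erase hl)]

theorem pow_mul_rest_eq (i : Fin r) (e : ∀ i : Fin r, Fin (G i).natDegree)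
    (t : Fin (G i).natDegree) :
    x G i ^ (t : ℕ) * rest G i e = mon G (Function.update e i t) := by
  rw [mon_eq G i (Function.update e i t), rest_update, Function.update_self]

include hG in
theorem x_pow_natDegree (i : Fin r) :
    x G i ^ (G i).natDegree =
      - ∑ j ∈ Finset.range (G i).natDegree, algebraMap R (QG G) ((G i).coeff j) * x G i ^ j := by
  have h := aeval_x G i
  rw [Polynomial.aeval_eq_sum_range, Finset.sum_range_succ, (hG i).coeff_natDegree, one_smul] at h
  rw [eq_neg_iff_add_eq_zero, add_comm]
  rw [← h]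
  congr 1
  apply Finset.sum_congr rfl
  intro j _
  rw [Algebra.smul_def]

include hG in
theorem pow_mul_rest_mem (i : Fin r) (e : ∀ i : Fin r, Fin (G i).natDegree) :
    ∀ t : ℕ, x G i ^ t * rest G i e ∈ W G := by
  intro t
  induction t using Nat.strong_induction_on with
  | _ t ih =>
  by_cases ht : t < (G i).natDegree
  · have := pow_mul_rest_eq G i e ⟨t, ht⟩
    rw [show ((⟨t, ht⟩ : Fin (G i).natDegree) : ℕ) = t from rfl] at this
    rw [this]
    exact Submodule.subset_span ⟨_, rfl⟩
  · push Not at ht
    obtain ⟨s, rfl⟩ := Nat.exists_eq_add_of_le ht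
    have hneg : x G i ^ ((G i).natDegree + s) * rest G i e =
        - ∑ j ∈ Finset.range (G i).natDegree,
          algebraMap R (QG G) ((G i).coeff j) * x G i ^ j * x G i ^ s * rest G i e := by
      rw [pow_add, x_pow_natDegree G hG i, ← Finset.sum_neg_distrib, Finset.sum_mul, Finset.sum_mul,
        ← Finset.sum_neg_distrib]
      apply Finset.sum_congr rfl
      intro j _
      ring
    rw [hneg]
    apply Submodule.neg_mem
    apply Submodule.sum_mem
    intro j hj
    have hj' : j < (G i).natDegree := Finset.mem_range.1 hj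
    have h1 : algebraMap R (QG G) ((G i).coeff j) * x G i ^ j * x G i ^ s * rest G i e =
        (G i).coeff j • (x G i ^ (j + s) * rest G i e) := by
      rw [Algebra.algebraMap_eq_smul_one, smul_mul_assoc, smul_mul_assoc, smul_mul_assoc, one_mul,
        pow_add]
    rw [h1]
    exact Submodule.smul_mem _ _ (ih (j + s) (by omega))

include hG in
theorem mul_x_mem (i : Fin r) : ∀ w ∈ W G, w * x G i ∈ W G := by
  intro w hw
  unfold W at hw
  induction hw using Submodule.span_induction with
  | mem w hw =>
    obtain ⟨e, rfl⟩ := hw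
    rw [mon_eq G i e]
    have : x G i ^ (e i : ℕ) * rest G i e * x G i = x G i ^ ((e i : ℕ) + 1) * rest G i e := by
      rw [pow_succ]
      ring
    rw [this]
    exact pow_mul_rest_mem G hG i e _
  | zero => rw [zero_mul]; exact Submodule.zero_mem _
  | add a b _ _ ha hb => rw [add_mul]; exact Submodule.add_mem _ ha hb
  | smul c a _ ha => rw [smul_mul_assoc]; exact Submodule.smul_mem _ _ ha

theorem one_mem_W (hpos : ∀ i, 0 < (G i).natDegree) : (1 : QG G) ∈ W G := by
  have : mon G (fun i => ⟨0, hpos i⟩) = 1 := by
    unfold mon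
    apply Finset.prod_eq_one
    intro i _
    exact pow_zero _
  rw [← this]
  exact Submodule.subset_span ⟨_, rfl⟩

include hG in
theorem W_eq_top (hpos : ∀ i, 0 < (G i).natDegree) : W G = ⊤ := by
  have key : ∀ P : MvPolynomial (Fin r) R,
      (Ideal.Quotient.mk (Ideal.span (Set.range (FG G)))) P ∈ W G := by
    intro P
    induction P using MvPolynomial.induction_on with
    | C a =>
      have : (Ideal.Quotient.mk (Ideal.span (Set.range (FG G)))) (MvPolynomial.C a) =
          algebraMap R (QG G) a := rfl
      rw [this, Algebra.algebraMap_eq_smul_one]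
      exact Submodule.smul_mem _ _ (one_mem_W G hpos)
    | add p q hp hq =>
      rw [map_add]
      exact Submodule.add_mem _ hp hq
    | mul_X p i hp =>
      rw [map_mul]
      exact mul_x_mem G hG i _ hp
  rw [eq_top_iff]
  intro q _
  obtain ⟨P, rfl⟩ := Ideal.Quotient.mk_surjective q
  exact key P

end Span

/-- the monomial basis -/
noncomputable def basis (hG : ∀ i, (G i).Monic) (hpos : ∀ i, 0 < (G i).natDegree) :
    Module.Basis (∀ i : Fin r, Fin (G i).natDegree) R (QG G) :=
  Module.Basis.mk (linearIndependent_mon G hG) (by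
    have := W_eq_top G hG hpos
    unfold W at this
    rw [this])

theorem basis_apply (hG : ∀ i, (G i).Monic) (hpos : ∀ i, 0 < (G i).natDegree)
    (e : ∀ i : Fin r, Fin (G i).natDegree) : basis G hG hpos e = mon G e := by
  unfold basis
  rw [Module.Basis.mk_apply]

end Groth.Agent.Helper23.MonicBasis
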