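import Mathlib
import Groth.Agent.Lib.Helper23.MonicBasis
import Groth.Agent.Lib.Helper3.WildQuot
import Groth.Agent.Lib.Lead.RLR1

/-!
# The Artin–Schreier family algebra `k[[x]][u] / (u_i^p - a_i^(p-1) u_i - x_i)`
-/

set_option autoImplicit false
set_option linter.unusedSectionVars false
set_option linter.unusedVariables false
set_option linter.style.haveILetI false

universe u

namespace Groth.Agent.Helper23.ASAlg

open Groth.Agent.Helper23.MonicBasis

variable (p : ℕ) [Fact p.Prime] (k : Type u) [Field k] [CharP k p] (n : ℕ)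
  (a : Fin n → MvPowerSeries (Fin n) k)

/-- the Artin–Schreier polynomials -/
noncomputable def Gp (i : Fin n) : Polynomial (MvPowerSeries (Fin n) k) :=
  Polynomial.X ^ p - Polynomial.C (a i ^ (p - 1)) * Polynomial.X -
    Polynomial.C (MvPowerSeries.X i)

theorem two_le_p : 2 ≤ p := (Fact.out : p.Prime).two_le

theorem aeval_Gp {B : Type u} [CommRing B] [Algebra (MvPowerSeries (Fin n) k) B] (y : B)
    (i : Fin n) : Polynomial.aeval y (Gp p k n a i) =
      y ^ p - algebraMap (MvPowerSeries (Fin n) k) B (a i ^ (p - 1)) * y -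
        algebraMap (MvPowerSeries (Fin n) k) B (MvPowerSeries.X i) := by
  unfold Gp
  simp only [map_sub, map_mul, Polynomial.aeval_X_pow, Polynomial.aeval_X, Polynomial.aeval_C]

theorem Gp_eq (i : Fin n) : Gp p k n a i = Polynomial.X ^ p -
    (Polynomial.C (a i ^ (p - 1)) * Polynomial.X + Polynomial.C (MvPowerSeries.X i)) := by
  unfold Gp
  rw [sub_sub]

theorem natDegree_tail_le (i : Fin n) :
    (Polynomial.C (a i ^ (p - 1)) * Polynomial.X + Polynomial.C (MvPowerSeries.X i) :
      Polynomial (MvPowerSeries (Fin n) k)).natDegree ≤ 1 := by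
  refine (Polynomial.natDegree_add_le _ _).trans (max_le ?_ ?_)
  · refine (Polynomial.natDegree_mul_le).trans ?_
    rw [Polynomial.natDegree_C, zero_add]
    exact Polynomial.natDegree_X_le
  · rw [Polynomial.natDegree_C]
    exact Nat.zero_le _

theorem Gp_monic (i : Fin n) : (Gp p k n a i).Monic := by
  have := two_le_p p
  rw [Gp_eq]
  apply Polynomial.monic_X_pow_sub
  refine lt_of_le_of_lt (Polynomial.degree_le_natDegree) ?_
  have h1 := natDegree_tail_le p k n a i
  exact_mod_cast (by omega : (Polynomial.C (a i ^ (p - 1)) * Polynomial.X +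
    Polynomial.C (MvPowerSeries.X i) : Polynomial (MvPowerSeries (Fin n) k)).natDegree < p)

theorem Gp_natDegree (i : Fin n) : (Gp p k n a i).natDegree = p := by
  have := two_le_p p
  have h1 := natDegree_tail_le p k n a i
  rw [Gp_eq, Polynomial.natDegree_sub_eq_left_of_natDegree_lt, Polynomial.natDegree_X_pow]
  rw [Polynomial.natDegree_X_pow]
  omega

theorem Gp_pos (i : Fin n) : 0 < (Gp p k n a i).natDegree := by
  rw [Gp_natDegree]
  have := two_le_p p
  omega

theorem FG_Gp (i : Fin n) : FG (Gp p k n a) i =
    MvPolynomial.X i ^ p - MvPolynomial.C (a i ^ (p - 1)) * MvPolynomial.X i -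
      MvPolynomial.C (MvPowerSeries.X i) := by
  unfold FG Gp
  simp only [map_sub, map_mul, map_pow, Polynomial.aeval_X, Polynomial.aeval_C]
  rfl

theorem ideal_eq : Ideal.span (Set.range fun i : Fin n =>
    (MvPolynomial.X i ^ p - MvPolynomial.C (a i ^ (p - 1)) * MvPolynomial.X i -
      MvPolynomial.C (MvPowerSeries.X i) : MvPolynomial (Fin n) (MvPowerSeries (Fin n) k))) =
    Ideal.span (Set.range (FG (Gp p k n a))) := by
  congr 2
  funext i
  exact (FG_Gp p k n a i).symm

/-- the algebra -/
abbrev A : Type u := QG (Gp p k n a)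

/-- the class of `u_i` -/
noncomputable abbrev uu (i : Fin n) : A p k n a := x (Gp p k n a) i

/-- the monomial basis -/
noncomputable def bas : Module.Basis (∀ i : Fin n, Fin (Gp p k n a i).natDegree)
    (MvPowerSeries (Fin n) k) (A p k n a) :=
  basis (Gp p k n a) (Gp_monic p k n a) (Gp_pos p k n a)

theorem bas_apply (e : ∀ i : Fin n, Fin (Gp p k n a i).natDegree) :
    bas p k n a e = mon (Gp p k n a) e :=
  basis_apply _ _ _ e

theorem smul_eq (r : MvPowerSeries (Fin n) k) (y : A p k n a) :
    r • y = algebraMap _ (A p k n a) r * y := Algebra.smul_def r y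

theorem rel (i : Fin n) : uu p k n a i ^ p =
    algebraMap (MvPowerSeries (Fin n) k) (A p k n a) (a i ^ (p - 1)) * uu p k n a i +
      algebraMap (MvPowerSeries (Fin n) k) (A p k n a) (MvPowerSeries.X i) := by
  have h := aeval_x (Gp p k n a) i
  unfold Gp at h
  simp only [map_sub, map_mul, map_pow, Polynomial.aeval_X, Polynomial.aeval_C] at h
  rw [sub_sub, sub_eq_zero] at h
  rw [map_pow]
  exact h

section Domain
variable (ham : ∀ i, MvPowerSeries.constantCoeff (a i) = 0)

include ham in
theorem isDomain : IsDomain (A p k n a) := by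
  have h := (Groth.Agent.Helper3.WildQuot.main p k n a ham).1
  have h2 : IsRegularLocalRing (A p k n a) := by
    have e := ideal_eq p k n a
    unfold A QG
    rw [← e]
    exact h
  exact Groth.Agent.Lead.RLR.isDomain (A p k n a)

end Domain

theorem algebraMap_injective :
    Function.Injective (algebraMap (MvPowerSeries (Fin n) k) (A p k n a)) := by
  intro r s hrs
  have h1 : mon (Gp p k n a) (fun i => ⟨0, Gp_pos p k n a i⟩) = 1 := by
    unfold mon
    apply Finset.prod_eq_one
    intro i _
    exact pow_zero _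
  have h2 : ∀ t : MvPowerSeries (Fin n) k, algebraMap _ (A p k n a) t =
      t • bas p k n a (fun i => ⟨0, Gp_pos p k n a i⟩) := by
    intro t
    rw [bas_apply, h1, Algebra.algebraMap_eq_smul_one]
  rw [h2, h2] at hrs
  have h3 := congrArg (fun z => (bas p k n a).repr z (fun i => ⟨0, Gp_pos p k n a i⟩)) hrs
  simpa using h3

instance charP_R : CharP (MvPowerSeries (Fin n) k) p :=
  charP_of_injective_algebraMap (R := k) (A := MvPowerSeries (Fin n) k)
    (MvPowerSeries.C_injective (σ := Fin n) (R := k)) p

instance charP_A : CharP (A p k n a) p :=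
  charP_of_injective_algebraMap (algebraMap_injective p k n a) p

end Groth.Agent.Helper23.ASAlg
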