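import Mathlib
import Groth.Prelude.Def_GrSyz

/-!
# The Auslander–Buchsbaum formula for matrix resolutions, via `Ext(R/𝔪, -)`

For a free resolution `F` (in the sense of `GrSyz.FreeRes`, only the matrices are used) of `M` over a
ring `R`, all of whose matrix entries lie in an ideal `𝔪`, and `D` with `Ext^i(R/𝔪, R) = 0` for
`i < D`:

* `ab_vanish`: if `F` has length `≤ L` then `Ext^i(R/𝔪, M) = 0` for `i + L < D`;
* `ab_nontrivial`: if moreover `Ext^D(R/𝔪, R) ≠ 0` and `F` has length exactly `ℓ ≤ D` then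
  `Ext^{D-ℓ}(R/𝔪, M) ≠ 0`.
-/

set_option autoImplicit false
set_option linter.unusedSectionVars false
set_option linter.unusedVariables false
set_option linter.style.haveILetI false

universe u

open CategoryTheory Abelian

namespace Groth.Agent.Helper23.ABExt

section General

variable {C : Type*} [Category C] [Abelian C] [HasExt C]

theorem ext_subsingleton_X₃ {S : ShortComplex C} (hS : S.ShortExact) (X : C) (i : ℕ)
    (h2 : Subsingleton (Ext X S.X₂ i)) (h1 : Subsingleton (Ext X S.X₁ (i + 1))) :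
    Subsingleton (Ext X S.X₃ i) := by
  refine ⟨fun a b => ?_⟩
  have key : ∀ c : Ext X S.X₃ i, c = 0 := by
    intro c
    obtain ⟨x₂, hx₂⟩ := Ext.covariant_sequence_exact₃ X hS c rfl (Subsingleton.elim _ _)
    rw [← hx₂, Subsingleton.elim x₂ 0, Ext.zero_comp]
  rw [key a, key b]

theorem ext_nontrivial_X₃ {S : ShortComplex C} (hS : S.ShortExact) (X : C) (e : ℕ)
    (hA : Nontrivial (Ext X S.X₁ (e + 1)))
    (hz : ∀ x : Ext X S.X₁ (e + 1), x.comp (Ext.mk₀ S.f) (add_zero (e + 1)) = 0) :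
    Nontrivial (Ext X S.X₃ e) := by
  obtain ⟨x₁, hx₁⟩ := exists_ne (0 : Ext X S.X₁ (e + 1))
  obtain ⟨x₃, hx₃⟩ := Ext.covariant_sequence_exact₁ X hS x₁ (hz x₁) rfl
  refine ⟨x₃, 0, ?_⟩
  rintro rfl
  rw [Ext.zero_comp] at hx₃
  exact hx₁ hx₃.symm

theorem ext_subsingleton_of_isZero {X Y : C} (hY : Limits.IsZero Y) (i : ℕ) :
    Subsingleton (Ext X Y i) := by
  refine ⟨fun a b => ?_⟩
  have key : ∀ c : Ext X Y i, c = 0 := by
    intro c
    rw [← Ext.comp_mk₀_id c, hY.eq_of_src (𝟙 Y) 0, Ext.mk₀_zero, Ext.comp_zero]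
  rw [key a, key b]

theorem ext_nontrivial_of_iso (X : C) {Y Y' : C} (e : Y ≅ Y') (i : ℕ)
    (h : Nontrivial (Ext X Y i)) : Nontrivial (Ext X Y' i) := by
  obtain ⟨y, hy⟩ := exists_ne (0 : Ext X Y i)
  refine ⟨y.comp (Ext.mk₀ e.hom) (add_zero i), 0, ?_⟩
  intro h0
  apply hy
  have : (y.comp (Ext.mk₀ e.hom) (add_zero i)).comp (Ext.mk₀ e.inv) (add_zero i) = y := by
    rw [Ext.comp_assoc_of_third_deg_zero, Ext.mk₀_comp_mk₀, e.hom_inv_id, Ext.comp_mk₀_id]
  rw [← this, h0, Ext.zero_comp]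

theorem ext_subsingleton_of_iso (X : C) {Y Y' : C} (e : Y ≅ Y') (i : ℕ)
    (h : Subsingleton (Ext X Y i)) : Subsingleton (Ext X Y' i) := by
  refine ⟨fun a b => ?_⟩
  have key : ∀ c : Ext X Y' i, c = (c.comp (Ext.mk₀ e.inv) (add_zero i)).comp (Ext.mk₀ e.hom)
      (add_zero i) := by
    intro c
    rw [Ext.comp_assoc_of_third_deg_zero, Ext.mk₀_comp_mk₀, e.inv_hom_id, Ext.comp_mk₀_id]
  rw [key a, key b, Subsingleton.elim (a.comp (Ext.mk₀ e.inv) (add_zero i))
    (b.comp (Ext.mk₀ e.inv) (add_zero i))]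

end General

section Kill

variable {R : Type u} [CommRing R]

/-- (from Lead's `Depth4`) a scalar killing the first argument kills `Ext` -/
theorem ext_smul_eq_zero_of_left {X Y : ModuleCat.{u} R} {r : R} (hr : ∀ x : X, r • x = 0)
    {n : ℕ} (e : Ext X Y n) : r • e = 0 := by
  have h0 : r • 𝟙 X = 0 := by
    refine ModuleCat.hom_ext (LinearMap.ext fun x => ?_)
    simp only [ModuleCat.hom_smul, ModuleCat.hom_id, LinearMap.smul_apply, LinearMap.id_apply,
      ModuleCat.hom_zero, LinearMap.zero_apply]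
    exact hr x
  have h1 : r • e = (Ext.mk₀ (r • 𝟙 X)).comp e (zero_add n) := by
    rw [Ext.mk₀_smul, Ext.smul_comp, Ext.mk₀_id_comp]
  rw [h1, h0, Ext.mk₀_zero, Ext.zero_comp]

/-- (from Lead's `Depth4`) a scalar killing the second argument kills `Ext` -/
theorem ext_smul_eq_zero_of_right {X Y : ModuleCat.{u} R} {r : R} (hr : ∀ y : Y, r • y = 0)
    {n : ℕ} (e : Ext X Y n) : r • e = 0 := by
  have h0 : r • 𝟙 Y = 0 := by
    refine ModuleCat.hom_ext (LinearMap.ext fun y => ?_)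
    simp only [ModuleCat.hom_smul, ModuleCat.hom_id, LinearMap.smul_apply, LinearMap.id_apply,
      ModuleCat.hom_zero, LinearMap.zero_apply]
    exact hr y
  rw [Ext.smul_eq_comp_mk₀, h0, Ext.mk₀_zero, Ext.comp_zero]

/-- (from Lead's `Depth4`) if `IM = M` (with `M` finite) then all `Ext^i(R/I, M)` vanish. -/
theorem ext_subsingleton_of_smul_top_eq_top (I : Ideal R) (M : Type u) [AddCommGroup M]
    [Module R M] [Module.Finite R M] (h : I • (⊤ : Submodule R M) = ⊤) (i : ℕ) :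
    Subsingleton (Ext (ModuleCat.of R (R ⧸ I)) (ModuleCat.of R M) i) := by
  obtain ⟨r, hrI, hr⟩ := Submodule.exists_sub_one_mem_and_smul_eq_zero_of_fg_of_le_smul I
    (⊤ : Submodule R M) Module.Finite.fg_top (by rw [h])
  refine ⟨fun a b => ?_⟩
  have key : ∀ c : Ext (ModuleCat.of R (R ⧸ I)) (ModuleCat.of R M) i, c = 0 := by
    intro c
    have h1 : r • c = 0 := ext_smul_eq_zero_of_right (fun y => hr y Submodule.mem_top) c
    have h2 : (r - 1) • c = 0 := by
      apply ext_smul_eq_zero_of_left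
      intro x
      obtain ⟨a, rfl⟩ := Ideal.Quotient.mk_surjective x
      show (r - 1) • (Ideal.Quotient.mk I a) = 0
      rw [← Ideal.Quotient.mk_eq_mk, ← Submodule.Quotient.mk_smul, Ideal.Quotient.mk_eq_mk,
        Ideal.Quotient.eq_zero_iff_mem]
      exact I.mul_mem_right _ hrI
    have : c = r • c - (r - 1) • c := by
      rw [sub_smul, one_smul]; abel
    rw [this, h1, h2, sub_zero]
  rw [key a, key b]

end Kill

section Free

variable {R : Type u} [CommRing R] (𝔪 : Ideal R)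

/-- the residue module `R ⧸ 𝔪` -/
abbrev K : ModuleCat.{u} R := ModuleCat.of R (R ⧸ 𝔪)

/-- the free module of rank `m` -/
abbrev P (R : Type u) [CommRing R] (m : ℕ) : ModuleCat.{u} R := ModuleCat.of R (Fin m → R)

/-- the `b`-th coordinate projection -/
def π (R : Type u) [CommRing R] (m : ℕ) (b : Fin m) : P R m ⟶ ModuleCat.of R R :=
  ModuleCat.ofHom (LinearMap.proj b)

/-- the `b`-th coordinate inclusion -/
def ι (R : Type u) [CommRing R] (m : ℕ) (b : Fin m) : ModuleCat.of R R ⟶ P R m :=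
  ModuleCat.ofHom (LinearMap.single R (fun _ => R) b)

theorem ι_π (m : ℕ) (b : Fin m) : ι R m b ≫ π R m b = 𝟙 _ := by
  refine ModuleCat.hom_ext (LinearMap.ext fun x => ?_)
  simp [ι, π]

theorem sum_π_ι (m : ℕ) : ∑ b, π R m b ≫ ι R m b = 𝟙 (P R m) := by
  refine ModuleCat.hom_ext (LinearMap.ext fun v => ?_)
  rw [ModuleCat.hom_sum, LinearMap.sum_apply]
  simp only [ι, π, ModuleCat.hom_comp, ModuleCat.hom_ofHom, LinearMap.comp_apply,
    LinearMap.proj_apply, LinearMap.coe_single, ModuleCat.hom_id, LinearMap.id_apply]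
  exact Finset.univ_sum_single v

theorem ext_free_subsingleton (i m : ℕ)
    (h : Subsingleton (Ext (K 𝔪) (ModuleCat.of R R) i)) :
    Subsingleton (Ext (K 𝔪) (P R m) i) := by
  refine ⟨fun a b => ?_⟩
  have key : ∀ x : Ext (K 𝔪) (P R m) i, x = 0 := by
    intro x
    rw [← Ext.comp_mk₀_id x, ← sum_π_ι, Ext.mk₀_sum, Ext.comp_sum]
    apply Finset.sum_eq_zero
    intro b _
    rw [← Ext.mk₀_comp_mk₀, ← Ext.comp_assoc_of_third_deg_zero,
      Subsingleton.elim (x.comp (Ext.mk₀ (π R m b)) (add_zero i)) 0, Ext.zero_comp]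
  rw [key a, key b]

theorem ext_free_nontrivial (i m : ℕ) (hm : 0 < m)
    (h : Nontrivial (Ext (K 𝔪) (ModuleCat.of R R) i)) :
    Nontrivial (Ext (K 𝔪) (P R m) i) := by
  obtain ⟨y, hy⟩ := exists_ne (0 : Ext (K 𝔪) (ModuleCat.of R R) i)
  refine ⟨y.comp (Ext.mk₀ (ι R m ⟨0, hm⟩)) (add_zero i), 0, ?_⟩
  intro h0
  apply hy
  have : (y.comp (Ext.mk₀ (ι R m ⟨0, hm⟩)) (add_zero i)).comp (Ext.mk₀ (π R m ⟨0, hm⟩))
      (add_zero i) = y := by
    rw [Ext.comp_assoc_of_third_deg_zero, Ext.mk₀_comp_mk₀, ι_π, Ext.comp_mk₀_id]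
  rw [← this, h0, Ext.zero_comp]

theorem ofHom_mulVecLin {a b : ℕ} (d : Matrix (Fin a) (Fin b) R) :
    (ModuleCat.ofHom (Matrix.mulVecLin d) : P R b ⟶ P R a) =
      ∑ r, ∑ c, d r c • (π R b c ≫ ι R a r) := by
  refine ModuleCat.hom_ext (LinearMap.ext fun v => ?_)
  rw [ModuleCat.hom_sum, LinearMap.sum_apply]
  funext r
  simp only [ModuleCat.hom_ofHom, Matrix.mulVecLin_apply, ModuleCat.hom_sum, LinearMap.sum_apply,
    Finset.sum_apply, ModuleCat.hom_smul, LinearMap.smul_apply, ι, π, ModuleCat.hom_comp,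
    LinearMap.comp_apply, LinearMap.proj_apply, LinearMap.coe_single, Pi.smul_apply, smul_eq_mul]
  rw [Matrix.mulVec, dotProduct]
  rw [Finset.sum_eq_single r]
  · apply Finset.sum_congr rfl
    intro c _
    rw [Pi.single_eq_same]
  · intro r' _ hr'
    apply Finset.sum_eq_zero
    intro c _
    rw [Pi.single_eq_of_ne hr'.symm, mul_zero]
  · intro h; exact absurd (Finset.mem_univ r) h

theorem ext_comp_matrix_eq_zero {a b : ℕ} (d : Matrix (Fin a) (Fin b) R)
    (hd : ∀ r c, d r c ∈ 𝔪) (i : ℕ) (x : Ext (K 𝔪) (P R b) i) :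
    x.comp (Ext.mk₀ (ModuleCat.ofHom (Matrix.mulVecLin d) : P R b ⟶ P R a)) (add_zero i) = 0 := by
  rw [ofHom_mulVecLin, Ext.mk₀_sum, Ext.comp_sum]
  apply Finset.sum_eq_zero
  intro r _
  rw [Ext.mk₀_sum, Ext.comp_sum]
  apply Finset.sum_eq_zero
  intro c _
  rw [Ext.mk₀_smul, Ext.comp_smul]
  apply ext_smul_eq_zero_of_left
  intro y
  obtain ⟨y', rfl⟩ := Ideal.Quotient.mk_surjective (I := 𝔪) y
  change (d r c) • (Ideal.Quotient.mk 𝔪 y') = 0
  rw [← Ideal.Quotient.mk_eq_mk, ← Submodule.Quotient.mk_smul, Ideal.Quotient.mk_eq_mk,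
    Ideal.Quotient.eq_zero_iff_mem]
  exact 𝔪.mul_mem_right _ (hd r c)

end Free

end Groth.Agent.Helper23.ABExt
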