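import Groth.Agent.Lib.Helper23.ABExt

/-!
# Auslander–Buchsbaum for `GrSyz.FreeRes` via `Ext(R/𝔪, -)`: the induction along the resolution
-/

set_option autoImplicit false
set_option linter.unusedSectionVars false
set_option linter.unusedVariables false
set_option linter.style.haveILetI false

universe u

open CategoryTheory Abelian GrSyz

namespace Groth.Agent.Helper23.ABExt

section Res

variable {R : Type u} [CommRing R] {σ' : Type u} [SetLike σ' R] [AddSubgroupClass σ' R]
  {𝒜 : ℤ → σ'} [GradedRing 𝒜]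
  {M : Type u} [AddCommGroup M] [Module R M] {τ : Type u} [SetLike τ M] [AddSubgroupClass τ M]
  {ℳ : ℤ → τ} [DirectSum.Decomposition ℳ] [SetLike.GradedSMul 𝒜 ℳ]
  (F : FreeRes 𝒜 ℳ)

/-- the image of the `j`-th differential, i.e. the `(j+1)`-st syzygy module -/
def Z (j : ℕ) : Submodule R (Fin (F.rk j) → R) := LinearMap.range (F.dLin j)

/-- `0 → Z (j+1) → F_{j+1} → Z j → 0` -/
noncomputable def sesZ (j : ℕ) : ShortComplex (ModuleCat.{u} R) :=
  ModuleCat.shortComplexOfCompEqZero (Z F (j + 1)).subtype (F.dLin j).rangeRestrict (by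
    refine LinearMap.ext fun z => ?_
    obtain ⟨z, w, rfl⟩ := z
    apply Subtype.ext
    change F.dLin j (F.dLin (j + 1) w) = 0
    have : F.dLin (j + 1) w ∈ LinearMap.ker (F.dLin j) := by
      rw [F.exact_succ j]; exact ⟨w, rfl⟩
    exact this)

theorem sesZ_shortExact (j : ℕ) : (sesZ F j).ShortExact := by
  have hex : Function.Exact (Z F (j + 1)).subtype (F.dLin j).rangeRestrict := by
    intro v
    constructor
    · intro hv
      have h1 : v ∈ LinearMap.ker (F.dLin j) := by
        have := congrArg Subtype.val hv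
        exact this
      rw [F.exact_succ j] at h1
      exact ⟨⟨v, h1⟩, rfl⟩
    · rintro ⟨⟨z, w, rfl⟩, rfl⟩
      apply Subtype.ext
      change F.dLin j (F.dLin (j + 1) w) = 0
      have : F.dLin (j + 1) w ∈ LinearMap.ker (F.dLin j) := by
        rw [F.exact_succ j]; exact ⟨w, rfl⟩
      exact this
  have hs : Function.Surjective (F.dLin j).rangeRestrict :=
    LinearMap.surjective_rangeRestrict (F.dLin j)
  have hi : Function.Injective (Z F (j + 1)).subtype := Subtype.val_injective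
  exact ModuleCat.shortComplex_shortExact (sesZ F j) hex hi hs

/-- `0 → Z 0 → F_0 → M → 0` -/
noncomputable def sesM : ShortComplex (ModuleCat.{u} R) :=
  ModuleCat.shortComplexOfCompEqZero (Z F 0).subtype F.augLin (by
    refine LinearMap.ext fun z => ?_
    obtain ⟨z, w, rfl⟩ := z
    change F.augLin (F.dLin 0 w) = 0
    have : F.dLin 0 w ∈ LinearMap.ker F.augLin := by
      rw [F.exact_zero]; exact ⟨w, rfl⟩
    exact this)

theorem sesM_shortExact : (sesM F).ShortExact := by
  have hex : Function.Exact (Z F 0).subtype F.augLin := by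
    intro v
    constructor
    · intro hv
      have h1 : v ∈ LinearMap.ker F.augLin := hv
      rw [F.exact_zero] at h1
      exact ⟨⟨v, h1⟩, rfl⟩
    · rintro ⟨⟨z, w, rfl⟩, rfl⟩
      have : F.dLin 0 w ∈ LinearMap.ker F.augLin := by
        rw [F.exact_zero]; exact ⟨w, rfl⟩
      exact this
  have hi : Function.Injective (Z F 0).subtype := Subtype.val_injective
  exact ModuleCat.shortComplex_shortExact (sesM F) hex hi F.aug_surjective

theorem Z_eq_bot (j : ℕ) (h : F.rk (j + 1) = 0) : Z F j = ⊥ := by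
  rw [eq_bot_iff]
  rintro _ ⟨w, rfl⟩
  have hw : w = 0 := by
    funext b
    have := b.2
    omega
  rw [hw, map_zero]
  exact Submodule.zero_mem _

theorem dLin_injective (j : ℕ) (h : F.rk (j + 2) = 0) : Function.Injective (F.dLin j) := by
  rw [← LinearMap.ker_eq_bot, F.exact_succ j]
  exact Z_eq_bot F (j + 1) h

theorem augLin_injective (h : F.rk 1 = 0) : Function.Injective F.augLin := by
  rw [← LinearMap.ker_eq_bot, F.exact_zero]
  exact Z_eq_bot F 0 h

/-- the top isomorphism `F_{j+1} ≅ Z j` when `F_{j+2} = 0` -/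
noncomputable def topIso (j : ℕ) (h : F.rk (j + 2) = 0) :
    P R (F.rk (j + 1)) ≅ ModuleCat.of R (Z F j) :=
  (LinearEquiv.ofInjective (F.dLin j) (dLin_injective F j h)).toModuleIso

theorem topIso_hom_subtype (j : ℕ) (h : F.rk (j + 2) = 0) :
    (topIso F j h).hom ≫ ModuleCat.ofHom (Z F j).subtype = ModuleCat.ofHom (F.dLin j) := by
  refine ModuleCat.hom_ext (LinearMap.ext fun v => ?_)
  rfl

/-- the isomorphism `F_0 ≅ M` when `F_1 = 0` -/
noncomputable def augIso (h : F.rk 1 = 0) : P R (F.rk 0) ≅ ModuleCat.of R M :=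
  (LinearEquiv.ofBijective F.augLin ⟨augLin_injective F h, F.aug_surjective⟩).toModuleIso

variable (𝔪 : Ideal R)

/-- the inclusion of the top syzygy induces zero on `Ext(R/𝔪, -)` for a minimal resolution -/
theorem comp_subtype_eq_zero (hmin : F.IsMinimal 𝔪) (j : ℕ) (h : F.rk (j + 2) = 0) (i : ℕ)
    (x : Ext (K 𝔪) (ModuleCat.of R (Z F j)) i) :
    x.comp (Ext.mk₀ (ModuleCat.ofHom (Z F j).subtype)) (add_zero i) = 0 := by
  have hx : x = (x.comp (Ext.mk₀ (topIso F j h).inv) (add_zero i)).comp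
      (Ext.mk₀ (topIso F j h).hom) (add_zero i) := by
    rw [Ext.comp_assoc_of_third_deg_zero, Ext.mk₀_comp_mk₀, Iso.inv_hom_id, Ext.comp_mk₀_id]
  rw [hx, Ext.comp_assoc_of_third_deg_zero, Ext.mk₀_comp_mk₀, topIso_hom_subtype]
  exact ext_comp_matrix_eq_zero 𝔪 (F.d j) (hmin j) i _

variable (D : ℕ) (hR : ∀ i < D, Subsingleton (Ext (K 𝔪) (ModuleCat.of R R) i))

include hR in
/-- vanishing for the syzygies -/
theorem vanish_Z (L : ℕ) (hL : F.HasLengthLE L) :
    ∀ c j : ℕ, j + c = L → ∀ i : ℕ, i + c ≤ D →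
      Subsingleton (Ext (K 𝔪) (ModuleCat.of R (Z F j)) i) := by
  intro c
  induction c with
  | zero =>
    intro j hj i _
    have hbot : Z F j = ⊥ := Z_eq_bot F j (hL (j + 1) (by omega))
    apply ext_subsingleton_of_isZero
    haveI : Subsingleton (Z F j) := by
      rw [hbot]; infer_instance
    exact ModuleCat.isZero_of_subsingleton _
  | succ c ih =>
    intro j hj i hi
    exact ext_subsingleton_X₃ (sesZ_shortExact F j) (K 𝔪) i
      (ext_free_subsingleton 𝔪 i _ (hR i (by omega)))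
      (ih (j + 1) (by omega) (i + 1) (by omega))

include hR in
/-- **vanishing**: a resolution of length `≤ L` gives `Ext^i(R/𝔪, M) = 0` for `i + L < D` -/
theorem ab_vanish (L : ℕ) (hL : F.HasLengthLE L) (i : ℕ) (hi : i + L < D) :
    Subsingleton (Ext (K 𝔪) (ModuleCat.of R M) i) :=
  ext_subsingleton_X₃ (sesM_shortExact F) (K 𝔪) i
    (ext_free_subsingleton 𝔪 i _ (hR i (by omega)))
    (vanish_Z F 𝔪 D hR L hL L 0 (by omega) (i + 1) (by omega))

variable (hRD : Nontrivial (Ext (K 𝔪) (ModuleCat.of R R) D))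

include hR hRD in
theorem nontrivial_Z (hmin : F.IsMinimal 𝔪) (ℓ : ℕ) (hℓ : F.HasLengthLE ℓ) (hℓ' : F.rk ℓ ≠ 0) :
    ∀ c j e : ℕ, j + c + 1 = ℓ → e + c = D →
      Nontrivial (Ext (K 𝔪) (ModuleCat.of R (Z F j)) e) := by
  intro c
  induction c with
  | zero =>
    intro j e hj he
    have h2 : F.rk (j + 2) = 0 := hℓ (j + 2) (by omega)
    have hpos : 0 < F.rk (j + 1) := by
      rw [hj]; exact Nat.pos_of_ne_zero hℓ'
    have he' : e = D := by omega
    subst he'
    exact ext_nontrivial_of_iso (K 𝔪) (topIso F j h2) e (ext_free_nontrivial 𝔪 e _ hpos hRD)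
  | succ c ih =>
    intro j e hj he
    have hA := ih (j + 1) (e + 1) (by omega) (by omega)
    apply ext_nontrivial_X₃ (sesZ_shortExact F j) (K 𝔪) e hA
    intro x
    rcases Nat.eq_zero_or_pos c with hc | hc
    · subst hc
      exact comp_subtype_eq_zero F 𝔪 hmin (j + 1) (hℓ (j + 1 + 2) (by omega)) (e + 1) x
    · haveI := ext_free_subsingleton 𝔪 (e + 1) (F.rk (j + 1)) (hR (e + 1) (by omega))
      exact Subsingleton.elim (α := Ext (K 𝔪) (P R (F.rk (j + 1))) (e + 1)) _ _

include hR hRD in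
/-- **non-vanishing**: a minimal resolution of length exactly `ℓ ≤ D` gives
`Ext^{D-ℓ}(R/𝔪, M) ≠ 0` -/
theorem ab_nontrivial (hmin : F.IsMinimal 𝔪) (ℓ : ℕ) (hℓ : F.HasLengthLE ℓ) (hℓ' : F.rk ℓ ≠ 0)
    (e : ℕ) (he : e + ℓ = D) :
    Nontrivial (Ext (K 𝔪) (ModuleCat.of R M) e) := by
  rcases Nat.eq_zero_or_pos ℓ with h0 | hpos
  · subst h0
    have he' : e = D := by omega
    subst he'
    exact ext_nontrivial_of_iso (K 𝔪) (augIso F (hℓ 1 (by omega))) e
      (ext_free_nontrivial 𝔪 e _ (Nat.pos_of_ne_zero hℓ') hRD)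
  · have hA := nontrivial_Z F 𝔪 D hR hRD hmin ℓ hℓ hℓ' (ℓ - 1) 0 (e + 1) (by omega) (by omega)
    apply ext_nontrivial_X₃ (sesM_shortExact F) (K 𝔪) e hA
    intro x
    rcases Nat.eq_zero_or_pos (ℓ - 1) with hc | hc
    · exact comp_subtype_eq_zero F 𝔪 hmin 0 (hℓ 2 (by omega)) (e + 1) x
    · haveI := ext_free_subsingleton 𝔪 (e + 1) (F.rk 0) (hR (e + 1) (by omega))
      exact Subsingleton.elim (α := Ext (K 𝔪) (P R (F.rk 0)) (e + 1)) _ _

end Res

end Groth.Agent.Helper23.ABExt
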