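import Groth.Agent.Lib.Helper23.GrSyzHilb

/-!
# Existence of minimal graded free resolutions over polynomial rings (`GrSyz`)
-/

set_option autoImplicit false

universe u v

open GrSyz MvPolynomial DirectSum

namespace Groth.Agent.Helper23.GrSyzMin

open Groth.Agent.Helper23.GrSyzLib Groth.Agent.Helper23.GrSyzHilb

section Gen

variable {S : Type*} [CommRing S] {N : Type*} [AddCommGroup N] [Module S N]

/-- abstract existence of an irredundant finite family of homogeneous generators of minimal
cardinality -/
theorem exists_min_hom_gens (Hom : ℤ → Set N) (proj : ℤ → N → N)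
    (hproj : ∀ e x, proj e x ∈ Hom e) (hsum : ∀ x, ∃ E : Finset ℤ, x = ∑ e ∈ E, proj e x)
    (K : Submodule S N) (hK : ∀ x ∈ K, ∀ e, proj e x ∈ K) (hfg : K.FG) :
    ∃ (m : ℕ) (δ : Fin m → ℤ) (g : Fin m → N), (∀ b, g b ∈ Hom (δ b)) ∧
      Submodule.span S (Set.range g) = K ∧
      ∀ b, g b ∉ Submodule.span S (g '' {b' | b' ≠ b}) := by
  classical
  let P : ℕ → Prop := fun m => ∃ (δ : Fin m → ℤ) (g : Fin m → N), (∀ b, g b ∈ Hom (δ b)) ∧
      Submodule.span S (Set.range g) = K
  have hex : ∃ m, P m := by
    obtain ⟨m0, v, hv⟩ := Submodule.fg_iff_exists_fin_generating_family.mp hfg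
    choose E hE using fun j => hsum (v j)
    let ι := Σ j : Fin m0, (E j : Set ℤ)
    have : Fintype ι := by
      classical
      exact Sigma.instFintype
    let g0 : ι → N := fun x => proj x.2.1 (v x.1)
    let δ0 : ι → ℤ := fun x => x.2.1
    have hg0K : ∀ x, g0 x ∈ K := by
      intro x
      apply hK
      rw [← hv]
      exact Submodule.subset_span ⟨x.1, rfl⟩
    have hspan : Submodule.span S (Set.range g0) = K := by
      apply le_antisymm
      · rw [Submodule.span_le]
        rintro _ ⟨x, rfl⟩
        exact hg0K x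
      · rw [← hv, Submodule.span_le]
        rintro _ ⟨j, rfl⟩
        show v j ∈ Submodule.span S (Set.range g0)
        rw [hE j]
        apply Submodule.sum_mem
        intro e he
        exact Submodule.subset_span ⟨⟨j, ⟨e, he⟩⟩, rfl⟩
    let eqv := Fintype.equivFin ι
    refine ⟨Fintype.card ι, fun b => δ0 (eqv.symm b), fun b => g0 (eqv.symm b), ?_, ?_⟩
    · intro b
      exact hproj _ _
    · rw [← hspan]
      congr 1
      ext y
      constructor
      · rintro ⟨b, rfl⟩; exact ⟨eqv.symm b, rfl⟩
      · rintro ⟨x, rfl⟩; exact ⟨eqv x, by simp⟩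
  obtain ⟨δ, g, hg, hspan⟩ := Nat.find_spec hex
  refine ⟨Nat.find hex, δ, g, hg, hspan, ?_⟩
  intro b hb
  -- remove b
  obtain ⟨m, hm⟩ : ∃ m, Nat.find hex = m + 1 := by
    have : Nat.find hex ≠ 0 := by
      intro h0
      exact (h0 ▸ b).elim0
    exact ⟨Nat.find hex - 1, by omega⟩
  have hP : P m := by
    revert δ g b
    rw [hm]
    intro δ g hg hspan b hb
    refine ⟨fun c => δ (b.succAbove c), fun c => g (b.succAbove c), fun c => hg _, ?_⟩
    have hrange : Set.range (fun c => g (b.succAbove c)) = g '' {b' | b' ≠ b} := by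
      ext y
      constructor
      · rintro ⟨c, rfl⟩
        exact ⟨b.succAbove c, Fin.succAbove_ne b c, rfl⟩
      · rintro ⟨b', hb', rfl⟩
        obtain ⟨c, hc⟩ := Fin.exists_succAbove_eq hb'
        exact ⟨c, by show g (b.succAbove c) = g b'; rw [hc]⟩
    rw [hrange, ← hspan]
    apply le_antisymm (Submodule.span_mono (Set.image_subset_range _ _))
    rw [Submodule.span_le]
    rintro _ ⟨b', rfl⟩
    by_cases hb' : b' = b
    · rw [hb']; exact hb
    · exact Submodule.subset_span ⟨b', hb', rfl⟩
  have := Nat.find_min hex (m := m) (by omega)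
  exact this hP

end Gen

section Sums

variable {k : Type u} [Field k] {σ : Type}

variable {M : Type u} [AddCommGroup M] [Module k M] [Module (MvPolynomial σ k) M]
  (ℳ : ℤ → Submodule k M) [DirectSum.Decomposition ℳ] [SetLike.GradedSMul (stdGr k σ) ℳ]

omit [Module (MvPolynomial σ k) M] [SetLike.GradedSMul (stdGr k σ) ℳ] in
theorem exists_sum_projM (x : M) : ∃ E : Finset ℤ, x = ∑ e ∈ E, projM ℳ e x := by
  classical
  refine ⟨(decompose ℳ x).support, ?_⟩
  simp only [projM_apply]
  exact (DirectSum.sum_support_decompose ℳ x).symm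

theorem exists_sum_projV {n : ℕ} (δ : Fin n → ℤ) (v : Fin n → MvPolynomial σ k) :
    ∃ E : Finset ℤ, v = ∑ e ∈ E, projV δ e v := by
  classical
  let T : Fin n → Finset ℤ := fun b => (decompose (stdGr k σ) (v b)).support
  refine ⟨Finset.univ.biUnion (fun b => (T b).image (· + δ b)), ?_⟩
  funext b
  rw [Finset.sum_apply]
  simp only [projV, GradedRing.proj_apply]
  have hsub : (T b).image (· + δ b) ⊆ Finset.univ.biUnion (fun b => (T b).image (· + δ b)) :=
    Finset.subset_biUnion_of_mem (fun b => (T b).image (· + δ b)) (Finset.mem_univ b)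
  rw [← Finset.sum_subset hsub]
  · rw [Finset.sum_image]
    · have := (DirectSum.sum_support_decompose (stdGr k σ) (v b)).symm
      conv_lhs => rw [this]
      apply Finset.sum_congr rfl
      intro x _
      rw [add_sub_cancel_right]
    · intro x _ y _ h
      exact add_right_cancel h
  · intro e _ he
    have : e - δ b ∉ T b := by
      intro hmem
      apply he
      exact Finset.mem_image.mpr ⟨e - δ b, hmem, by ring⟩
    simp only [T, DFinsupp.mem_support_toFun, ne_eq, not_not] at this
    rw [this]
    rfl

end Sums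

section Stages

variable (k : Type u) [Field k] (σ : Type) [Finite σ]

/-- a graded submodule of a graded free module of finite rank with chosen basis degrees -/
structure Stage where
  n : ℕ
  δ : Fin n → ℤ
  K : Submodule (MvPolynomial σ k) (Fin n → MvPolynomial σ k)
  hK : ∀ v ∈ K, ∀ e, projV δ e v ∈ K

variable {k σ}

/-- one step of a minimal resolution: a homogeneous matrix whose columns are an irredundant
generating family of the given graded submodule -/
structure Step (s : Stage k σ) where
  n' : ℕ
  δ' : Fin n' → ℤ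
  d : Matrix (Fin s.n) (Fin n') (MvPolynomial σ k)
  d_mem : ∀ a b, d a b ∈ stdGr k σ (δ' b - s.δ a)
  range_eq : LinearMap.range (Matrix.mulVecLin d) = s.K
  irred : ∀ b, (fun a => d a b) ∉
    Submodule.span (MvPolynomial σ k) ((fun b' a => d a b') '' {b' | b' ≠ b})

theorem exists_step (s : Stage k σ) : Nonempty (Step s) := by
  classical
  have hfg : s.K.FG := IsNoetherian.noetherian s.K
  obtain ⟨m, δ', g, hg, hspan, hirr⟩ :=
    exists_min_hom_gens (S := MvPolynomial σ k) (N := Fin s.n → MvPolynomial σ k)
      (fun e => ((pieceV s.δ e : Submodule k (Fin s.n → MvPolynomial σ k)) :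
        Set (Fin s.n → MvPolynomial σ k))) (projV s.δ)
      (fun e v => SetLike.mem_coe.mpr (projV_mem s.δ e v)) (exists_sum_projV s.δ) s.K s.hK hfg
  refine ⟨⟨m, δ', Matrix.of (fun a b => g b a), ?_, ?_, ?_⟩⟩
  · intro a b
    exact (mem_pieceV s.δ (δ' b) (g b)).mp (hg b) a
  · rw [Matrix.range_mulVecLin, ← hspan]
    congr 1
  · intro b
    exact hirr b

/-- the next stage: the kernel of the matrix of a step -/
noncomputable def Step.next {s : Stage k σ} (t : Step s) : Stage k σ where
  n := t.n'
  δ := t.δ'
  K := LinearMap.ker (Matrix.mulVecLin t.d)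
  hK := by
    intro v hv e
    rw [LinearMap.mem_ker, Matrix.mulVecLin_apply] at hv ⊢
    rw [mulVec_projV s.δ t.δ' t.d t.d_mem, hv]
    funext a
    simp [projV]

/-- a chosen step -/
noncomputable def step (s : Stage k σ) : Step s := Classical.choice (exists_step s)

/-- the sequence of stages -/
noncomputable def stage (s₀ : Stage k σ) : ℕ → Stage k σ
  | 0 => s₀
  | (i + 1) => (step (stage s₀ i)).next

end Stages

section Main

variable {k : Type u} [Field k] {σ : Type} [Finite σ]
  {M : Type u} [AddCommGroup M] [Module k M] [Module (MvPolynomial σ k) M]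
  [Module.Finite (MvPolynomial σ k) M]
  (ℳ : ℤ → Submodule k M) [DirectSum.Decomposition ℳ] [SetLike.GradedSMul (stdGr k σ) ℳ]

theorem exists_freeRes_isMinimal :
    ∃ F : FreeRes (stdGr k σ) ℳ, F.IsMinimal (irrel (stdGr k σ)).toIdeal := by
  classical
  have hfg : (⊤ : Submodule (MvPolynomial σ k) M).FG := Module.Finite.fg_top
  obtain ⟨n₀, δ₀, aug, haug, hspan, hirr⟩ :=
    exists_min_hom_gens (S := MvPolynomial σ k) (fun e => (ℳ e : Set M)) (fun e => projM ℳ e)
      (fun e x => by rw [projM_apply]; exact Subtype.property _) (exists_sum_projM ℳ)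
      (⊤ : Submodule (MvPolynomial σ k) M) (fun _ _ _ => Submodule.mem_top) hfg
  let s₀ : Stage k σ :=
    { n := n₀
      δ := δ₀
      K := LinearMap.ker (Fintype.linearCombination (MvPolynomial σ k) aug)
      hK := by
        intro v hv e
        rw [LinearMap.mem_ker, Fintype.linearCombination_apply] at hv ⊢
        rw [comb_projV ℳ δ₀ aug haug, hv, map_zero] }
  have hsurj : Function.Surjective (Fintype.linearCombination (MvPolynomial σ k) aug) := by
    rw [← LinearMap.range_eq_top, Fintype.range_linearCombination, hspan]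
  let F : FreeRes (stdGr k σ) ℳ :=
    { rk := fun i => (stage s₀ i).n
      deg := fun i => (stage s₀ i).δ
      d := fun i => (step (stage s₀ i)).d
      aug := aug
      d_mem := fun i a b => (step (stage s₀ i)).d_mem a b
      aug_mem := haug
      aug_surjective := hsurj
      exact_zero := (step s₀).range_eq.symm
      exact_succ := fun i => (step (stage s₀ (i + 1))).range_eq.symm }
  refine ⟨F, ?_⟩
  rw [isMinimal_iff]
  exact ⟨hirr, fun i b => (step (stage s₀ i)).irred b⟩

end Main

end Groth.Agent.Helper23.GrSyzMin
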