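import Groth.Agent.Lib.Helper23.ABPoly
import Groth.Agent.Lib.Helper23.GrSyzMin

/-!
# The graded Auslander–Buchsbaum formula over `k[x_1..x_m]`

`ab_formula`: for an irrel-minimal `GrSyz.FreeRes` of length exactly `ℓ`,
`ℓ + depth(𝔪, M) = m`.  Also `ext_self_nontrivial : Ext^m(k, S) ≠ 0`, and the trivially graded
residue field `ResF k m` with grading `resGr k m`.
-/

set_option autoImplicit false
set_option linter.unusedSectionVars false
set_option linter.unusedVariables false
set_option linter.style.haveILetI false

universe u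

open CategoryTheory Abelian GrSyz MvPolynomial

namespace Groth.Agent.Helper23.ABPoly

open Groth.Agent.Helper23.ABExt Groth.Agent.Helper23.HilbSyz Groth.Agent.Helper23.GrSyzLib
open Groth.Agent.Lead.Depth

section ResF

variable (k : Type u) [Field k] (m : ℕ)

/-- the residue field `k = S/𝔪` as a module over the polynomial ring -/
def ResF (k : Type u) (m : ℕ) : Type u := k

instance : AddCommGroup (ResF k m) := inferInstanceAs (AddCommGroup k)

instance : Module k (ResF k m) := inferInstanceAs (Module k k)

noncomputable instance : Module (MvPolynomial (Fin m) k) (ResF k m) :=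
  Module.compHom k (constantCoeff : MvPolynomial (Fin m) k →+* k)

theorem resF_smul_def (p : MvPolynomial (Fin m) k) (x : ResF k m) :
    p • x = (constantCoeff p : k) • x := rfl

/-- the trivial grading of the residue field -/
def resGr (i : ℤ) : Submodule k (ResF k m) := if i = 0 then ⊤ else ⊥

theorem resGr_zero : resGr k m 0 = ⊤ := if_pos rfl

theorem resGr_ne {i : ℤ} (hi : i ≠ 0) : resGr k m i = ⊥ := if_neg hi

noncomputable instance : DirectSum.Decomposition (resGr k m) :=
  DirectSum.Decomposition.ofLinearMap (resGr k m)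
    ((DirectSum.lof k ℤ (fun i => resGr k m i) 0).comp
      (LinearMap.codRestrict (resGr k m 0) LinearMap.id (fun x => by rw [resGr_zero]; trivial)))
    (by
      refine LinearMap.ext fun x => ?_
      simp [DirectSum.coeLinearMap_lof])
    (by
      apply DirectSum.linearMap_ext
      intro i
      refine LinearMap.ext fun x => ?_
      by_cases hi : i = 0
      · subst hi
        simp only [LinearMap.comp_apply, DirectSum.coeLinearMap_lof, LinearMap.id_comp]
        congr 1
      · have hx : x = 0 := by
          apply Subtype.ext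
          have h3 : ∀ y : ResF k m, y ∈ resGr k m i → y = 0 := by
            intro y hy
            rw [resGr_ne k m hi] at hy
            exact (Submodule.mem_bot k).mp hy
          exact h3 x.1 x.2
        rw [hx, map_zero, map_zero])

instance : SetLike.GradedSMul (stdGr k (Fin m)) (resGr k m) where
  smul_mem := by
    intro i j p x hp hx
    by_cases hj : j = 0
    · subst hj
      by_cases hi : i = 0
      · subst hi
        change p • x ∈ resGr k m (0 + 0)
        rw [add_zero, resGr_zero]; trivial
      · have hc : constantCoeff p = 0 := by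
          by_contra hne
          exact hi (Groth.Agent.Helper23.GrSyzCmp.deg_eq_zero_of_constantCoeff_ne_zero hp hne)
        change p • x ∈ resGr k m (i + 0)
        rw [resF_smul_def, hc, zero_smul]
        exact Submodule.zero_mem _
    · rw [resGr_ne k m hj, Submodule.mem_bot] at hx
      change p • x ∈ resGr k m (i + j)
      rw [hx, smul_zero]
      exact Submodule.zero_mem _

/-- the unit of the residue field -/
def resOne : ResF k m := (1 : k)

instance : Module.Finite (MvPolynomial (Fin m) k) (ResF k m) := by
  refine ⟨⟨{resOne k m}, ?_⟩⟩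
  rw [eq_top_iff]
  intro x _
  let y : k := x
  have : x = (C y : MvPolynomial (Fin m) k) • resOne k m := by
    rw [resF_smul_def, constantCoeff_C]
    exact (mul_one y).symm
  rw [this]
  exact Submodule.smul_mem _ _ (Submodule.subset_span (by simp))

end ResF

section Top

variable (k : Type u) [Field k] (m : ℕ)

/-- the quotient map `S/𝔪 → k` -/
noncomputable def resMap :
    (MvPolynomial (Fin m) k ⧸ (irrel (stdGr k (Fin m))).toIdeal) →ₗ[MvPolynomial (Fin m) k] ResF k m :=
  Submodule.liftQ _ (LinearMap.toSpanSingleton (MvPolynomial (Fin m) k) (ResF k m) (resOne k m))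
    (by
      intro p hp
      rw [LinearMap.mem_ker, LinearMap.toSpanSingleton_apply, resF_smul_def,
        constantCoeff_eq_zero_of_mem_irrel k (Fin m) hp, zero_smul])

theorem resMap_ne_zero : resMap k m ≠ 0 := by
  intro h
  have h1 : resMap k m (Submodule.Quotient.mk 1) = resOne k m := by
    unfold resMap
    rw [Submodule.liftQ_apply, LinearMap.toSpanSingleton_apply, one_smul]
  rw [h, LinearMap.zero_apply] at h1
  exact one_ne_zero (α := k) h1.symm

/-- `Ext^m(k, S) ≠ 0` -/
theorem ext_self_nontrivial :
    Nontrivial (Ext (K (irrel (stdGr k (Fin m))).toIdeal)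
      (ModuleCat.of (MvPolynomial (Fin m) k) (MvPolynomial (Fin m) k)) m) := by
  by_contra hnt
  rw [not_nontrivial_iff_subsingleton] at hnt
  have hR' : ∀ i < m + 1, Subsingleton (Ext (K (irrel (stdGr k (Fin m))).toIdeal)
      (ModuleCat.of (MvPolynomial (Fin m) k) (MvPolynomial (Fin m) k)) i) := by
    intro i hi
    rcases Nat.lt_succ_iff_lt_or_eq.mp hi with h | h
    · exact ext_self_subsingleton k m i h
    · subst h; exact hnt
  obtain ⟨G, hG⟩ := Groth.Agent.Helper23.GrSyzMin.exists_freeRes_isMinimal (σ := Fin m) (resGr k m)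
  have hL : G.HasLengthLE m := hasLengthLE G hG
  have h0 := ab_vanish G (irrel (stdGr k (Fin m))).toIdeal (m + 1) hR' m hL 0 (by omega)
  have h1 : Ext.mk₀ (ModuleCat.ofHom (resMap k m)) =
      (Ext.mk₀ (0 : K (irrel (stdGr k (Fin m))).toIdeal ⟶
        ModuleCat.of (MvPolynomial (Fin m) k) (ResF k m))) := Subsingleton.elim _ _
  have h2 := (Ext.mk₀_bijective _ _).injective h1
  apply resMap_ne_zero k m
  have h3 := congrArg ModuleCat.Hom.hom h2
  simpa using h3

end Top

section Formula

variable {k : Type u} [Field k] {m : ℕ}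
  {M : Type u} [AddCommGroup M] [Module k M] [Module (MvPolynomial (Fin m) k) M]
  [Module.Finite (MvPolynomial (Fin m) k) M]
  {ℳ : ℤ → Submodule k M} [DirectSum.Decomposition ℳ] [SetLike.GradedSMul (stdGr k (Fin m)) ℳ]

/-- **Auslander–Buchsbaum formula** for minimal graded free resolutions over `k[x_1..x_m]` -/
theorem ab_formula (F : FreeRes (stdGr k (Fin m)) ℳ)
    (hF : F.IsMinimal (irrel (stdGr k (Fin m))).toIdeal)
    (ℓ : ℕ) (hℓ : F.HasLengthLE ℓ) (hℓ' : F.rk ℓ ≠ 0) :
    (ℓ : ℕ∞) + LocCoh.idealDepth (irrel (stdGr k (Fin m))).toIdeal M = ((m : ℕ) : ℕ∞) := by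
  have hlen : ℓ ≤ m := by
    by_contra hlt
    exact hℓ' (hasLengthLE F hF ℓ (by omega))
  obtain ⟨e, he⟩ : ∃ e, e + ℓ = m := ⟨m - ℓ, by omega⟩
  have hvan : ∀ i : ℕ, i < e → Subsingleton (Ext (K (irrel (stdGr k (Fin m))).toIdeal)
      (ModuleCat.of (MvPolynomial (Fin m) k) M) i) := fun i hi =>
    ab_vanish F _ m (ext_self_subsingleton k m) ℓ hℓ i (by omega)
  have hnt : Nontrivial (Ext (K (irrel (stdGr k (Fin m))).toIdeal)
      (ModuleCat.of (MvPolynomial (Fin m) k) M) e) :=
    ab_nontrivial F _ m (ext_self_subsingleton k m) (ext_self_nontrivial k m) hF ℓ hℓ hℓ' e he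
  have htop : (irrel (stdGr k (Fin m))).toIdeal • (⊤ : Submodule (MvPolynomial (Fin m) k) M) ≠ ⊤ := by
    intro h
    haveI := ext_subsingleton_of_smul_top_eq_top (irrel (stdGr k (Fin m))).toIdeal M h e
    exact not_subsingleton _ ‹_›
  have hdepth := (idealDepth_eq_iff_ext (irrel (stdGr k (Fin m))).toIdeal M htop e).mpr ⟨hvan, hnt⟩
  rw [hdepth, ← he]
  push_cast
  rw [add_comm]

end Formula



end Groth.Agent.Helper23.ABPoly
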