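import Mathlib
import Groth.Prelude
import Groth.Agent.Lib.Helper20.GrSG11
import Groth.Agent.Lib.Helper23.APoly6

/-!
# The Hilbert function of a standard graded Cohen–Macaulay ring over a field is non-decreasing
-/

set_option autoImplicit false
set_option linter.unusedVariables false
set_option linter.unusedSectionVars false
set_option linter.style.haveILetI false

open DirectSum Groth.Agent.Helper20.GrInj Polynomial

namespace Groth.Agent.Helper23.APoly

universe u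

variable {R : Type u} [CommRing R] (𝒜 : ℤ → AddSubgroup R) [GradedRing 𝒜]

/-- multiplication by a degree one element on pieces -/
noncomputable def mulPiece (y : R) (hy : y ∈ 𝒜 1) (n : ℤ) :
    GrLC.comp 𝒜 𝒜 n →ₗ[GrLC.deg0 𝒜] GrLC.comp 𝒜 𝒜 (n + 1) where
  toFun v := ⟨y * (v : R), by
    have hv : (v : R) ∈ 𝒜 n := v.2
    have := SetLike.mul_mem_graded (A := 𝒜) hy hv
    rw [add_comm] at this
    exact this⟩
  map_add' v w := Subtype.ext (mul_add _ _ _)
  map_smul' c v := Subtype.ext (by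
    show y * ((c : R) * (v : R)) = (c : R) * (y * (v : R))
    ring)

theorem mulPiece_coe (y : R) (hy : y ∈ 𝒜 1) (n : ℤ) (v : GrLC.comp 𝒜 𝒜 n) :
    ((mulPiece 𝒜 y hy n v : GrLC.comp 𝒜 𝒜 (n + 1)) : R) = y * (v : R) := rfl

/-- the coefficientwise inclusion into `R[X]` -/
noncomputable def jmap (n : ℤ) :
    PolynomialModule (GrLC.deg0 𝒜) (GrLC.comp 𝒜 𝒜 n) →ₗ[GrLC.deg0 𝒜] R[X] :=
  (PolynomialModule.equivPolynomial (R := GrLC.deg0 𝒜) (S := R)).toLinearMap ∘ₗ
    PolynomialModule.map (GrLC.deg0 𝒜) (GrLC.comp 𝒜 𝒜 n).subtype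

theorem jmap_single (n : ℤ) (d : ℕ) (v : GrLC.comp 𝒜 𝒜 n) :
    jmap 𝒜 n (PolynomialModule.single _ d v) = monomial d (v : R) := by
  unfold jmap
  rw [LinearMap.comp_apply, PolynomialModule.map_single]
  rfl

theorem coeff_jmap (n : ℤ) (q : PolynomialModule (GrLC.deg0 𝒜) (GrLC.comp 𝒜 𝒜 n)) (d : ℕ) :
    (jmap 𝒜 n q).coeff d = ((q.coeff d : GrLC.comp 𝒜 𝒜 n) : R) := by
  induction q using PolynomialModule.induction_linear with
  | zero => simp
  | add p q hp hq =>
    rw [map_add, Polynomial.coeff_add, hp, hq, PolynomialModule.coeff_add, Finsupp.add_apply,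
      Submodule.coe_add]
  | single i v =>
    rw [jmap_single, Polynomial.coeff_monomial, PolynomialModule.coeff_single,
      Finsupp.single_apply]
    split_ifs <;> simp

theorem jmap_injective (n : ℤ) : Function.Injective (jmap 𝒜 n) := by
  rw [injective_iff_map_eq_zero]
  intro q hq
  rw [← PolynomialModule.coeff_eq_zero]
  ext d
  have := coeff_jmap 𝒜 n q d
  rw [hq, Polynomial.coeff_zero] at this
  simp only [Finsupp.coe_zero, Pi.zero_apply, ZeroMemClass.coe_zero]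
  exact this.symm

section Gen

variable {N : ℕ} (x : Fin N → R) (hx : ∀ i, x i ∈ 𝒜 1) (n : ℤ)

/-- multiplication by the generic linear form -/
noncomputable def Fmap :
    PolynomialModule (GrLC.deg0 𝒜) (GrLC.comp 𝒜 𝒜 n) →ₗ[(GrLC.deg0 𝒜)[X]]
      PolynomialModule (GrLC.deg0 𝒜) (GrLC.comp 𝒜 𝒜 (n + 1)) where
  toFun q := ∑ i : Fin N, (X ^ (i : ℕ) : (GrLC.deg0 𝒜)[X]) •
    PolynomialModule.map (GrLC.deg0 𝒜) (mulPiece 𝒜 (x i) (hx i) n) q
  map_add' p q := by
    simp only [map_add, smul_add, Finset.sum_add_distrib]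
  map_smul' p q := by
    simp only [RingHom.id_apply]
    rw [Finset.smul_sum]
    apply Finset.sum_congr rfl
    intro i _
    rw [PolynomialModule.map_smul, Algebra.algebraMap_self, Polynomial.map_id, smul_comm]

theorem Fmap_apply (q : PolynomialModule (GrLC.deg0 𝒜) (GrLC.comp 𝒜 𝒜 n)) :
    Fmap 𝒜 x hx n q = ∑ i : Fin N, (X ^ (i : ℕ) : (GrLC.deg0 𝒜)[X]) •
      PolynomialModule.map (GrLC.deg0 𝒜) (mulPiece 𝒜 (x i) (hx i) n) q := rfl

theorem jmap_Fmap (q : PolynomialModule (GrLC.deg0 𝒜) (GrLC.comp 𝒜 𝒜 n)) :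
    jmap 𝒜 (n + 1) (Fmap 𝒜 x hx n q) =
      (∑ i : Fin N, monomial (i : ℕ) (x i)) * jmap 𝒜 n q := by
  induction q using PolynomialModule.induction_linear with
  | zero => simp
  | add p q hp hq => rw [map_add, map_add, hp, hq, map_add, mul_add]
  | single d v =>
    rw [Fmap_apply, map_sum, jmap_single, Finset.sum_mul]
    apply Finset.sum_congr rfl
    intro i _
    rw [PolynomialModule.map_single, Polynomial.X_pow_eq_monomial,
      PolynomialModule.monomial_smul_single, one_smul, jmap_single, mulPiece_coe,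
      Polynomial.monomial_mul_monomial]

end Gen

/-- **the Hilbert function is non-decreasing** -/
theorem finrank_mono [LocCoh.IsCohenMacaulayRing R]
    (hpos : ∀ n : ℤ, n < 0 → 𝒜 n = ⊥) (h0 : IsField (GrLC.deg0 𝒜))
    (hstd : Ideal.span (⋃ n ∈ Set.Ioi (0 : ℤ), (𝒜 n : Set R)) =
      Ideal.span ((𝒜 1 : AddSubgroup R) : Set R))
    (h1 : 1 ≤ ringKrullDim R) (n : ℤ) :
    Module.finrank (GrLC.deg0 𝒜) (GrLC.comp 𝒜 𝒜 n) ≤
      Module.finrank (GrLC.deg0 𝒜) (GrLC.comp 𝒜 𝒜 (n + 1)) := by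
  letI : Field (GrLC.deg0 𝒜) := h0.toField
  obtain ⟨N, x, hx, hf⟩ := exists_generic 𝒜 hpos h0 hstd h1
  have hinj : Function.Injective (Fmap 𝒜 x hx n) := by
    rw [injective_iff_map_eq_zero]
    intro q hq
    have h2 := jmap_Fmap 𝒜 x hx n q
    rw [hq, map_zero] at h2
    have h3 : jmap 𝒜 n q = 0 := (mul_left_mem_nonZeroDivisors_eq_zero_iff hf).1 h2.symm
    exact jmap_injective 𝒜 n (by rw [h3, map_zero])
  haveI : IsNoetherian (GrLC.deg0 𝒜) (GrLC.comp 𝒜 𝒜 (n + 1)) :=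
    comp_isNoetherian (𝒜 := 𝒜) (ℳ := 𝒜) (n + 1)
  haveI : Module.Finite (GrLC.deg0 𝒜) (GrLC.comp 𝒜 𝒜 (n + 1)) := inferInstance
  haveI : Module.Finite (GrLC.deg0 𝒜)[X]
      (PolynomialModule (GrLC.deg0 𝒜) (GrLC.comp 𝒜 𝒜 (n + 1))) :=
    Module.Finite.equiv (PolynomialModule.polynomialTensorProductLEquivPolynomialModule
      (GrLC.deg0 𝒜) (GrLC.comp 𝒜 𝒜 (n + 1)))
  have h3 := LinearMap.finrank_le_finrank_of_injective hinj
  rw [← (PolynomialModule.polynomialTensorProductLEquivPolynomialModule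
      (GrLC.deg0 𝒜) (GrLC.comp 𝒜 𝒜 n)).finrank_eq,
    ← (PolynomialModule.polynomialTensorProductLEquivPolynomialModule
      (GrLC.deg0 𝒜) (GrLC.comp 𝒜 𝒜 (n + 1))).finrank_eq,
    Module.finrank_baseChange, Module.finrank_baseChange] at h3
  exact h3

end Groth.Agent.Helper23.APoly
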