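import Mathlib
import Groth.Prelude
import Groth.Agent.Lib.Helper20.GrSG11
import Groth.Agent.Lib.Helper23.APoly6
import Groth.Agent.Lib.Lead.Depth16

/-!
# Linear regular sequences in standard graded *local rings with infinite residue field
-/

set_option autoImplicit false
set_option linter.unusedVariables false
set_option linter.unusedSectionVars false
set_option linter.style.haveILetI false

open DirectSum Groth.Agent.Helper20.GrInj

namespace Groth.Agent.Helper23.APoly

universe u

variable {R : Type u} [CommRing R] {𝒜 : ℤ → AddSubgroup R} [GradedRing 𝒜]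

section Local

variable [IsNoetherianRing R] (m : HomogeneousIdeal 𝒜) (hm : GrLC.IsStarLocal 𝒜 m)

include hm

/-- a degree-zero element outside the *maximal ideal is a unit -/
theorem isUnit_of_deg0_notMem {a : R} (ha : a ∈ 𝒜 0) (ham : a ∉ m.toIdeal) : IsUnit a := by
  let J : HomogeneousIdeal 𝒜 := ⟨Ideal.span {a}, Ideal.homogeneous_span 𝒜 _ (by
    rintro x rfl
    exact ⟨0, ha⟩)⟩
  by_contra hu
  have hJ : J ≠ ⊤ := by
    intro h
    have h1 : J.toIdeal = ⊤ := by rw [h]; rfl
    exact hu (Ideal.span_singleton_eq_top.1 h1)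
  have := le_of_isStarLocal m hm J hJ
  exact ham (this (Ideal.subset_span rfl))

/-- the irrelevant ideal lies in the *maximal ideal -/
theorem irrel_le_of_isStarLocal [Nontrivial R] (hpos : ∀ n : ℤ, n < 0 → 𝒜 n = ⊥) :
    (irrel 𝒜).toIdeal ≤ m.toIdeal := by
  apply le_of_isStarLocal m hm (irrel 𝒜)
  intro h
  have h1 : (irrel 𝒜).toIdeal = ⊤ := by rw [h]; rfl
  exact one_notMem_irrel 𝒜 hpos ((Ideal.eq_top_iff_one _).1 h1)

/-- degree-zero elements of the *maximal ideal are nilpotent when `R₀` is Artinian -/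
theorem isNilpotent_of_deg0_mem [IsArtinianRing (GrLC.deg0 𝒜)] (hmax : m.toIdeal.IsMaximal)
    {a : R} (ha : a ∈ 𝒜 0) (ham : a ∈ m.toIdeal) : IsNilpotent a := by
  obtain ⟨n, y, hy⟩ := IsArtinian.exists_pow_succ_smul_dvd (⟨a, ha⟩ : GrLC.deg0 𝒜)
    (1 : GrLC.deg0 𝒜)
  have hy' : a ^ (n + 1) * (y : R) = a ^ n := by
    have := congrArg Subtype.val hy
    simpa using this
  have h1 : (1 - a * (y : R)) ∈ 𝒜 0 := by
    apply sub_mem SetLike.GradedOne.one_mem
    have := SetLike.mul_mem_graded (A := 𝒜) ha y.2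
    rwa [add_zero] at this
  have h2 : (1 - a * (y : R)) ∉ m.toIdeal := by
    intro h
    apply hmax.ne_top
    rw [Ideal.eq_top_iff_one]
    have : (1 : R) = (1 - a * (y : R)) + a * (y : R) := by ring
    rw [this]
    exact add_mem h (Ideal.mul_mem_right _ _ ham)
  obtain ⟨u, hu⟩ := isUnit_of_deg0_notMem m hm h1 h2
  refine ⟨n, ?_⟩
  have h3 : a ^ n * (1 - a * (y : R)) = 0 := by
    have e : a ^ n * (1 - a * (y : R)) = a ^ n - a ^ (n + 1) * (y : R) := by ring
    rw [e, hy', sub_self]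
  rw [← hu] at h3
  exact u.mul_left_eq_zero.1 h3

/-- a prime containing the irrelevant ideal contains the *maximal ideal -/
theorem le_prime_of_irrel_le [IsArtinianRing (GrLC.deg0 𝒜)] (hpos : ∀ n : ℤ, n < 0 → 𝒜 n = ⊥)
    (hmax : m.toIdeal.IsMaximal) (P : Ideal R) [P.IsPrime]
    (hP : (irrel 𝒜).toIdeal ≤ P) : m.toIdeal ≤ P := by
  intro x hx
  have hx0 : ((decompose 𝒜 x 0 : 𝒜 0) : R) ∈ m.toIdeal := m.isHomogeneous 0 hx
  have hnil := isNilpotent_of_deg0_mem m hm hmax (decompose 𝒜 x 0).2 hx0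
  have h1 : ((decompose 𝒜 x 0 : 𝒜 0) : R) ∈ P := by
    obtain ⟨n, hn⟩ := hnil
    exact Ideal.IsPrime.mem_of_pow_mem inferInstance n (by rw [hn]; exact zero_mem _)
  have h2 : x - ((decompose 𝒜 x 0 : 𝒜 0) : R) ∈ (irrel 𝒜).toIdeal := by
    apply mem_irrel_of_decompose_zero 𝒜 hpos
    rw [decompose_sub, DirectSum.sub_apply, AddSubgroupClass.coe_sub,
      decompose_of_mem_same 𝒜 (decompose 𝒜 x 0).2, sub_self]
  have : x = (x - ((decompose 𝒜 x 0 : 𝒜 0) : R)) + ((decompose 𝒜 x 0 : 𝒜 0) : R) := by ring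
  rw [this]
  exact add_mem (hP h2) h1

/-- **a linear non-zero-divisor**: over an infinite residue field, a finite module on which some
element of `m` is regular admits a regular element of degree one -/
theorem exists_linear_regular [IsArtinianRing (GrLC.deg0 𝒜)] [Nontrivial R]
    (hpos : ∀ n : ℤ, n < 0 → 𝒜 n = ⊥)
    (hstd : Ideal.span (⋃ n ∈ Set.Ioi (0 : ℤ), (𝒜 n : Set R)) =
      Ideal.span ((𝒜 1 : AddSubgroup R) : Set R))
    (hinf : Infinite (R ⧸ m.toIdeal))
    (M : Type u) [AddCommGroup M] [Module R M] [Module.Finite R M]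
    (hy : ∃ y ∈ m.toIdeal, IsSMulRegular M y) : ∃ x ∈ 𝒜 1, IsSMulRegular M x := by
  classical
  have hmax : m.toIdeal.IsMaximal := isMaximal_of_isStarLocal hpos m hm
  by_contra hcon
  push Not at hcon
  have hfin := associatedPrimes.finite R M
  let E := GrLC.comp 𝒜 𝒜 1
  let p : Ideal R → Submodule (GrLC.deg0 𝒜) E := fun P =>
    Submodule.comap E.subtype (P.restrictScalars (GrLC.deg0 𝒜))
  have hcover : ⋃ P ∈ hfin.toFinset, (p P : Set E) = Set.univ := by
    rw [Set.eq_univ_iff_forall]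
    intro v
    have hv : ((v : R)) ∈ {r : R | IsSMulRegular M r}ᶜ := hcon _ v.2
    rw [← biUnion_associatedPrimes_eq_compl_regular R M] at hv
    simp only [Set.mem_iUnion] at hv ⊢
    obtain ⟨P, hP, hvP⟩ := hv
    exact ⟨P, hfin.mem_toFinset.2 hP, hvP⟩
  obtain ⟨P, hPS, hfi⟩ := Submodule.exists_finiteIndex_of_cover hcover
  have hPass : P ∈ associatedPrimes R M := hfin.mem_toFinset.1 hPS
  haveI hPprime : P.IsPrime := hPass.isPrime
  have hA1 : ∀ v ∈ 𝒜 1, v ∈ P := by
    by_contra hne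
    push Not at hne
    obtain ⟨v, hv1, hvP⟩ := hne
    haveI : Finite (E ⧸ (p P).toAddSubgroup) := AddSubgroup.finite_quotient_of_finiteIndex
    -- an injection from the residue field
    let a : R ⧸ m.toIdeal → GrLC.deg0 𝒜 := fun c =>
      ⟨((decompose 𝒜 (Quotient.out c) 0 : 𝒜 0) : R), (decompose 𝒜 (Quotient.out c) 0).2⟩
    let f : R ⧸ m.toIdeal → E ⧸ (p P).toAddSubgroup := fun c =>
      QuotientAddGroup.mk (a c • (⟨v, hv1⟩ : E))
    have hf : Function.Injective f := by
      intro c c' hcc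
      by_contra hne
      have h1 : -(a c • (⟨v, hv1⟩ : E)) + a c' • (⟨v, hv1⟩ : E) ∈ (p P).toAddSubgroup :=
        QuotientAddGroup.eq.1 hcc
      have h2 : ((a c' : R) - (a c : R)) * v ∈ P := by
        have h3 : ((-(a c • (⟨v, hv1⟩ : E)) + a c' • (⟨v, hv1⟩ : E) : E) : R) ∈ P := h1
        have h4 : ((-(a c • (⟨v, hv1⟩ : E)) + a c' • (⟨v, hv1⟩ : E) : E) : R) =
            ((a c' : R) - (a c : R)) * v := by
          show -((a c : R) * v) + (a c' : R) * v = _
          ring
        rwa [h4] at h3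
      have h5 : ((a c' : R) - (a c : R)) ∈ P :=
        (hPprime.mem_or_mem h2).resolve_right hvP
      -- but the difference is a unit
      have hout : ∀ c : R ⧸ m.toIdeal, Quotient.out c - (a c : R) ∈ m.toIdeal := by
        intro c
        apply irrel_le_of_isStarLocal m hm hpos
        apply mem_irrel_of_decompose_zero 𝒜 hpos
        rw [decompose_sub, DirectSum.sub_apply, AddSubgroupClass.coe_sub,
          decompose_of_mem_same 𝒜 (a c).2, sub_self]
      have h6 : ((a c' : R) - (a c : R)) ∉ m.toIdeal := by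
        intro h
        apply hne
        have h7 : Quotient.out c' - Quotient.out c ∈ m.toIdeal := by
          have : Quotient.out c' - Quotient.out c =
              (Quotient.out c' - (a c' : R)) - (Quotient.out c - (a c : R)) +
                ((a c' : R) - (a c : R)) := by ring
          rw [this]
          exact add_mem (sub_mem (hout c') (hout c)) h
        have h8 : (Ideal.Quotient.mk m.toIdeal (Quotient.out c') : R ⧸ m.toIdeal) =
            Ideal.Quotient.mk m.toIdeal (Quotient.out c) := Ideal.Quotient.eq.2 h7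
        have e1 : (Ideal.Quotient.mk m.toIdeal (Quotient.out c) : R ⧸ m.toIdeal) = c :=
          Quotient.out_eq c
        have e2 : (Ideal.Quotient.mk m.toIdeal (Quotient.out c') : R ⧸ m.toIdeal) = c' :=
          Quotient.out_eq c'
        rw [e1, e2] at h8
        exact h8.symm
      have h9 : IsUnit ((a c' : R) - (a c : R)) :=
        isUnit_of_deg0_notMem m hm (sub_mem (a c').2 (a c).2) h6
      exact hPprime.ne_top (Ideal.eq_top_of_isUnit_mem _ h5 h9)
    haveI := Finite.of_injective f hf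
    exact not_finite (R ⧸ m.toIdeal)
  -- so `m ≤ P`
  have h1 : (irrel 𝒜).toIdeal ≤ P := by
    rw [irrel_toIdeal, hstd, Ideal.span_le]
    exact hA1
  have h2 := le_prime_of_irrel_le m hm hpos hmax P h1
  obtain ⟨y, hym, hyreg⟩ := hy
  have h3 : y ∈ {r : R | IsSMulRegular M r}ᶜ := by
    rw [← biUnion_associatedPrimes_eq_compl_regular R M]
    simp only [Set.mem_iUnion]
    exact ⟨P, hPass, h2 hym⟩
  exact h3 hyreg

/-- **a linear regular sequence** of length up to the depth -/
theorem exists_linear_sequence [IsArtinianRing (GrLC.deg0 𝒜)] [Nontrivial R]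
    (hpos : ∀ n : ℤ, n < 0 → 𝒜 n = ⊥)
    (hstd : Ideal.span (⋃ n ∈ Set.Ioi (0 : ℤ), (𝒜 n : Set R)) =
      Ideal.span ((𝒜 1 : AddSubgroup R) : Set R))
    (hinf : Infinite (R ⧸ m.toIdeal)) :
    ∀ (t : ℕ) (M : Type u) [AddCommGroup M] [Module R M] [Module.Finite R M],
      m.toIdeal • (⊤ : Submodule R M) ≠ ⊤ → (t : ℕ∞) ≤ LocCoh.idealDepth m.toIdeal M →
      ∃ rs : List R, rs.length = t ∧ (∀ r ∈ rs, r ∈ 𝒜 1) ∧
        RingTheory.Sequence.IsWeaklyRegular M rs := by
  intro t
  induction t with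
  | zero =>
    intro M _ _ _ _ _
    exact ⟨[], rfl, by simp, RingTheory.Sequence.IsWeaklyRegular.nil R M⟩
  | succ t ih =>
    intro M _ _ _ htop hdepth
    have h1 : ((1 : ℕ) : ℕ∞) ≤ LocCoh.idealDepth m.toIdeal M :=
      le_trans (by exact_mod_cast Nat.succ_le_succ (Nat.zero_le t)) hdepth
    obtain ⟨ys, hlen, hreg, hmem⟩ :=
      Groth.Agent.Lead.Depth.exists_of_le_idealDepth _ M htop 1 h1
    have hy : ∃ y ∈ m.toIdeal, IsSMulRegular M y := by
      match ys, hlen, hreg, hmem with
      | [y], _, hreg, hmem =>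
        rw [RingTheory.Sequence.isWeaklyRegular_cons_iff] at hreg
        exact ⟨y, hmem y (by simp), hreg.1⟩
    obtain ⟨x, hx1, hxreg⟩ := exists_linear_regular m hm hpos hstd hinf M hy
    have hxm : x ∈ m.toIdeal := by
      apply irrel_le_of_isStarLocal m hm hpos
      apply Ideal.subset_span
      simp only [Set.mem_iUnion]
      exact ⟨1, by simp, hx1⟩
    have hQ := Groth.Agent.Lead.Depth.idealDepth_quotSMulTop_add_one m.toIdeal M htop x hxm hxreg
    have htop' := Groth.Agent.Lead.Depth.smul_top_quotSMulTop_ne_top hxm htop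
    have hdepth' : (t : ℕ∞) ≤ LocCoh.idealDepth m.toIdeal (QuotSMulTop x M) := by
      rw [← hQ] at hdepth
      have h2 : ((t : ℕ∞) + 1) ≤ LocCoh.idealDepth m.toIdeal (QuotSMulTop x M) + 1 := by
        exact_mod_cast hdepth
      exact (ENat.add_le_add_iff_right (by simp)).1 h2
    obtain ⟨rs, hrs, hrs1, hrsreg⟩ := ih (QuotSMulTop x M) htop' hdepth'
    refine ⟨x :: rs, by simp [hrs], ?_, ?_⟩
    · intro r hr
      rcases List.mem_cons.1 hr with rfl | hr
      · exact hx1
      · exact hrs1 r hr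
    · exact (RingTheory.Sequence.isWeaklyRegular_cons_iff M x rs).2 ⟨hxreg, hrsreg⟩

end Local

end Groth.Agent.Helper23.APoly
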