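import Mathlib

/-!
# A regular sequence with trivial intersection with the coefficients is algebraically independent
-/

set_option autoImplicit false
set_option linter.unusedVariables false
set_option linter.unusedSectionVars false
set_option linter.style.haveILetI false

open MvPolynomial Pointwise

namespace Groth.Agent.Helper23.APoly

section Quot

variable {R : Type*} [CommRing R]

theorem smul_top_eq_span_singleton (r : R) :
    (r • (⊤ : Submodule R R)) = Ideal.span {r} := by
  rw [← Submodule.ideal_span_singleton_smul, smul_eq_mul, Ideal.mul_top]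

/-- passing a weakly regular sequence to the quotient ring by its first element -/
theorem isWeaklyRegular_quotient_of_cons (r : R) (rs : List R)
    (h : RingTheory.Sequence.IsWeaklyRegular R (r :: rs)) :
    RingTheory.Sequence.IsWeaklyRegular (R ⧸ Ideal.span {r})
      (rs.map (Ideal.Quotient.mk (Ideal.span {r}))) := by
  have h2 := ((RingTheory.Sequence.isWeaklyRegular_cons_iff R r rs).1 h).2
  let e : QuotSMulTop r R ≃ₗ[R] (R ⧸ Ideal.span {r}) :=
    Submodule.quotEquivOfEq _ _ (smul_top_eq_span_singleton r)
  have h3 : RingTheory.Sequence.IsWeaklyRegular (R ⧸ Ideal.span {r}) rs :=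
    (e.isWeaklyRegular_congr rs).1 h2
  have h4 := (RingTheory.Sequence.isWeaklyRegular_map_algebraMap_iff (R ⧸ Ideal.span {r})
    (R ⧸ Ideal.span {r}) rs).2 h3
  rwa [Ideal.Quotient.algebraMap_eq] at h4

end Quot

section Indep

variable {A : Type*} [CommRing A]

/-- evaluation of the one-variable form -/
noncomputable def evalSucc {R : Type*} [CommRing R] [Algebra A R] {d : ℕ} (x : Fin (d + 1) → R) :
    Polynomial (MvPolynomial (Fin d) A) →+* R :=
  Polynomial.eval₂RingHom ((aeval (fun i : Fin d => x i.succ) :
    MvPolynomial (Fin d) A →ₐ[A] R) : MvPolynomial (Fin d) A →+* R) (x 0)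

theorem evalSucc_finSuccEquiv {R : Type*} [CommRing R] [Algebra A R] {d : ℕ}
    (x : Fin (d + 1) → R) (F : MvPolynomial (Fin (d + 1)) A) :
    evalSucc x (finSuccEquiv A d F) = aeval x F := by
  induction F using MvPolynomial.induction_on with
  | C a =>
    have h1 : finSuccEquiv A d (C a) = Polynomial.C (C a) := by
      rw [finSuccEquiv_apply]; simp
    rw [h1]
    unfold evalSucc
    simp
  | add p q hp hq => rw [map_add, map_add, hp, hq, map_add]
  | mul_X p i hp =>
    rw [map_mul, map_mul, hp, map_mul]
    congr 1
    refine Fin.cases ?_ (fun j => ?_) i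
    · rw [finSuccEquiv_X_zero]
      unfold evalSucc
      simp
    · rw [finSuccEquiv_X_succ]
      unfold evalSucc
      simp

/-- **algebraic independence of a regular sequence** -/
theorem aeval_injective_of_isWeaklyRegular : ∀ (d : ℕ) (R : Type*) [CommRing R] [Algebra A R]
    (x : Fin d → R) (hreg : RingTheory.Sequence.IsWeaklyRegular R (List.ofFn x))
    (hA : ∀ a : A, algebraMap A R a ∈ Ideal.span (Set.range x) → a = 0),
    Function.Injective (aeval x : MvPolynomial (Fin d) A →ₐ[A] R) := by
  intro d
  induction d with
  | zero =>
    intro R _ _ x hreg hA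
    rw [injective_iff_map_eq_zero]
    intro F hF
    have h1 : F = C (isEmptyAlgEquiv A (Fin 0) F) := by
      conv_lhs => rw [← (isEmptyAlgEquiv A (Fin 0)).symm_apply_apply F]
      rfl
    rw [h1, aeval_C] at hF
    have h2 := hA _ (by rw [hF]; exact zero_mem _)
    rw [h1, h2, map_zero]
  | succ d ih =>
    intro R _ _ x hreg hA
    rw [List.ofFn_succ] at hreg
    have hreg0 : IsSMulRegular R (x 0) :=
      ((RingTheory.Sequence.isWeaklyRegular_cons_iff R _ _).1 hreg).1
    have hreg' := isWeaklyRegular_quotient_of_cons _ _ hreg
    rw [List.map_ofFn] at hreg'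
    let R' := R ⧸ Ideal.span {x 0}
    let x' : Fin d → R' := fun i => Ideal.Quotient.mk (Ideal.span {x 0}) (x i.succ)
    have hA' : ∀ a : A, algebraMap A R' a ∈ Ideal.span (Set.range x') → a = 0 := by
      intro a ha
      apply hA
      have h1 : Ideal.span (Set.range x') =
          Ideal.map (Ideal.Quotient.mk (Ideal.span {x 0}))
            (Ideal.span (Set.range fun i : Fin d => x i.succ)) := by
        rw [Ideal.map_span, ← Set.range_comp]
        rfl
      rw [h1] at ha
      have h2 : algebraMap A R' a = Ideal.Quotient.mk (Ideal.span {x 0}) (algebraMap A R a) := rfl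
      rw [h2, Ideal.mem_map_iff_of_surjective _ Ideal.Quotient.mk_surjective] at ha
      obtain ⟨y, hy, hya⟩ := ha
      rw [Ideal.Quotient.eq] at hya
      have h3 : algebraMap A R a = y - (y - algebraMap A R a) := by ring
      rw [h3]
      apply Ideal.sub_mem
      · refine Ideal.span_mono ?_ hy
        rintro _ ⟨i, rfl⟩
        exact ⟨i.succ, rfl⟩
      · refine Ideal.span_mono ?_ hya
        rintro _ rfl
        exact ⟨0, rfl⟩
    have ih' := ih R' x' hreg' hA'
    -- the key claim on one-variable polynomials
    have hmod : ∀ c : MvPolynomial (Fin d) A,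
        Ideal.Quotient.mk (Ideal.span {x 0}) (aeval (fun i : Fin d => x i.succ) c) =
          aeval x' c := by
      intro c
      have : ((Ideal.Quotient.mkₐ A (Ideal.span {x 0})).comp
          (aeval (fun i : Fin d => x i.succ) : MvPolynomial (Fin d) A →ₐ[A] R)) =
          (aeval x' : MvPolynomial (Fin d) A →ₐ[A] R') := by
        apply MvPolynomial.algHom_ext
        intro i
        simp [x']
      exact congrArg (fun f : MvPolynomial (Fin d) A →ₐ[A] R' => f c) this
    have key : ∀ (n : ℕ) (p : Polynomial (MvPolynomial (Fin d) A)), p.natDegree ≤ n →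
        evalSucc x p = 0 → p = 0 := by
      intro n
      induction n with
      | zero =>
        intro p hp h0
        rw [Polynomial.eq_C_of_natDegree_le_zero hp] at h0 ⊢
        unfold evalSucc at h0
        rw [Polynomial.coe_eval₂RingHom, Polynomial.eval₂_C] at h0
        have h1 := hmod (p.coeff 0)
        have h0' : (aeval (fun i : Fin d => x i.succ) (p.coeff 0) : R) = 0 := h0
        rw [h0', map_zero] at h1
        have := ih' (by rw [← h1, map_zero] : aeval x' (p.coeff 0) = aeval x' 0)
        rw [this, map_zero]
      | succ n ihn =>
        intro p hp h0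
        have hdec := Polynomial.divX_mul_X_add p
        have h1 : evalSucc x p = evalSucc x (Polynomial.divX p) * x 0 +
            aeval (fun i : Fin d => x i.succ) (p.coeff 0) := by
          conv_lhs => rw [← hdec]
          rw [map_add, map_mul]
          unfold evalSucc
          simp
        rw [h0] at h1
        have h2 := hmod (p.coeff 0)
        have h3 : (aeval (fun i : Fin d => x i.succ) (p.coeff 0) : R) =
            -(evalSucc x (Polynomial.divX p) * x 0) := by
          have := h1.symm
          exact eq_neg_of_add_eq_zero_right this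
        rw [h3, map_neg, map_mul] at h2
        have h4 : Ideal.Quotient.mk (Ideal.span {x 0}) (x 0) = 0 :=
          Ideal.Quotient.eq_zero_iff_mem.2 (Ideal.subset_span rfl)
        rw [h4, mul_zero, neg_zero] at h2
        have hc0 : p.coeff 0 = 0 :=
          ih' (by rw [← h2, map_zero] : aeval x' (p.coeff 0) = aeval x' 0)
        rw [hc0, map_zero, add_zero] at h1
        have h5 : evalSucc x (Polynomial.divX p) = 0 := by
          apply hreg0
          show x 0 • evalSucc x (Polynomial.divX p) = x 0 • 0
          rw [smul_eq_mul, smul_eq_mul, mul_zero, mul_comm]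
          exact h1.symm
        have h6 : Polynomial.divX p = 0 := by
          apply ihn _ _ h5
          rw [Polynomial.natDegree_divX_eq_natDegree_tsub_one]
          omega
        rw [← hdec, h6, hc0]
        simp
    rw [injective_iff_map_eq_zero]
    intro F hF
    rw [← evalSucc_finSuccEquiv] at hF
    have := key _ _ le_rfl hF
    exact (finSuccEquiv A d).injective (by rw [this, map_zero])

end Indep

end Groth.Agent.Helper23.APoly
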