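import Mathlib
import Groth.Prelude
import Groth.Agent.Lib.Helper20.GrSG11
import Groth.Agent.Lib.Helper20.GrHull2
import Groth.Agent.Lib.Helper20.GrCoind4
import Groth.Agent.Lib.Helper23.APoly2
import Groth.Agent.Lib.Helper23.APoly4
import Groth.Agent.Lib.Helper23.APoly5
import Groth.Agent.Lib.Helper23.APoly8
import Groth.Agent.Lib.Helper23.APolyQ
import Groth.Agent.Lib.Helper23.AInv2
import Groth.Agent.Lib.Helper23.AInv3

/-!
# `a(R) = -dim R` forces a standard graded CM ring over an Artinian base to be a polynomial ring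
-/

set_option autoImplicit false
set_option linter.unusedVariables false
set_option linter.unusedSectionVars false
set_option linter.style.haveILetI false

open DirectSum Groth.Agent.Helper20.GrInj

namespace Groth.Agent.Helper23.APoly

universe u

variable {R : Type u} [CommRing R] {𝒜 : ℤ → AddSubgroup R} [GradedRing 𝒜]

section Conc

variable {M : Type u} [AddCommGroup M] [Module R M] {ℳ : ℤ → AddSubgroup M}
  [DirectSum.Decomposition ℳ] [SetLike.GradedSMul 𝒜 ℳ]

theorem Hgr_zero_eq_bot_iff (a : HomogeneousIdeal 𝒜) (hΓ : GrLC.gam a.toIdeal M = ⊤)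
    (F : GrLC.StarInjRes 𝒜 ℳ) (n : ℤ) : F.Hgr a 0 n = ⊥ ↔ ℳ n = ⊥ := by
  rw [← hlen_eq_zero_iff, hlen_zero_of_gam_eq_top F a hΓ n, plen_eq_zero_iff]

end Conc

/-- the radical of an ideal generated by a regular sequence of length `dim R` inside `m` -/
theorem le_radical_of_regular [IsNoetherianRing R] (m : HomogeneousIdeal 𝒜)
    (hm : GrLC.IsStarLocal 𝒜 m) (hmax : m.toIdeal.IsMaximal) (d : ℕ)
    (hd : ringKrullDim R = d) (rs : List R) (hlen : rs.length = d)
    (hreg : RingTheory.Sequence.IsWeaklyRegular R rs) (J : Ideal R) (hJh : J.IsHomogeneous 𝒜)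
    (hJ : ∀ r ∈ rs, r ∈ J) (hJm : J ≤ m.toIdeal) : m.toIdeal ≤ J.radical := by
  have hht : m.toIdeal.height = d := by
    have h1 := ringKrullDim_eq_height_of_isStarLocal m hm hmax
    rw [hd] at h1
    exact_mod_cast h1.symm
  have h1 : (d : ℕ∞) ≤ J.height := by
    have h2 := Groth.Agent.Lead.Depth.le_idealDepth_of_isWeaklyRegular J R rs hreg hJ
    rw [hlen] at h2
    exact h2.trans (Groth.Agent.Lead.Depth.idealDepth_self_le_height J)
  rw [← Ideal.sInf_minimalPrimes]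
  apply le_sInf
  intro P hP
  haveI : P.IsPrime := hP.1.1
  have hPh : P.IsHomogeneous 𝒜 := isHomogeneous_of_mem_minimalPrimes hJh hP
  have hPm : P ≤ m.toIdeal := by
    have := le_of_isStarLocal m hm ⟨P, hPh⟩ (by
      intro h
      have h3 : P = ⊤ := congrArg HomogeneousIdeal.toIdeal h
      exact (inferInstance : P.IsPrime).ne_top h3)
    exact this
  rcases eq_or_lt_of_le hPm with h | h
  · rw [h]
  · exfalso
    have h3 := Ideal.height_strict_mono_of_isPrime h
    rw [hht] at h3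
    have h4 : (d : ℕ∞) ≤ P.height := h1.trans (Ideal.height_mono hP.1.2)
    exact absurd (lt_of_le_of_lt h4 h3) (lt_irrefl _)

/-- **main theorem** -/
theorem poly_of_endDeg [LocCoh.IsCohenMacaulayRing R]
    (hpos : ∀ n : ℤ, n < 0 → 𝒜 n = ⊥)
    (hstd : Ideal.span (⋃ n ∈ Set.Ioi (0 : ℤ), (𝒜 n : Set R)) =
      Ideal.span ((𝒜 1 : AddSubgroup R) : Set R))
    [IsArtinianRing (GrLC.deg0 𝒜)] (m : HomogeneousIdeal 𝒜) (hm : GrLC.IsStarLocal 𝒜 m)
    (hinf : Infinite (R ⧸ m.toIdeal)) (d : ℕ) (hd : ringKrullDim R = d)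
    (I : GrLC.StarInjRes 𝒜 𝒜)
    (ha : GrLC.endDeg (I.Hgr m d) =
      (((-(d : ℤ) : ℤ) : WithTop ℤ) : WithBot (WithTop ℤ))) :
    ∃ e : MvPolynomial (Fin d) (GrLC.deg0 𝒜) ≃ₐ[GrLC.deg0 𝒜] R,
      ∀ t : Fin d, e (MvPolynomial.X t) ∈ 𝒜 1 := by
  have hmax : m.toIdeal.IsMaximal := isMaximal_of_isStarLocal hpos m hm
  haveI : Nontrivial R := by
    by_contra h
    rw [not_nontrivial_iff_subsingleton] at h
    exact hmax.ne_top (Subsingleton.elim _ _)
  have hht : m.toIdeal.height = d := by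
    have h1 := ringKrullDim_eq_height_of_isStarLocal m hm hmax
    rw [hd] at h1
    exact_mod_cast h1.symm
  have hdepth : LocCoh.idealDepth m.toIdeal R = d := by
    rw [← hht]
    exact (Groth.Agent.Lead.Depth.isCohenMacaulayRing_iff_idealDepth_eq_height.mp inferInstance)
      _ hmax.ne_top
  have htop : m.toIdeal • (⊤ : Submodule R R) ≠ ⊤ := by
    rw [smul_eq_mul, Ideal.mul_top]
    exact hmax.ne_top
  obtain ⟨rs, hlen, hrs1, hreg⟩ := exists_linear_sequence m hm hpos hstd hinf d R htop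
    (le_of_eq hdepth.symm)
  subst hlen
  set x : Fin rs.length → R := rs.get with hx
  have hofFn : List.ofFn x = rs := List.ofFn_get rs
  have hx1 : ∀ i, x i ∈ 𝒜 1 := fun i => hrs1 _ (List.get_mem rs i)
  have hirr : (irrel 𝒜).toIdeal ≤ m.toIdeal := irrel_le_of_isStarLocal m hm hpos
  have hxirr : ∀ i, x i ∈ (irrel 𝒜).toIdeal := fun i => by
    apply Ideal.subset_span
    simp only [Set.mem_iUnion]
    exact ⟨1, by simp, hx1 i⟩
  have hxm : ∀ i, x i ∈ m.toIdeal := fun i => hirr (hxirr i)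
  -- the ideal generated by the sequence
  set J : Ideal R := Ideal.span (Set.range x) with hJdef
  have hJh : J.IsHomogeneous 𝒜 := Ideal.homogeneous_span 𝒜 _ (by
    rintro _ ⟨i, rfl⟩
    exact ⟨1, hx1 i⟩)
  have hJirr : J ≤ (irrel 𝒜).toIdeal := by
    rw [hJdef, Ideal.span_le]
    rintro _ ⟨i, rfl⟩
    exact hxirr i
  have hJm : J ≤ m.toIdeal := hJirr.trans hirr
  have hrad : m.toIdeal ≤ J.radical := by
    apply le_radical_of_regular m hm hmax rs.length hd rs rfl hreg J hJh _ hJm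
    intro r hr
    obtain ⟨i, rfl⟩ := List.mem_iff_get.1 hr
    exact Ideal.subset_span ⟨i, rfl⟩
  obtain ⟨N, hN⟩ := Ideal.exists_pow_le_of_le_radical_of_fg hrad (IsNoetherian.noetherian _)
  -- the quotient `R ⧸ J`
  let X : GrLC.GMod.{u} 𝒜 := GrLC.GMod.of 𝒜 R 𝒜
  let P : Submodule R X.carrier := J
  have hP : P.IsHomogeneous X.gr := hJh
  let Y : GrLC.GMod.{u} 𝒜 := quotGMod X.gr 𝒜 P hP
  let π : X.carrier →ₗ[R] Y.carrier := quotMk 𝒜 X.gr P hP
  have hπg : GrLC.IsGrHom X.gr Y.gr π := quotMk_grHom 𝒜 X.gr P hP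
  have hπs : Function.Surjective π := quotMk_surjective 𝒜 X.gr P hP
  have hπk : LinearMap.ker π = Ideal.span (Set.range x) • (⊤ : Submodule R X.carrier) := by
    rw [quotMk_ker]
    show J = _
    exact (Ideal.mul_top _).symm
  let F : GrLC.StarInjRes 𝒜 Y.gr := starInjRes 𝒜 Y.gr
  have hvan : ∀ i < rs.length, ∀ E : GrLC.StarInjRes 𝒜 X.gr, ∀ w : E.H m i, w = 0 :=
    fun i hi E => AInv.H_eq_zero_of_CM hpos m hm rs.length hd E i hi
  have hreg' : RingTheory.Sequence.IsWeaklyRegular X.carrier (List.ofFn x) := by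
    rw [hofFn]; exact hreg
  have hmain := (AInv.seq_main m rs.length X x (fun _ => 1) hx1 (fun _ => by omega) hxm hreg'
    rs.length le_rfl hvan Y π hπg hπs hπk I F).2
  have hsum : (∑ i : Fin rs.length, (1 : ℤ)) = rs.length := by simp
  rw [Nat.sub_self, hsum] at hmain
  have hmain' : GrLC.endDeg (F.Hgr m 0) = (((0 : ℤ) : WithTop ℤ) : WithBot (WithTop ℤ)) := by
    have e1 : GrLC.endDeg (F.Hgr m 0) = GrLC.endDeg (I.Hgr m rs.length) +
        ((((rs.length : ℤ) : ℤ) : WithTop ℤ) : WithBot (WithTop ℤ)) := hmain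
    rw [e1, ha, ← WithBot.coe_add, ← WithTop.coe_add]
    congr 2
    omega
  -- `Γ_m(R ⧸ J) = R ⧸ J`
  have hΓ : GrLC.gam m.toIdeal Y.carrier = ⊤ := by
    rw [eq_top_iff]
    intro y _
    obtain ⟨w, rfl⟩ := hπs y
    refine ⟨N, fun c hc => ?_⟩
    rw [← map_smul, quotMk_eq_zero_iff]
    have hw : c * (show R from w) ∈ J := Ideal.mul_mem_right _ _ (hN hc)
    exact hw
  -- the positive degree pieces lie in `J`
  have hpieces : ∀ n : ℤ, 0 < n → ∀ z ∈ 𝒜 n, z ∈ J := by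
    intro n hn z hz
    have h1 : F.Hgr m 0 n = ⊥ := by
      by_contra hne
      have h2 : (((n : ℤ) : WithTop ℤ) : WithBot (WithTop ℤ)) ≤ GrLC.endDeg (F.Hgr m 0) :=
        le_iSup₂ (f := fun (n : ℤ) (_ : F.Hgr m 0 n ≠ ⊥) =>
          ((n : WithTop ℤ) : WithBot (WithTop ℤ))) n hne
      rw [hmain'] at h2
      have h3 : n ≤ 0 := WithTop.coe_le_coe.1 (WithBot.coe_le_coe.1 h2)
      omega
    rw [Hgr_zero_eq_bot_iff m hΓ F n] at h1
    have h2 : π (show X.carrier from z) ∈ Y.gr n := hπg n (show X.carrier from z) hz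
    rw [h1, AddSubgroup.mem_bot, quotMk_eq_zero_iff] at h2
    exact h2
  -- `R₁` is spanned by the `x i` over `R₀`
  have hspan : ∀ z ∈ 𝒜 1, z ∈ Submodule.span (GrLC.deg0 𝒜) (Set.range x) := by
    intro z hz
    have hzJ := hpieces 1 one_pos z hz
    rw [hJdef, Ideal.mem_span_range_iff_exists_fun] at hzJ
    obtain ⟨c, hc⟩ := hzJ
    have h1 : z = ∑ i, ((decompose 𝒜 (c i) 0 : 𝒜 0) : R) * x i := by
      have h2 : ((decompose 𝒜 z 1 : 𝒜 1) : R) = z := decompose_of_mem_same 𝒜 hz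
      rw [← h2, ← hc, decompose_sum, DFinsupp.finset_sum_apply, AddSubmonoidClass.coe_finset_sum]
      apply Finset.sum_congr rfl
      intro i _
      rw [decompose_one_mul 𝒜 hpos, decompose_zero_of_mem_irrel 𝒜 hpos (hxirr i), mul_zero,
        add_zero, decompose_of_mem_same 𝒜 (hx1 i)]
    rw [h1]
    apply Submodule.sum_mem
    intro i _
    have h3 : ((decompose 𝒜 (c i) 0 : 𝒜 0) : R) * x i =
        (⟨((decompose 𝒜 (c i) 0 : 𝒜 0) : R), (decompose 𝒜 (c i) 0).2⟩ : GrLC.deg0 𝒜) • x i := rfl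
    rw [h3]
    exact Submodule.smul_mem _ _ (Submodule.subset_span ⟨i, rfl⟩)
  have hsurj := aeval_surjective 𝒜 hpos hstd x hspan
  have hA : ∀ a : GrLC.deg0 𝒜, algebraMap (GrLC.deg0 𝒜) R a ∈ Ideal.span (Set.range x) →
      a = 0 := by
    intro a haJ
    have h1 : (a : R) ∈ (irrel 𝒜).toIdeal := hJirr haJ
    have h2 := decompose_zero_of_mem_irrel 𝒜 hpos h1
    rw [decompose_of_mem_same 𝒜 a.2] at h2
    exact Subtype.ext h2
  have hinj := aeval_injective_of_isWeaklyRegular (A := GrLC.deg0 𝒜) rs.length R x hreg' hA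
  refine ⟨AlgEquiv.ofBijective (MvPolynomial.aeval x) ⟨hinj, hsurj⟩, ?_⟩
  intro t
  rw [AlgEquiv.ofBijective_apply, MvPolynomial.aeval_X]
  exact hx1 t

end Groth.Agent.Helper23.APoly
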