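import Mathlib
import Groth.Agent.Lib.Helper23.ASAlg

/-!
# Automorphisms of the Artin–Schreier family algebra
-/

set_option autoImplicit false
set_option linter.unusedSectionVars false
set_option linter.unusedVariables false
set_option linter.style.haveILetI false

universe u

namespace Groth.Agent.Helper23.ASAlg

open Groth.Agent.Helper23.MonicBasis

variable (p : ℕ) [Fact p.Prime] (k : Type u) [Field k] [CharP k p] (n : ℕ)
  (a : Fin n → MvPowerSeries (Fin n) k)

/-- the cast of the prime field into `R` -/
noncomputable def zR : ZMod p →+* MvPowerSeries (Fin n) k := ZMod.castHom (dvd_refl p) _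

theorem zR_pow (c : ZMod p) : zR p k n c ^ p = zR p k n c := by
  rw [← map_pow, ZMod.pow_card]

theorem zR_injective : Function.Injective (zR p k n) := ZMod.castHom_injective _

/-- translated generators -/
noncomputable def vv (c : Fin n → ZMod p) (i : Fin n) : A p k n a :=
  uu p k n a i + algebraMap _ (A p k n a) (zR p k n (c i) * a i)

theorem vv_rel (c : Fin n → ZMod p) (i : Fin n) :
    Polynomial.aeval (vv p k n a c i) (Gp p k n a i) = 0 := by
  have hp := two_le_p p
  rw [aeval_Gp]
  unfold vv
  rw [add_pow_char, rel, ← map_pow, mul_pow, zR_pow]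
  have h1 : a i ^ p = a i ^ (p - 1) * a i := by
    rw [← pow_succ, Nat.sub_add_cancel (by omega)]
  rw [h1, mul_add, ← map_mul]
  have h2 : a i ^ (p - 1) * (zR p k n (c i) * a i) = zR p k n (c i) * (a i ^ (p - 1) * a i) := by
    ring
  rw [h2]
  ring

noncomputable def tau₀ (c : Fin n → ZMod p) :
    MvPolynomial (Fin n) (MvPowerSeries (Fin n) k) →ₐ[MvPowerSeries (Fin n) k] A p k n a :=
  MvPolynomial.aeval (vv p k n a c)

theorem tau₀_FG (c : Fin n → ZMod p) (i : Fin n) : tau₀ p k n a c (FG (Gp p k n a) i) = 0 := by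
  unfold tau₀
  rw [aeval_FG]
  exact vv_rel p k n a c i

noncomputable def tau (c : Fin n → ZMod p) : A p k n a →ₐ[MvPowerSeries (Fin n) k] A p k n a :=
  Ideal.Quotient.liftₐ _ (tau₀ p k n a c) (by
    intro b hb
    have hle : Ideal.span (Set.range (FG (Gp p k n a))) ≤ RingHom.ker (tau₀ p k n a c) := by
      rw [Ideal.span_le]
      rintro _ ⟨i, rfl⟩
      exact tau₀_FG p k n a c i
    exact hle hb)

theorem tau_uu (c : Fin n → ZMod p) (i : Fin n) :
    tau p k n a c (uu p k n a i) = vv p k n a c i := by
  unfold tau uu x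
  rw [Ideal.Quotient.liftₐ_apply, Ideal.Quotient.lift_mk]
  exact MvPolynomial.aeval_X _ _

theorem algHom_ext' {B : Type u} [Semiring B] [Algebra (MvPowerSeries (Fin n) k) B]
    (f g : A p k n a →ₐ[MvPowerSeries (Fin n) k] B)
    (h : ∀ i, f (uu p k n a i) = g (uu p k n a i)) : f = g := by
  apply Ideal.Quotient.algHom_ext
  apply MvPolynomial.algHom_ext
  intro i
  exact h i

theorem tau_comp (c c' : Fin n → ZMod p) :
    (tau p k n a c).comp (tau p k n a c') = tau p k n a (c + c') := by
  apply algHom_ext'
  intro i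
  rw [AlgHom.comp_apply, tau_uu, tau_uu]
  unfold vv
  rw [map_add, tau_uu, AlgHom.commutes]
  unfold vv
  rw [Pi.add_apply, map_add, add_mul, map_add]
  ring

theorem tau_zero : tau p k n a 0 = AlgHom.id _ _ := by
  apply algHom_ext'
  intro i
  rw [tau_uu]
  unfold vv
  rw [Pi.zero_apply, map_zero, zero_mul, map_zero, add_zero]
  rfl

/-- the translation automorphisms -/
noncomputable def sig (c : Fin n → ZMod p) : A p k n a ≃ₐ[MvPowerSeries (Fin n) k] A p k n a :=
  AlgEquiv.ofAlgHom (tau p k n a c) (tau p k n a (-c))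
    (by rw [tau_comp, add_neg_cancel, tau_zero])
    (by rw [tau_comp, neg_add_cancel, tau_zero])

theorem sig_apply (c : Fin n → ZMod p) (b : A p k n a) : sig p k n a c b = tau p k n a c b := rfl

theorem sig_mul (c c' : Fin n → ZMod p) : sig p k n a c * sig p k n a c' = sig p k n a (c + c') := by
  ext b
  rw [AlgEquiv.mul_apply, sig_apply, sig_apply, sig_apply, ← tau_comp]
  rfl

theorem sig_zero : sig p k n a 0 = 1 := by
  ext b
  rw [sig_apply, tau_zero]
  rfl

theorem sig_pow (c : Fin n → ZMod p) (m : ℕ) : sig p k n a c ^ m = sig p k n a (m • c) := by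
  induction m with
  | zero => rw [pow_zero, zero_smul, sig_zero]
  | succ m ih => rw [pow_succ, ih, sig_mul, succ_nsmul]

theorem sig_pow_p (c : Fin n → ZMod p) : sig p k n a c ^ p = 1 := by
  rw [sig_pow]
  have : p • c = 0 := by
    funext i
    rw [Pi.smul_apply, nsmul_eq_mul, CharP.cast_eq_zero, zero_mul, Pi.zero_apply]
  rw [this, sig_zero]

section Domain
variable (ham : ∀ i, MvPowerSeries.constantCoeff (a i) = 0) (ha0 : ∀ i, a i ≠ 0)

include ham ha0 in
theorem sig_injective : Function.Injective (sig p k n a) := by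
  haveI := isDomain p k n a ham
  intro c c' h
  funext i
  have h1 : sig p k n a c (uu p k n a i) = sig p k n a c' (uu p k n a i) := by rw [h]
  rw [sig_apply, sig_apply, tau_uu, tau_uu] at h1
  unfold vv at h1
  have h2 := algebraMap_injective p k n a (add_left_cancel h1)
  have h3 : zR p k n (c i) = zR p k n (c' i) := mul_right_cancel₀ (ha0 i) h2
  exact zR_injective p k n h3

/-- roots of the additive polynomial -/
theorem root_lemma [IsDomain (A p k n a)] (w : A p k n a) (α : MvPowerSeries (Fin n) k)
    (hα : α ≠ 0)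
    (hw : w ^ p = algebraMap _ (A p k n a) (α ^ (p - 1)) * w) :
    ∃ c : ZMod p, w = algebraMap _ (A p k n a) (zR p k n c * α) := by
  have hp := two_le_p p
  set K := FractionRing (A p k n a) with hK
  haveI : CharP K p := charP_of_injective_algebraMap (IsFractionRing.injective (A p k n a) K) p
  set αA : A p k n a := algebraMap _ (A p k n a) α with hαA
  have hαA0 : αA ≠ 0 := by
    intro h
    apply hα
    apply algebraMap_injective p k n a
    rw [map_zero]
    exact h
  have hαK0 : algebraMap (A p k n a) K αA ≠ 0 := by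
    intro h
    apply hαA0
    apply IsFractionRing.injective (A p k n a) K
    rw [map_zero]
    exact h
  set q : K := algebraMap (A p k n a) K w / algebraMap (A p k n a) K αA with hq
  have hqp : q ^ p = q := by
    rw [hq, div_pow, ← map_pow, hw, map_mul, map_pow, map_pow]
    rw [div_eq_div_iff (pow_ne_zero _ hαK0) hαK0]
    have h1 : (algebraMap (A p k n a) K αA) ^ p =
        (algebraMap (A p k n a) K αA) ^ (p - 1) * algebraMap (A p k n a) K αA := by
      rw [← pow_succ, Nat.sub_add_cancel (by omega)]
    rw [h1]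
    ring
  have hmem : q ∈ (⊥ : Subfield K) := (Subfield.mem_bot_iff_pow_eq_self K p).2 hqp
  rw [← ZMod.fieldRange_castHom_eq_bot p] at hmem
  obtain ⟨c, hc⟩ := hmem
  refine ⟨c, ?_⟩
  apply IsFractionRing.injective (A p k n a) K
  have h2 : algebraMap (A p k n a) K w = q * algebraMap (A p k n a) K αA := by
    rw [hq, div_mul_cancel₀ _ hαK0]
  rw [h2, ← hc, map_mul, map_mul]
  congr 1
  have h3 : ((algebraMap (A p k n a) K).comp
      ((algebraMap (MvPowerSeries (Fin n) k) (A p k n a)).comp (zR p k n))) =
      ZMod.castHom (dvd_refl p) K := RingHom.ext_zmod _ _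
  exact (DFunLike.congr_fun h3 c).symm

include ham ha0 in
theorem sig_surjective : Function.Surjective (sig p k n a) := by
  haveI := isDomain p k n a ham
  intro σ
  have key : ∀ i, ∃ c : ZMod p, σ (uu p k n a i) - uu p k n a i =
      algebraMap _ (A p k n a) (zR p k n c * a i) := by
    intro i
    apply root_lemma p k n a _ (a i) (ha0 i)
    rw [sub_pow_char, ← map_pow, rel, map_add, map_mul, AlgEquiv.commutes, AlgEquiv.commutes]
    ring
  choose c hc using key
  refine ⟨c, ?_⟩
  have h1 : (sig p k n a c : A p k n a →ₐ[MvPowerSeries (Fin n) k] A p k n a) =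
      (σ : A p k n a →ₐ[MvPowerSeries (Fin n) k] A p k n a) := by
    apply algHom_ext'
    intro i
    change tau p k n a c (uu p k n a i) = σ (uu p k n a i)
    rw [tau_uu]
    unfold vv
    rw [← hc i]
    ring
  ext b
  exact DFunLike.congr_fun h1 b

/-- the classification of automorphisms -/
noncomputable def sigEquiv : (Fin n → ZMod p) ≃
    (A p k n a ≃ₐ[MvPowerSeries (Fin n) k] A p k n a) :=
  Equiv.ofBijective (sig p k n a) ⟨sig_injective p k n a ham ha0, sig_surjective p k n a ham ha0⟩

include ham ha0 in
theorem card_aut :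
    Nat.card (A p k n a ≃ₐ[MvPowerSeries (Fin n) k] A p k n a) = p ^ n := by
  rw [← Nat.card_congr (sigEquiv p k n a ham ha0), Nat.card_fun, Nat.card_zmod, Nat.card_fin]

end Domain

end Groth.Agent.Helper23.ASAlg
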