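import Mathlib
import Groth.Agent.Lib.Helper23.ASAut

/-!
# Fixed points of the translation automorphisms of the Artin–Schreier family algebra
-/

set_option autoImplicit false
set_option linter.unusedSectionVars false
set_option linter.unusedVariables false
set_option linter.style.haveILetI false

universe u

namespace Groth.Agent.Helper23.ASAlg

open Groth.Agent.Helper23.MonicBasis

variable (p : ℕ) [Fact p.Prime] (k : Type u) [Field k] [CharP k p] (n : ℕ)
  (a : Fin n → MvPowerSeries (Fin n) k)

/-- index type of the basis -/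
abbrev Idx : Type := ∀ i : Fin n, Fin (Gp p k n a i).natDegree

/-- the translation scalar -/
noncomputable def gam (i : Fin n) (c : ZMod p) : MvPowerSeries (Fin n) k := zR p k n c * a i

theorem tau_single_uu_ne (i l : Fin n) (hl : l ≠ i) (c : ZMod p) :
    tau p k n a (Pi.single i c) (uu p k n a l) = uu p k n a l := by
  rw [tau_uu]
  unfold vv
  rw [Pi.single_eq_of_ne hl, map_zero, zero_mul, map_zero, add_zero]

theorem tau_single_uu (i : Fin n) (c : ZMod p) :
    tau p k n a (Pi.single i c) (uu p k n a i) =
      uu p k n a i + algebraMap _ (A p k n a) (gam p k n a i c) := by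
  rw [tau_uu]
  unfold vv gam
  rw [Pi.single_eq_same]

theorem tau_single_rest (i : Fin n) (c : ZMod p) (e : Idx p k n a) :
    tau p k n a (Pi.single i c) (rest (Gp p k n a) i e) = rest (Gp p k n a) i e := by
  unfold rest
  rw [map_prod]
  apply Finset.prod_congr rfl
  intro l hl
  rw [map_pow]
  congr 1
  exact tau_single_uu_ne p k n a i l (Finset.ne_of_mem_erase hl) c

theorem tau_single_mon (i : Fin n) (c : ZMod p) (e : Idx p k n a) :
    tau p k n a (Pi.single i c) (mon (Gp p k n a) e) =
      (uu p k n a i + algebraMap _ (A p k n a) (gam p k n a i c)) ^ (e i : ℕ) *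
        rest (Gp p k n a) i e := by
  rw [mon_eq (Gp p k n a) i e, map_mul, map_pow, tau_single_rest]
  congr 2
  exact tau_single_uu p k n a i c

theorem repr_pow_mul_rest (i : Fin n) (e ez : Idx p k n a) (t : ℕ)
    (ht : t < (Gp p k n a i).natDegree) :
    (bas p k n a).repr (uu p k n a i ^ t * rest (Gp p k n a) i e) ez =
      if Function.update e i ⟨t, ht⟩ = ez then 1 else 0 := by
  have h := pow_mul_rest_eq (Gp p k n a) i e ⟨t, ht⟩
  rw [show ((⟨t, ht⟩ : Fin (Gp p k n a i).natDegree) : ℕ) = t from rfl] at h
  rw [h, ← bas_apply, Module.Basis.repr_self, Finsupp.single_apply]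

/-- the key coordinate computation -/
theorem repr_add_pow_mul_rest (i : Fin n) (γ : MvPowerSeries (Fin n) k) (e ez : Idx p k n a)
    (h0 : (ez i : ℕ) = 0) :
    (bas p k n a).repr ((uu p k n a i + algebraMap _ (A p k n a) γ) ^ (e i : ℕ) *
        rest (Gp p k n a) i e) ez =
      if Function.update e i (ez i) = ez then γ ^ (e i : ℕ) else 0 := by
  classical
  rw [add_pow, Finset.sum_mul, map_sum, Finsupp.finset_sum_apply]
  have hterm : ∀ t ∈ Finset.range ((e i : ℕ) + 1),
      (bas p k n a).repr (uu p k n a i ^ t * (algebraMap _ (A p k n a) γ) ^ ((e i : ℕ) - t) *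
        (((e i : ℕ).choose t : ℕ) : A p k n a) * rest (Gp p k n a) i e) ez =
      if t = 0 then (if Function.update e i (ez i) = ez then γ ^ (e i : ℕ) else 0) else 0 := by
    intro t ht
    have ht' : t < (Gp p k n a i).natDegree :=
      lt_of_le_of_lt (Nat.lt_succ_iff.1 (Finset.mem_range.1 ht)) (e i).2
    have h1 : uu p k n a i ^ t * (algebraMap _ (A p k n a) γ) ^ ((e i : ℕ) - t) *
        (((e i : ℕ).choose t : ℕ) : A p k n a) * rest (Gp p k n a) i e =
        (γ ^ ((e i : ℕ) - t) * (((e i : ℕ).choose t : ℕ) : MvPowerSeries (Fin n) k)) •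
          (uu p k n a i ^ t * rest (Gp p k n a) i e) := by
      rw [smul_eq, map_mul, map_pow, map_natCast]
      ring
    rw [h1, map_smul, Finsupp.smul_apply, repr_pow_mul_rest p k n a i e ez t ht', smul_eq_mul]
    by_cases ht0 : t = 0
    · subst ht0
      rw [if_pos rfl, Nat.choose_zero_right, Nat.cast_one, mul_one, Nat.sub_zero]
      have h2 : (⟨0, ht'⟩ : Fin (Gp p k n a i).natDegree) = ez i := Fin.ext h0.symm
      rw [h2]
      split_ifs <;> simp
    · rw [if_neg ht0, if_neg, mul_zero]
      intro h
      apply ht0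
      have h3 := congrFun h i
      rw [Function.update_self] at h3
      have h4 := congrArg Fin.val h3
      rw [h0] at h4
      exact h4
  rw [Finset.sum_congr rfl hterm, Finset.sum_ite_eq' (Finset.range ((e i : ℕ) + 1)) 0,
    if_pos (Finset.mem_range.2 (Nat.succ_pos _))]

/-- the coordinate of `σ b` at an index with `i`-th exponent `0` -/
theorem repr_tau_single (i : Fin n) (c : ZMod p) (ez : Idx p k n a) (h0 : (ez i : ℕ) = 0)
    (b : A p k n a) :
    (bas p k n a).repr (tau p k n a (Pi.single i c) b) ez =
      ∑ s : Fin (Gp p k n a i).natDegree,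
        (bas p k n a).repr b (Function.update ez i s) * gam p k n a i c ^ (s : ℕ) := by
  classical
  -- both sides are linear in b
  let φ₁ : A p k n a →ₗ[MvPowerSeries (Fin n) k] MvPowerSeries (Fin n) k :=
    (Finsupp.lapply ez) ∘ₗ ((bas p k n a).repr : A p k n a →ₗ[MvPowerSeries (Fin n) k] _) ∘ₗ
      (tau p k n a (Pi.single i c)).toLinearMap
  let φ₂ : A p k n a →ₗ[MvPowerSeries (Fin n) k] MvPowerSeries (Fin n) k :=
    ∑ s : Fin (Gp p k n a i).natDegree, gam p k n a i c ^ (s : ℕ) •
      ((Finsupp.lapply (Function.update ez i s)) ∘ₗ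
        ((bas p k n a).repr : A p k n a →ₗ[MvPowerSeries (Fin n) k] _))
  have hφ : φ₁ = φ₂ := by
    apply (bas p k n a).ext
    intro e
    have e1 : φ₁ (bas p k n a e) = (bas p k n a).repr
        (tau p k n a (Pi.single i c) (bas p k n a e)) ez := rfl
    have e2 : φ₂ (bas p k n a e) = ∑ s : Fin (Gp p k n a i).natDegree,
        gam p k n a i c ^ (s : ℕ) * (bas p k n a).repr (bas p k n a e) (Function.update ez i s) := by
      simp only [φ₂, LinearMap.sum_apply, LinearMap.smul_apply, LinearMap.comp_apply,
        Finsupp.lapply_apply, smul_eq_mul]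
      rfl
    rw [e1, e2, bas_apply, tau_single_mon, repr_add_pow_mul_rest p k n a i _ e ez h0]
    rw [← bas_apply]
    simp only [Module.Basis.repr_self, Finsupp.single_apply]
    rw [Finset.sum_eq_single (e i)]
    · by_cases hc : Function.update e i (ez i) = ez
      · rw [if_pos hc, if_pos, mul_one]
        rw [← hc, Function.update_idem, Function.update_eq_self]
      · rw [if_neg hc, if_neg, mul_zero]
        intro h
        apply hc
        rw [h, Function.update_idem, Function.update_eq_self]
    · intro s _ hs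
      rw [if_neg, mul_zero]
      intro h
      apply hs
      have := congrFun h i
      rw [Function.update_self] at this
      exact this.symm
    · intro h
      exact absurd (Finset.mem_univ _) h
  have h1 : φ₁ b = φ₂ b := by rw [hφ]
  have e1 : φ₁ b = (bas p k n a).repr (tau p k n a (Pi.single i c) b) ez := rfl
  have e2 : φ₂ b = ∑ s : Fin (Gp p k n a i).natDegree,
      gam p k n a i c ^ (s : ℕ) * (bas p k n a).repr b (Function.update ez i s) := by
    simp only [φ₂, LinearMap.sum_apply, LinearMap.smul_apply, LinearMap.comp_apply,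
      Finsupp.lapply_apply, smul_eq_mul]
    rfl
  rw [← e1, h1, e2]
  apply Finset.sum_congr rfl
  intro s _
  rw [mul_comm]

section Fixed

theorem gam_injective (i : Fin n) (ha0 : a i ≠ 0) : Function.Injective (gam p k n a i) := by
  intro c c' h
  unfold gam at h
  exact zR_injective p k n (mul_right_cancel₀ ha0 h)

theorem repr_eq_zero_of_fixed (b : A p k n a)
    (hb : ∀ c : Fin n → ZMod p, tau p k n a c b = b) (e : Idx p k n a) (i : Fin n)
    (ha0 : a i ≠ 0) (hei : (e i : ℕ) ≠ 0) : (bas p k n a).repr b e = 0 := by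
  classical
  have hp := two_le_p p
  set β := (bas p k n a).repr b with hβ
  set ez : Idx p k n a := Function.update e i ⟨0, Gp_pos p k n a i⟩ with hez
  have h0 : (ez i : ℕ) = 0 := by
    rw [hez, Function.update_self]
  set Pol : Polynomial (MvPowerSeries (Fin n) k) :=
    ∑ s : Fin (Gp p k n a i).natDegree,
      Polynomial.C (β (Function.update ez i s)) * Polynomial.X ^ (s : ℕ) -
        Polynomial.C (β ez) with hPol
  have hez_self : Function.update ez i (ez i) = ez := Function.update_eq_self i ez
  have heval : ∀ c : ZMod p, Pol.eval (gam p k n a i c) = 0 := by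
    intro c
    have h1 := repr_tau_single p k n a i c ez h0 b
    rw [hb] at h1
    simp only [hPol, Polynomial.eval_sub, Polynomial.eval_finset_sum, Polynomial.eval_mul,
      Polynomial.eval_C, Polynomial.eval_pow, Polynomial.eval_X]
    rw [← h1, sub_self]
  have hdeg : Pol.natDegree < Fintype.card (ZMod p) := by
    rw [ZMod.card]
    have h1 : Pol.natDegree ≤ (Gp p k n a i).natDegree - 1 := by
      refine (Polynomial.natDegree_sub_le _ _).trans (max_le ?_ ?_)
      · apply Polynomial.natDegree_sum_le_of_forall_le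
        intro s _
        refine (Polynomial.natDegree_C_mul_X_pow_le _ _).trans ?_
        have := s.2
        omega
      · rw [Polynomial.natDegree_C]
        exact Nat.zero_le _
    rw [Gp_natDegree] at h1
    omega
  haveI : IsDomain (MvPowerSeries (Fin n) k) := NoZeroDivisors.to_isDomain _
  have hzero : Pol = 0 :=
    Polynomial.eq_zero_of_natDegree_lt_card_of_eval_eq_zero Pol (gam_injective p k n a i ha0)
      heval hdeg
  have hc : Pol.coeff (e i : ℕ) = 0 := by rw [hzero, Polynomial.coeff_zero]
  rw [hPol, Polynomial.coeff_sub, Polynomial.finsetSum_coeff, Polynomial.coeff_C,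
    if_neg hei, sub_zero] at hc
  rw [Finset.sum_eq_single (e i)] at hc
  · rw [Polynomial.coeff_C_mul, Polynomial.coeff_X_pow, if_pos rfl, mul_one] at hc
    have h2 : Function.update ez i (e i) = e := by
      rw [hez, Function.update_idem, Function.update_eq_self]
    rw [h2] at hc
    exact hc
  · intro s _ hs
    rw [Polynomial.coeff_C_mul, Polynomial.coeff_X_pow, if_neg, mul_zero]
    intro h
    apply hs
    exact Fin.ext h.symm
  · intro h
    exact absurd (Finset.mem_univ _) h

theorem fixed_mem_range (ha0 : ∀ i, a i ≠ 0) (b : A p k n a)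
    (hb : ∀ c : Fin n → ZMod p, tau p k n a c b = b) :
    b ∈ Set.range (algebraMap (MvPowerSeries (Fin n) k) (A p k n a)) := by
  classical
  set e0 : Idx p k n a := fun i => ⟨0, Gp_pos p k n a i⟩ with he0
  refine ⟨(bas p k n a).repr b e0, ?_⟩
  have h1 : mon (Gp p k n a) e0 = 1 := by
    unfold mon
    apply Finset.prod_eq_one
    intro i _
    exact pow_zero _
  have h2 := (bas p k n a).sum_repr b
  rw [Finset.sum_eq_single e0] at h2
  · rw [bas_apply, h1] at h2
    rw [Algebra.algebraMap_eq_smul_one]
    exact h2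
  · intro e _ he
    have hex : ∃ i, (e i : ℕ) ≠ 0 := by
      by_contra h
      push Not at h
      apply he
      funext i
      exact Fin.ext (h i)
    obtain ⟨i, hi⟩ := hex
    rw [repr_eq_zero_of_fixed p k n a b hb e i (ha0 i) hi, zero_smul]
  · intro h
    exact absurd (Finset.mem_univ _) h

end Fixed

/-- the main theorem on automorphisms -/
theorem main_aut (ham : ∀ i, MvPowerSeries.constantCoeff (a i) = 0) (ha0 : ∀ i, a i ≠ 0) :
    Nat.card (A p k n a ≃ₐ[MvPowerSeries (Fin n) k] A p k n a) = p ^ n ∧
      (∀ σ τ : A p k n a ≃ₐ[MvPowerSeries (Fin n) k] A p k n a, σ * τ = τ * σ) ∧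
      (∀ σ : A p k n a ≃ₐ[MvPowerSeries (Fin n) k] A p k n a, σ ^ p = 1) ∧
      (∀ b : A p k n a,
        (∀ σ : A p k n a ≃ₐ[MvPowerSeries (Fin n) k] A p k n a, σ b = b) ↔
          b ∈ Set.range (algebraMap (MvPowerSeries (Fin n) k) (A p k n a))) := by
  refine ⟨card_aut p k n a ham ha0, ?_, ?_, ?_⟩
  · intro σ τ
    obtain ⟨c, rfl⟩ := sig_surjective p k n a ham ha0 σ
    obtain ⟨c', rfl⟩ := sig_surjective p k n a ham ha0 τ
    rw [sig_mul, sig_mul, add_comm]
  · intro σ
    obtain ⟨c, rfl⟩ := sig_surjective p k n a ham ha0 σ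
    exact sig_pow_p p k n a c
  · intro b
    constructor
    · intro hb
      apply fixed_mem_range p k n a ha0 b
      intro c
      exact hb (sig p k n a c)
    · rintro ⟨r, rfl⟩ σ
      exact σ.commutes r

end Groth.Agent.Helper23.ASAlg
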