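import Mathlib

/-!
# Connected components of finite étale covers of a connected scheme (helper23)
-/

set_option autoImplicit false
set_option linter.style.haveILetI false

open CategoryTheory CategoryTheory.Limits AlgebraicGeometry

universe u

namespace Groth.Agent.Helper23.FEtConn

variable {X X' : Scheme.{u}} (f : X' ⟶ X) [IsFinite f] [Etale f]

/-- a nonempty open and closed subset of a finite étale cover of a connected scheme meets every
fibre -/
theorem clopen_meets_fibre [ConnectedSpace X] (V : X'.Opens) (hV : IsClosed (V : Set X'))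
    (hne : (V : Set X').Nonempty) (x : X) : ∃ x' : X', f.base x' = x ∧ x' ∈ V := by
  haveI : IsClosedImmersion V.ι :=
    IsClosedImmersion.of_isPreimmersion V.ι (by rw [Scheme.Opens.range_ι]; exact hV)
  haveI : IsFinite (V.ι ≫ f) := inferInstance
  haveI : Etale (V.ι ≫ f) := inferInstance
  have hlc := Scheme.Hom.isLocallyConstant_finrank (V.ι ≫ f)
  obtain ⟨v, hv⟩ := hne
  have h1 := Scheme.Hom.one_le_finrank_map (V.ι ≫ f) (⟨v, hv⟩ : ↥V)
  have hconst : ∀ y : X, Scheme.Hom.finrank (V.ι ≫ f) y =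
      Scheme.Hom.finrank (V.ι ≫ f) ((V.ι ≫ f).base ⟨v, hv⟩) :=
    fun y => hlc.apply_eq_of_isPreconnected isPreconnected_univ (Set.mem_univ _) (Set.mem_univ _)
  have hsurj : Surjective (V.ι ≫ f) := by
    rw [← Scheme.Hom.one_le_finrank_iff_surjective]
    intro y
    rw [Pi.one_apply, hconst y]
    exact h1
  obtain ⟨w, hw⟩ := hsurj.surj x
  exact ⟨V.ι.base w, hw, w.2⟩

include f in
theorem isClopen_connectedComponent [ConnectedSpace X] (c : X') :
    IsClopen (connectedComponent c) := by
  classical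
  set F : Set X' := f.base ⁻¹' {f.base c} with hF
  have hFfin : F.Finite := f.finite_preimage_singleton _
  let P : ℕ → Prop := fun n => ∃ U : Set X', IsClopen U ∧ c ∈ U ∧ (U ∩ F).ncard = n
  have hP : ∃ n, P n := ⟨_, Set.univ, isClopen_univ, Set.mem_univ _, rfl⟩
  obtain ⟨U₀, hU₀, hcU₀, hn⟩ := Nat.find_spec hP
  have hmin : ∀ V : Set X', IsClopen V → c ∈ V → V ⊆ U₀ → V = U₀ := by
    intro V hV hcV hVU
    by_contra hne
    have hdiff : (U₀ \ V).Nonempty := by
      rw [Set.nonempty_iff_ne_empty]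
      intro h
      exact hne (Set.Subset.antisymm hVU (Set.sdiff_eq_empty.1 h))
    have hdc : IsClopen (U₀ \ V) := hU₀.diff hV
    obtain ⟨x', hx'1, hx'2⟩ := clopen_meets_fibre f ⟨U₀ \ V, hdc.2⟩ hdc.1 hdiff (f.base c)
    have hlt : (V ∩ F).ncard < (U₀ ∩ F).ncard := by
      apply Set.ncard_lt_ncard _ (hFfin.subset Set.inter_subset_right)
      refine ⟨Set.inter_subset_inter_left _ hVU, fun hsub => ?_⟩
      exact hx'2.2 (hsub ⟨hx'2.1, hx'1⟩).1
    have := Nat.find_min' hP ⟨V, hV, hcV, rfl⟩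
    omega
  have hpre : _root_.IsPreconnected U₀ := by
    rw [isPreconnected_iff_preconnectedSpace, preconnectedSpace_iff_clopen]
    intro s hs
    have himg : ∀ t : Set ↥U₀, IsClopen t → IsClopen (Subtype.val '' t) := fun t ht =>
      ⟨hU₀.1.isClosedEmbedding_subtypeVal.isClosedMap _ ht.1,
        hU₀.2.isOpenEmbedding_subtypeVal.isOpenMap _ ht.2⟩
    have hsub : ∀ t : Set ↥U₀, Subtype.val '' t ⊆ U₀ := by
      rintro t _ ⟨y, -, rfl⟩
      exact y.2
    by_cases hc : (⟨c, hcU₀⟩ : ↥U₀) ∈ s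
    · right
      have := hmin _ (himg s hs) ⟨_, hc, rfl⟩ (hsub s)
      ext y
      simp only [Set.mem_univ, iff_true]
      have hy : (y : X') ∈ Subtype.val '' s := by rw [this]; exact y.2
      obtain ⟨z, hz, hzy⟩ := hy
      rwa [Subtype.ext hzy] at hz
    · left
      have := hmin _ (himg sᶜ hs.compl) ⟨_, hc, rfl⟩ (hsub sᶜ)
      ext y
      simp only [Set.mem_empty_iff_false, iff_false]
      have hy : (y : X') ∈ Subtype.val '' sᶜ := by rw [this]; exact y.2
      obtain ⟨z, hz, hzy⟩ := hy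
      rwa [Subtype.ext hzy] at hz
  have heq : connectedComponent c = U₀ :=
    Set.Subset.antisymm (hU₀.connectedComponent_subset hcU₀)
      (hpre.subset_connectedComponent hcU₀)
  rw [heq]
  exact hU₀

end Groth.Agent.Helper23.FEtConn
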