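import Groth.Agent.Lib.Helper23.FibColim1
import Groth.Agent.Lib.Helper23.FibIso

/-! helper23: the fibre functors preserve finite limits and jointly reflect isomorphisms. -/

set_option autoImplicit false
set_option linter.style.haveILetI false
set_option linter.unusedVariables false
universe u

open CategoryTheory CategoryTheory.Limits AlgebraicGeometry TopologicalSpace Opposite

namespace Groth.Agent.Helper23.FibColim
open Groth.Agent.Helper23.FEtCoeq Groth.Agent.Helper23.FibCard Groth.Agent.Helper23.FibCoeq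

section lim

variable {X : Scheme.{u}} {Ω : Type u} [Field Ω] (ξ : Spec (CommRingCat.of Ω) ⟶ X)

/-- the fibre functor is corepresentable on the over category -/
noncomputable def fiberIsoCoyoneda : FEt.fiber ξ ≅
    MorphismProperty.Over.forget FEt.prop.{u} ⊤ X ⋙ coyoneda.obj (op (Over.mk ξ)) :=
  NatIso.ofComponents (fun Y => Equiv.toIso
    { toFun := fun s => (Over.homMk s.1 s.2 : Over.mk ξ ⟶ Y.toComma)
      invFun := fun h => ⟨h.left, Over.w h⟩
      left_inv := fun s => rfl
      right_inv := fun h => by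
        apply Over.OverMorphism.ext
        rfl }) (by
    intro Y Y' q
    apply ConcreteCategory.hom_ext
    intro s
    apply Over.OverMorphism.ext
    rfl)

theorem preservesFiniteLimits : PreservesFiniteLimits (FEt.fiber ξ) :=
  preservesFiniteLimits_of_natIso (fiberIsoCoyoneda ξ).symm

end lim

theorem exists_geomPoint (W : Scheme.{u}) (w : W) :
    ∃ (Ω : Type u) (_ : Field Ω) (_ : IsAlgClosed Ω) (ω : Spec (CommRingCat.of Ω) ⟶ W),
      ω.base default = w := by
  refine ⟨AlgebraicClosure (W.residueField w), inferInstance, inferInstance,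
    Spec.map (CommRingCat.ofHom (algebraMap (W.residueField w)
      (AlgebraicClosure (W.residueField w)))) ≫ W.fromSpecResidueField w, ?_⟩
  exact Scheme.fromSpecResidueField_apply w _

section refl

variable {X : Scheme.{u}} {Z W : FEt.Cat X} (h : Z ⟶ W)

theorem prop_left : FEt.prop h.left :=
  MorphismProperty.HasOfPostcompProperty.of_postcomp (W := FEt.prop.{u}) (W' := FEt.prop.{u})
    h.left W.hom W.prop (by rw [Over.w h.hom]; exact Z.prop)

/-- a morphism of finite étale covers which is bijective on all geometric fibres is an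
isomorphism -/
theorem isIso_of_fiber_bijective
    (hb : ∀ (Ω : Type u) [Field Ω] [IsAlgClosed Ω] (ξ : Spec (CommRingCat.of Ω) ⟶ X),
      Function.Bijective ((FEt.fiber ξ).map h)) : IsIso h := by
  haveI : IsFinite h.left := (prop_left h).1
  haveI : Etale h.left := (prop_left h).2
  let H : FEt.Cat W.left := MorphismProperty.Over.mk ⊤ h.left (prop_left h)
  have hrank : h.left.finrank = 1 := by
    funext w
    obtain ⟨Ω, _, _, ω, hω⟩ := exists_geomPoint W.left w
    have h1 := (card_fiberObj ω H default).2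
    rw [hω] at h1
    change Nat.card (FEt.fiberObj ω H) = h.left.finrank w at h1
    rw [← h1, Pi.one_apply, Nat.card_eq_one_iff_unique]
    have hbij := hb Ω (ω ≫ W.hom)
    let w0 : FEt.fiberObj (ω ≫ W.hom) W := ⟨ω, rfl⟩
    have hlift : ∀ s : FEt.fiberObj ω H, ∃ z : FEt.fiberObj (ω ≫ W.hom) Z,
        z.1 = s.1 ∧ (FEt.fiber (ω ≫ W.hom)).map h z = w0 := by
      intro s
      let s0 : Spec (CommRingCat.of Ω) ⟶ Z.left := s.1
      have hs : s0 ≫ h.left = ω := s.2
      have e1 : s0 ≫ Z.hom = s0 ≫ h.left ≫ W.hom :=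
        congrArg (fun k => s0 ≫ k) (Over.w h.hom).symm
      have e2 : s0 ≫ Z.hom = ω ≫ W.hom := by
        rw [e1, ← Category.assoc, hs]
      exact ⟨⟨s0, e2⟩, rfl, Subtype.ext hs⟩
    constructor
    · constructor
      intro s₁ s₂
      obtain ⟨z₁, hz₁, hz₁'⟩ := hlift s₁
      obtain ⟨z₂, hz₂, hz₂'⟩ := hlift s₂
      have : z₁ = z₂ := hbij.1 (hz₁'.trans hz₂'.symm)
      apply Subtype.ext
      rw [← hz₁, ← hz₂, this]
    · obtain ⟨z, hz⟩ := hbij.2 w0
      exact ⟨⟨z.1, congrArg Subtype.val hz⟩⟩
  haveI : IsIso h.left := (Scheme.Hom.isIso_iff_finrank_eq h.left).mpr hrank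
  haveI : IsIso ((MorphismProperty.Over.forget FEt.prop.{u} ⊤ X ⋙ Over.forget X).map h) := this
  exact isIso_of_reflects_iso h (MorphismProperty.Over.forget FEt.prop.{u} ⊤ X ⋙ Over.forget X)

/-- on a connected scheme one geometric point suffices -/
theorem isIso_of_fiber_bijective_of_connected [ConnectedSpace X] {Ω : Type u} [Field Ω]
    [IsAlgClosed Ω] (ξ : Spec (CommRingCat.of Ω) ⟶ X)
    (hb : Function.Bijective ((FEt.fiber ξ).map h)) : IsIso h := by
  apply isIso_of_fiber_bijective
  intro Ω' _ _ ξ'
  obtain ⟨e⟩ := Groth.Agent.Helper23.FibIso.nonempty_iso ξ ξ'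
  have hnat : ∀ z, e.hom.app W ((FEt.fiber ξ).map h z) = (FEt.fiber ξ').map h (e.hom.app Z z) :=
    fun z => naturality_apply ξ ξ' e.hom h z
  have hZ : Function.Bijective (e.hom.app Z) :=
    (isIso_iff_bijective _).mp inferInstance
  have hW : Function.Bijective (e.hom.app W) :=
    (isIso_iff_bijective _).mp inferInstance
  have hcomp : (fun z => (FEt.fiber ξ').map h (e.hom.app Z z)) =
      fun z => e.hom.app W ((FEt.fiber ξ).map h z) := funext fun z => (hnat z).symm
  have h1 : Function.Bijective (fun z => (FEt.fiber ξ').map h (e.hom.app Z z)) := by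
    rw [hcomp]
    exact hW.comp hb
  have h2 : Function.Bijective ((fun z => (FEt.fiber ξ').map h z) ∘ (e.hom.app Z)) := h1
  exact (Function.Bijective.of_comp_iff _ hZ).mp h2

end refl

end Groth.Agent.Helper23.FibColim
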