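import Mathlib
import Groth.Prelude.Def_FEt
import Groth.Agent.Lib.Helper28.FinrankKey
import Groth.Agent.Lib.Helper23.FibIso
import Groth.Agent.Lib.Helper23.FibColim2

/-!
# Function fields of finite étale covers with many automorphisms
-/

set_option autoImplicit false
universe u
open CategoryTheory CategoryTheory.Limits AlgebraicGeometry

set_option linter.style.haveILetI false
set_option linter.unusedVariables false
set_option linter.unusedSectionVars false

namespace Groth.Agent.Helper23.IsogGal

section ff

variable {X Y Z : Scheme.{u}} [IrreducibleSpace X] [IrreducibleSpace Y] [IrreducibleSpace Z]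

/-- the map of function fields induced by a morphism preserving generic points -/
noncomputable def ffMap (φ : X ⟶ Y) (e : φ (genericPoint X) = genericPoint Y) :
    Y.functionField ⟶ X.functionField :=
  Y.presheaf.stalkSpecializes (specializes_of_eq e) ≫ φ.stalkMap (genericPoint X)

theorem ffMap_congr {φ ψ : X ⟶ Y} (h : φ = ψ) (e : φ (genericPoint X) = genericPoint Y)
    (e' : ψ (genericPoint X) = genericPoint Y) : ffMap φ e = ffMap ψ e' := by
  subst h; rfl

theorem ffMap_comp (u : X ⟶ Y) (φ : Y ⟶ Z) (eu : u (genericPoint X) = genericPoint Y)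
    (eφ : φ (genericPoint Y) = genericPoint Z) (e : (u ≫ φ) (genericPoint X) = genericPoint Z) :
    ffMap φ eφ ≫ ffMap u eu = ffMap (u ≫ φ) e := by
  unfold ffMap
  have h : u (genericPoint X) ⤳ genericPoint Y := specializes_of_eq eu
  have h1 := Scheme.Hom.stalkSpecializes_stalkMap φ _ _ h
  rw [Category.assoc, ← Category.assoc (φ.stalkMap (genericPoint Y)), ← h1, Category.assoc,
    ← Scheme.Hom.stalkMap_comp, ← Category.assoc, TopCat.Presheaf.stalkSpecializes_comp]
  rfl

theorem germ_ffMap (φ : X ⟶ Y) (e : φ (genericPoint X) = genericPoint Y) (V : Y.Opens)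
    (hV : genericPoint Y ∈ V) (hW : genericPoint X ∈ φ ⁻¹ᵁ V) :
    Y.presheaf.germ V (genericPoint Y) hV ≫ ffMap φ e =
      φ.app V ≫ X.presheaf.germ (φ ⁻¹ᵁ V) (genericPoint X) hW := by
  unfold ffMap
  rw [← Category.assoc, TopCat.Presheaf.germ_stalkSpecializes, Scheme.Hom.germ_stalkMap]

theorem fromSpecStalk_comp (u : X ⟶ X) (eu : u (genericPoint X) = genericPoint X) :
    X.fromSpecStalk (genericPoint X) ≫ u =
      Spec.map (ffMap u eu) ≫ X.fromSpecStalk (genericPoint X) := by
  unfold ffMap
  rw [Spec.map_comp, Category.assoc, Scheme.SpecMap_stalkSpecializes_fromSpecStalk,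
    Scheme.SpecMap_stalkMap_fromSpecStalk]

theorem map_genericPoint_of_flat (u : X ⟶ Y) [Flat u] : u (genericPoint X) = genericPoint Y := by
  have hg : GeneralizingMap u := Flat.generalizingMap u
  obtain ⟨a', ha', hu⟩ := hg (genericPoint_specializes (u (genericPoint X)))
  have h2 : genericPoint X ⤳ a' := genericPoint_specializes a'
  have : a' = genericPoint X := (ha'.antisymm h2).eq
  rw [← hu, this]

end ff

section rank

variable {X Y : Scheme.{u}} [IsIntegral X] [IsIntegral Y] (φ : X ⟶ Y) [IsFinite φ] [Flat φ]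
  (e : φ (genericPoint X) = genericPoint Y)

theorem finrank_ff :
    letI := (ffMap φ e).hom.toAlgebra
    Module.finrank Y.functionField X.functionField = φ.finrank (genericPoint Y) := by
  letI alg2 : Algebra Y.functionField X.functionField := (ffMap φ e).hom.toAlgebra
  obtain ⟨_, ⟨V, hV, rfl⟩, hηV, -⟩ := Y.isBasis_affineOpens.exists_subset_of_mem_open
    (Set.mem_univ (genericPoint Y)) isOpen_univ
  have hηW : genericPoint X ∈ φ ⁻¹ᵁ V := by
    change φ (genericPoint X) ∈ V
    rw [e]; exact hηV
  haveI : Nonempty V := ⟨⟨_, hηV⟩⟩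
  haveI : Nonempty (φ ⁻¹ᵁ V : X.Opens) := ⟨⟨_, hηW⟩⟩
  have hW : IsAffineOpen (φ ⁻¹ᵁ V) := hV.preimage φ
  letI alg1 := Groth.Agent.Helper13.PushFinite.algApp φ V
  haveI hfin : Module.Finite Γ(Y, V) Γ(X, φ ⁻¹ᵁ V) := φ.finite_app V hV
  haveI hflat : Module.Flat Γ(Y, V) Γ(X, φ ⁻¹ᵁ V) := by
    have h := φ.flat_appLE hV hW le_rfl
    rw [← Scheme.Hom.app_eq_appLE] at h
    exact h
  letI alg3 : Algebra Γ(Y, V) X.functionField :=
    ((algebraMap Y.functionField X.functionField).comp
      (algebraMap Γ(Y, V) Y.functionField)).toAlgebra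
  haveI : IsScalarTower Γ(Y, V) Y.functionField X.functionField :=
    IsScalarTower.of_algebraMap_eq (fun x => rfl)
  haveI : IsScalarTower Γ(Y, V) Γ(X, φ ⁻¹ᵁ V) X.functionField :=
    IsScalarTower.of_algebraMap_eq (fun x => by
      have := germ_ffMap φ e V hηV hηW
      exact ConcreteCategory.congr_hom this x)
  haveI := functionField_isFractionRing_of_isAffineOpen Y V hV
  haveI := functionField_isFractionRing_of_isAffineOpen X (φ ⁻¹ᵁ V) hW
  rw [IsFractionRing.finrank_eq Γ(Y, V) Y.functionField Γ(X, φ ⁻¹ᵁ V) X.functionField]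
  rw [Groth.Agent.Helper28.FinrankKey.finrank_eq_rankAtStalk φ hV _ hηV, Module.rankAtStalk_eq,
    Ideal.finrank_fiber_eq_finrank]

end rank

section main

variable {X Y : Scheme.{u}} [IsIntegral X] [IsIntegral Y] (φ : X ⟶ Y) [IsFinite φ] [Etale φ]
  (e : φ (genericPoint X) = genericPoint Y)

/-- the cover as an object of `FEt.Cat Y` -/
noncomputable def cov : FEt.Cat Y := MorphismProperty.Over.mk ⊤ φ ⟨inferInstance, inferInstance⟩

/-- an endomorphism over `Y` as an endomorphism of the cover -/
noncomputable def endo (u : X ⟶ X) (hu : u ≫ φ = φ) : cov φ ⟶ cov φ :=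
  MorphismProperty.Over.homMk u hu trivial

theorem flat_of_over (u : X ⟶ X) (hu : u ≫ φ = φ) : Flat u := by
  have h := Groth.Agent.Helper23.FibColim.prop_left (endo φ u hu)
  haveI : Etale u := h.2
  infer_instance

theorem map_gen (u : X ⟶ X) (hu : u ≫ φ = φ) : u (genericPoint X) = genericPoint X := by
  haveI := flat_of_over φ u hu
  exact map_genericPoint_of_flat u

/-- the automorphism of the function field induced by an endomorphism of the cover -/
noncomputable def ffEnd (u : X ⟶ X) (hu : u ≫ φ = φ) :
    letI := (ffMap φ e).hom.toAlgebra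
    X.functionField →ₐ[Y.functionField] X.functionField :=
  letI := (ffMap φ e).hom.toAlgebra
  { toRingHom := (ffMap u (map_gen φ u hu)).hom
    commutes' := fun r => by
      have h1 := ffMap_comp u φ (map_gen φ u hu) e (by rw [hu]; exact e)
      have h2 := ffMap_congr hu (by rw [hu]; exact e) e
      exact ConcreteCategory.congr_hom (h1.trans h2) r }

theorem ffEnd_injective (u v : X ⟶ X) (hu : u ≫ φ = φ) (hv : v ≫ φ = φ)
    (h : letI := (ffMap φ e).hom.toAlgebra; ffEnd φ e u hu = ffEnd φ e v hv) : u = v := by
  letI alg : Algebra Y.functionField X.functionField := (ffMap φ e).hom.toAlgebra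
  have h1 : ffMap u (map_gen φ u hu) = ffMap v (map_gen φ v hv) := by
    apply CommRingCat.hom_ext
    exact congrArg (fun (g : _ →ₐ[_] _) => g.toRingHom) h
  have h2 : X.fromSpecStalk (genericPoint X) ≫ u = X.fromSpecStalk (genericPoint X) ≫ v := by
    rw [fromSpecStalk_comp u (map_gen φ u hu), fromSpecStalk_comp v (map_gen φ v hv), h1]
  let ξ : Spec (CommRingCat.of X.functionField) ⟶ Y := X.fromSpecStalk (genericPoint X) ≫ φ
  let w : FEt.fiberObj ξ (cov φ) := ⟨X.fromSpecStalk (genericPoint X), rfl⟩
  haveI : PreconnectedSpace (cov φ).left := inferInstanceAs (PreconnectedSpace X)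
  have h3 := Groth.Agent.Helper23.FibIso.eq_of_fiber_eq ξ (endo φ u hu) (endo φ v hv) w h2
  exact congrArg (fun s => CommaMorphism.left (MorphismProperty.Comma.Hom.hom s)) h3

theorem main {ι : Type*} [Finite ι] (hι : Nat.card ι = φ.finrank (genericPoint Y))
    (hpos : 0 < Nat.card ι) (σ : ι → (X ⟶ X)) (hσ : ∀ i, σ i ≫ φ = φ)
    (hinj : Function.Injective σ) :
    letI := (ffMap φ e).hom.toAlgebra
    IsGalois Y.functionField X.functionField ∧
      Nat.card (X.functionField ≃ₐ[Y.functionField] X.functionField) = Nat.card ι := by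
  letI alg : Algebra Y.functionField X.functionField := (ffMap φ e).hom.toAlgebra
  have hfr : Module.finrank Y.functionField X.functionField = φ.finrank (genericPoint Y) :=
    finrank_ff φ e
  haveI : FiniteDimensional Y.functionField X.functionField :=
    Module.finite_of_finrank_pos (by rw [hfr, ← hι]; exact hpos)
  let g : ι → (X.functionField →ₐ[Y.functionField] X.functionField) :=
    fun i => ffEnd φ e (σ i) (hσ i)
  have hg : Function.Injective g := fun i j hij =>
    hinj (ffEnd_injective φ e _ _ (hσ i) (hσ j) hij)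
  have h1 : Nat.card ι ≤ Nat.card (X.functionField →ₐ[Y.functionField] X.functionField) :=
    Nat.card_le_card_of_injective g hg
  have h2 : Nat.card (X.functionField →ₐ[Y.functionField] X.functionField) =
      Nat.card (X.functionField ≃ₐ[Y.functionField] X.functionField) :=
    Nat.card_congr (algEquivEquivAlgHom Y.functionField X.functionField).toEquiv.symm
  have h3 : Nat.card (X.functionField ≃ₐ[Y.functionField] X.functionField) ≤
      Module.finrank Y.functionField X.functionField := by
    rw [Nat.card_eq_fintype_card]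
    exact AlgEquiv.card_le
  have h4 : Nat.card (X.functionField ≃ₐ[Y.functionField] X.functionField) =
      Module.finrank Y.functionField X.functionField := by
    apply le_antisymm h3
    rw [hfr, ← hι, ← h2]
    exact h1
  exact ⟨IsGalois.of_card_aut_eq_finrank _ _ h4, by rw [h4, hfr, hι]⟩

end main

end Groth.Agent.Helper23.IsogGal
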