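import Mathlib
import Groth.Agent.Lib.Helper23.IsogGal1

/-!
# Translations by kernel points of an isogeny and the Galois property of function fields
-/

set_option autoImplicit false
universe u
open CategoryTheory CategoryTheory.Limits MonoidalCategory CartesianMonoidalCategory MonObj
  AlgebraicGeometry

set_option linter.style.haveILetI false
set_option linter.unusedVariables false
set_option linter.unusedSectionVars false

namespace Groth.Agent.Helper23.IsogGal

section grp

variable {C : Type*} [Category C] [CartesianMonoidalCategory C] {E E' : C} [MonObj E] [MonObj E']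
  (φ : E ⟶ E') [IsMonHom φ]

/-- left translation by a point -/
def trans (P : 𝟙_ C ⟶ E) : E ⟶ E := (toUnit E ≫ P) * 𝟙 E

theorem trans_comp (P : 𝟙_ C ⟶ E) (hP : P ≫ φ = η[E']) : trans P ≫ φ = φ := by
  unfold trans
  rw [MonObj.mul_comp, Category.assoc, hP, Category.id_comp, ← Hom.one_def, _root_.one_mul]

theorem unit_eq_one : (η[E] : 𝟙_ C ⟶ E) = 1 := by
  rw [Hom.one_def, toUnit_unique (toUnit (𝟙_ C)) (𝟙 _), Category.id_comp]

theorem unit_trans (P : 𝟙_ C ⟶ E) : η[E] ≫ trans P = P := by
  unfold trans
  rw [MonObj.comp_mul, Category.comp_id, ← Category.assoc,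
    toUnit_unique (η[E] ≫ toUnit E) (𝟙 _), Category.id_comp, unit_eq_one, _root_.mul_one]

theorem trans_injective : Function.Injective (trans (E := E)) := by
  intro P Q h
  rw [← unit_trans P, ← unit_trans Q, h]

end grp

section sch

variable (k : Type u) [Field k] [IsAlgClosed k] (E E' : Over (Spec (CommRingCat.of k)))
  [MonObj E] [MonObj E'] [IsIntegral E.left] [IsIntegral E'.left]
  (φ : E ⟶ E') [IsMonHom φ] [IsFinite φ.left] [Etale φ.left]
  (e : φ.left (genericPoint E.left) = genericPoint E'.left)

/-- the unit point of `E'` as a geometric point -/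
noncomputable def unitPt : Spec (CommRingCat.of k) ⟶ E'.left := (η[E']).left

/-- kernel points are the fibre over the unit point -/
noncomputable def kerEquiv :
    {P : 𝟙_ (Over (Spec (CommRingCat.of k))) ⟶ E // P ≫ φ = η[E']} ≃
      FEt.fiberObj (unitPt k E') (cov φ.left) where
  toFun P := ⟨P.1.left, congrArg CommaMorphism.left P.2⟩
  invFun s := ⟨Over.homMk (show Spec (CommRingCat.of k) ⟶ E.left from s.1) (by
      have hs : (show Spec (CommRingCat.of k) ⟶ E.left from s.1) ≫ φ.left = (η[E']).left := s.2
      have h2 : φ.left ≫ E'.hom = E.hom := Over.w φ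
      have h3 : (η[E']).left ≫ E'.hom = 𝟙 _ := Over.w η[E']
      change (show Spec (CommRingCat.of k) ⟶ E.left from s.1) ≫ E.hom = 𝟙 _
      rw [← h2, ← Category.assoc, hs, h3]
      rfl), by
    apply Over.OverMorphism.ext
    exact s.2⟩
  left_inv P := by
    apply Subtype.ext
    apply Over.OverMorphism.ext
    rfl
  right_inv s := by
    apply Subtype.ext
    rfl

theorem main_grp :
    letI := (ffMap φ.left e).hom.toAlgebra
    IsGalois E'.left.functionField E.left.functionField ∧
      Nat.card (E.left.functionField ≃ₐ[E'.left.functionField] E.left.functionField) =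
        Nat.card {P : 𝟙_ (Over (Spec (CommRingCat.of k))) ⟶ E // P ≫ φ = η[E']} := by
  obtain ⟨hfin, hcard⟩ := Groth.Agent.Helper23.FibCard.card_fiberObj (unitPt k E') (cov φ.left) default
  haveI : Finite {P : 𝟙_ (Over (Spec (CommRingCat.of k))) ⟶ E // P ≫ φ = η[E']} :=
    Finite.of_equiv _ (kerEquiv k E E' φ).symm
  have hι : Nat.card {P : 𝟙_ (Over (Spec (CommRingCat.of k))) ⟶ E // P ≫ φ = η[E']} =
      φ.left.finrank (genericPoint E'.left) := by
    rw [Nat.card_congr (kerEquiv k E E' φ), hcard]
    haveI : PreconnectedSpace ↥E'.left := inferInstance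
    exact (Scheme.Hom.isLocallyConstant_finrank φ.left).apply_eq_of_preconnectedSpace _ _
  have hpos : 0 < Nat.card {P : 𝟙_ (Over (Spec (CommRingCat.of k))) ⟶ E // P ≫ φ = η[E']} := by
    haveI : Nonempty {P : 𝟙_ (Over (Spec (CommRingCat.of k))) ⟶ E // P ≫ φ = η[E']} :=
      ⟨⟨η[E], IsMonHom.one_hom φ⟩⟩
    exact Nat.card_pos
  refine main φ.left e hι hpos (fun P => (trans P.1).left) (fun P => ?_) ?_
  · exact congrArg CommaMorphism.left (trans_comp φ P.1 P.2)
  · intro P Q h
    apply Subtype.ext
    apply trans_injective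
    exact Over.OverMorphism.ext h

end sch

end Groth.Agent.Helper23.IsogGal
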