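import Mathlib
import Groth.Agent.S8117
import Groth.Agent.Lib.Helper23.IsogGal2

/-!
# Abelian varieties over a field are commutative; multiplication by `n` and torsion translations
-/

set_option autoImplicit false
universe u
open CategoryTheory CategoryTheory.Limits MonoidalCategory CartesianMonoidalCategory MonObj GrpObj
  AlgebraicGeometry

set_option linter.style.haveILetI false
set_option linter.unusedVariables false
set_option linter.unusedSectionVars false

namespace Groth.Agent.Helper23.AVGal

section abs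

variable {C : Type*} [Category C] [CartesianMonoidalCategory C] [BraidedCategory C] {A : C}

theorem isCommMonObj_of_fst_snd_comm [MonObj A] (h : fst A A * snd A A = snd A A * fst A A) :
    IsCommMonObj A := by
  rw [isCommMonObj_iff_isMulCommutative]
  intro X
  refine ⟨⟨fun f g => ?_⟩⟩
  have := congrArg (fun t => lift f g ≫ t) h
  simpa [MonObj.comp_mul] using this

/-- the `m`-th power map of a commutative monoid object is a homomorphism -/
theorem isMonHom_pow [MonObj A] [IsCommMonObj A] (m : ℕ) : IsMonHom ((𝟙 A : A ⟶ A) ^ m) where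
  one_hom := by
    rw [MonObj.comp_pow, Category.comp_id, Groth.Agent.Helper23.IsogGal.unit_eq_one, one_pow]
  mul_hom := by
    rw [MonObj.comp_pow, Category.comp_id, MonObj.mul_eq_mul, MonObj.comp_mul, mul_pow,
      tensorHom_fst, tensorHom_snd, MonObj.comp_pow, MonObj.comp_pow, Category.comp_id,
      Category.comp_id]

end abs

section comm

variable (K : Type u) [Field K] (A : Over (Spec (CommRingCat.of K))) [GrpObj A] [IsProper A.hom]
  [GeometricallyIntegral A.hom]

/-- an abelian variety over a field is commutative (rigidity) -/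
theorem isCommMonObj : IsCommMonObj A := by
  apply isCommMonObj_of_fst_snd_comm
  let c : A ⊗ A ⟶ A := fst A A * snd A A * (fst A A)⁻¹ * (snd A A)⁻¹
  have hV : lift (𝟙 A) (toUnit A ≫ η[A]) ≫ c = toUnit A ≫ η[A] := by
    change lift (𝟙 A) (toUnit A ≫ η[A]) ≫ (fst A A * snd A A * (fst A A)⁻¹ * (snd A A)⁻¹) = _
    rw [MonObj.comp_mul, MonObj.comp_mul, MonObj.comp_mul, GrpObj.comp_inv, GrpObj.comp_inv,
      lift_fst, lift_snd, ← Hom.one_def]
    simp
  have hW : lift (toUnit A ≫ η[A]) (𝟙 A) ≫ c = toUnit A ≫ η[A] := by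
    change lift (toUnit A ≫ η[A]) (𝟙 A) ≫ (fst A A * snd A A * (fst A A)⁻¹ * (snd A A)⁻¹) = _
    rw [MonObj.comp_mul, MonObj.comp_mul, MonObj.comp_mul, GrpObj.comp_inv, GrpObj.comp_inv,
      lift_fst, lift_snd, ← Hom.one_def]
    simp
  have h1 : c = toUnit (A ⊗ A) ≫ η[A] :=
    Groth.Agent.S8117.result K A A A c η[A] η[A] η[A] hV hW
  have h2 : fst A A * snd A A * (fst A A)⁻¹ * (snd A A)⁻¹ = 1 := by
    rw [Hom.one_def]; exact h1
  have h3 : fst A A * snd A A * (fst A A)⁻¹ = snd A A := by
    rwa [_root_.mul_inv_eq_one] at h2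
  rwa [_root_.mul_inv_eq_iff_eq_mul] at h3

end comm

end Groth.Agent.Helper23.AVGal
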