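import Mathlib
import Groth.Prelude.Def_PiSp
import Groth.Agent.Lib.Helper17.AA1
import Groth.Agent.Lib.Helper23.AVGal1

/-!
# Multiplication by `n` on an abelian variety is a Galois cover with group the `n`-torsion points
-/

set_option autoImplicit false
universe u
open CategoryTheory CategoryTheory.Limits MonoidalCategory CartesianMonoidalCategory MonObj GrpObj
  AlgebraicGeometry

set_option linter.style.haveILetI false
set_option linter.unusedVariables false
set_option linter.unusedSectionVars false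

namespace Groth.Agent.Helper23.AVGal

open Groth.Agent.Helper23.IsogGal

section abs2

variable {C : Type*} [Category C] [CartesianMonoidalCategory C] [BraidedCategory C] {A : C}

theorem trans_one [MonObj A] : IsogGal.trans (1 : 𝟙_ C ⟶ A) = 𝟙 A := by
  unfold IsogGal.trans
  rw [MonObj.comp_one, _root_.one_mul]

theorem trans_trans [MonObj A] (P Q : 𝟙_ C ⟶ A) : IsogGal.trans P ≫ IsogGal.trans Q = IsogGal.trans (Q * P) := by
  unfold IsogGal.trans
  rw [MonObj.comp_mul, Category.comp_id, ← Category.assoc,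
    toUnit_unique (((toUnit A ≫ P) * 𝟙 A) ≫ toUnit A) (toUnit A), MonObj.comp_mul,
    _root_.mul_assoc]

theorem right_eq_trans [MonObj A] [IsCommMonObj A] (P : 𝟙_ C ⟶ A) :
    𝟙 A * (toUnit A ≫ P) = IsogGal.trans P := by
  unfold IsogGal.trans
  exact mul_comm _ _

/-- translation by a point of a group object is an isomorphism -/
def transIso [GrpObj A] (P : 𝟙_ C ⟶ A) : A ≅ A where
  hom := IsogGal.trans P
  inv := IsogGal.trans P⁻¹
  hom_inv_id := by rw [trans_trans, inv_mul_cancel, trans_one]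
  inv_hom_id := by rw [trans_trans, mul_inv_cancel, trans_one]

theorem pt_comp_pow [MonObj A] (P : 𝟙_ C ⟶ A) (n : ℕ) : P ≫ (𝟙 A) ^ n = P ^ n := by
  rw [MonObj.comp_pow, Category.comp_id]

end abs2


section sch

variable (k : Type u) [Field k] [IsAlgClosed k] (A : Over (Spec (CommRingCat.of k)))
  [GrpObj A] [IsProper A.hom] [GeometricallyIntegral A.hom]
  (n : ℕ) (φ : A ⟶ A) (hφ : φ = (𝟙 A) ^ n) [IsFinite φ.left] [Etale φ.left]

theorem isIntegral_left : IsIntegral A.left := by
  haveI : IsIntegral (Spec (CommRingCat.of k)) :=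
    Groth.Agent.Helper17.AA1.isIntegral_spec_field k
  haveI : Subsingleton ↥(Spec (CommRingCat.of k)) :=
    Groth.Agent.Helper17.AA1.subsingleton_spec_field k
  exact GeometricallyIntegral.isIntegral_of_subsingleton A.hom

include hφ in
theorem isMonHom_phi : IsMonHom φ := by
  haveI := isCommMonObj k A
  rw [hφ]; exact isMonHom_pow n

include hφ in
theorem pt_comp_phi (a : 𝟙_ (Over (Spec (CommRingCat.of k))) ⟶ A) (ha : a ^ n = 1) :
    a ≫ φ = η[A] := by
  rw [hφ, pt_comp_pow, ha, unit_eq_one]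

include hφ in
theorem pow_eq_one_of_comp (a : 𝟙_ (Over (Spec (CommRingCat.of k))) ⟶ A) (h : a ≫ φ = η[A]) :
    a ^ n = 1 := by
  subst hφ
  rw [pt_comp_pow, unit_eq_one] at h
  exact h

include hφ in
theorem trans_comp_phi (a : 𝟙_ (Over (Spec (CommRingCat.of k))) ⟶ A) (ha : a ^ n = 1) :
    (IsogGal.trans a).left ≫ φ.left = φ.left := by
  haveI := isMonHom_phi k A n φ hφ
  exact congrArg CommaMorphism.left (trans_comp φ a (pt_comp_phi k A n φ hφ a ha))

/-- the translation by an `n`-torsion point as an automorphism of the cover -/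
noncomputable def transAut (a : 𝟙_ (Over (Spec (CommRingCat.of k))) ⟶ A) (ha : a ^ n = 1) :
    Aut (cov φ.left) where
  hom := endo φ.left (IsogGal.trans a).left (trans_comp_phi k A n φ hφ a ha)
  inv := endo φ.left (IsogGal.trans a⁻¹).left
    (trans_comp_phi k A n φ hφ a⁻¹ (by rw [inv_pow, ha, inv_one]))
  hom_inv_id := by
    apply MorphismProperty.Over.Hom.ext
    exact (congrArg CommaMorphism.left (transIso a).hom_inv_id :)
  inv_hom_id := by
    apply MorphismProperty.Over.Hom.ext
    exact (congrArg CommaMorphism.left (transIso a).inv_hom_id :)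

theorem transAut_hom_left (a : 𝟙_ (Over (Spec (CommRingCat.of k))) ⟶ A) (ha : a ^ n = 1) :
    (transAut k A n φ hφ a ha).hom.left = (IsogGal.trans a).left := rfl

open Groth.Agent.Helper23 in
include hφ in
theorem galois {Ω : Type u} [Field Ω] [IsAlgClosed Ω] (ξ : Spec (CommRingCat.of Ω) ⟶ A.left)
    (s t : FEt.fiberObj ξ (cov φ.left)) :
    ∃ (a : 𝟙_ (Over (Spec (CommRingCat.of k))) ⟶ A) (ha : a ^ n = 1),
      (FEt.fiber ξ).map (transAut k A n φ hφ a ha).hom s = t := by
  haveI := isIntegral_left k A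
  haveI := isMonHom_phi k A n φ hφ
  let N := {a : 𝟙_ (Over (Spec (CommRingCat.of k))) ⟶ A // a ^ n = 1}
  let e1 : N ≃ {P : 𝟙_ (Over (Spec (CommRingCat.of k))) ⟶ A // P ≫ φ = η[A]} :=
    Equiv.subtypeEquivRight (fun a => by rw [hφ, pt_comp_pow, unit_eq_one])
  let e2 := e1.trans (kerEquiv k A A φ)
  obtain ⟨hfin0, -⟩ := FibCard.card_fiberObj (unitPt k A) (cov φ.left) default
  haveI : Finite N := Finite.of_equiv _ e2.symm
  obtain ⟨hfin, -⟩ := FibCard.card_fiberObj ξ (cov φ.left) default
  have hcard : Nat.card N = Nat.card (FEt.fiberObj ξ (cov φ.left)) := by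
    rw [Nat.card_congr e2]
    haveI : ConnectedSpace A.left := inferInstance
    exact FibCard.card_fiberObj_eq (unitPt k A) ξ (cov φ.left)
  let g : N → FEt.fiberObj ξ (cov φ.left) :=
    fun a => (FEt.fiber ξ).map (transAut k A n φ hφ a.1 a.2).hom s
  have hg : Function.Injective g := by
    intro a b hab
    haveI : PreconnectedSpace (cov φ.left).left := inferInstanceAs (PreconnectedSpace A.left)
    have h1 := FibIso.eq_of_fiber_eq ξ (transAut k A n φ hφ a.1 a.2).hom
      (transAut k A n φ hφ b.1 b.2).hom s (congrArg Subtype.val hab)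
    have h2 : (IsogGal.trans a.1).left = (IsogGal.trans b.1).left :=
      congrArg (fun s => CommaMorphism.left (MorphismProperty.Comma.Hom.hom s)) h1
    exact Subtype.ext (trans_injective (Over.OverMorphism.ext h2))
  have hbij : Function.Bijective g := (Nat.bijective_iff_injective_and_card g).mpr ⟨hg, hcard⟩
  obtain ⟨a, ha⟩ := hbij.2 t
  exact ⟨a.1, a.2, ha⟩

open Groth.Agent.Helper23 in
include hφ in
theorem aut_eq_trans (θ : Aut (cov φ.left)) :
    ∃ (a : 𝟙_ (Over (Spec (CommRingCat.of k))) ⟶ A) (ha : a ^ n = 1),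
      θ.hom = (transAut k A n φ hφ a ha).hom := by
  haveI := isIntegral_left k A
  haveI := isMonHom_phi k A n φ hφ
  let s₀ : FEt.fiberObj (unitPt k A) (cov φ.left) :=
    kerEquiv k A A φ ⟨η[A], IsMonHom.one_hom φ⟩
  let t := (FEt.fiber (unitPt k A)).map θ.hom s₀
  let P := (kerEquiv k A A φ).symm t
  have hP : P.1 ^ n = 1 := pow_eq_one_of_comp k A n φ hφ P.1 P.2
  refine ⟨P.1, hP, ?_⟩
  haveI : PreconnectedSpace (cov φ.left).left := inferInstanceAs (PreconnectedSpace A.left)
  apply FibIso.eq_of_fiber_eq (unitPt k A) _ _ s₀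
  have h1 : t.1 = P.1.left := by
    have := congrArg Subtype.val ((kerEquiv k A A φ).apply_symm_apply t)
    exact this.symm
  have h2 : (η[A]).left ≫ (IsogGal.trans P.1).left = P.1.left :=
    congrArg CommaMorphism.left (unit_trans P.1)
  exact h1.trans h2.symm

include hφ in
theorem main :
    PiSp.IsGaloisCover (cov φ.left) ∧
    (∀ θ : Aut (cov φ.left), ∃! a : 𝟙_ (Over (Spec (CommRingCat.of k))) ⟶ A,
      a ^ n = 1 ∧ θ.hom.left = ((𝟙 A) * (toUnit A ≫ a)).left) ∧
    (∀ a : 𝟙_ (Over (Spec (CommRingCat.of k))) ⟶ A, a ^ n = 1 →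
      ∃ θ : Aut (cov φ.left), θ.hom.left = ((𝟙 A) * (toUnit A ≫ a)).left) := by
  haveI := isIntegral_left k A
  haveI := isCommMonObj k A
  refine ⟨⟨?_, ?_⟩, ?_, ?_⟩
  · exact inferInstanceAs (ConnectedSpace A.left)
  · intro Ω _ _ ξ s t
    obtain ⟨a, ha, h⟩ := galois k A n φ hφ ξ s t
    exact ⟨_, h⟩
  · intro θ
    obtain ⟨a, ha, h⟩ := aut_eq_trans k A n φ hφ θ
    refine ⟨a, ⟨ha, ?_⟩, ?_⟩
    · rw [right_eq_trans, h]
      rfl
    · rintro b ⟨hb, hb'⟩
      rw [right_eq_trans, h] at hb'
      have h2 : (IsogGal.trans a).left = (IsogGal.trans b).left := hb'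
      exact (trans_injective (Over.OverMorphism.ext h2)).symm
  · intro a ha
    refine ⟨transAut k A n φ hφ a ha, ?_⟩
    rw [right_eq_trans]
    rfl

end sch

end Groth.Agent.Helper23.AVGal
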