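import Groth.Agent.Lib.Helper23.MeroD4

set_option autoImplicit false
set_option linter.style.haveILetI false

open CategoryTheory AlgebraicGeometry Opposite TopologicalSpace IsLocalRing

universe u

namespace Groth.Agent.Helper23.CDivDepth

open Groth.Agent.Helper23.DepthExt

variable {X : Scheme.{u}}

theorem germ_eq_one_iff (D : Mero.Divisor X) (W : X.Opens) (a b : Γ(X, W))
    (ha : a ∈ Mero.regSub X W) (hb : b ∈ Mero.regSub X W)
    (hrep : ∀ (y : X) (hy : y ∈ W), ∃ g : (Mero.KStalk X y)ˣ,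
        D.1 y = QuotientGroup.mk g ∧
        (g : Mero.KStalk X y) = LocalizedModule.mk (X.presheaf.germ W y hy a)
          (Mero.regGerm ⟨y, hy⟩ ⟨b, hb⟩)) (y : X) (hy : y ∈ W) :
    D.1 y = 1 ↔ (X.presheaf.germ W y hy b ∣ X.presheaf.germ W y hy a ∧
      X.presheaf.germ W y hy a ∣ X.presheaf.germ W y hy b) := by
  obtain ⟨g, hDg, hg⟩ := hrep y hy
  rw [hDg, QuotientGroup.eq_one_iff]
  exact mem_range_units_iff (Mero.regStalk X y) (Mero.regStalk_le_nonZeroDivisors y) g _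
    (ha ⟨y, hy⟩) _ hg

theorem isEffectiveAt_iff (D : Mero.Divisor X) (W : X.Opens) (a b : Γ(X, W))
    (ha : a ∈ Mero.regSub X W) (hb : b ∈ Mero.regSub X W)
    (hrep : ∀ (y : X) (hy : y ∈ W), ∃ g : (Mero.KStalk X y)ˣ,
        D.1 y = QuotientGroup.mk g ∧
        (g : Mero.KStalk X y) = LocalizedModule.mk (X.presheaf.germ W y hy a)
          (Mero.regGerm ⟨y, hy⟩ ⟨b, hb⟩)) (y : X) (hy : y ∈ W) :
    Mero.IsEffectiveAt D y ↔ X.presheaf.germ W y hy b ∣ X.presheaf.germ W y hy a := by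
  obtain ⟨g, hDg, hg⟩ := hrep y hy
  constructor
  · rintro ⟨γ, hγ⟩
    rw [hDg] at hγ
    exact dvd_of_quotient_mk_eq (Mero.regStalk X y) (Mero.regStalk_le_nonZeroDivisors y) g _ _ hg
      γ hγ
  · rintro ⟨w, hw⟩
    have hwS : w ∈ Mero.regStalk X y := mem_regStalk_of_mul_eq W a b ha y hy w hw
    refine ⟨⟨w, hwS⟩, ?_⟩
    rw [hDg]
    congr 1
    exact eq_unit_of_dvd (Mero.regStalk X y) (Mero.regStalk_le_nonZeroDivisors y) g _ _ hg
      ⟨w, hwS⟩ hw

end Groth.Agent.Helper23.CDivDepth
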