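import Mathlib

set_option autoImplicit false

open CategoryTheory AlgebraicGeometry Opposite TopologicalSpace IsLocalRing

universe u

namespace Groth.Agent.Helper23.RegPull

/-- in a reduced ring, an element outside all minimal primes is a nonzerodivisor -/
theorem mem_nonZeroDivisors_of_forall_notMem_minimalPrimes {R : Type*} [CommRing R] [IsReduced R]
    (a : R) (h : ∀ q ∈ minimalPrimes R, a ∉ q) : a ∈ nonZeroDivisors R := by
  rw [mem_nonZeroDivisors_iff_right]
  intro x hx
  have hnil : x ∈ nilradical R := by
    rw [nilradical_eq_sInf, Ideal.mem_sInf]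
    intro p hp
    have : p.IsPrime := hp
    obtain ⟨q, hq, hqp⟩ := Ideal.exists_minimalPrimes_le (bot_le : ⊥ ≤ p)
    apply hqp
    have hqprime : q.IsPrime := hq.1.1
    have h0 : x * a ∈ q := by rw [hx]; exact q.zero_mem
    rcases hqprime.mem_or_mem h0 with h1 | h1
    · exact h1
    · exact absurd h1 (h q hq)
  exact (isNilpotent_iff_eq_zero.1 (mem_nilradical.1 hnil))

variable (X : Scheme.{u})

/-- a minimal prime of the local ring at `x` comes from a maximal point generizing `x` -/
theorem exists_maximalPoint_of_mem_minimalPrimes (x : X) (q : Ideal (X.presheaf.stalk x))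
    (hq : q ∈ minimalPrimes (X.presheaf.stalk x)) :
    ∃ (ξ : X) (h : ξ ⤳ x), (∀ z : X, z ⤳ ξ → z = ξ) ∧
      q = Ideal.comap (X.presheaf.stalkSpecializes h).hom (maximalIdeal (X.presheaf.stalk ξ)) := by
  have hqp : q.IsPrime := hq.1.1
  let P : PrimeSpectrum (X.presheaf.stalk x) := ⟨q, hqp⟩
  have hinj : Function.Injective (X.fromSpecStalk x).base :=
    (X.fromSpecStalk x).isEmbedding.injective
  have hind : Topology.IsInducing (X.fromSpecStalk x).base :=
    (X.fromSpecStalk x).isEmbedding.isInducing
  let ξ : X := (X.fromSpecStalk x).base P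
  have h : ξ ⤳ x := by
    have : ξ ∈ Set.range (X.fromSpecStalk x).base := ⟨P, rfl⟩
    rw [Scheme.range_fromSpecStalk] at this
    exact this
  refine ⟨ξ, h, ?_, ?_⟩
  · intro z hz
    have hzx : z ∈ Set.range (X.fromSpecStalk x).base := by
      rw [Scheme.range_fromSpecStalk]; exact hz.trans h
    obtain ⟨P', rfl⟩ := hzx
    have h1 : P' ⤳ P := hind.specializes_iff.1 hz
    have h2 : P'.asIdeal ≤ P.asIdeal := (PrimeSpectrum.le_iff_specializes P' P).2 h1
    have h3 : P.asIdeal ≤ P'.asIdeal := hq.2 ⟨P'.isPrime, bot_le⟩ h2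
    have : P' = P := PrimeSpectrum.ext (le_antisymm h2 h3)
    rw [this]
  · have h1 := Scheme.SpecMap_stalkSpecializes_fromSpecStalk h
    have h2 : (X.fromSpecStalk x).base
        ((Spec.map (X.presheaf.stalkSpecializes h)).base (closedPoint (X.presheaf.stalk ξ))) =
        (X.fromSpecStalk x).base P := by
      have h5 : (Spec.map (X.presheaf.stalkSpecializes h) ≫ X.fromSpecStalk x).base
          (closedPoint (X.presheaf.stalk ξ)) = ξ := by
        rw [h1]; exact Scheme.fromSpecStalk_closedPoint
      exact h5
    have h3 := hinj h2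
    have h4 := congrArg PrimeSpectrum.asIdeal h3
    exact h4.symm

/-- at a maximal point, nonzerodivisors of the local ring are units -/
theorem isUnit_of_mem_nonZeroDivisors_of_maximalPoint (η : X) (hη : ∀ z : X, z ⤳ η → z = η)
    (a : X.presheaf.stalk η) (ha : a ∈ nonZeroDivisors (X.presheaf.stalk η)) : IsUnit a := by
  by_contra hu
  have hinj : Function.Injective (X.fromSpecStalk η).base :=
    (X.fromSpecStalk η).isEmbedding.injective
  have hall : ∀ P : PrimeSpectrum (X.presheaf.stalk η), P = closedPoint (X.presheaf.stalk η) := by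
    intro P
    apply hinj
    have h1 : (X.fromSpecStalk η).base P ⤳ η := by
      have : (X.fromSpecStalk η).base P ∈ Set.range (X.fromSpecStalk η).base := ⟨P, rfl⟩
      rw [Scheme.range_fromSpecStalk] at this
      exact this
    rw [hη _ h1, Scheme.fromSpecStalk_closedPoint]
  have hnil : a ∈ nilradical (X.presheaf.stalk η) := by
    rw [nilradical_eq_sInf, Ideal.mem_sInf]
    intro p hp
    have := hall ⟨p, hp⟩
    have h2 := congrArg PrimeSpectrum.asIdeal this
    change p = maximalIdeal _ at h2
    rw [h2]
    exact (mem_maximalIdeal a).2 hu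
  obtain ⟨n, hn⟩ := mem_nilradical.1 hnil
  have := pow_mem ha n
  rw [hn] at this
  exact nonZeroDivisors.ne_zero this rfl

end Groth.Agent.Helper23.RegPull
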