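import Groth.Agent.Lib.Helper13.MeroLib
import Groth.Agent.Lib.Helper23.RegPull
import Groth.Agent.Lib.Helper23.MeroD5

set_option autoImplicit false
set_option linter.style.haveILetI false

open CategoryTheory AlgebraicGeometry Opposite TopologicalSpace IsLocalRing

universe u

namespace Groth.Agent.Helper23.AbsCurve

open Groth.Agent.Helper23.RegPull Groth.Agent.Helper23.CDivDepth Groth.Agent.Helper13.MeroLib

variable {C : Scheme.{u}}

/-- on an absolute curve, a non-closed point has no proper generization -/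
theorem eq_of_specializes_of_not_isClosed [CompactSpace C]
    (hC : ∀ x : C, IsClosed ({x} : Set C) → ringKrullDim (C.presheaf.stalk x) = 1)
    (x : C) (hx : ¬ IsClosed ({x} : Set C)) (y : C) (hyx : y ⤳ x) : y = x := by
  by_contra hne
  obtain ⟨z, hz, hzc⟩ := IsClosed.exists_closed_singleton (isClosed_closure (s := ({x} : Set C)))
    ⟨x, subset_closure rfl⟩
  have hxz : x ⤳ z := specializes_iff_mem_closure.2 hz
  have hxnez : x ≠ z := fun h => hx (h ▸ hzc)
  have hyz : y ⤳ z := hyx.trans hxz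
  have hind : Topology.IsInducing (C.fromSpecStalk z).base :=
    (C.fromSpecStalk z).isEmbedding.toIsInducing
  have hrange : ∀ w : C, w ⤳ z → ∃ P : PrimeSpectrum (C.presheaf.stalk z),
      (C.fromSpecStalk z).base P = w := by
    intro w hw
    have : w ∈ Set.range (C.fromSpecStalk z).base := by
      rw [Scheme.range_fromSpecStalk]; exact hw
    exact this
  obtain ⟨Py, hPy⟩ := hrange y hyz
  obtain ⟨Px, hPx⟩ := hrange x hxz
  have h1 : Py ⤳ Px := by
    apply hind.specializes_iff.1
    rw [hPy, hPx]; exact hyx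
  have h2 : Px ⤳ closedPoint (C.presheaf.stalk z) := IsLocalRing.specializes_closedPoint Px
  have hne1 : Py ≠ Px := fun h => hne (by rw [← hPy, ← hPx, h])
  have hne2 : Px ≠ closedPoint (C.presheaf.stalk z) := by
    intro h
    apply hxnez
    rw [← hPx, h, Scheme.fromSpecStalk_closedPoint]
  have l1 : Py < Px := lt_of_le_of_ne ((PrimeSpectrum.le_iff_specializes _ _).2 h1) hne1
  have l2 : Px < closedPoint (C.presheaf.stalk z) :=
    lt_of_le_of_ne ((PrimeSpectrum.le_iff_specializes _ _).2 h2) hne2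
  have k1 := Order.height_add_one_le l1
  have k2 := Order.height_add_one_le l2
  have k3 : (Order.height (closedPoint (C.presheaf.stalk z)) : WithBot ℕ∞) ≤
      ringKrullDim (C.presheaf.stalk z) := Order.height_le_krullDim _
  rw [hC z hzc] at k3
  have k4 : (2 : ℕ∞) ≤ Order.height (closedPoint (C.presheaf.stalk z)) := by
    calc (2 : ℕ∞) = 0 + 1 + 1 := by norm_num
      _ ≤ Order.height Py + 1 + 1 := by gcongr; exact zero_le
      _ ≤ Order.height Px + 1 := by gcongr
      _ ≤ _ := k2
  have k5 : ((2 : ℕ∞) : WithBot ℕ∞) ≤ 1 := (WithBot.coe_le_coe.2 k4).trans k3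
  have k6 : (2 : ℕ∞) ≤ 1 := by exact_mod_cast k5
  exact absurd k6 (by norm_num)

/-- on an absolute curve, nonzerodivisors of the local ring of a non-closed point are units -/
theorem isUnit_of_not_isClosed [CompactSpace C]
    (hC : ∀ x : C, IsClosed ({x} : Set C) → ringKrullDim (C.presheaf.stalk x) = 1)
    (x : C) (hx : ¬ IsClosed ({x} : Set C)) (r : C.presheaf.stalk x)
    (hr : r ∈ nonZeroDivisors (C.presheaf.stalk x)) : IsUnit r :=
  isUnit_of_mem_nonZeroDivisors_of_maximalPoint C x
    (fun z hz => eq_of_specializes_of_not_isClosed hC x hx z hz) r hr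


/-- a point at which a regular section is not a unit is closed -/
theorem isClosed_of_not_isUnit [CompactSpace C]
    (hC : ∀ x : C, IsClosed ({x} : Set C) → ringKrullDim (C.presheaf.stalk x) = 1)
    {W : C.Opens} (a : Γ(C, W)) (ha : a ∈ Mero.regSub C W) (y : C) (hy : y ∈ W)
    (hu : ¬ IsUnit (C.presheaf.germ W y hy a)) : IsClosed ({y} : Set C) := by
  by_contra hcl
  exact hu (isUnit_of_not_isClosed hC y hcl _ (ha ⟨y, hy⟩))

/-- the locus where a regular section on an affine open of an absolute curve is not a unit is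
finite -/
theorem finite_not_isUnit [IsNoetherian C]
    (hC : ∀ x : C, IsClosed ({x} : Set C) → ringKrullDim (C.presheaf.stalk x) = 1)
    {W : C.Opens} (hW : IsAffineOpen W) (a : Γ(C, W)) (ha : a ∈ Mero.regSub C W) :
    {y : C | ∃ hy : y ∈ W, ¬ IsUnit (C.presheaf.germ W y hy a)}.Finite := by
  haveI : IsNoetherianRing Γ(C, W) := IsLocallyNoetherian.component_noetherian ⟨W, hW⟩
  have hfin : (Ideal.span {a}).minimalPrimes.Finite :=
    Ideal.finite_minimalPrimes_of_isNoetherianRing _ _
  have hfin2 : {Q : PrimeSpectrum Γ(C, W) | Q.asIdeal ∈ (Ideal.span {a}).minimalPrimes}.Finite :=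
    hfin.preimage (fun P _ Q _ h => PrimeSpectrum.ext h)
  refine (hfin2.image (fun Q => hW.fromSpec Q)).subset ?_
  rintro y ⟨hy, hu⟩
  have hay : a ∈ (hW.primeIdealOf ⟨y, hy⟩).asIdeal := by
    by_contra h
    have := (mem_basicOpen_iff_notMem_primeIdealOf hW y hy a).2 h
    exact hu ((C.mem_basicOpen a y hy).1 this)
  have hle : Ideal.span {a} ≤ (hW.primeIdealOf ⟨y, hy⟩).asIdeal := by
    rw [Ideal.span_le, Set.singleton_subset_iff]; exact hay
  obtain ⟨q, hq, hqle⟩ := Ideal.exists_minimalPrimes_le hle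
  have hqp : q.IsPrime := hq.1.1
  let Q : PrimeSpectrum Γ(C, W) := ⟨q, hqp⟩
  have hy'W : hW.fromSpec Q ∈ W := by
    have : hW.fromSpec Q ∈ Set.range hW.fromSpec := ⟨Q, rfl⟩
    rw [hW.range_fromSpec] at this
    exact this
  have hprime : hW.primeIdealOf ⟨hW.fromSpec Q, hy'W⟩ = Q := by
    apply hW.fromSpec.isOpenEmbedding.injective
    exact hW.fromSpec_primeIdealOf ⟨hW.fromSpec Q, hy'W⟩
  have hspec : hW.fromSpec Q ⤳ y := by
    have h1 : Q ⤳ hW.primeIdealOf ⟨y, hy⟩ := (PrimeSpectrum.le_iff_specializes _ _).1 hqle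
    have h2 := h1.map hW.fromSpec.continuous
    rwa [hW.fromSpec_primeIdealOf ⟨y, hy⟩] at h2
  have hu' : ¬ IsUnit (C.presheaf.germ W (hW.fromSpec Q) hy'W a) := by
    intro h
    have h1 := (C.mem_basicOpen a _ hy'W).2 h
    have h2 := (mem_basicOpen_iff_notMem_primeIdealOf hW _ hy'W a).1 h1
    rw [hprime] at h2
    exact h2 (hq.1.2 (Ideal.subset_span rfl))
  have hcl := isClosed_of_not_isUnit hC a ha _ hy'W hu'
  have hyy' : y = hW.fromSpec Q := by
    have := hspec.mem_closed hcl rfl
    exact this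
  exact ⟨Q, hq, hyy'.symm⟩

end Groth.Agent.Helper23.AbsCurve
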