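import Groth.Agent.Lib.Helper23.AbsCurve1

set_option autoImplicit false
set_option linter.style.haveILetI false

open CategoryTheory AlgebraicGeometry Opposite TopologicalSpace IsLocalRing

universe u

namespace Groth.Agent.Helper23.AbsCurve

open Groth.Agent.Helper23.RegPull Groth.Agent.Helper23.CDivDepth Groth.Agent.Helper13.MeroLib

variable {X : Scheme.{u}}

theorem frac_mul_frac_eq_one {U : X.Opens} (a b : Γ(X, U)) (ha : a ∈ Mero.regSub X U)
    (hb : b ∈ Mero.regSub X U) : frac a ⟨b, hb⟩ * frac b ⟨a, ha⟩ = 1 := by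
  apply kmod_ext
  intro x
  rw [Mero.kmod_mul_apply, frac_apply, frac_apply, Mero.kmod_one_apply]
  refine LocalizedModule.mk_mul_mk.trans ?_
  have := Mero.mk_self_eq_one (Mero.regGerm x ⟨b, hb⟩ * Mero.regGerm x ⟨a, ha⟩)
  rw [← this]
  exact Mero.mk_congr (mul_comm _ _) rfl

/-- the unit `a / b` of `Γ(U, K_X)` for regular `a`, `b` -/
noncomputable def fracUnit {U : X.Opens} (a b : Γ(X, U)) (ha : a ∈ Mero.regSub X U)
    (hb : b ∈ Mero.regSub X U) : (Γ(Mero.kmod X, U))ˣ where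
  val := frac a ⟨b, hb⟩
  inv := frac b ⟨a, ha⟩
  val_inv := frac_mul_frac_eq_one a b ha hb
  inv_val := frac_mul_frac_eq_one b a hb ha

theorem fracUnit_apply {U : X.Opens} (a b : Γ(X, U)) (ha : a ∈ Mero.regSub X U)
    (hb : b ∈ Mero.regSub X U) (y : U) :
    ((Units.map (Mero.evalK X U y).toMonoidHom (fracUnit a b ha hb) : (Mero.KStalk X y.1)ˣ) :
      Mero.KStalk X y.1) =
      LocalizedModule.mk (X.presheaf.germ U y.1 y.2 a) (Mero.regGerm y ⟨b, hb⟩) := rfl

/-- the germ of `a / b` is trivial where `a` and `b` are units -/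
theorem germOf_fracUnit_eq_one {U : X.Opens} (a b : Γ(X, U)) (ha : a ∈ Mero.regSub X U)
    (hb : b ∈ Mero.regSub X U) (y : U) (hua : IsUnit (X.presheaf.germ U y.1 y.2 a))
    (hub : IsUnit (X.presheaf.germ U y.1 y.2 b)) :
    Mero.germOf (fracUnit a b ha hb) y = 1 := by
  rw [Mero.germOf, QuotientGroup.eq_one_iff]
  exact (mem_range_units_iff (Mero.regStalk X y.1) (Mero.regStalk_le_nonZeroDivisors y.1) _ _
    (ha y) _ (fracUnit_apply a b ha hb y)).2 ⟨hub.dvd, hua.dvd⟩


variable {C : Scheme.{u}}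

theorem finite_not_isUnit' [IsNoetherian C]
    (hC : ∀ x : C, IsClosed ({x} : Set C) → ringKrullDim (C.presheaf.stalk x) = 1)
    {U₁ W : C.Opens} (hW : IsAffineOpen W) (hle : W ≤ U₁) (a : Γ(C, U₁)) (ha : a ∈ Mero.regSub C U₁) :
    {y : C | ∃ hy : y ∈ W, ¬ IsUnit (C.presheaf.germ U₁ y (hle hy) a)}.Finite := by
  refine (finite_not_isUnit hC hW (C.presheaf.map (homOfLE hle).op a)
    (Mero.regSub_res (homOfLE hle) ha)).subset ?_
  rintro y ⟨hy, hu⟩
  refine ⟨hy, ?_⟩
  rw [TopCat.Presheaf.germ_res_apply]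
  exact hu

/-- a divisor on an absolute curve is trivial at the non-closed points -/
theorem divisor_eq_one_of_not_isClosed [IsNoetherian C]
    (hC : ∀ x : C, IsClosed ({x} : Set C) → ringKrullDim (C.presheaf.stalk x) = 1)
    (D : Mero.Divisor C) (x : C) (hx : ¬ IsClosed ({x} : Set C)) : D.1 x = 1 := by
  obtain ⟨W, a, b, ha, hb, hxW, hrep⟩ := exists_local_rep D x
  rw [germ_eq_one_iff D W a b ha hb hrep x hxW]
  exact ⟨(isUnit_of_not_isClosed hC x hx _ (hb ⟨x, hxW⟩)).dvd,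
    (isUnit_of_not_isClosed hC x hx _ (ha ⟨x, hxW⟩)).dvd⟩

/-- a divisor on an absolute curve has finite support -/
theorem divisor_supp_finite [IsNoetherian C]
    (hC : ∀ x : C, IsClosed ({x} : Set C) → ringKrullDim (C.presheaf.stalk x) = 1)
    (D : Mero.Divisor C) : {x : C | D.1 x ≠ 1}.Finite := by
  have key : ({x : C | D.1 x ≠ 1} ∩ Set.univ).Finite := by
    refine isCompact_univ.induction_on (p := fun s => ({x : C | D.1 x ≠ 1} ∩ s).Finite) ?_ ?_ ?_ ?_
    · simp
    · intro s t hst ht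
      exact ht.subset (Set.inter_subset_inter_right _ hst)
    · intro s t hs ht
      rw [Set.inter_union_distrib_left]
      exact hs.union ht
    · intro x _
      obtain ⟨W, a, b, ha, hb, hxW, hrep⟩ := exists_local_rep D x
      obtain ⟨_, ⟨W', hW', rfl⟩, hxW', hW'W⟩ :=
        C.isBasis_affineOpens.exists_subset_of_mem_open (show x ∈ (W : Set C) from hxW) W.2
      have hle : W' ≤ W := hW'W
      refine ⟨(W' : Set C), ?_, ?_⟩
      · rw [nhdsWithin_univ]
        exact W'.2.mem_nhds hxW'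
      · refine ((finite_not_isUnit' hC hW' hle a ha).union
          (finite_not_isUnit' hC hW' hle b hb)).subset ?_
        rintro y ⟨hy1, hyW'⟩
        by_contra hcon
        simp only [Set.mem_union, Set.mem_ofPred_eq, not_or, not_exists, not_not] at hcon
        apply hy1
        rw [germ_eq_one_iff D W a b ha hb hrep y (hle hyW')]
        exact ⟨(hcon.2 hyW').dvd, (hcon.1 hyW').dvd⟩
  rwa [Set.inter_univ] at key


/-- a finite set of closed points is closed -/
theorem isClosed_of_finite_of_forall_isClosed {T : Set C} (hT : T.Finite)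
    (h : ∀ y ∈ T, IsClosed ({y} : Set C)) : IsClosed T := by
  have := hT.isClosed_biUnion (f := fun y => ({y} : Set C)) h
  rwa [Set.biUnion_of_singleton] at this

/-- a unit of `K_{C,x}` is a quotient of two regular germs -/
theorem exists_rep_of_unit [IsLocallyNoetherian C] (x : C) (k : (Mero.KStalk C x)ˣ) :
    ∃ (α : C.presheaf.stalk x) (β : Mero.regStalk C x), α ∈ Mero.regStalk C x ∧
      (k : Mero.KStalk C x) = LocalizedModule.mk α β := by
  obtain ⟨α, β, hαβ⟩ := IsLocalization.exists_mk'_eq (Mero.regStalk C x) (k : Mero.KStalk C x)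
  obtain ⟨γ, δ, hγδ⟩ := IsLocalization.exists_mk'_eq (Mero.regStalk C x)
    ((k⁻¹ : (Mero.KStalk C x)ˣ) : Mero.KStalk C x)
  rw [← kmk_eq_mk'] at hαβ hγδ
  refine ⟨α, β, ?_, hαβ.symm⟩
  have h1 : (LocalizedModule.mk (α * γ) (β * δ) : Mero.KStalk C x) =
      algebraMap (C.presheaf.stalk x) (Mero.KStalk C x) 1 := by
    rw [map_one]
    refine LocalizedModule.mk_mul_mk.symm.trans ?_
    rw [hαβ, hγδ]
    exact k.mul_inv
  rw [mk_eq_algebraMap_iff _ (Mero.regStalk_le_nonZeroDivisors x)] at h1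
  rw [regStalk_eq_nonZeroDivisors C x]
  have h2 : α * γ ∈ nonZeroDivisors (C.presheaf.stalk x) := by
    rw [h1, mul_one]
    exact Mero.regStalk_le_nonZeroDivisors x (β * δ).2
  exact (mul_mem_nonZeroDivisors.1 h2).1


/-- a family of germs on an absolute curve, trivial outside a finite set of closed points, is a
divisor -/
theorem mem_divisorGroup_of_finite [IsNoetherian C]
    (hC : ∀ x : C, IsClosed ({x} : Set C) → ringKrullDim (C.presheaf.stalk x) = 1)
    (g : ∀ x : C, Mero.Germ C x) (hfin : {x : C | g x ≠ 1}.Finite)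
    (hcl : ∀ x : C, ¬ IsClosed ({x} : Set C) → g x = 1) : g ∈ Mero.divisorGroup C := by
  intro x
  obtain ⟨k, hk⟩ := QuotientGroup.mk_surjective (g x)
  obtain ⟨α, β, hα, hkαβ⟩ := exists_rep_of_unit x k
  obtain ⟨U₁, hx₁, a₁, ha₁, rfl⟩ := hα
  obtain ⟨β, U₂, hx₂, b₂, hb₂, rfl⟩ := β
  -- the other points of the support
  let S' : Set C := {y : C | g y ≠ 1} \ {x}
  have hS'fin : S'.Finite := hfin.subset Set.sdiff_subset
  have hS'cl : IsClosed S' := isClosed_of_finite_of_forall_isClosed hS'fin (fun y hy => by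
    by_contra hc
    exact hy.1 (hcl y hc))
  let O' : C.Opens := ⟨S'ᶜ, hS'cl.isOpen_compl⟩
  have hxO' : x ∈ O' := fun h => h.2 rfl
  obtain ⟨_, ⟨W, hW, rfl⟩, hxW, hWle⟩ :=
    C.isBasis_affineOpens.exists_subset_of_mem_open
      (show x ∈ ((U₁ ⊓ U₂ ⊓ O' : C.Opens) : Set C) from ⟨⟨hx₁, hx₂⟩, hxO'⟩) (U₁ ⊓ U₂ ⊓ O').2
  have hW1 : W ≤ U₁ := fun y hy => (hWle hy).1.1
  have hW2 : W ≤ U₂ := fun y hy => (hWle hy).1.2
  have hWO : W ≤ O' := fun y hy => (hWle hy).2
  let Za : Set C := {y : C | ∃ hy : y ∈ W, ¬ IsUnit (C.presheaf.germ U₁ y (hW1 hy) a₁)}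
  let Zb : Set C := {y : C | ∃ hy : y ∈ W, ¬ IsUnit (C.presheaf.germ U₂ y (hW2 hy) b₂)}
  have hZa : Za.Finite := finite_not_isUnit' hC hW hW1 a₁ ha₁
  have hZb : Zb.Finite := finite_not_isUnit' hC hW hW2 b₂ hb₂
  let T : Set C := (Za ∪ Zb) \ {x}
  have hTfin : T.Finite := (hZa.union hZb).subset Set.sdiff_subset
  have hTcl : IsClosed T := isClosed_of_finite_of_forall_isClosed hTfin (fun y hy => by
    rcases hy.1 with ⟨hyW, hu⟩ | ⟨hyW, hu⟩
    · exact isClosed_of_not_isUnit hC a₁ ha₁ y (hW1 hyW) hu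
    · exact isClosed_of_not_isUnit hC b₂ hb₂ y (hW2 hyW) hu)
  let U : C.Opens := W ⊓ ⟨Tᶜ, hTcl.isOpen_compl⟩
  have hxU : x ∈ U := ⟨hxW, fun h => h.2 rfl⟩
  have hU1 : U ≤ U₁ := inf_le_left.trans hW1
  have hU2 : U ≤ U₂ := inf_le_left.trans hW2
  refine ⟨U, hxU, fracUnit (C.presheaf.map (homOfLE hU1).op a₁) (C.presheaf.map (homOfLE hU2).op b₂)
    (Mero.regSub_res _ ha₁) (Mero.regSub_res _ hb₂), ?_⟩
  rintro ⟨y, hyU⟩
  by_cases hyx : y = x
  · subst hyx
    rw [← hk]
    refine congrArg _ (Units.ext ?_)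
    rw [hkαβ, fracUnit_apply]
    exact Mero.mk_congr (TopCat.Presheaf.germ_res_apply C.presheaf (homOfLE hU1) y hyU a₁).symm
      (TopCat.Presheaf.germ_res_apply C.presheaf (homOfLE hU2) y hyU b₂).symm
  · have hyW : y ∈ W := hyU.1
    have hyT : y ∉ T := hyU.2
    have hgy : g y = 1 := by
      by_contra hne
      exact hWO hyW ⟨hne, hyx⟩
    have hua : IsUnit (C.presheaf.germ U₁ y (hW1 hyW) a₁) := by
      by_contra hu
      exact hyT ⟨Or.inl ⟨hyW, hu⟩, hyx⟩
    have hub : IsUnit (C.presheaf.germ U₂ y (hW2 hyW) b₂) := by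
      by_contra hu
      exact hyT ⟨Or.inr ⟨hyW, hu⟩, hyx⟩
    change g y = _
    rw [hgy]
    symm
    apply germOf_fracUnit_eq_one
    · change IsUnit (C.presheaf.germ U y hyU _)
      rw [TopCat.Presheaf.germ_res_apply]; exact hua
    · change IsUnit (C.presheaf.germ U y hyU _)
      rw [TopCat.Presheaf.germ_res_apply]; exact hub

end Groth.Agent.Helper23.AbsCurve
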