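import Groth.Agent.Lib.Helper23.AbsCurve2

set_option autoImplicit false
set_option linter.style.haveILetI false

open CategoryTheory AlgebraicGeometry Opposite TopologicalSpace IsLocalRing

universe u

namespace Groth.Agent.Helper23.AbsCurve

open Groth.Agent.Helper23.RegPull Groth.Agent.Helper23.CDivDepth Groth.Agent.Helper13.MeroLib

variable {C : Scheme.{u}}

/-- the unit of `K_{C,x}` attached to a regular germ -/
noncomputable abbrev regUnit (x : C) (a : Mero.regStalk C x) : (Mero.KStalk C x)ˣ :=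
  (IsLocalization.map_units (Mero.KStalk C x) a).unit

theorem regUnit_one (x : C) : regUnit x (1 : Mero.regStalk C x) = 1 := by
  apply Units.ext
  change algebraMap _ (Mero.KStalk C x) ((1 : Mero.regStalk C x) : C.presheaf.stalk x) = 1
  rw [OneMemClass.coe_one, map_one]

theorem unit_eq_regUnit_div (x : C) (k : (Mero.KStalk C x)ˣ) (α β : Mero.regStalk C x)
    (hk : (k : Mero.KStalk C x) = LocalizedModule.mk (α : C.presheaf.stalk x) β) :
    k = regUnit x α * (regUnit x β)⁻¹ := by
  rw [eq_mul_inv_iff_mul_eq]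
  apply Units.ext
  change (k : Mero.KStalk C x) * algebraMap _ _ (β : C.presheaf.stalk x) =
    algebraMap _ _ (α : C.presheaf.stalk x)
  rw [hk, kmk_eq_mk']
  exact IsLocalization.mk'_spec _ _ _

theorem exists_decomp [IsNoetherian C]
    (hC : ∀ x : C, IsClosed ({x} : Set C) → ringKrullDim (C.presheaf.stalk x) = 1)
    (D : Mero.Divisor C) :
    ∃ D₁ D₂ : Mero.Divisor C, Mero.IsEffective D₁ ∧ Mero.IsEffective D₂ ∧ D = D₁ * D₂⁻¹ ∧
      Mero.supp D₁ ⊆ Mero.supp D ∧ Mero.supp D₂ ⊆ Mero.supp D := by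
  classical
  have hrep : ∀ x : C, ∃ (α β : Mero.regStalk C x), D.1 x = QuotientGroup.mk
      (regUnit x α * (regUnit x β)⁻¹) := by
    intro x
    obtain ⟨k, hk⟩ := QuotientGroup.mk_surjective (D.1 x)
    obtain ⟨α, β, hα, hkαβ⟩ := exists_rep_of_unit x k
    exact ⟨⟨α, hα⟩, β, by rw [← hk, unit_eq_regUnit_div x k ⟨α, hα⟩ β hkαβ]⟩
  choose α β hαβ using hrep
  let g₁ : ∀ x : C, Mero.Germ C x := fun x =>
    if D.1 x = 1 then 1 else QuotientGroup.mk (regUnit x (α x))
  let g₂ : ∀ x : C, Mero.Germ C x := fun x =>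
    if D.1 x = 1 then 1 else QuotientGroup.mk (regUnit x (β x))
  have hsupp : {x : C | D.1 x ≠ 1}.Finite := divisor_supp_finite hC D
  have h1 : ∀ x, g₁ x ≠ 1 → D.1 x ≠ 1 := by
    intro x hx h
    apply hx
    simp only [g₁, if_pos h]
  have h2 : ∀ x, g₂ x ≠ 1 → D.1 x ≠ 1 := by
    intro x hx h
    apply hx
    simp only [g₂, if_pos h]
  have hg₁ : g₁ ∈ Mero.divisorGroup C := by
    refine mem_divisorGroup_of_finite hC g₁ (hsupp.subset h1) (fun x hx => ?_)
    by_contra hne
    exact h1 x hne (divisor_eq_one_of_not_isClosed hC D x hx)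
  have hg₂ : g₂ ∈ Mero.divisorGroup C := by
    refine mem_divisorGroup_of_finite hC g₂ (hsupp.subset h2) (fun x hx => ?_)
    by_contra hne
    exact h2 x hne (divisor_eq_one_of_not_isClosed hC D x hx)
  refine ⟨⟨g₁, hg₁⟩, ⟨g₂, hg₂⟩, ?_, ?_, ?_, fun x hx => h1 x hx, fun x hx => h2 x hx⟩
  · intro x
    by_cases h : D.1 x = 1
    · refine ⟨1, ?_⟩
      change g₁ x = _
      simp only [g₁, if_pos h]
      exact (congrArg (QuotientGroup.mk : _ → Mero.Germ C x) (regUnit_one x)).symm
    · refine ⟨α x, ?_⟩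
      change g₁ x = _
      simp only [g₁, if_neg h]
  · intro x
    by_cases h : D.1 x = 1
    · refine ⟨1, ?_⟩
      change g₂ x = _
      simp only [g₂, if_pos h]
      exact (congrArg (QuotientGroup.mk : _ → Mero.Germ C x) (regUnit_one x)).symm
    · refine ⟨β x, ?_⟩
      change g₂ x = _
      simp only [g₂, if_neg h]
  · apply Subtype.ext
    funext x
    change D.1 x = g₁ x * (g₂ x)⁻¹
    by_cases h : D.1 x = 1
    · simp only [g₁, g₂, if_pos h, inv_one]
      rw [h]
      exact (mul_one (1 : Mero.Germ C x)).symm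
    · simp only [g₁, g₂, if_neg h]
      rw [hαβ x]; rfl

end Groth.Agent.Helper23.AbsCurve
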