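import Groth.Agent.Lib.Helper23.DepthExt12

set_option autoImplicit false
set_option linter.style.haveILetI false

open CategoryTheory AlgebraicGeometry Opposite TopologicalSpace IsLocalRing

universe u

namespace Groth.Agent.Helper23.DepthExt

variable {X : Scheme.{u}}

theorem hasReg1_of_injective [IsLocallyNoetherian X] (U : X.Opens)
    (hinj : ∀ V : X.Opens, Function.Injective (res (inf_le_left : V ⊓ U ≤ V))) (x : X)
    (hx : x ∉ U) : HasReg1 (X.presheaf.stalk x) := by
  by_contra hno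
  obtain ⟨V, hV, hxV, -⟩ := exists_isAffineOpen_mem_and_subset (TopologicalSpace.Opens.mem_top x)
  haveI : IsNoetherianRing Γ(X, V) := IsLocallyNoetherian.component_noetherian ⟨V, hV⟩
  set P := hV.primeIdealOf ⟨x, hxV⟩ with hP
  set p := P.asIdeal with hp
  have hxP : hV.fromSpec.base P = x := hV.fromSpec_primeIdealOf ⟨x, hxV⟩
  letI : Algebra Γ(X, V) (X.presheaf.stalk x) :=
    TopCat.Presheaf.algebra_section_stalk X.presheaf ⟨x, hxV⟩
  haveI : IsLocalization.AtPrime (X.presheaf.stalk x) p := hV.isLocalization_stalk ⟨x, hxV⟩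
  set S := Localization.AtPrime p with hS
  have hnoS : ¬ HasReg1 S := fun h => hno (h.of_ringEquiv
    (IsLocalization.algEquiv p.primeCompl (Localization.AtPrime p)
      (X.presheaf.stalk x)).toRingEquiv)
  haveI : IsNoetherianRing S := IsLocalization.isNoetherianRing p.primeCompl S inferInstance
  have hdisj : Disjoint (maximalIdeal S : Set S) (nonZeroDivisors S) := by
    rw [Set.disjoint_left]
    intro t ht htn
    apply hnoS
    refine ⟨t, (mem_maximalIdeal t).1 ht, fun y hy => ?_⟩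
    exact (mul_right_mem_nonZeroDivisors_eq_zero_iff htn).1 (by rw [mul_comm]; exact hy)
  have hann := Ideal.bot_lt_annihilator_of_disjoint_nonZeroDivisors hdisj
  obtain ⟨s, hs, hs0⟩ := SetLike.exists_of_lt hann
  have hs0' : s ≠ 0 := fun h => hs0 (by rw [h]; exact Submodule.zero_mem _)
  have hsm : ∀ t ∈ maximalIdeal S, s * t = 0 := by
    intro t ht
    have := (Module.mem_annihilator.1 hs) ⟨t, ht⟩
    exact congrArg Subtype.val this
  set f := algebraMap Γ(X, V) S with hf
  obtain ⟨⟨r, ⟨v, hv⟩⟩, hrv⟩ := IsLocalization.surj p.primeCompl s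
  simp only at hrv
  have hvunit : IsUnit (f v) := IsLocalization.map_units S ⟨v, hv⟩
  have hfr : f r ≠ 0 := by
    intro h0
    rw [← hf, h0] at hrv
    exact hs0' ((hvunit.mul_left_eq_zero).1 hrv)
  have hpm : ∀ a ∈ p, f a ∈ maximalIdeal S := by
    intro a ha
    rw [← IsLocalization.AtPrime.map_eq_maximalIdeal p S]
    exact Ideal.mem_map_of_mem _ ha
  set N : Ideal Γ(X, V) := Ideal.span {r} * p with hN
  have hNker : N ≤ RingHom.ker f := by
    rw [hN, Ideal.mul_le]
    intro i hi j hj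
    obtain ⟨c, rfl⟩ := Ideal.mem_span_singleton'.1 hi
    rw [RingHom.mem_ker, map_mul, map_mul, ← hrv]
    have := hsm (f j) (hpm j hj)
    calc f c * (s * f v) * f j = f c * f v * (s * f j) := by ring
      _ = 0 := by rw [this, mul_zero]
  have hNloc : ∀ y ∈ N, ∃ w ∈ p.primeCompl, w * y = 0 := by
    intro y hy
    have := hNker hy
    rw [RingHom.mem_ker, hf, IsLocalization.map_eq_zero_iff p.primeCompl] at this
    obtain ⟨⟨w, hw⟩, hwy⟩ := this
    exact ⟨w, hw, hwy⟩
  obtain ⟨w, hw, hwN⟩ := exists_kill p N hNloc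
  set r' := w * r with hr'
  have hr'a : ∀ a ∈ p, r' * a = 0 := by
    intro a ha
    rw [hr', mul_assoc]
    exact hwN _ (Ideal.mul_mem_mul (Ideal.mem_span_singleton_self r) ha)
  have hr'0 : r' ≠ 0 := by
    intro h0
    have : f r' = 0 := by rw [h0, map_zero]
    rw [hr', map_mul] at this
    exact hfr (((IsLocalization.map_units S ⟨w, hw⟩ : IsUnit (f w)).mul_right_eq_zero).1 this)
  apply hr'0
  apply hinj V
  rw [map_zero]
  -- `r'` vanishes on `V ⊓ U`
  let ι := {a : Γ(X, V) // a ∈ p}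
  have hcover : V ⊓ U ≤ ⨆ i : ι, X.basicOpen (res (inf_le_left : V ⊓ U ≤ V) i.1) := by
    intro y hy
    by_contra hcon
    have hall : ∀ a ∈ p, y ∉ X.basicOpen a := by
      intro a ha hya
      apply hcon
      refine Opens.mem_iSup.2 ⟨⟨a, ha⟩, ?_⟩
      have := X.basicOpen_res a (homOfLE (inf_le_left : V ⊓ U ≤ V)).op
      show y ∈ X.basicOpen ((X.presheaf.map (homOfLE (inf_le_left : V ⊓ U ≤ V)).op) a)
      rw [this]
      exact ⟨hy, hya⟩
    set Q := hV.primeIdealOf ⟨y, hy.1⟩ with hQ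
    have hyQ : hV.fromSpec.base Q = y := hV.fromSpec_primeIdealOf ⟨y, hy.1⟩
    have hle : p ≤ Q.asIdeal := by
      intro a ha
      by_contra haQ
      apply hall a ha
      have h1 : Q ∈ PrimeSpectrum.basicOpen a := haQ
      rw [← hV.fromSpec_preimage_basicOpen] at h1
      have h2 : hV.fromSpec.base Q ∈ X.basicOpen a := h1
      rwa [hyQ] at h2
    have hspec : P ⤳ Q := (PrimeSpectrum.le_iff_specializes P Q).1 hle
    have hxy : x ⤳ y := by
      have := hspec.map hV.fromSpec.continuous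
      rwa [hxP, hyQ] at this
    exact hx (hxy.mem_open U.2 hy.2)
  refine TopCat.Sheaf.eq_of_locally_eq' X.sheaf
    (fun i : ι => X.basicOpen (res (inf_le_left : V ⊓ U ≤ V) i.1)) (V ⊓ U)
    (fun i => homOfLE (X.basicOpen_le _)) hcover _ 0 ?_
  intro i
  have hunit := RingedSpace.isUnit_res_basicOpen X.toRingedSpace
    (res (inf_le_left : V ⊓ U ≤ V) i.1)
  have h0 : (X.presheaf.map (homOfLE (X.basicOpen_le
      (res (inf_le_left : V ⊓ U ≤ V) i.1))).op).hom
      (res (inf_le_left : V ⊓ U ≤ V) r' * res (inf_le_left : V ⊓ U ≤ V) i.1) = 0 := by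
    rw [← map_mul, hr'a i.1 i.2, map_zero, map_zero]
  rw [map_mul] at h0
  have h1 := (hunit.mul_left_eq_zero).1 h0
  show (X.presheaf.map (homOfLE (X.basicOpen_le _)).op).hom (res _ r') =
    (X.presheaf.map (homOfLE (X.basicOpen_le _)).op).hom 0
  rw [h1, map_zero]
  rfl

end Groth.Agent.Helper23.DepthExt
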