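import Mathlib
import Groth.Agent.Lib.Helper23.DepthExt13

/-!
# Schematic density of the generic fibre of a flat scheme over a domain, and factorisation through
closed immersions (helper23)
-/

set_option autoImplicit false
universe u
open CategoryTheory CategoryTheory.Limits AlgebraicGeometry

namespace Groth.Agent.Helper23.SchDense

/-- if `j ≫ d` factors through the closed immersion `γ` and `j` is scheme-theoretically dominant,
then `d` factors through `γ`. -/
theorem exists_lift_of_dominant {Γ P Z Z' : Scheme.{u}} (γ : Γ ⟶ P) [IsClosedImmersion γ]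
    (d : Z ⟶ P) (j : Z' ⟶ Z) [IsSchemeTheoreticallyDominant j]
    (c : Z' ⟶ Γ) (hc : c ≫ γ = j ≫ d) : ∃ m : Z ⟶ Γ, m ≫ γ = d := by
  have h1 : γ.ker ≤ (j ≫ d).ker := by
    rw [← hc]
    exact Scheme.Hom.le_ker_comp c γ
  have h2 : (j ≫ d).ker = d.ker := by
    rw [Scheme.Hom.ker_comp, j.ker_eq_bot, Scheme.IdealSheafData.map_bot]
  rw [h2] at h1
  exact ⟨IsClosedImmersion.lift γ d h1, IsClosedImmersion.lift_fac γ d h1⟩

/-- the generic fibre of a flat scheme over a domain is scheme-theoretically dense. -/
theorem isSchemeTheoreticallyDominant_genericFibre (R K : Type u) [CommRing R] [IsDomain R]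
    [Field K] [Algebra R K] [IsFractionRing R K] {Z : Scheme.{u}}
    (g : Z ⟶ Spec (CommRingCat.of R)) [Flat g] :
    IsSchemeTheoreticallyDominant
      (pullback.fst g (Spec.map (CommRingCat.ofHom (algebraMap R K)))) := by
  have hdom : IsDominant (Spec.map (CommRingCat.ofHom (algebraMap R K))) := by
    refine ⟨?_⟩
    have hinj : Function.Injective (algebraMap R K) := IsFractionRing.injective R K
    have := (PrimeSpectrum.denseRange_comap_iff_ker_le_nilRadical (algebraMap R K)).2 (by
      rw [(RingHom.injective_iff_ker_eq_bot _).1 hinj]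
      exact bot_le)
    exact this
  have h1 : IsSchemeTheoreticallyDominant (Spec.map (CommRingCat.ofHom (algebraMap R K))) :=
    IsSchemeTheoreticallyDominant.of_isDominant _
  infer_instance

end Groth.Agent.Helper23.SchDense

/-! ## restored original content of this file (regular non-units; `DepthExt` namespace) -/

section Restored

set_option autoImplicit false
set_option linter.style.haveILetI false

open CategoryTheory CategoryTheory.Limits AlgebraicGeometry Opposite TopologicalSpace IsLocalRing


namespace Groth.Agent.Helper23.DepthExt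

/-- regular non-units transfer along flat local homomorphisms -/
theorem HasReg1.of_flat {R S : Type u} [CommRing R] [CommRing S] (φ : R →+* S)
    (hflat : φ.Flat) [IsLocalHom φ] (h : HasReg1 R) : HasReg1 S := by
  obtain ⟨t, hu, hr⟩ := h
  algebraize [φ]
  have hreg : IsSMulRegular R t := by
    intro a b hab
    have h1 : t * (a - b) = 0 := by
      have : t * a = t * b := hab
      rw [mul_sub, this, sub_self]
    exact sub_eq_zero.1 (hr _ h1)
  have hreg' : IsSMulRegular S (algebraMap R S t) := hreg.of_flat
  refine ⟨φ t, fun h => hu (isUnit_of_map_unit φ t h), ?_⟩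
  intro x hx
  have h2 : algebraMap R S t • x = algebraMap R S t • (0 : S) := by
    rw [smul_zero, smul_eq_mul]; exact hx
  exact hreg' h2

/-- a Noetherian local ring whose maximal ideal is not an associated prime has a regular
non-unit -/
theorem hasReg1_of_maximalIdeal_not_mem_associatedPrimes (R : Type u) [CommRing R]
    [IsNoetherianRing R] [IsLocalRing R]
    (h : maximalIdeal R ∉ associatedPrimes R R) : HasReg1 R := by
  classical
  by_contra hcon
  apply h
  have hsub : (maximalIdeal R : Set R) ⊆ ⋃ p ∈ associatedPrimes R R, (p : Set R) := by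
    rw [biUnion_associatedPrimes_eq_compl_nonZeroDivisors]
    intro t ht hnzd
    apply hcon
    refine ⟨t, (mem_maximalIdeal t).1 ht, ?_⟩
    intro x hx
    exact (mem_nonZeroDivisors_iff_left.1 hnzd) x hx
  have hfin : (associatedPrimes R R).Finite := associatedPrimes.finite R R
  have hsub' : (maximalIdeal R : Set R) ⊆ ⋃ p ∈ (↑hfin.toFinset : Set (Ideal R)), (p : Set R) := by
    simpa using hsub
  obtain ⟨p, hp, hle⟩ := (Ideal.subset_union_prime (s := hfin.toFinset) (f := fun p => p)
    (maximalIdeal R) (maximalIdeal R) (fun i hi _ _ => by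
      rw [Set.Finite.mem_toFinset] at hi
      exact hi.isPrime)).1 hsub'
  rw [Set.Finite.mem_toFinset] at hp
  have hpe : p = maximalIdeal R := by
    haveI := hp.isPrime
    exact ((maximalIdeal.isMaximal R).eq_of_le (Ideal.IsPrime.ne_top inferInstance) hle).symm
  rw [← hpe]
  exact hp


/-- Two morphisms into a separated `Z`-scheme which agree after composing with a morphism `ι`
that is injective on functions over every affine open are equal. -/
theorem ext_of_app_injective {X Y Z W : Scheme.{u}} {f g : X ⟶ Y}
    (s : Y ⟶ Z) [IsSeparated s] (h : f ≫ s = g ≫ s)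
    (ι : W ⟶ X) (hι : ∀ U : X.affineOpens, Function.Injective (ι.app U.1).hom)
    (hU : ι ≫ f = ι ≫ g) : f = g := by
  let X' : Over Z := Over.mk (f ≫ s)
  let Y' : Over Z := Over.mk s
  let U' : Over Z := Over.mk (ι ≫ f ≫ s)
  let f' : X' ⟶ Y' := Over.homMk f
  let g' : X' ⟶ Y' := Over.homMk g
  let ι' : U' ⟶ X' := Over.homMk ι
  have : IsSeparated Y'.hom := ‹_›
  have hfac : (equalizer.lift ι' (show ι' ≫ f' = ι' ≫ g' by ext1; exact hU)).left ≫
      (equalizer.ι f' g').left = ι := by
    rw [← Over.comp_left, equalizer.lift_ι]
    rfl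
  have hker : (equalizer.ι f' g').left.ker = ⊥ := by
    rw [eq_bot_iff]
    have h1 := Scheme.Hom.le_ker_comp
      (equalizer.lift ι' (show ι' ≫ f' = ι' ≫ g' by ext1; exact hU)).left (equalizer.ι f' g').left
    rw [hfac] at h1
    refine h1.trans ?_
    intro U
    refine (ι.ideal_ker_le U).trans ?_
    rw [(RingHom.injective_iff_ker_eq_bot _).1 (hι U)]
    exact bot_le
  have hiso : IsIso (equalizer.ι f' g').left := IsClosedImmersion.isIso_iff_ker_eq_bot.2 hker
  rw [← cancel_epi (equalizer.ι f' g').left]
  exact congr($(equalizer.condition f' g').left)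

variable {X : Scheme.{u}}

theorem injective_res_congr {A B W : X.Opens} (hAB : A = B) (hA : A ≤ W) (hB : B ≤ W)
    (h : Function.Injective (res hA)) : Function.Injective (res hB) := by
  subst hAB
  exact h

/-- an open subscheme containing all points of depth zero is schematically dense -/
theorem injective_ι_app (U : X.Opens)
    (hreg : ∀ x : X, x ∉ U → HasReg1 (X.presheaf.stalk x)) (W : X.Opens) :
    Function.Injective (U.ι.app W).hom := by
  have h1 := injective_res_global U hreg W
  have h2 : (W ⊓ U : X.Opens) = U.ι ''ᵁ U.ι ⁻¹ᵁ W := by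
    rw [Scheme.Hom.image_preimage_eq_opensRange_inf, Scheme.Opens.opensRange_ι, inf_comm]
  have h3 := injective_res_congr h2 inf_le_left (by rw [← h2]; exact inf_le_left) h1
  rw [Scheme.Opens.ι_app]
  exact h3

end Groth.Agent.Helper23.DepthExt

end Restored
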