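import Groth.Agent.Lib.Helper23.AbsCurve3
import Groth.Agent.Lib.Helper23.SchDense

set_option autoImplicit false
set_option linter.style.haveILetI false

open CategoryTheory AlgebraicGeometry Opposite TopologicalSpace IsLocalRing

universe u

namespace Groth.Agent.Helper23.AbsCurve

open Groth.Agent.Helper23.RegPull Groth.Agent.Helper23.CDivDepth Groth.Agent.Helper13.MeroLib
open Groth.Agent.Helper23.DepthExt

variable {C : Scheme.{u}}

/-- the associated points in an affine open of a locally Noetherian scheme are finite in number -/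
theorem finite_assPts [IsLocallyNoetherian C] {W : C.Opens} (hW : IsAffineOpen W) :
    {y : C | ∃ _ : y ∈ W, maximalIdeal (C.presheaf.stalk y) ∈
      associatedPrimes (C.presheaf.stalk y) (C.presheaf.stalk y)}.Finite := by
  haveI : IsNoetherianRing Γ(C, W) := IsLocallyNoetherian.component_noetherian ⟨W, hW⟩
  have hfin : (associatedPrimes Γ(C, W) Γ(C, W)).Finite := associatedPrimes.finite _ _
  have hfin2 : {Q : PrimeSpectrum Γ(C, W) | Q.asIdeal ∈ associatedPrimes Γ(C, W) Γ(C, W)}.Finite :=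
    hfin.preimage (fun P _ Q _ h => PrimeSpectrum.ext h)
  refine (hfin2.image (fun Q => hW.fromSpec Q)).subset ?_
  rintro y ⟨hy, hass⟩
  refine ⟨hW.primeIdealOf ⟨y, hy⟩, ?_, hW.fromSpec_primeIdealOf ⟨y, hy⟩⟩
  letI := TopCat.Presheaf.algebra_section_stalk C.presheaf ⟨y, hy⟩
  haveI hloc : IsLocalization.AtPrime (C.presheaf.stalk y) (hW.primeIdealOf ⟨y, hy⟩).asIdeal :=
    hW.isLocalization_stalk ⟨y, hy⟩
  have h1 := Module.associatedPrimes.preimage_comap_associatedPrimes_eq_associatedPrimes_of_isLocalizedModule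
    (hW.primeIdealOf ⟨y, hy⟩).asIdeal.primeCompl (C.presheaf.stalk y)
    (Algebra.linearMap Γ(C, W) (C.presheaf.stalk y))
  have h2 : maximalIdeal (C.presheaf.stalk y) ∈ Ideal.comap (algebraMap Γ(C, W) (C.presheaf.stalk y)) ⁻¹'
      associatedPrimes Γ(C, W) Γ(C, W) := by
    rw [h1]; exact hass
  have h3 : Ideal.comap (algebraMap Γ(C, W) (C.presheaf.stalk y)) (maximalIdeal (C.presheaf.stalk y)) =
      (hW.primeIdealOf ⟨y, hy⟩).asIdeal :=
    IsLocalization.AtPrime.under_maximalIdeal (C.presheaf.stalk y) (hW.primeIdealOf ⟨y, hy⟩).asIdeal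
  change (hW.primeIdealOf ⟨y, hy⟩).asIdeal ∈ associatedPrimes Γ(C, W) Γ(C, W)
  rw [← h3]
  exact h2

/-- the generic point of an irreducible component has no proper generization -/
theorem eq_of_specializes_genericPoint {Z : Set C} (hZ : Z ∈ irreducibleComponents C) (η : C)
    (hη : IsGenericPoint η Z) (z : C) (hz : z ⤳ η) : z = η := by
  have h1 : Z ⊆ closure {z} := by
    rw [← hη.def]
    exact closure_minimal (Set.singleton_subset_iff.2 (specializes_iff_mem_closure.1 hz))
      isClosed_closure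
  have h2 : closure {z} ⊆ Z := hZ.2 (isIrreducible_singleton.closure) h1
  have h3 : η ⤳ z := by
    rw [specializes_iff_mem_closure, hη.def]
    exact h2 (subset_closure rfl)
  exact (h3.antisymm hz).eq.symm


/-- on an absolute curve without open points, every irreducible component contains a closed point
of a given dense open at which some regular germ is not a unit -/
theorem exists_closed_regular [IsNoetherian C]
    (hC : ∀ x : C, IsClosed ({x} : Set C) → ringKrullDim (C.presheaf.stalk x) = 1)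
    (hpt : ∀ x : C, ¬ IsOpen ({x} : Set C)) (U : C.Opens) (hU : Dense (U : Set C))
    (Z : Set C) (hZ : Z ∈ irreducibleComponents C) :
    ∃ x : C, x ∈ Z ∧ x ∈ U ∧ IsClosed ({x} : Set C) ∧
      ∃ t : Mero.regStalk C x, ¬ IsUnit (t : C.presheaf.stalk x) := by
  have hZcl : IsClosed Z := isClosed_of_mem_irreducibleComponents Z hZ
  obtain ⟨η, hη⟩ := QuasiSober.sober hZ.1 hZcl
  have hfinC : (irreducibleComponents C).Finite :=
    TopologicalSpace.NoetherianSpace.finite_irreducibleComponents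
  let F : Set C := ⋃₀ (irreducibleComponents C \ {Z})
  have hFcl : IsClosed F := by
    change IsClosed (⋃₀ (irreducibleComponents C \ {Z}))
    rw [Set.sUnion_eq_biUnion]
    exact hfinC.sdiff.isClosed_biUnion fun W hW => isClosed_of_mem_irreducibleComponents W hW.1
  have hFZ : Fᶜ ⊆ Z := by
    intro y hy
    have : y ∈ ⋃₀ irreducibleComponents C := by rw [sUnion_irreducibleComponents]; trivial
    obtain ⟨Z', hZ', hyZ'⟩ := this
    by_cases h : Z' = Z
    · rwa [h] at hyZ'
    · exact absurd ⟨Z', ⟨hZ', h⟩, hyZ'⟩ hy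
  have hηZ : η ∈ Z := hη.mem
  have hηF : η ∉ F := by
    rintro ⟨Z', ⟨hZ', hne⟩, hηZ'⟩
    apply hne
    have h1 : Z ⊆ Z' := by
      rw [← hη.def]
      exact closure_minimal (Set.singleton_subset_iff.2 hηZ')
        (isClosed_of_mem_irreducibleComponents Z' hZ')
    exact Set.Subset.antisymm (hZ.2 hZ'.1 h1) h1
  have hspec : ∀ y ∈ Z, η ⤳ y := by
    intro y hy
    rw [specializes_iff_mem_closure, hη.def]; exact hy
  have hηU : η ∈ U := by
    obtain ⟨p, hpF, hpU⟩ := hU.inter_open_nonempty Fᶜ hFcl.isOpen_compl ⟨η, hηF⟩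
    exact (hspec p (hFZ hpF)).mem_open U.2 hpU
  let O₁ : C.Opens := U ⊓ ⟨Fᶜ, hFcl.isOpen_compl⟩
  obtain ⟨_, ⟨W, hW, rfl⟩, hηW, hWle⟩ :=
    C.isBasis_affineOpens.exists_subset_of_mem_open
      (show η ∈ (O₁ : Set C) from ⟨hηU, hηF⟩) O₁.2
  have hWU : W ≤ U := fun y hy => (hWle hy).1
  have hWZ : ∀ y ∈ W, y ∈ Z := fun y hy => hFZ (hWle hy).2
  have hclosed : ∀ y ∈ W, y ≠ η → IsClosed ({y} : Set C) := by
    intro y hy hne
    by_contra hc
    exact hne (eq_of_specializes_of_not_isClosed hC y hc η (hspec y (hWZ y hy))).symm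
  have hB := finite_assPts hW
  have hex : ∃ y, y ∈ W ∧ y ≠ η ∧ maximalIdeal (C.presheaf.stalk y) ∉
      associatedPrimes (C.presheaf.stalk y) (C.presheaf.stalk y) := by
    by_contra hcon
    push Not at hcon
    have hsub : (W : Set C) \ {η} ⊆ {y : C | ∃ _ : y ∈ W, maximalIdeal (C.presheaf.stalk y) ∈
        associatedPrimes (C.presheaf.stalk y) (C.presheaf.stalk y)} :=
      fun y hy => ⟨hy.1, hcon y hy.1 hy.2⟩
    have hfin : ((W : Set C) \ {η}).Finite := hB.subset hsub
    have hcl : IsClosed ((W : Set C) \ {η}) :=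
      isClosed_of_finite_of_forall_isClosed hfin (fun y hy => hclosed y hy.1 hy.2)
    have hopen : IsOpen ((W : Set C) ∩ ((W : Set C) \ {η})ᶜ) := W.2.inter hcl.isOpen_compl
    have heq : (W : Set C) ∩ ((W : Set C) \ {η})ᶜ = {η} := by
      ext y
      simp only [Set.mem_inter_iff, Set.mem_compl_iff, Set.mem_sdiff, Set.mem_singleton_iff,
        not_and, not_not]
      constructor
      · rintro ⟨h1, h2⟩; exact h2 h1
      · rintro rfl; exact ⟨hηW, fun _ => rfl⟩
    rw [heq] at hopen
    exact hpt η hopen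
  obtain ⟨y, hyW, hyη, hass⟩ := hex
  haveI : IsNoetherianRing (C.presheaf.stalk y) := inferInstance
  obtain ⟨t, htu, htr⟩ := hasReg1_of_maximalIdeal_not_mem_associatedPrimes (C.presheaf.stalk y) hass
  have htS : t ∈ Mero.regStalk C y := by
    rw [regStalk_eq_nonZeroDivisors C y, mem_nonZeroDivisors_iff_left]
    intro x hx
    exact htr x hx
  exact ⟨y, hWZ y hyW, hWU hyW, hclosed y hyW hyη, ⟨t, htS⟩, htu⟩


/-- the class of a regular non-unit germ is not trivial -/
theorem mk_regUnit_ne_one (x : C) (t : Mero.regStalk C x) (ht : ¬ IsUnit (t : C.presheaf.stalk x)) :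
    (QuotientGroup.mk (regUnit x t) : Mero.Germ C x) ≠ 1 := by
  intro h
  rw [QuotientGroup.eq_one_iff] at h
  obtain ⟨u, hu⟩ := h
  apply ht
  have h1 : algebraMap (C.presheaf.stalk x) (Mero.KStalk C x) (u : C.presheaf.stalk x) =
      algebraMap (C.presheaf.stalk x) (Mero.KStalk C x) (t : C.presheaf.stalk x) :=
    congrArg Units.val hu
  rw [← Mero.algebraMap_KStalk_injective x h1]
  exact u.isUnit

theorem exists_effective_divisor [IsNoetherian C]
    (hC : ∀ x : C, IsClosed ({x} : Set C) → ringKrullDim (C.presheaf.stalk x) = 1)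
    (hpt : ∀ x : C, ¬ IsOpen ({x} : Set C)) (U : C.Opens) (hU : Dense (U : Set C)) :
    ∃ D : Mero.Divisor C, Mero.IsEffective D ∧ Mero.supp D ⊆ (U : Set C) ∧
      ∀ Z ∈ irreducibleComponents (C : Type u), (Mero.supp D ∩ Z).Nonempty := by
  classical
  have hex := exists_closed_regular hC hpt U hU
  choose x hxZ hxU hxcl hxt using hex
  have hfinC : (irreducibleComponents C).Finite :=
    TopologicalSpace.NoetherianSpace.finite_irreducibleComponents
  let P : Set C := {y : C | ∃ (Z : Set C) (hZ : Z ∈ irreducibleComponents C), x Z hZ = y}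
  have hPfin : P.Finite := hfinC.dependent_image x
  let g : ∀ y : C, Mero.Germ C y := fun y =>
    if h : (∃ t : Mero.regStalk C y, ¬ IsUnit (t : C.presheaf.stalk y)) ∧ y ∈ P then
      QuotientGroup.mk (regUnit y h.1.choose) else 1
  have hgP : ∀ y, g y ≠ 1 → y ∈ P := by
    intro y hy
    by_contra hnP
    apply hy
    simp only [g]
    rw [dif_neg (fun h => hnP h.2)]
  have hPcl : ∀ y ∈ P, IsClosed ({y} : Set C) := by
    rintro _ ⟨Z, hZ, rfl⟩
    exact hxcl Z hZ
  have hg : g ∈ Mero.divisorGroup C := by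
    refine mem_divisorGroup_of_finite hC g (hPfin.subset hgP) (fun y hy => ?_)
    by_contra hne
    exact hy (hPcl y (hgP y hne))
  refine ⟨⟨g, hg⟩, ?_, ?_, ?_⟩
  · intro y
    by_cases h : (∃ t : Mero.regStalk C y, ¬ IsUnit (t : C.presheaf.stalk y)) ∧ y ∈ P
    · refine ⟨h.1.choose, ?_⟩
      change g y = _
      simp only [g]
      rw [dif_pos h]
    · refine ⟨1, ?_⟩
      change g y = _
      simp only [g]
      rw [dif_neg h]
      exact (congrArg (QuotientGroup.mk : _ → Mero.Germ C y) (regUnit_one y)).symm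
  · intro y hy
    obtain ⟨Z, hZ, rfl⟩ := hgP y hy
    exact hxU Z hZ
  · intro Z hZ
    refine ⟨x Z hZ, ?_, hxZ Z hZ⟩
    have h : (∃ t : Mero.regStalk C (x Z hZ), ¬ IsUnit (t : C.presheaf.stalk (x Z hZ))) ∧
        x Z hZ ∈ P := ⟨hxt Z hZ, ⟨Z, hZ, rfl⟩⟩
    change g (x Z hZ) ≠ 1
    simp only [g]
    rw [dif_pos h]
    exact mk_regUnit_ne_one (x Z hZ) _ h.1.choose_spec

end Groth.Agent.Helper23.AbsCurve
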