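import Mathlib
import Groth.Prelude.Def_Adeq
set_option autoImplicit false
universe u
open CategoryTheory CategoryTheory.Limits TensorProduct Opposite

namespace Groth.Agent.Helper23.Adq

open Adeq

variable {A : Type u} [CommRing A]

/-- the value of `underline M` at `B`. -/
lemma underline_map_app_apply {M N : ModuleCat.{u + 1} A} (g : M ⟶ N) (B : Alg A)
    (x : (B : Type u) ⊗[A] M) :
    (((underline A).map g).app (pt B)).hom x = g.hom.baseChange B x := rfl

lemma underline_obj_map_apply (M : ModuleCat.{u + 1} A) {B B' : Alg A} (f : B ⟶ B')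
    (x : (B : Type u) ⊗[A] M) :
    (((underline A).obj M).map (ptHom f)).hom x = (f.hom.toLinearMap.rTensor M) x := rfl

lemma comp_app_apply {F G H : MVF A} (φ : F ⟶ G) (ψ : G ⟶ H) (B : Alg A) (x : F.obj (pt B)) :
    ((φ ≫ ψ).app (pt B)).hom x = (ψ.app (pt B)).hom ((φ.app (pt B)).hom x) := rfl

/-- concrete criterion for adequacy. -/
theorem adequate_of_exact {F : MVF A} {M N : ModuleCat.{u + 1} A} (α : M ⟶ N)
    (ι : F ⟶ (underline A).obj M)
    (hinj : ∀ B : Alg A, Function.Injective (ι.app (pt B)).hom)
    (hzero : ∀ (B : Alg A) (y : F.obj (pt B)), α.hom.baseChange B ((ι.app (pt B)).hom y) = 0)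
    (hex : ∀ (B : Alg A) (x : (B : Type u) ⊗[A] M), α.hom.baseChange B x = 0 →
      ∃ y, (ι.app (pt B)).hom y = x) :
    adequate A F := by
  have w : ι ≫ (underline A).map α = 0 := by
    ext X y
    exact hzero X.unop.unop y
  let k := kernel.lift ((underline A).map α) ι w
  have hk : k ≫ kernel.ι ((underline A).map α) = ι := kernel.lift_ι _ _ _
  haveI : Mono ι := PresheafOfModules.mono_of_injective (fun X => hinj X.unop.unop)
  haveI : Mono k := mono_of_mono_fac hk
  haveI : Epi k := by
    apply PresheafOfModules.epi_of_surjective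
    intro X y
    have h1 : α.hom.baseChange X.unop.unop
        ((kernel.ι ((underline A).map α)).app X y) = 0 := by
      have := congr(($(kernel.condition ((underline A).map α))).app X y)
      exact this
    obtain ⟨z, hz⟩ := hex X.unop.unop _ h1
    refine ⟨z, ?_⟩
    apply PresheafOfModules.injective_of_mono (kernel.ι ((underline A).map α)) X
    have := congr(($hk).app X z)
    exact this.trans hz
  haveI : IsIso k := isIso_of_mono_of_epi k
  exact ⟨M, N, α, ⟨asIso k⟩⟩

end Groth.Agent.Helper23.Adq

namespace Groth.Agent.Helper23.Adq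

open Adeq

variable {A : Type u} [CommRing A]

/-- valuewise exactness of an exact short complex of module-valued functors. -/
theorem exact_app {S : ShortComplex (MVF A)} (hS : S.Exact) (B : Alg A)
    (x : S.X₂.obj (pt B)) (hx : (S.g.app (pt B)).hom x = 0) :
    ∃ y : S.X₁.obj (pt B), (S.f.app (pt B)).hom y = x := by
  have := PresheafOfModules.instAdditiveModuleCatCarrierObjOppositeRingCatEvaluation.{u+1}
    (Adeq.ringOf A) (pt B)
  have := PresheafOfModules.evaluation_preservesFiniteLimits.{u+1} (Adeq.ringOf A) (pt B)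
  have := PresheafOfModules.Finite.evaluation_preservesFiniteColimits.{u+1} (Adeq.ringOf A) (pt B)
  have h := hS.map (PresheafOfModules.evaluation.{u+1} (Adeq.ringOf A) (pt B))
  have h2 := (ShortComplex.moduleCat_exact_iff _).mp h
  exact h2 x hx

theorem exists_exact_of_adequate {F : MVF A} (h : adequate A F) :
    ∃ (M N : ModuleCat.{u + 1} A) (α : M ⟶ N) (ι : F ⟶ (underline A).obj M),
      (∀ B : Alg A, Function.Injective (ι.app (pt B)).hom) ∧
      (∀ (B : Alg A) (y : F.obj (pt B)), α.hom.baseChange B ((ι.app (pt B)).hom y) = 0) ∧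
      (∀ (B : Alg A) (x : (B : Type u) ⊗[A] M), α.hom.baseChange B x = 0 →
        ∃ y, (ι.app (pt B)).hom y = x) := by
  obtain ⟨M, N, α, ⟨e⟩⟩ := h
  refine ⟨M, N, α, e.hom ≫ kernel.ι ((underline A).map α), ?_, ?_, ?_⟩
  · intro B
    haveI : Mono (e.hom ≫ kernel.ι ((underline A).map α)) := inferInstance
    exact PresheafOfModules.injective_of_mono _ (pt B)
  · intro B y
    have := congr(($(kernel.condition ((underline A).map α))).app (pt B) ((e.hom.app (pt B)).hom y))
    exact this
  · intro B x hx
    have hS : (ShortComplex.mk (kernel.ι ((underline A).map α)) ((underline A).map α)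
        (kernel.condition _)).Exact :=
      ShortComplex.exact_of_f_is_kernel _ (kernelIsKernel _)
    obtain ⟨y, hy⟩ := exact_app hS B x hx
    refine ⟨(e.inv.app (pt B)).hom y, ?_⟩
    have h1 : (e.hom.app (pt B)).hom ((e.inv.app (pt B)).hom y) = y := by
      have := congr(($(e.inv_hom_id)).app (pt B) y)
      exact this
    change (kernel.ι ((underline A).map α)).app (pt B)
      ((e.hom.app (pt B)).hom ((e.inv.app (pt B)).hom y)) = x
    rw [h1]
    exact hy

end Groth.Agent.Helper23.Adq
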