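import Mathlib
import Groth.Agent.Lib.Helper23.Adq1
set_option autoImplicit false
universe u
open CategoryTheory CategoryTheory.Limits TensorProduct Opposite

namespace Groth.Agent.Helper23.Adq

open Adeq

variable {A : Type u} [CommRing A]

variable (A) in
/-- the standard free module of rank `r`, in the universe of the values. -/
abbrev Fr (r : ℕ) : ModuleCat.{u + 1} A := ModuleCat.of A (Fin r → ULift.{u + 1} A)

variable (A) in
/-- basis vectors of `Fr A r`. -/
def bv {r : ℕ} (l : Fin r) : Fin r → ULift.{u + 1} A := Pi.single l (ULift.up 1)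

/-- the linear map `Fr A r → M` with prescribed values on the basis. -/
def lc {r : ℕ} {M : Type (u + 1)} [AddCommGroup M] [Module A M] (μ : Fin r → M) :
    (Fin r → ULift.{u + 1} A) →ₗ[A] M :=
  ∑ l, (LinearMap.toSpanSingleton A M (μ l)) ∘ₗ ULift.moduleEquiv.toLinearMap ∘ₗ LinearMap.proj l

lemma lc_apply {r : ℕ} {M : Type (u + 1)} [AddCommGroup M] [Module A M] (μ : Fin r → M)
    (x : Fin r → ULift.{u + 1} A) : lc μ x = ∑ l, (x l).down • μ l := by
  simp [lc, LinearMap.sum_apply]

lemma lc_bv {r : ℕ} {M : Type (u + 1)} [AddCommGroup M] [Module A M] (μ : Fin r → M)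
    (l : Fin r) : lc μ (bv A l) = μ l := by
  rw [lc_apply]
  rw [Finset.sum_eq_single l]
  · simp [bv]
  · intro l' _ hne
    simp [bv, Pi.single_apply, hne]
  · intro h; exact absurd (Finset.mem_univ l) h

lemma ext_Fr {r : ℕ} {M : Type (u + 1)} [AddCommGroup M] [Module A M]
    (f g : (Fin r → ULift.{u + 1} A) →ₗ[A] M) (h : ∀ l, f (bv A l) = g (bv A l)) : f = g := by
  apply LinearMap.pi_ext
  intro l x
  have : (Pi.single l x : Fin r → ULift.{u + 1} A) = x.down • bv A l := by
    ext l'
    by_cases hl : l' = l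
    · subst hl; simp [bv]
    · simp [bv, hl]
  rw [this, map_smul, map_smul, h]

end Groth.Agent.Helper23.Adq

namespace Groth.Agent.Helper23.Adq

open Adeq

variable {A : Type u} [CommRing A]

/-- matrix map `Fr A r ⟶ Fr A k`. -/
noncomputable def matHom {r k : ℕ} (a : Fin r → Fin k → A) : Fr A r ⟶ Fr A k :=
  ModuleCat.ofHom (lc (fun l => ∑ j, a l j • bv A j))

lemma matHom_bv {r k : ℕ} (a : Fin r → Fin k → A) (l : Fin r) :
    (matHom a).hom (bv A l) = ∑ j, a l j • bv A j := by
  simp [matHom, lc_bv]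

/-- the linearly adequate functor attached to a matrix. -/
noncomputable abbrev Lin {r k : ℕ} (a : Fin r → Fin k → A) : MVF A := kernel ((underline A).map (matHom a))

lemma linAdequate_Lin {r k : ℕ} (a : Fin r → Fin k → A) : linAdequate A (Lin a) :=
  ⟨Fr A r, Fr A k, matHom a, inferInstance, inferInstance, inferInstance, inferInstance,
    ⟨Iso.refl _⟩⟩

/-- the transformation from a linearly adequate functor to a kernel. -/
noncomputable def toKer {M N : ModuleCat.{u + 1} A} (α : M ⟶ N) {r k : ℕ} (a : Fin r → Fin k → A)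
    (μ : Fin r → M) (y : Fin k → N) (h : ∀ l, α.hom (μ l) = ∑ j, a l j • y j) :
    Lin a ⟶ kernel ((underline A).map α) :=
  kernel.lift _ (kernel.ι _ ≫ (underline A).map (ModuleCat.ofHom (lc μ))) (by
    rw [Category.assoc, ← Functor.map_comp]
    have : ModuleCat.ofHom (lc μ) ≫ α = matHom a ≫ ModuleCat.ofHom (lc y) := by
      ext : 1
      apply ext_Fr
      intro l
      change α.hom (lc μ (bv A l)) = lc y ((matHom a).hom (bv A l))
      rw [lc_bv, h, matHom_bv, map_sum]
      simp only [map_smul, lc_bv]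
    rw [this, Functor.map_comp, kernel.condition_assoc, zero_comp])

lemma toKer_ι {M N : ModuleCat.{u + 1} A} (α : M ⟶ N) {r k : ℕ} (a : Fin r → Fin k → A)
    (μ : Fin r → M) (y : Fin k → N) (h : ∀ l, α.hom (μ l) = ∑ j, a l j • y j) :
    toKer α a μ y h ≫ kernel.ι _ = kernel.ι _ ≫ (underline A).map (ModuleCat.ofHom (lc μ)) :=
  kernel.lift_ι _ _ _

/-- the element of `B ⊗ Fr A r` with given coordinates. -/
noncomputable def cvec {r : ℕ} (B : Alg A) (c : Fin r → B) : (B : Type u) ⊗[A] (Fin r → ULift.{u + 1} A) :=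
  ∑ l, c l ⊗ₜ[A] bv A l

lemma baseChange_lc_cvec {r : ℕ} {M : Type (u + 1)} [AddCommGroup M] [Module A M]
    (μ : Fin r → M) (B : Alg A) (c : Fin r → B) :
    (lc μ).baseChange B (cvec B c) = ∑ l, c l ⊗ₜ[A] μ l := by
  simp [cvec, map_sum, LinearMap.baseChange_tmul, lc_bv]

lemma exists_mem_Lin {r k : ℕ} (a : Fin r → Fin k → A) (B : Alg A) (c : Fin r → B)
    (hc : ∀ j, ∑ l, a l j • c l = 0) :
    ∃ z : (Lin a).obj (pt B), ((kernel.ι ((underline A).map (matHom a))).app (pt B)).hom z =
      cvec B c := by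
  have hS : (ShortComplex.mk (kernel.ι ((underline A).map (matHom a)))
      ((underline A).map (matHom a)) (kernel.condition _)).Exact :=
    ShortComplex.exact_of_f_is_kernel _ (kernelIsKernel _)
  apply exact_app hS B (cvec B c)
  change (matHom a).hom.baseChange B (cvec B c) = 0
  have : (matHom a).hom = lc (fun l => ∑ j, a l j • bv A j) := rfl
  rw [this, baseChange_lc_cvec]
  simp only [TensorProduct.tmul_sum, TensorProduct.tmul_smul]
  rw [Finset.sum_comm]
  have h2 : ∀ j, ∑ l, a l j • (c l ⊗ₜ[A] bv A j) =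
      (∑ l, a l j • c l) ⊗ₜ[A] bv A j := by
    intro j
    rw [TensorProduct.sum_tmul]
    simp only [TensorProduct.smul_tmul']
  simp only [h2, hc, TensorProduct.zero_tmul, Finset.sum_const_zero]

end Groth.Agent.Helper23.Adq
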