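import Mathlib
import Groth.Agent.Lib.Helper23.Adq2
set_option autoImplicit false
universe u
open CategoryTheory CategoryTheory.Limits TensorProduct Opposite

namespace Groth.Agent.Helper23.Adq

open Adeq

variable {A : Type u} [CommRing A]

/-- equational criterion, in the form needed for adequate functors. -/
theorem exists_data {M N : Type (u + 1)} [AddCommGroup M] [Module A M] [AddCommGroup N]
    [Module A N] (α : M →ₗ[A] N) (B : Type u) [CommRing B] [Algebra A B] (x : B ⊗[A] M)
    (hx : α.baseChange B x = 0) :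
    ∃ (r k : ℕ) (a : Fin r → Fin k → A) (μ : Fin r → M) (y : Fin k → N) (c : Fin r → B),
      (∀ l, α (μ l) = ∑ j, a l j • y j) ∧ (∀ j, ∑ l, a l j • c l = 0) ∧
        x = ∑ l, c l ⊗ₜ[A] μ l := by
  obtain ⟨n, b, m, rfl⟩ := TensorProduct.exists_sum_tmul_eq x
  let P₀ : Submodule A B := Submodule.span A (Set.range b)
  have hP₀ : P₀.FG := Submodule.fg_span (Set.finite_range b)
  have hb : ∀ i, b i ∈ P₀ := fun i => Submodule.subset_span ⟨i, rfl⟩
  let t : P₀ ⊗[A] N := ∑ i, (⟨b i, hb i⟩ : P₀) ⊗ₜ[A] α (m i)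
  have ht : LinearMap.rTensor N P₀.subtype t = 0 := by
    simp only [t, map_sum, LinearMap.rTensor_tmul, Submodule.subtype_apply]
    rw [← hx, map_sum]
    simp [LinearMap.baseChange_tmul]
  obtain ⟨Q, hPQ, hQfg, hQ0⟩ := TensorProduct.eq_zero_of_fg_of_subtype_eq_zero hP₀ ht
  obtain ⟨r, s, hs⟩ := Submodule.fg_iff_exists_fin_generating_family.1 hQfg
  have hsQ : ∀ l, s l ∈ Q := fun l => hs ▸ Submodule.subset_span ⟨l, rfl⟩
  let c' : Fin r → Q := fun l => ⟨s l, hsQ l⟩
  have hc' : Submodule.span A (Set.range c') = ⊤ := by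
    rw [eq_top_iff]
    rintro ⟨q, hq⟩ -
    have hq' : q ∈ Submodule.span A (Set.range s) := hs ▸ hq
    obtain ⟨e, he⟩ := (Submodule.mem_span_range_iff_exists_fun A).1 hq'
    have : (⟨q, hq⟩ : Q) = ∑ l, e l • c' l := by
      apply Subtype.ext
      simp [c', ← he]
    rw [this]
    exact Submodule.sum_mem _ fun l _ => Submodule.smul_mem _ _ (Submodule.subset_span ⟨l, rfl⟩)
  have hbQ : ∀ i, b i ∈ Submodule.span A (Set.range s) := fun i => hs ▸ hPQ (hb i)
  choose e he using fun i => (Submodule.mem_span_range_iff_exists_fun A).1 (hbQ i)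
  have h6 : ∑ l, c' l ⊗ₜ[A] (∑ i, e i l • α (m i)) = (0 : Q ⊗[A] N) := by
    rw [← hQ0]
    simp only [t, map_sum, LinearMap.rTensor_tmul]
    simp only [TensorProduct.tmul_sum, TensorProduct.tmul_smul]
    rw [Finset.sum_comm]
    refine Finset.sum_congr rfl fun i _ => ?_
    simp only [TensorProduct.smul_tmul', ← TensorProduct.sum_tmul]
    congr 1
    apply Subtype.ext
    simp [c', he]
  obtain ⟨k, a, y, h₁, h₂⟩ := TensorProduct.vanishesTrivially_of_sum_tmul_eq_zero A hc' h6
  refine ⟨r, k, a, fun l => ∑ i, e i l • m i, y, s, ?_, ?_, ?_⟩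
  · intro l
    rw [map_sum]
    simp only [map_smul]
    exact h₁ l
  · intro j
    have := congrArg Subtype.val (h₂ j)
    simpa [c'] using this
  · simp only [TensorProduct.tmul_sum, TensorProduct.tmul_smul]
    rw [Finset.sum_comm]
    refine Finset.sum_congr rfl fun i _ => ?_
    simp only [TensorProduct.smul_tmul', ← TensorProduct.sum_tmul]
    rw [he]

end Groth.Agent.Helper23.Adq

namespace Groth.Agent.Helper23.Adq

open Adeq

variable {A : Type u} [CommRing A]

/-- every element of a kernel functor is hit from a linearly adequate functor. -/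
theorem exists_lin_hit {M N : ModuleCat.{u + 1} A} (α : M ⟶ N) (B : Alg A)
    (ξ : (kernel ((underline A).map α)).obj (pt B)) :
    ∃ (r k : ℕ) (a : Fin r → Fin k → A) (μ : Fin r → M) (t : Lin a ⟶ kernel ((underline A).map α))
      (z : (Lin a).obj (pt B)),
      t ≫ kernel.ι _ = kernel.ι _ ≫ (underline A).map (ModuleCat.ofHom (lc μ)) ∧
      (t.app (pt B)).hom z = ξ := by
  set x : (B : Type u) ⊗[A] M := ((kernel.ι ((underline A).map α)).app (pt B)).hom ξ with hxdef
  have hx : α.hom.baseChange B x = 0 := by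
    have := congr(($(kernel.condition ((underline A).map α))).app (pt B) ξ)
    exact this
  obtain ⟨r, k, a, μ, y, c, h1, h2, h3⟩ := exists_data α.hom B x hx
  obtain ⟨z, hz⟩ := exists_mem_Lin a B c h2
  refine ⟨r, k, a, μ, toKer α a μ y h1, z, toKer_ι α a μ y h1, ?_⟩
  apply PresheafOfModules.injective_of_mono (kernel.ι ((underline A).map α)) (pt B)
  have h4 := congr(($(toKer_ι α a μ y h1)).app (pt B) z)
  refine h4.trans ?_
  change (lc μ).baseChange B (((kernel.ι ((underline A).map (matHom a))).app (pt B)).hom z) = x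
  rw [hz, baseChange_lc_cvec, h3]

theorem exists_epi_of_adequate (F : MVF A) (hF : adequate A F) :
    ∃ (ι : Type (u + 1)) (L : ι → MVF A), (∀ i, linAdequate A (L i)) ∧
      ∃ (c : Cofan L) (_ : IsColimit c) (π : c.pt ⟶ F), Epi π := by
  obtain ⟨M, N, α, ⟨e⟩⟩ := hF
  let K := kernel ((underline A).map α)
  let I : Type (u + 1) := Σ B : Alg A, K.obj (pt B)
  choose r k a μ t z ht hz using fun i : I => exists_lin_hit α i.1 i.2
  let L : I → MVF A := fun i => Lin (a i)
  refine ⟨I, L, fun i => linAdequate_Lin (a i), Cofan.mk (∐ L) (Sigma.ι L),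
    coproductIsCoproduct L, Sigma.desc (fun i => t i ≫ e.inv), ?_⟩
  apply PresheafOfModules.epi_of_surjective
  intro X η
  let B : Alg A := X.unop.unop
  let ξ : K.obj (pt B) := (e.hom.app (pt B)).hom η
  let i : I := ⟨B, ξ⟩
  refine ⟨((Sigma.ι L i).app (pt B)).hom (z i), ?_⟩
  have h1 : Sigma.ι L i ≫ Sigma.desc (fun i => t i ≫ e.inv) = t i ≫ e.inv := Sigma.ι_desc _ _
  have h2 := congr(($h1).app (pt B) (z i))
  refine h2.trans ?_
  change (e.inv.app (pt B)).hom (((t i).app (pt B)).hom (z i)) = η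
  rw [hz i]
  have := congr(($(e.hom_inv_id)).app (pt B) η)
  exact this

end Groth.Agent.Helper23.Adq
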