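import Mathlib
import Groth.Agent.Lib.Helper23.Adq3
set_option autoImplicit false
universe u
open CategoryTheory CategoryTheory.Limits TensorProduct Opposite

namespace Groth.Agent.Helper23.Adq

open Adeq

variable {A : Type u} [CommRing A]

lemma naturality_apply {F G : MVF A} (φ : F ⟶ G) {B B' : Alg A} (f : B ⟶ B')
    (z : F.obj (pt B)) :
    (φ.app (pt B')).hom ((F.map (ptHom f)).hom z) =
      (G.map (ptHom f)).hom ((φ.app (pt B)).hom z) :=
  PresheafOfModules.naturality_apply φ (ptHom f) z

lemma rTensor_cvec {r : ℕ} {B B' : Alg A} (f : B ⟶ B') (c : Fin r → B) :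
    (f.hom.toLinearMap.rTensor (Fin r → ULift.{u + 1} A)) (cvec B c) =
      cvec B' (fun l => f.hom (c l)) := by
  simp [cvec, map_sum]

/-- coordinate functionals on `B ⊗ Fr A r`. -/
noncomputable def coordB {r : ℕ} (B : Alg A) (l : Fin r) :
    (B : Type u) ⊗[A] (Fin r → ULift.{u + 1} A) →ₗ[A] B :=
  (TensorProduct.rid A B).toLinearMap ∘ₗ
    LinearMap.lTensor B (ULift.moduleEquiv.toLinearMap ∘ₗ LinearMap.proj l)

lemma coordB_tmul {r : ℕ} (B : Alg A) (l : Fin r) (b : B) (v : Fin r → ULift.{u + 1} A) :
    coordB B l (b ⊗ₜ[A] v) = (v l).down • b := by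
  simp [coordB]

lemma coordB_cvec {r : ℕ} (B : Alg A) (c : Fin r → B) (l : Fin r) :
    coordB B l (cvec B c) = c l := by
  rw [cvec, map_sum]
  simp only [coordB_tmul]
  rw [Finset.sum_eq_single l]
  · simp [bv]
  · intro l' _ hne
    simp [bv, hne.symm]
  · intro h; exact absurd (Finset.mem_univ l) h

lemma exists_cvec {r : ℕ} (B : Alg A) (x : (B : Type u) ⊗[A] (Fin r → ULift.{u + 1} A)) :
    ∃ c : Fin r → B, x = cvec B c := by
  induction x using TensorProduct.induction_on with
  | zero => exact ⟨0, by simp [cvec]⟩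
  | tmul b v =>
    refine ⟨fun l => (v l).down • b, ?_⟩
    have hv : v = ∑ l, (v l).down • bv A l := by
      have := lc_apply (A := A) (fun l => bv A l) v
      rw [← this]
      have h2 : lc (A := A) (fun l : Fin r => bv A l) = LinearMap.id := by
        apply ext_Fr
        intro l
        rw [lc_bv]; rfl
      rw [h2]; rfl
    conv_lhs => rw [hv]
    simp only [cvec, TensorProduct.tmul_sum, TensorProduct.tmul_smul, TensorProduct.smul_tmul']
  | add x y hx hy =>
    obtain ⟨c, rfl⟩ := hx
    obtain ⟨d, rfl⟩ := hy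
    refine ⟨c + d, ?_⟩
    simp [cvec, TensorProduct.add_tmul, Finset.sum_add_distrib]

lemma matHom_baseChange_cvec {r k : ℕ} (a : Fin r → Fin k → A) (B : Alg A) (c : Fin r → B) :
    (matHom a).hom.baseChange B (cvec B c) = cvec B (fun j => ∑ l, a l j • c l) := by
  have : (matHom a).hom = lc (fun l => ∑ j, a l j • bv A j) := rfl
  rw [this, baseChange_lc_cvec]
  simp only [TensorProduct.tmul_sum, TensorProduct.tmul_smul]
  rw [Finset.sum_comm]
  simp only [cvec, TensorProduct.sum_tmul, TensorProduct.smul_tmul']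

lemma cvec_injective {r : ℕ} (B : Alg A) (c d : Fin r → B) (h : cvec B c = cvec B d) : c = d := by
  funext l
  rw [← coordB_cvec B c l, ← coordB_cvec B d l, h]

/-- coordinates of an element of `Lin a`. -/
lemma exists_coords_Lin {r k : ℕ} (a : Fin r → Fin k → A) (B : Alg A) (z : (Lin a).obj (pt B)) :
    ∃ c : Fin r → B, ((kernel.ι ((underline A).map (matHom a))).app (pt B)).hom z = cvec B c ∧
      ∀ j, ∑ l, a l j • c l = 0 := by
  obtain ⟨c, hc⟩ := exists_cvec B (((kernel.ι ((underline A).map (matHom a))).app (pt B)).hom z)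
  refine ⟨c, hc, ?_⟩
  have h1 : (matHom a).hom.baseChange B
      (((kernel.ι ((underline A).map (matHom a))).app (pt B)).hom z) = 0 := by
    have := congr(($(kernel.condition ((underline A).map (matHom a)))).app (pt B) z)
    exact this
  rw [hc, matHom_baseChange_cvec] at h1
  have h2 : cvec B (fun j => ∑ l, a l j • c l) = cvec B (fun _ => 0) := by
    rw [h1]; simp [cvec]
  intro j
  exact congrFun (cvec_injective B _ _ h2) j

lemma Lin_ext {r k : ℕ} (a : Fin r → Fin k → A) (B : Alg A) (z z' : (Lin a).obj (pt B))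
    (h : ((kernel.ι ((underline A).map (matHom a))).app (pt B)).hom z =
      ((kernel.ι ((underline A).map (matHom a))).app (pt B)).hom z') : z = z' :=
  PresheafOfModules.injective_of_mono (kernel.ι ((underline A).map (matHom a))) (pt B) h

lemma Lin_map_coords {r k : ℕ} (a : Fin r → Fin k → A) {B B' : Alg A} (f : B ⟶ B')
    (z : (Lin a).obj (pt B)) (c : Fin r → B)
    (hz : ((kernel.ι ((underline A).map (matHom a))).app (pt B)).hom z = cvec B c) :
    ((kernel.ι ((underline A).map (matHom a))).app (pt B')).hom (((Lin a).map (ptHom f)).hom z) =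
      cvec B' (fun l => f.hom (c l)) := by
  rw [naturality_apply, hz, underline_obj_map_apply, rTensor_cvec]

end Groth.Agent.Helper23.Adq
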