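import Mathlib
import Groth.Agent.Lib.Helper23.Adq4
set_option autoImplicit false
universe u
open CategoryTheory CategoryTheory.Limits TensorProduct Opposite

namespace Groth.Agent.Helper23.Adq

open Adeq

variable {A : Type u} [CommRing A]

section Univ

variable {r k : ℕ} (a : Fin r → Fin k → A)

/-- the module corepresenting first-order elements of `Lin a`. -/
abbrev Qm : Type u := (Fin r → A) ⧸ Submodule.span A (Set.range fun j : Fin k => fun l => a l j)

/-- generators of `Qm a`. -/
def qv (l : Fin r) : Qm a :=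
  (Submodule.span A (Set.range fun j : Fin k => fun l => a l j)).mkQ (Pi.single l 1)

lemma sum_smul_single (x : Fin r → A) : ∑ l, x l • (Pi.single l (1 : A) : Fin r → A) = x := by
  funext l'
  simp [Finset.sum_apply, Pi.single_apply]

lemma qv_rel (j : Fin k) : ∑ l, a l j • qv a l = 0 := by
  have : ∑ l, a l j • qv a l =
      (Submodule.span A (Set.range fun j : Fin k => fun l => a l j)).mkQ (fun l => a l j) := by
    simp only [qv, ← map_smul, ← map_sum]
    rw [sum_smul_single]
  rw [this, Submodule.mkQ_apply, Submodule.Quotient.mk_eq_zero]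
  exact Submodule.subset_span ⟨j, rfl⟩

lemma exists_qv (q : Qm a) : ∃ x : Fin r → A, q = ∑ l, x l • qv a l := by
  obtain ⟨x, rfl⟩ := Submodule.Quotient.mk_surjective _ q
  refine ⟨x, ?_⟩
  simp only [qv, ← map_smul, ← map_sum]
  rw [sum_smul_single]
  rfl

/-- maps out of `Qm a`. -/
def liftQ {E : Type*} [AddCommGroup E] [Module A E] (e : Fin r → E)
    (he : ∀ j, ∑ l, a l j • e l = 0) : Qm a →ₗ[A] E :=
  Submodule.liftQ _ (Fintype.linearCombination A e) (by
    rw [Submodule.span_le]
    rintro _ ⟨j, rfl⟩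
    simp [Fintype.linearCombination_apply, he])

lemma liftQ_qv {E : Type*} [AddCommGroup E] [Module A E] (e : Fin r → E)
    (he : ∀ j, ∑ l, a l j • e l = 0) (l : Fin r) : liftQ a e he (qv a l) = e l := by
  simp [liftQ, qv, Fintype.linearCombination_apply, Pi.single_apply]

lemma exists_sum_qv {M : Type*} [AddCommGroup M] [Module A M] (x : Qm a ⊗[A] M) :
    ∃ g : Fin r → M, x = ∑ l, qv a l ⊗ₜ[A] g l := by
  induction x using TensorProduct.induction_on with
  | zero => exact ⟨0, by simp⟩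
  | tmul q m =>
    obtain ⟨x, rfl⟩ := exists_qv a q
    refine ⟨fun l => x l • m, ?_⟩
    simp only [TensorProduct.sum_tmul, TensorProduct.smul_tmul]
  | add x y hx hy =>
    obtain ⟨g, rfl⟩ := hx
    obtain ⟨g', rfl⟩ := hy
    refine ⟨g + g', ?_⟩
    simp [TensorProduct.tmul_add, Finset.sum_add_distrib]

end Univ

end Groth.Agent.Helper23.Adq

namespace Groth.Agent.Helper23.Adq

open Adeq

variable {A : Type u} [CommRing A]

/-- the retraction used at the end of the extension lemma. -/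
lemma snd_eps_incl {B : Type u} [CommRing B] [Algebra A B] {M : Type*} [AddCommGroup M]
    [Module A M] (w : B ⊗[A] M) :
    (((TrivSqZeroExt.sndHom B B).restrictScalars A).rTensor M)
      ((TrivSqZeroExt.inr (1 : B) : TrivSqZeroExt B B) •
        ((TrivSqZeroExt.inlAlgHom A B B).toLinearMap.rTensor M) w) = w := by
  induction w using TensorProduct.induction_on with
  | zero => simp
  | tmul b m =>
    simp [TensorProduct.smul_tmul']
  | add x y hx hy =>
    rw [map_add, smul_add, map_add, hx, hy]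

theorem extend_Lin {r k : ℕ} (a : Fin r → Fin k → A) (M : ModuleCat.{u + 1} A)
    (φ : Lin a ⟶ (underline A).obj M) :
    ∃ g : Fin r → M, ∀ (B : Alg A) (z : (Lin a).obj (pt B)) (c : Fin r → B),
      ((kernel.ι ((underline A).map (matHom a))).app (pt B)).hom z = cvec B c →
      (φ.app (pt B)).hom z = ∑ l, c l ⊗ₜ[A] g l := by
  classical
  let TQ : Alg A := algOf A (TrivSqZeroExt A (Qm a))
  let c1 : Fin r → TQ := fun l => TrivSqZeroExt.inr (qv a l)
  have hc1 : ∀ j, ∑ l, a l j • c1 l = 0 := by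
    intro j
    have : ∑ l, a l j • c1 l = TrivSqZeroExt.inr (∑ l, a l j • qv a l) := by
      simp only [c1, TrivSqZeroExt.inr_sum, TrivSqZeroExt.inr_smul]
    rw [this, qv_rel, TrivSqZeroExt.inr_zero]
  obtain ⟨u1, hu1⟩ := exists_mem_Lin a TQ c1 hc1
  set η : (TQ : Type u) ⊗[A] M := (φ.app (pt TQ)).hom u1 with hη
  let fstA : TQ ⟶ algOf A A := CommAlgCat.ofHom (TrivSqZeroExt.fstHom A A (Qm a))
  have h0 : (((Lin a).map (ptHom fstA)).hom u1 : (Lin a).obj (pt (algOf A A))) = 0 := by
    refine Lin_ext a (algOf A A) _ _ ?_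
    refine (Lin_map_coords a fstA u1 c1 hu1).trans ?_
    refine Eq.trans ?_
      (map_zero ((kernel.ι ((underline A).map (matHom a))).app (pt (algOf A A))).hom).symm
    have hf : ∀ l, fstA.hom (c1 l) = 0 := fun l => TrivSqZeroExt.fst_inr A (qv a l)
    simp only [cvec, hf, TensorProduct.zero_tmul, Finset.sum_const_zero]
    rfl
  have h1 : (fstA.hom.toLinearMap.rTensor M) η = 0 := by
    have h := naturality_apply φ fstA u1
    have h' : (φ.app (pt (algOf A A))).hom (((Lin a).map (ptHom fstA)).hom u1) = 0 :=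
      (congrArg (φ.app (pt (algOf A A))).hom h0).trans (map_zero _)
    exact h.symm.trans h'
  have hdec : (LinearMap.id : TrivSqZeroExt A (Qm a) →ₗ[A] TrivSqZeroExt A (Qm a)) =
      (TrivSqZeroExt.inlAlgHom A A (Qm a)).toLinearMap ∘ₗ
        (TrivSqZeroExt.fstHom A A (Qm a)).toLinearMap +
      (TrivSqZeroExt.inrHom A (Qm a)) ∘ₗ (TrivSqZeroExt.sndHom A (Qm a)) := by
    ext x
    · simp
    · simp
  have h2 : η = ((TrivSqZeroExt.inrHom A (Qm a)).rTensor M)
      (((TrivSqZeroExt.sndHom A (Qm a)).rTensor M) η) := by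
    have h3 : η = ((LinearMap.id : TrivSqZeroExt A (Qm a) →ₗ[A] TrivSqZeroExt A (Qm a)).rTensor M) η := by
      rw [LinearMap.rTensor_id]; rfl
    conv_lhs => rw [h3, hdec, LinearMap.rTensor_add, LinearMap.add_apply, LinearMap.rTensor_comp,
      LinearMap.rTensor_comp, LinearMap.comp_apply, LinearMap.comp_apply]
    have h4 : ((TrivSqZeroExt.fstHom A A (Qm a)).toLinearMap.rTensor M) η = 0 := h1
    rw [h4, map_zero, zero_add]
  obtain ⟨g, hg⟩ := exists_sum_qv a (((TrivSqZeroExt.sndHom A (Qm a)).rTensor M) η)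
  have h5 : η = ∑ l, c1 l ⊗ₜ[A] g l := by
    rw [h2, hg, map_sum]
    simp [c1]
  refine ⟨g, ?_⟩
  intro B z c hz
  obtain ⟨c', hc', hrel⟩ := exists_coords_Lin a B z
  have hcc : c' = c := cvec_injective B _ _ (hc'.symm.trans hz)
  subst hcc
  let h : Qm a →ₗ[A] B := liftQ a c' hrel
  let Bε : Alg A := algOf A (TrivSqZeroExt B B)
  let τ₀ : TrivSqZeroExt A (Qm a) →ₐ[A] TrivSqZeroExt B B :=
    TrivSqZeroExt.lift (Algebra.ofId A (TrivSqZeroExt B B))
      (((TrivSqZeroExt.inrHom B B).restrictScalars A) ∘ₗ h)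
      (by intro x y; simp)
      (by
        intro s x
        change TrivSqZeroExt.inr (h (s • x)) =
          algebraMap A (TrivSqZeroExt B B) s * TrivSqZeroExt.inr (h x)
        rw [map_smul, TrivSqZeroExt.algebraMap_eq_inl', TrivSqZeroExt.inl_mul_inr,
          Algebra.smul_def, smul_eq_mul])
      (by
        intro s x
        change TrivSqZeroExt.inr (h (MulOpposite.op s • x)) =
          TrivSqZeroExt.inr (h x) * algebraMap A (TrivSqZeroExt B B) s
        rw [op_smul_eq_smul, mul_comm, map_smul, TrivSqZeroExt.algebraMap_eq_inl',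
          TrivSqZeroExt.inl_mul_inr, Algebra.smul_def, smul_eq_mul])
  have hτ₀ : ∀ q, τ₀ (TrivSqZeroExt.inr q) = TrivSqZeroExt.inr (h q) := by
    intro q
    simp [τ₀]
  let τ : TQ ⟶ Bε := CommAlgCat.ofHom τ₀
  let incl : B ⟶ Bε := CommAlgCat.ofHom (TrivSqZeroExt.inlAlgHom A B B)
  let ε : (Bε : Type u) := TrivSqZeroExt.inr (1 : B)
  have hτc : ∀ l, τ.hom (c1 l) = TrivSqZeroExt.inr (c' l) := by
    intro l
    change τ₀ (TrivSqZeroExt.inr (qv a l)) = _
    rw [hτ₀, liftQ_qv]
  have hz' : ((kernel.ι ((underline A).map (matHom a))).app (pt Bε)).hom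
      (((Lin a).map (ptHom τ)).hom u1) = cvec Bε (fun l => TrivSqZeroExt.inr (c' l)) := by
    refine (Lin_map_coords a τ u1 c1 hu1).trans ?_
    congr 1
    funext l
    exact hτc l
  have hz'' : ((kernel.ι ((underline A).map (matHom a))).app (pt Bε)).hom
      (((Lin a).map (ptHom incl)).hom z) = cvec Bε (fun l => TrivSqZeroExt.inl (c' l)) :=
    Lin_map_coords a incl z c' hz
  have heq : (ε • (((Lin a).map (ptHom incl)).hom z : (Lin a).obj (pt Bε)) :
      (Lin a).obj (pt Bε)) = ((Lin a).map (ptHom τ)).hom u1 := by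
    refine Lin_ext a Bε _ _ ?_
    refine Eq.trans (((kernel.ι ((underline A).map (matHom a))).app (pt Bε)).hom.map_smul ε _) ?_
    refine Eq.trans ?_ hz'.symm
    refine Eq.trans (congrArg (fun t => ε • t) hz'') ?_
    change ε • (cvec Bε (fun l => TrivSqZeroExt.inl (c' l)) :
      (Bε : Type u) ⊗[A] (Fin r → ULift.{u + 1} A)) = _
    simp only [cvec, Finset.smul_sum, TensorProduct.smul_tmul']
    refine Finset.sum_congr rfl fun l _ => ?_
    congr 1
    change (TrivSqZeroExt.inr (1 : B) : TrivSqZeroExt B B) * TrivSqZeroExt.inl (c' l) = _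
    rw [TrivSqZeroExt.inr_mul_inl]
    simp
  have hφ1 : (φ.app (pt Bε)).hom (((Lin a).map (ptHom τ)).hom u1) =
      ∑ l, (TrivSqZeroExt.inr (c' l) : TrivSqZeroExt B B) ⊗ₜ[A] g l := by
    refine (naturality_apply φ τ u1).trans ?_
    change (τ.hom.toLinearMap.rTensor M) η = _
    rw [h5, map_sum]
    refine Finset.sum_congr rfl fun l _ => ?_
    rw [LinearMap.rTensor_tmul]
    congr 1
    exact hτc l
  have hφ2 : (φ.app (pt Bε)).hom
      (ε • (((Lin a).map (ptHom incl)).hom z : (Lin a).obj (pt Bε)) : (Lin a).obj (pt Bε)) =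
      ε • ((incl.hom.toLinearMap.rTensor M) ((φ.app (pt B)).hom z) :
        (Bε : Type u) ⊗[A] M) := by
    refine ((φ.app (pt Bε)).hom.map_smul ε _).trans ?_
    congr 1
    exact naturality_apply φ incl z
  have h6 : ε • ((incl.hom.toLinearMap.rTensor M) ((φ.app (pt B)).hom z) :
        (Bε : Type u) ⊗[A] M) =
      ∑ l, (TrivSqZeroExt.inr (c' l) : TrivSqZeroExt B B) ⊗ₜ[A] g l :=
    hφ2.symm.trans ((congrArg (φ.app (pt Bε)).hom heq).trans hφ1)
  have key := snd_eps_incl (A := A) (B := B) (M := M) ((φ.app (pt B)).hom z)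
  rw [← key]
  refine (congrArg _ h6).trans ?_
  rw [map_sum]
  refine Finset.sum_congr rfl fun l _ => ?_
  rw [LinearMap.rTensor_tmul]
  rfl

end Groth.Agent.Helper23.Adq

namespace Groth.Agent.Helper23.Adq

open Adeq

variable {A : Type u} [CommRing A]

theorem extend_Lin_hom {r k : ℕ} (a : Fin r → Fin k → A) (M : ModuleCat.{u + 1} A)
    (φ : Lin a ⟶ (underline A).obj M) :
    ∃ g : Fr A r ⟶ M, kernel.ι ((underline A).map (matHom a)) ≫ (underline A).map g = φ := by
  obtain ⟨g, hg⟩ := extend_Lin a M φ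
  refine ⟨ModuleCat.ofHom (lc g), ?_⟩
  ext X z
  obtain ⟨c, hc, -⟩ := exists_coords_Lin a X.unop.unop z
  refine Eq.trans ?_ (hg X.unop.unop z c hc).symm
  change (lc g).baseChange X.unop.unop
    (((kernel.ι ((underline A).map (matHom a))).app X).hom z) = _
  have hc' : ((kernel.ι ((underline A).map (matHom a))).app X).hom z = cvec X.unop.unop c := hc
  rw [hc', baseChange_lc_cvec]

/-- transfer of the extension property along isomorphisms of the presenting map. -/
theorem extend_of_iso {P P' Q Q' : ModuleCat.{u + 1} A} (φ₀ : P ⟶ P') (ψ₀ : Q ⟶ Q')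
    (e : Q ≅ P) (e' : Q' ≅ P') (hcomm : e.hom ≫ φ₀ = ψ₀ ≫ e'.hom)
    (hext : ∀ (M : ModuleCat.{u + 1} A) (φ : kernel ((underline A).map ψ₀) ⟶ (underline A).obj M),
      ∃ g : Q ⟶ M, kernel.ι ((underline A).map ψ₀) ≫ (underline A).map g = φ)
    (M : ModuleCat.{u + 1} A) (φ : kernel ((underline A).map φ₀) ⟶ (underline A).obj M) :
    ∃ g : P ⟶ M, kernel.ι ((underline A).map φ₀) ≫ (underline A).map g = φ := by
  have hcomm' : e.inv ≫ ψ₀ = φ₀ ≫ e'.inv := by
    rw [Iso.inv_comp_eq, ← Category.assoc, hcomm, Category.assoc, Iso.hom_inv_id, Category.comp_id]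
  let κ : kernel ((underline A).map ψ₀) ⟶ kernel ((underline A).map φ₀) :=
    kernel.lift _ (kernel.ι _ ≫ (underline A).map e.hom) (by
      rw [Category.assoc, ← Functor.map_comp, hcomm, Functor.map_comp, kernel.condition_assoc,
        zero_comp])
  let κ' : kernel ((underline A).map φ₀) ⟶ kernel ((underline A).map ψ₀) :=
    kernel.lift _ (kernel.ι _ ≫ (underline A).map e.inv) (by
      rw [Category.assoc, ← Functor.map_comp, hcomm', Functor.map_comp, kernel.condition_assoc,
        zero_comp])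
  have hκ : κ ≫ kernel.ι _ = kernel.ι _ ≫ (underline A).map e.hom := kernel.lift_ι _ _ _
  have hκ' : κ' ≫ kernel.ι _ = kernel.ι _ ≫ (underline A).map e.inv := kernel.lift_ι _ _ _
  have h1 : κ' ≫ κ = 𝟙 _ := by
    rw [← cancel_mono (kernel.ι ((underline A).map φ₀)), Category.assoc, hκ, ← Category.assoc, hκ',
      Category.assoc, ← Functor.map_comp, Iso.inv_hom_id, CategoryTheory.Functor.map_id, Category.comp_id,
      Category.id_comp]
  obtain ⟨g', hg'⟩ := hext M (κ ≫ φ)
  refine ⟨e.inv ≫ g', ?_⟩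
  calc kernel.ι ((underline A).map φ₀) ≫ (underline A).map (e.inv ≫ g')
      = (κ' ≫ kernel.ι _) ≫ (underline A).map g' := by
        rw [hκ', Functor.map_comp, Category.assoc]
    _ = κ' ≫ (κ ≫ φ) := by rw [Category.assoc, hg']
    _ = φ := by rw [← Category.assoc, h1, Category.id_comp]

lemma Fr_decomp {r : ℕ} (v : Fin r → ULift.{u + 1} A) : v = ∑ l, (v l).down • bv A l := by
  have := lc_apply (A := A) (fun l => bv A l) v
  rw [← this]
  have h2 : lc (A := A) (fun l : Fin r => bv A l) = LinearMap.id := by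
    apply ext_Fr
    intro l
    rw [lc_bv]; rfl
  rw [h2]; rfl

/-- a finite free module is isomorphic to a standard one. -/
theorem exists_iso_Fr (P : ModuleCat.{u + 1} A) [Module.Finite A P] [Module.Free A P] :
    ∃ (n : ℕ), Nonempty (Fr A n ≅ P) := by
  classical
  let b := Module.Free.chooseBasis A P
  let n := Fintype.card (Module.Free.ChooseBasisIndex A P)
  let b' : Module.Basis (Fin n) A P := b.reindex (Fintype.equivFin _)
  let e1 : (Fin n → ULift.{u + 1} A) ≃ₗ[A] (Fin n → A) :=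
    LinearEquiv.piCongrRight (fun _ => ULift.moduleEquiv)
  exact ⟨n, ⟨(e1.trans b'.equivFun.symm).toModuleIso⟩⟩

/-- The extension lemma (S8742). -/
theorem extend_finite_free (P P' M : ModuleCat.{u + 1} A)
    [Module.Finite A P] [Module.Free A P] [Module.Finite A P'] [Module.Free A P'] (φ₀ : P ⟶ P')
    (φ : kernel ((underline A).map φ₀) ⟶ (underline A).obj M) :
    ∃ g : P ⟶ M, kernel.ι ((underline A).map φ₀) ≫ (underline A).map g = φ := by
  obtain ⟨n, ⟨e⟩⟩ := exists_iso_Fr P
  obtain ⟨k, ⟨e'⟩⟩ := exists_iso_Fr P'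
  let a : Fin n → Fin k → A := fun l j => ((e'.inv.hom (φ₀.hom (e.hom.hom (bv A l)))) j).down
  refine extend_of_iso φ₀ (matHom a) e e' ?_ (fun M φ => extend_Lin_hom a M φ) M φ
  ext : 1
  apply ext_Fr
  intro l
  change φ₀.hom (e.hom.hom (bv A l)) = e'.hom.hom ((matHom a).hom (bv A l))
  rw [matHom_bv]
  have h1 := Fr_decomp (e'.inv.hom (φ₀.hom (e.hom.hom (bv A l))))
  have h2 : e'.hom.hom (e'.inv.hom (φ₀.hom (e.hom.hom (bv A l)))) = φ₀.hom (e.hom.hom (bv A l)) := by
    have := congr(($(e'.inv_hom_id)).hom (φ₀.hom (e.hom.hom (bv A l))))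
    exact this
  rw [← h2]
  congr 1

end Groth.Agent.Helper23.Adq
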