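import Mathlib
import Groth.Agent.Lib.Helper23.Adq5
set_option autoImplicit false
universe u
open CategoryTheory CategoryTheory.Limits TensorProduct Opposite

namespace Groth.Agent.Helper23.Adq

open Adeq

variable {A : Type u} [CommRing A]

lemma baseChange_comp_apply {M N P : Type*} [AddCommGroup M] [Module A M] [AddCommGroup N]
    [Module A N] [AddCommGroup P] [Module A P] (B : Type*) [CommRing B] [Algebra A B]
    (f : M →ₗ[A] N) (g : N →ₗ[A] P) (x : B ⊗[A] M) :
    (g ∘ₗ f).baseChange B x = g.baseChange B (f.baseChange B x) := by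
  rw [LinearMap.baseChange_comp]; rfl

/-- cokernel criterion. -/
theorem adequate_coker_of_exact {F : MVF A} {M Q C : ModuleCat.{u + 1} A}
    (φ : F ⟶ (underline A).obj M) (δ : M ⟶ Q) (γ : Q ⟶ C)
    (h1 : ∀ (B : Alg A) (ξ : F.obj (pt B)), δ.hom.baseChange B ((φ.app (pt B)).hom ξ) = 0)
    (h2 : ∀ (B : Alg A) (x : (B : Type u) ⊗[A] M), δ.hom.baseChange B x = 0 →
      ∃ ξ, (φ.app (pt B)).hom ξ = x)
    (h3 : ∀ (B : Alg A) (x : (B : Type u) ⊗[A] M),
      γ.hom.baseChange B (δ.hom.baseChange B x) = 0)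
    (h4 : ∀ (B : Alg A) (y : (B : Type u) ⊗[A] Q), γ.hom.baseChange B y = 0 →
      ∃ x, δ.hom.baseChange B x = y) :
    adequate A (cokernel φ) := by
  have w : φ ≫ (underline A).map δ = 0 := by
    ext X ξ
    exact h1 X.unop.unop ξ
  let d : cokernel φ ⟶ (underline A).obj Q := cokernel.desc φ ((underline A).map δ) w
  have hd : cokernel.π φ ≫ d = (underline A).map δ := cokernel.π_desc _ _ _
  have hsurj : ∀ (B : Alg A) (c : (cokernel φ).obj (pt B)), ∃ x : (B : Type u) ⊗[A] M,
      ((cokernel.π φ).app (pt B)).hom x = c := fun B c =>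
    PresheafOfModules.surjective_of_epi (cokernel.π φ) (pt B) c
  have hdx : ∀ (B : Alg A) (x : (B : Type u) ⊗[A] M),
      (d.app (pt B)).hom (((cokernel.π φ).app (pt B)).hom x) = δ.hom.baseChange B x := by
    intro B x
    have := congr(($hd).app (pt B) x)
    exact this
  refine adequate_of_exact γ d ?_ ?_ ?_
  · intro B
    rw [injective_iff_map_eq_zero]
    intro c hc
    obtain ⟨x, rfl⟩ := hsurj B c
    rw [hdx] at hc
    obtain ⟨ξ, rfl⟩ := h2 B x hc
    have := congr(($(cokernel.condition φ)).app (pt B) ξ)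
    exact this
  · intro B c
    obtain ⟨x, rfl⟩ := hsurj B c
    rw [hdx]
    exact h3 B x
  · intro B y hy
    obtain ⟨x, rfl⟩ := h4 B y hy
    exact ⟨((cokernel.π φ).app (pt B)).hom x, hdx B x⟩

end Groth.Agent.Helper23.Adq

namespace Groth.Agent.Helper23.Adq

open Adeq

variable {A : Type u} [CommRing A]

lemma baseChange_exact {M N P : Type*} [AddCommGroup M] [Module A M] [AddCommGroup N]
    [Module A N] [AddCommGroup P] [Module A P] (B : Type*) [CommRing B] [Algebra A B]
    {f : M →ₗ[A] N} {g : N →ₗ[A] P} (hfg : Function.Exact f g) (hg : Function.Surjective g)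
    (y : B ⊗[A] N) (hy : g.baseChange B y = 0) : ∃ x, f.baseChange B x = y := by
  have h := lTensor_exact B hfg hg
  have hy' : (g.lTensor B) y = 0 := hy
  obtain ⟨x, hx⟩ := (h y).1 hy'
  exact ⟨x, hx⟩

/-- cokernel of a map to `underline M` which is "presented" by `(α, g)`: auxiliary form. -/
theorem adequate_coker_of_pres_aux {F : MVF A} {M P₁ P₂ : ModuleCat.{u + 1} A}
    {Q C : Type (u + 1)} [AddCommGroup Q] [Module A Q] [AddCommGroup C] [Module A C]
    (φ : F ⟶ (underline A).obj M) (α : P₁ ⟶ P₂) (g : P₁ ⟶ M)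
    (q : (M × P₂) →ₗ[A] Q) (γ : Q →ₗ[A] C)
    (hpq : Function.Exact (LinearMap.prod g.hom (-α.hom)) q) (hq : Function.Surjective q)
    (hδγ : Function.Exact (q ∘ₗ LinearMap.inl A M P₂) γ) (hγ : Function.Surjective γ)
    (ha : ∀ (B : Alg A) (ξ : F.obj (pt B)), ∃ y : (B : Type u) ⊗[A] P₁,
      α.hom.baseChange B y = 0 ∧ g.hom.baseChange B y = (φ.app (pt B)).hom ξ)
    (hb : ∀ (B : Alg A) (y : (B : Type u) ⊗[A] P₁), α.hom.baseChange B y = 0 →
      ∃ ξ, (φ.app (pt B)).hom ξ = g.hom.baseChange B y) :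
    adequate A (cokernel φ) := by
  set p : P₁ →ₗ[A] (M × P₂) := LinearMap.prod g.hom (-α.hom) with hpdef
  set δ : M →ₗ[A] Q := q ∘ₗ LinearMap.inl A M P₂ with hδdef
  have hqp : q ∘ₗ p = 0 := hpq.linearMap_comp_eq_zero
  have hγδ : γ ∘ₗ δ = 0 := hδγ.linearMap_comp_eq_zero
  have key : δ ∘ₗ g.hom = (q ∘ₗ LinearMap.inr A M P₂) ∘ₗ α.hom := by
    have hp : p = LinearMap.inl A M P₂ ∘ₗ g.hom - LinearMap.inr A M P₂ ∘ₗ α.hom := by
      ext x <;> simp [p]
    have := hqp
    rw [hp, LinearMap.comp_sub, sub_eq_zero] at this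
    rw [LinearMap.comp_assoc, LinearMap.comp_assoc]
    exact this
  refine adequate_coker_of_exact (Q := ModuleCat.of A Q) (C := ModuleCat.of A C) φ
    (ModuleCat.ofHom δ) (ModuleCat.ofHom γ) ?_ ?_ ?_ ?_
  · intro B ξ
    obtain ⟨y, hy1, hy2⟩ := ha B ξ
    change δ.baseChange B _ = 0
    rw [← hy2, ← baseChange_comp_apply, key, baseChange_comp_apply, hy1, map_zero]
  · intro B x hx
    have hx' : q.baseChange B ((LinearMap.inl A M P₂).baseChange B x) = 0 := by
      rw [← baseChange_comp_apply]; exact hx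
    obtain ⟨y, hy⟩ := baseChange_exact B hpq hq _ hx'
    have e1 : g.hom.baseChange B y = x := by
      have := congrArg ((LinearMap.fst A M P₂).baseChange B) hy
      rw [← baseChange_comp_apply, ← baseChange_comp_apply] at this
      have h1 : LinearMap.fst A M P₂ ∘ₗ p = g.hom := by ext x; simp [p]
      have h2 : LinearMap.fst A M P₂ ∘ₗ LinearMap.inl A M P₂ = LinearMap.id := by ext x; simp
      rw [h1, h2, LinearMap.baseChange_id] at this
      exact this
    have e2 : α.hom.baseChange B y = 0 := by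
      have := congrArg ((LinearMap.snd A M P₂).baseChange B) hy
      rw [← baseChange_comp_apply, ← baseChange_comp_apply] at this
      have h1 : LinearMap.snd A M P₂ ∘ₗ p = -α.hom := by ext x; simp [p]
      have h2 : LinearMap.snd A M P₂ ∘ₗ LinearMap.inl A M P₂ = 0 := by ext x; simp
      rw [h1, h2, LinearMap.baseChange_zero, LinearMap.baseChange_neg] at this
      simpa using this
    obtain ⟨ξ, hξ⟩ := hb B y e2
    exact ⟨ξ, hξ.trans e1⟩
  · intro B x
    change γ.baseChange B (δ.baseChange B x) = 0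
    rw [← baseChange_comp_apply, hγδ, LinearMap.baseChange_zero]
    rfl
  · intro B y hy
    exact baseChange_exact B hδγ hγ y hy

/-- cokernel of a map to `underline M` which is "presented" by `(α, g)`. -/
theorem adequate_coker_of_pres {F : MVF A} {M P₁ P₂ : ModuleCat.{u + 1} A}
    (φ : F ⟶ (underline A).obj M) (α : P₁ ⟶ P₂) (g : P₁ ⟶ M)
    (ha : ∀ (B : Alg A) (ξ : F.obj (pt B)), ∃ y : (B : Type u) ⊗[A] P₁,
      α.hom.baseChange B y = 0 ∧ g.hom.baseChange B y = (φ.app (pt B)).hom ξ)
    (hb : ∀ (B : Alg A) (y : (B : Type u) ⊗[A] P₁), α.hom.baseChange B y = 0 →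
      ∃ ξ, (φ.app (pt B)).hom ξ = g.hom.baseChange B y) :
    adequate A (cokernel φ) :=
  adequate_coker_of_pres_aux φ α g
    (LinearMap.range (LinearMap.prod g.hom (-α.hom))).mkQ
    (LinearMap.range ((LinearMap.range (LinearMap.prod g.hom (-α.hom))).mkQ ∘ₗ
      LinearMap.inl A M P₂)).mkQ
    (LinearMap.exact_map_mkQ_range _) (Submodule.mkQ_surjective _)
    (LinearMap.exact_map_mkQ_range _) (Submodule.mkQ_surjective _) ha hb

/-- cokernel of `ker(underline α) → underline P₁ → underline M`. -/
theorem adequate_coker_ker {M P₁ P₂ : ModuleCat.{u + 1} A} (α : P₁ ⟶ P₂) (g : P₁ ⟶ M) :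
    adequate A (cokernel (kernel.ι ((underline A).map α) ≫ (underline A).map g)) := by
  refine adequate_coker_of_pres _ α g ?_ ?_
  · intro B ξ
    refine ⟨((kernel.ι ((underline A).map α)).app (pt B)).hom ξ, ?_, rfl⟩
    have := congr(($(kernel.condition ((underline A).map α))).app (pt B) ξ)
    exact this
  · intro B y hy
    have hS : (ShortComplex.mk (kernel.ι ((underline A).map α)) ((underline A).map α)
        (kernel.condition _)).Exact :=
      ShortComplex.exact_of_f_is_kernel _ (kernelIsKernel _)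
    obtain ⟨ξ, hξ⟩ := exact_app hS B y hy
    refine ⟨ξ, ?_⟩
    change g.hom.baseChange B (((kernel.ι ((underline A).map α)).app (pt B)).hom ξ) = _
    rw [hξ]

end Groth.Agent.Helper23.Adq

namespace Groth.Agent.Helper23.Adq

open Adeq DirectSum

variable {A : Type u} [CommRing A]

/-- finite decomposition of elements of `B ⊗ ⨁ N i`. -/
lemma exists_finset_decomp {I : Type*} [DecidableEq I] (N : I → Type*)
    [∀ i, AddCommGroup (N i)] [∀ i, Module A (N i)]
    (B : Type*) [CommRing B] [Algebra A B] (y : B ⊗[A] (⨁ i, N i)) :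
    ∃ s : Finset I, ∀ s' : Finset I, s ⊆ s' → y = ∑ i ∈ s', (DirectSum.lof A I N i).baseChange B
      ((DirectSum.component A I N i).baseChange B y) := by
  classical
  induction y using TensorProduct.induction_on with
  | zero => exact ⟨∅, fun s' _ => by simp⟩
  | tmul b v =>
    refine ⟨DFinsupp.support v, fun s' hs' => ?_⟩
    simp only [LinearMap.baseChange_tmul]
    rw [← TensorProduct.tmul_sum]
    congr 1
    have h1 : ∑ i ∈ DFinsupp.support v, DirectSum.lof A I N i (DirectSum.component A I N i v) = v :=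
      DirectSum.sum_support_of v
    rw [← Finset.sum_subset hs' (f := fun i => DirectSum.lof A I N i (DirectSum.component A I N i v))]
    · exact h1.symm
    · intro i _ hi
      have : v i = 0 := by simpa [DFinsupp.mem_support_iff] using hi
      change DirectSum.lof A I N i (v i) = 0
      rw [this, map_zero]
  | add x y hx hy =>
    obtain ⟨s₁, h₁⟩ := hx
    obtain ⟨s₂, h₂⟩ := hy
    refine ⟨s₁ ∪ s₂, fun s' hs' => ?_⟩
    have e1 := h₁ s' (Finset.union_subset_left hs')
    have e2 := h₂ s' (Finset.union_subset_right hs')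
    simp only [map_add, Finset.sum_add_distrib]
    rw [← e1, ← e2]

theorem adequate_coker_underline {F : MVF A} (hF : adequate A F) {M : ModuleCat.{u + 1} A}
    (φ : F ⟶ (underline A).obj M) : adequate A (cokernel φ) := by
  classical
  obtain ⟨M₁, N₁, β, ⟨e⟩⟩ := hF
  let K := kernel ((underline A).map β)
  let I : Type (u + 1) := Σ B : Alg A, K.obj (pt B)
  choose r k a μ t z ht hz using fun i : I => exists_lin_hit β i.1 i.2
  let ψ : ∀ i : I, Lin (a i) ⟶ (underline A).obj M := fun i => t i ≫ e.inv ≫ φ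
  choose g hg using fun i : I => extend_Lin_hom (a i) M (ψ i)
  let N : I → Type (u + 1) := fun i => (Fin (r i) → ULift.{u + 1} A)
  let N' : I → Type (u + 1) := fun i => (Fin (k i) → ULift.{u + 1} A)
  let P₁ : ModuleCat.{u + 1} A := ModuleCat.of A (⨁ i, N i)
  let P₂ : ModuleCat.{u + 1} A := ModuleCat.of A (⨁ i, N' i)
  let α₀ : (⨁ i, N i) →ₗ[A] (⨁ i, N' i) := DirectSum.lmap (fun i => (matHom (a i)).hom)
  let g₀ : (⨁ i, N i) →ₗ[A] M := DirectSum.toModule A I M (fun i => (g i).hom)
  have hα_lof : ∀ i, α₀ ∘ₗ DirectSum.lof A I N i =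
      DirectSum.lof A I N' i ∘ₗ (matHom (a i)).hom := by
    intro i
    refine LinearMap.ext fun x => ?_
    simp [α₀]
  have hg_lof : ∀ i, g₀ ∘ₗ DirectSum.lof A I N i = (g i).hom := by
    intro i
    refine LinearMap.ext fun x => ?_
    simp [g₀]
  have hα_comp : ∀ i, DirectSum.component A I N' i ∘ₗ α₀ =
      (matHom (a i)).hom ∘ₗ DirectSum.component A I N i := by
    intro i
    refine LinearMap.ext fun x => ?_
    rfl
  have hψ : ∀ (i : I) (B : Alg A) (w : (Lin (a i)).obj (pt B)),
      (g i).hom.baseChange B (((kernel.ι ((underline A).map (matHom (a i)))).app (pt B)).hom w) =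
        (φ.app (pt B)).hom ((e.inv.app (pt B)).hom (((t i).app (pt B)).hom w)) := by
    intro i B w
    have := congr(($(hg i)).app (pt B) w)
    exact this
  refine adequate_coker_of_pres (P₁ := P₁) (P₂ := P₂) φ (ModuleCat.ofHom α₀) (ModuleCat.ofHom g₀)
    ?_ ?_
  · intro B ξ
    let i : I := ⟨B, (e.hom.app (pt B)).hom ξ⟩
    let x : (B : Type u) ⊗[A] N i :=
      ((kernel.ι ((underline A).map (matHom (a i)))).app (pt B)).hom (z i)
    have hx : (matHom (a i)).hom.baseChange B x = 0 := by
      have := congr(($(kernel.condition ((underline A).map (matHom (a i))))).app (pt B) (z i))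
      exact this
    refine ⟨(DirectSum.lof A I N i).baseChange B x, ?_, ?_⟩
    · change α₀.baseChange B _ = 0
      rw [← baseChange_comp_apply, hα_lof, baseChange_comp_apply, hx, map_zero]
    · change g₀.baseChange B _ = _
      rw [← baseChange_comp_apply, hg_lof, hψ i B (z i), hz i]
      congr 1
      have := congr(($(e.hom_inv_id)).app (pt B) ξ)
      exact this
  · intro B y hy
    have hy' : α₀.baseChange B y = 0 := hy
    have h1 : ∀ i, ∃ w : (Lin (a i)).obj (pt B),
        ((kernel.ι ((underline A).map (matHom (a i)))).app (pt B)).hom w =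
          (DirectSum.component A I N i).baseChange B y := by
      intro i
      have hS : (ShortComplex.mk (kernel.ι ((underline A).map (matHom (a i))))
          ((underline A).map (matHom (a i))) (kernel.condition _)).Exact :=
        ShortComplex.exact_of_f_is_kernel _ (kernelIsKernel _)
      apply exact_app hS B
      change (matHom (a i)).hom.baseChange B ((DirectSum.component A I N i).baseChange B y) = 0
      rw [← baseChange_comp_apply, ← hα_comp, baseChange_comp_apply, hy', map_zero]
    choose w hw using h1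
    obtain ⟨s, hs⟩ := exists_finset_decomp (A := A) N B y
    have hs' := hs s (Finset.Subset.refl _)
    refine ⟨∑ i ∈ s, (e.inv.app (pt B)).hom (((t i).app (pt B)).hom (w i)), ?_⟩
    change _ = g₀.baseChange B y
    rw [map_sum]
    conv_rhs => rw [hs', map_sum]
    refine Finset.sum_congr rfl fun i _ => ?_
    rw [← hψ i B (w i), hw i]
    conv_rhs => rw [← baseChange_comp_apply, hg_lof]

end Groth.Agent.Helper23.Adq
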