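import Mathlib
import Groth.Agent.Lib.Helper23.Adq6
set_option autoImplicit false
universe u
open CategoryTheory CategoryTheory.Limits TensorProduct Opposite

namespace Groth.Agent.Helper23.Adq

open Adeq

variable {A : Type u} [CommRing A]

/-- `underline` is full. -/
theorem underline_full {M Q : ModuleCat.{u + 1} A}
    (ρ : (underline A).obj M ⟶ (underline A).obj Q) :
    ∃ h : M ⟶ Q, (underline A).map h = ρ := by
  let ρA : (A ⊗[A] M) →ₗ[A] (A ⊗[A] Q) := (ρ.app (pt (algOf A A))).hom
  let h₀ : M →ₗ[A] Q :=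
    (TensorProduct.lid A Q).toLinearMap ∘ₗ ρA ∘ₗ (TensorProduct.lid A M).symm.toLinearMap
  have h1 : ∀ m : M, ρA ((1 : A) ⊗ₜ[A] m) = (1 : A) ⊗ₜ[A] h₀ m := by
    intro m
    apply (TensorProduct.lid A Q).injective
    simp [h₀]
  refine ⟨ModuleCat.ofHom h₀, ?_⟩
  ext X x
  let B : Alg A := X.unop.unop
  let f : algOf A A ⟶ B := CommAlgCat.ofHom (Algebra.ofId A B)
  change h₀.baseChange B x = (ρ.app (pt B)).hom x
  induction x using TensorProduct.induction_on with
  | zero =>
    rw [map_zero]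
    exact (map_zero (ρ.app (pt B)).hom).symm
  | tmul b m =>
    have h2 : (b ⊗ₜ[A] m : (B : Type u) ⊗[A] M) =
        b • (f.hom.toLinearMap.rTensor M) ((1 : A) ⊗ₜ[A] m) := by
      rw [LinearMap.rTensor_tmul, TensorProduct.smul_tmul']
      simp
    have h3 : (ρ.app (pt B)).hom ((f.hom.toLinearMap.rTensor M) ((1 : A) ⊗ₜ[A] m)) =
        (f.hom.toLinearMap.rTensor Q) (ρA ((1 : A) ⊗ₜ[A] m)) :=
      naturality_apply ρ f ((1 : A) ⊗ₜ[A] m)
    have h4 : (ρ.app (pt B)).hom (b ⊗ₜ[A] m) =
        (b • ((ρ.app (pt B)).hom ((f.hom.toLinearMap.rTensor M) ((1 : A) ⊗ₜ[A] m)) :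
          (B : Type u) ⊗[A] Q) : (B : Type u) ⊗[A] Q) := by
      rw [h2]
      exact (ρ.app (pt B)).hom.map_smul b _
    have h5 : (ρ.app (pt B)).hom (b ⊗ₜ[A] m) =
        (b • ((1 : B) ⊗ₜ[A] h₀ m : (B : Type u) ⊗[A] Q) : (B : Type u) ⊗[A] Q) := by
      refine h4.trans ?_
      congr 1
      refine h3.trans ?_
      rw [h1, LinearMap.rTensor_tmul]
      change ((Algebra.ofId A B) 1) ⊗ₜ[A] h₀ m = _
      rw [map_one]
    rw [h5, TensorProduct.smul_tmul', LinearMap.baseChange_tmul]
    simp
  | add x y hx hy =>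
    rw [map_add, hx, hy]
    exact ((ρ.app (pt B)).hom.map_add x y).symm

end Groth.Agent.Helper23.Adq

namespace Groth.Agent.Helper23.Adq

open Adeq

variable {A : Type u} [CommRing A]

lemma prod_baseChange_eq_zero_iff {M N₁ N₂ : Type*} [AddCommGroup M] [Module A M]
    [AddCommGroup N₁] [Module A N₁] [AddCommGroup N₂] [Module A N₂]
    (B : Type*) [CommRing B] [Algebra A B] (α₁ : M →ₗ[A] N₁) (α₂ : M →ₗ[A] N₂) (x : B ⊗[A] M) :
    (LinearMap.prod α₁ α₂).baseChange B x = 0 ↔
      α₁.baseChange B x = 0 ∧ α₂.baseChange B x = 0 := by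
  have hα : LinearMap.prod α₁ α₂ =
      LinearMap.inl A N₁ N₂ ∘ₗ α₁ + LinearMap.inr A N₁ N₂ ∘ₗ α₂ := by
    ext x <;> simp
  have h1 : LinearMap.fst A N₁ N₂ ∘ₗ LinearMap.prod α₁ α₂ = α₁ := by ext x; simp
  have h2 : LinearMap.snd A N₁ N₂ ∘ₗ LinearMap.prod α₁ α₂ = α₂ := by ext x; simp
  constructor
  · intro hx
    constructor
    · rw [← h1, baseChange_comp_apply, hx, map_zero]
    · rw [← h2, baseChange_comp_apply, hx, map_zero]
  · rintro ⟨hx1, hx2⟩
    rw [hα, LinearMap.baseChange_add, LinearMap.add_apply, baseChange_comp_apply,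
      baseChange_comp_apply, hx1, hx2, map_zero, map_zero, add_zero]

lemma fst_baseChange_inl_add_inr {M M' : Type*} [AddCommGroup M] [Module A M]
    [AddCommGroup M'] [Module A M'] (B : Type*) [CommRing B] [Algebra A B]
    (x : B ⊗[A] M) (x' : B ⊗[A] M') :
    (LinearMap.fst A M M').baseChange B
      ((LinearMap.inl A M M').baseChange B x + (LinearMap.inr A M M').baseChange B x') = x := by
  rw [map_add, ← baseChange_comp_apply, ← baseChange_comp_apply]
  have h1 : LinearMap.fst A M M' ∘ₗ LinearMap.inl A M M' = LinearMap.id := by ext x; simp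
  have h2 : LinearMap.fst A M M' ∘ₗ LinearMap.inr A M M' = 0 := by ext x; simp
  rw [h1, h2, LinearMap.baseChange_id, LinearMap.baseChange_zero]
  simp

lemma snd_baseChange_inl_add_inr {M M' : Type*} [AddCommGroup M] [Module A M]
    [AddCommGroup M'] [Module A M'] (B : Type*) [CommRing B] [Algebra A B]
    (x : B ⊗[A] M) (x' : B ⊗[A] M') :
    (LinearMap.snd A M M').baseChange B
      ((LinearMap.inl A M M').baseChange B x + (LinearMap.inr A M M').baseChange B x') = x' := by
  rw [map_add, ← baseChange_comp_apply, ← baseChange_comp_apply]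
  have h1 : LinearMap.snd A M M' ∘ₗ LinearMap.inl A M M' = 0 := by ext x; simp
  have h2 : LinearMap.snd A M M' ∘ₗ LinearMap.inr A M M' = LinearMap.id := by ext x; simp
  rw [h1, h2, LinearMap.baseChange_id, LinearMap.baseChange_zero]
  simp

/-- two-map version of the adequacy criterion. -/
theorem adequate_of_exact₂ {F : MVF A} {M N₁ N₂ : ModuleCat.{u + 1} A} (α₁ : M ⟶ N₁) (α₂ : M ⟶ N₂)
    (ι : F ⟶ (underline A).obj M)
    (hinj : ∀ B : Alg A, Function.Injective (ι.app (pt B)).hom)
    (hzero₁ : ∀ (B : Alg A) (y : F.obj (pt B)), α₁.hom.baseChange B ((ι.app (pt B)).hom y) = 0)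
    (hzero₂ : ∀ (B : Alg A) (y : F.obj (pt B)), α₂.hom.baseChange B ((ι.app (pt B)).hom y) = 0)
    (hex : ∀ (B : Alg A) (x : (B : Type u) ⊗[A] M), α₁.hom.baseChange B x = 0 →
      α₂.hom.baseChange B x = 0 → ∃ y, (ι.app (pt B)).hom y = x) :
    adequate A F := by
  let α : M →ₗ[A] (N₁ × N₂) := LinearMap.prod α₁.hom α₂.hom
  refine adequate_of_exact (N := ModuleCat.of A (N₁ × N₂)) (ModuleCat.ofHom α) ι hinj ?_ ?_
  · intro B y
    exact (prod_baseChange_eq_zero_iff B α₁.hom α₂.hom _).2 ⟨hzero₁ B y, hzero₂ B y⟩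
  · intro B x hx
    have hx' := (prod_baseChange_eq_zero_iff B α₁.hom α₂.hom x).1 hx
    exact hex B x hx'.1 hx'.2

lemma exact_cokernel_app {F G : MVF A} (ψ : F ⟶ G) (B : Alg A) (x : G.obj (pt B))
    (hx : ((cokernel.π ψ).app (pt B)).hom x = 0) : ∃ ξ, (ψ.app (pt B)).hom ξ = x :=
  exact_app (S := ShortComplex.mk ψ (cokernel.π ψ) (cokernel.condition ψ))
    (ShortComplex.exact_cokernel ψ) B x hx

lemma exact_kernel_app {F G : MVF A} (θ : F ⟶ G) (B : Alg A) (x : F.obj (pt B))
    (hx : (θ.app (pt B)).hom x = 0) : ∃ ξ, ((kernel.ι θ).app (pt B)).hom ξ = x :=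
  exact_app (S := ShortComplex.mk (kernel.ι θ) θ (kernel.condition θ))
    (ShortComplex.exact_kernel θ) B x hx

/-- the kernel of a morphism from an adequate functor to `underline M'` is adequate. -/
theorem adequate_kernel_underline {F : MVF A} (hF : adequate A F) {M' : ModuleCat.{u + 1} A}
    (θ : F ⟶ (underline A).obj M') : adequate A (kernel θ) := by
  obtain ⟨M, N, β, ιF, hιinj, hιzero, hιex⟩ := exists_exact_of_adequate hF
  let MM : ModuleCat.{u + 1} A := ModuleCat.of A (M × M')
  let inl : M ⟶ MM := ModuleCat.ofHom (LinearMap.inl A M M')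
  let inr : M' ⟶ MM := ModuleCat.ofHom (LinearMap.inr A M M')
  let ψ : F ⟶ (underline A).obj MM := ιF ≫ (underline A).map inl + θ ≫ (underline A).map inr
  have hψ : ∀ (B : Alg A) (ξ : F.obj (pt B)), (ψ.app (pt B)).hom ξ =
      ((LinearMap.inl A M M').baseChange B ((ιF.app (pt B)).hom ξ) +
        (LinearMap.inr A M M').baseChange B ((θ.app (pt B)).hom ξ) :
          (B : Type u) ⊗[A] (M × M')) := fun B ξ => rfl
  have hfst : ∀ (B : Alg A) (ξ : F.obj (pt B)),
      (LinearMap.fst A M M').baseChange B ((ψ.app (pt B)).hom ξ) = (ιF.app (pt B)).hom ξ := by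
    intro B ξ
    rw [hψ]
    exact fst_baseChange_inl_add_inr B _ _
  have hsnd : ∀ (B : Alg A) (ξ : F.obj (pt B)),
      (LinearMap.snd A M M').baseChange B ((ψ.app (pt B)).hom ξ) = (θ.app (pt B)).hom ξ := by
    intro B ξ
    rw [hψ]
    exact snd_baseChange_inl_add_inr B _ _
  have hcok := adequate_coker_underline hF ψ
  obtain ⟨Q, N₂, β₂, ι₂, hinj₂, -, -⟩ := exists_exact_of_adequate hcok
  obtain ⟨h, hh⟩ := underline_full (cokernel.π ψ ≫ ι₂)
  have hh' : ∀ (B : Alg A) (x : (B : Type u) ⊗[A] (M × M')),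
      h.hom.baseChange B x = (ι₂.app (pt B)).hom (((cokernel.π ψ).app (pt B)).hom x) := by
    intro B x
    have := congr(($hh).app (pt B) x)
    exact this
  refine adequate_of_exact₂ h (ModuleCat.ofHom (LinearMap.snd A M M')) (kernel.ι θ ≫ ψ) ?_ ?_ ?_ ?_
  · intro B
    have h1 : Function.Injective ((kernel.ι θ).app (pt B)).hom :=
      PresheafOfModules.injective_of_mono (kernel.ι θ) (pt B)
    have h2 : Function.Injective (ψ.app (pt B)).hom := by
      intro ξ ξ' hξ
      apply hιinj B
      rw [← hfst, ← hfst, hξ]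
    exact h2.comp h1
  · intro B y
    change h.hom.baseChange B ((ψ.app (pt B)).hom (((kernel.ι θ).app (pt B)).hom y)) = 0
    refine (hh' B _).trans ?_
    have := congr(($(cokernel.condition ψ)).app (pt B) (((kernel.ι θ).app (pt B)).hom y))
    have h3 : ((cokernel.π ψ).app (pt B)).hom
        ((ψ.app (pt B)).hom (((kernel.ι θ).app (pt B)).hom y)) = 0 := this
    exact (congrArg (ι₂.app (pt B)).hom h3).trans (map_zero _)
  · intro B y
    change (LinearMap.snd A M M').baseChange B
      ((ψ.app (pt B)).hom (((kernel.ι θ).app (pt B)).hom y)) = 0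
    refine (hsnd B _).trans ?_
    have := congr(($(kernel.condition θ)).app (pt B) y)
    exact this
  · intro B x hx1 hx2
    have hx1' := (hh' B x).symm.trans hx1
    have hx3 : ((cokernel.π ψ).app (pt B)).hom x = 0 := by
      apply hinj₂ B
      exact hx1'.trans (map_zero _).symm
    obtain ⟨ξ, rfl⟩ := exact_cokernel_app ψ B x hx3
    have hx4 : (θ.app (pt B)).hom ξ = 0 := (hsnd B ξ).symm.trans hx2
    obtain ⟨y, rfl⟩ := exact_kernel_app θ B ξ hx4
    exact ⟨y, rfl⟩

end Groth.Agent.Helper23.Adq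

namespace Groth.Agent.Helper23.Adq

open Adeq

variable {A : Type u} [CommRing A]

/-- S8744: kernels of morphisms of adequate functors are adequate. -/
theorem adequate_kernel {F G : MVF A} (φ : F ⟶ G) (hF : adequate A F) (hG : adequate A G) :
    adequate A (kernel φ) := by
  obtain ⟨M', N', β', ιG, hinj, -, -⟩ := exists_exact_of_adequate hG
  haveI : Mono ιG := PresheafOfModules.mono_of_injective (fun X => hinj X.unop.unop)
  have h := adequate_kernel_underline hF (φ ≫ ιG)
  exact (adequate A).prop_of_iso (kernelCompMono φ ιG) h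

/-- S8743: cokernels of morphisms of adequate functors are adequate. -/
theorem adequate_cokernel {F G : MVF A} (φ : F ⟶ G) (hF : adequate A F) (hG : adequate A G) :
    adequate A (cokernel φ) := by
  obtain ⟨M', N', β', ιG, hinj, -, -⟩ := exists_exact_of_adequate hG
  have h1 : adequate A (cokernel (φ ≫ ιG)) := adequate_coker_underline hF (φ ≫ ιG)
  have h2 : adequate A (cokernel ιG) := adequate_coker_underline hG ιG
  let m : cokernel (φ ≫ ιG) ⟶ cokernel ιG :=
    cokernel.desc (φ ≫ ιG) (cokernel.π ιG) (by rw [Category.assoc, cokernel.condition, comp_zero])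
  have hm : cokernel.π (φ ≫ ιG) ≫ m = cokernel.π ιG := cokernel.π_desc _ _ _
  have h3 : adequate A (kernel m) := adequate_kernel m h1 h2
  let d : cokernel φ ⟶ cokernel (φ ≫ ιG) :=
    cokernel.desc φ (ιG ≫ cokernel.π (φ ≫ ιG)) (by
      rw [← Category.assoc, cokernel.condition])
  have hd : cokernel.π φ ≫ d = ιG ≫ cokernel.π (φ ≫ ιG) := cokernel.π_desc _ _ _
  have hdm : d ≫ m = 0 := by
    rw [← cancel_epi (cokernel.π φ), ← Category.assoc, hd, Category.assoc, hm, cokernel.condition,
      comp_zero]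
  let k : cokernel φ ⟶ kernel m := kernel.lift m d hdm
  have hk : k ≫ kernel.ι m = d := kernel.lift_ι _ _ _
  have hdx : ∀ (B : Alg A) (y : G.obj (pt B)),
      (d.app (pt B)).hom (((cokernel.π φ).app (pt B)).hom y) =
        ((cokernel.π (φ ≫ ιG)).app (pt B)).hom ((ιG.app (pt B)).hom y) := by
    intro B y
    have := congr(($hd).app (pt B) y)
    exact this
  have hmx : ∀ (B : Alg A) (x : (B : Type u) ⊗[A] M'),
      (m.app (pt B)).hom (((cokernel.π (φ ≫ ιG)).app (pt B)).hom x) =
        ((cokernel.π ιG).app (pt B)).hom x := by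
    intro B x
    have := congr(($hm).app (pt B) x)
    exact this
  haveI : Mono k := by
    apply PresheafOfModules.mono_of_injective
    intro X
    let B : Alg A := X.unop.unop
    have : Function.Injective (d.app (pt B)).hom := by
      rw [injective_iff_map_eq_zero]
      intro c hc
      obtain ⟨y, rfl⟩ := PresheafOfModules.surjective_of_epi (cokernel.π φ) (pt B) c
      have hc' := (hdx B y).symm.trans hc
      obtain ⟨ξ, hξ⟩ := exact_cokernel_app (φ ≫ ιG) B _ hc'
      have hy : (φ.app (pt B)).hom ξ = y := hinj B hξ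
      rw [← hy]
      have := congr(($(cokernel.condition φ)).app (pt B) ξ)
      exact this
    intro c c' hcc
    apply this
    have e1 := congr(($hk).app (pt B) c)
    have e2 := congr(($hk).app (pt B) c')
    exact e1.symm.trans ((congrArg ((kernel.ι m).app (pt B)).hom hcc).trans e2)
  haveI : Epi k := by
    apply PresheafOfModules.epi_of_surjective
    intro X w
    let B : Alg A := X.unop.unop
    obtain ⟨x, hx⟩ := PresheafOfModules.surjective_of_epi (cokernel.π (φ ≫ ιG)) (pt B)
      (((kernel.ι m).app (pt B)).hom w)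
    have hw : (m.app (pt B)).hom (((kernel.ι m).app (pt B)).hom w) = 0 := by
      have := congr(($(kernel.condition m)).app (pt B) w)
      exact this
    have hx2 : ((cokernel.π ιG).app (pt B)).hom x = 0 :=
      (hmx B x).symm.trans ((congrArg (m.app (pt B)).hom hx).trans hw)
    obtain ⟨y, hy⟩ := exact_cokernel_app ιG B x hx2
    refine ⟨((cokernel.π φ).app (pt B)).hom y, ?_⟩
    apply PresheafOfModules.injective_of_mono (kernel.ι m) (pt B)
    have e1 := congr(($hk).app (pt B) (((cokernel.π φ).app (pt B)).hom y))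
    refine e1.trans ?_
    refine (hdx B y).trans ?_
    rw [hy]
    exact hx
  haveI : IsIso k := isIso_of_mono_of_epi k
  exact (adequate A).prop_of_iso (asIso k).symm h3

end Groth.Agent.Helper23.Adq
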