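import Mathlib
import Groth.Agent.Lib.Helper23.Adq7
set_option autoImplicit false
universe u
open CategoryTheory CategoryTheory.Limits TensorProduct Opposite

namespace Groth.Agent.Helper23.Adq

open Adeq DirectSum

variable {A : Type u} [CommRing A]

/-- elements of a coproduct of module-valued functors are finite sums. -/
lemma exists_finsum_sigma {J : Type (u + 1)} (L : J → MVF A) (B : Alg A)
    (y : (∐ L).obj (pt B)) :
    ∃ (s : Finset J) (ξ : ∀ j, (L j).obj (pt B)),
      y = ∑ j ∈ s, ((Sigma.ι L j).app (pt B)).hom (ξ j) := by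
  classical
  let ev := PresheafOfModules.evaluation.{u + 1} (ringOf A) (pt B)
  haveI : PreservesColimitsOfShape (Discrete J) ev :=
    PresheafOfModules.evaluation_preservesColimitsOfShape.{u + 1} (ringOf A) (Discrete J) (pt B)
  let Z : J → ModuleCat.{u + 1} ((ringOf A).obj (pt B)) := fun j => (L j).obj (pt B)
  have hc₁ : IsColimit (Cofan.mk (ev.obj (∐ L)) (fun j => ev.map (Sigma.ι L j)) :
      Cofan fun j => ev.obj (L j)) :=
    isColimitCofanMkObjOfIsColimit ev L (Sigma.ι L) (coproductIsCoproduct L)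
  have hc₂ := ModuleCat.coproductCoconeIsColimit.{u, u + 1, u + 1} Z
  let e := hc₂.coconePointUniqueUpToIso hc₁
  have he : ∀ j (x : Z j), e.hom.hom (DirectSum.lof ((ringOf A).obj (pt B)) J (fun j => Z j) j x) =
      ((Sigma.ι L j).app (pt B)).hom x := by
    intro j x
    have := IsColimit.comp_coconePointUniqueUpToIso_hom hc₂ hc₁ ⟨j⟩
    have h2 := congr(($this).hom x)
    exact h2
  let v : ⨁ j, Z j := e.inv.hom y
  have hv : e.hom.hom v = y := by
    have := congr(($(e.inv_hom_id)).hom y)
    exact this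
  refine ⟨DFinsupp.support v, fun j => v j, ?_⟩
  let E : (⨁ j, Z j) →ₗ[((ringOf A).obj (pt B))] ((∐ L).obj (pt B)) := e.hom.hom
  have hv' : y = E v := hv.symm
  have h3 : E v = E (∑ j ∈ DFinsupp.support v, DirectSum.of (fun j => Z j) j (v j)) := by
    rw [DirectSum.sum_support_of v]
  rw [hv', h3, map_sum]
  refine Finset.sum_congr rfl fun j _ => ?_
  exact he j (v j)

end Groth.Agent.Helper23.Adq

namespace Groth.Agent.Helper23.Adq

open Adeq DirectSum

variable {A : Type u} [CommRing A]

lemma sigma_ι_π_apply {J : Type (u + 1)} [DecidableEq J] (L : J → MVF A) (B : Alg A) (j : J)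
    (ξ : (L j).obj (pt B)) :
    ((Sigma.π L j).app (pt B)).hom (((Sigma.ι L j).app (pt B)).hom ξ) = ξ := by
  have := congr(($(Sigma.ι_π_eq_id L j)).app (pt B) ξ)
  exact this

lemma sigma_ι_π_apply_of_ne {J : Type (u + 1)} [DecidableEq J] (L : J → MVF A) (B : Alg A)
    {j j' : J} (h : j ≠ j') (ξ : (L j).obj (pt B)) :
    ((Sigma.π L j').app (pt B)).hom (((Sigma.ι L j).app (pt B)).hom ξ) = 0 := by
  have := congr(($(Sigma.ι_π_of_ne L h)).app (pt B) ξ)
  exact this

/-- decomposition of elements of a coproduct through the projections. -/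
lemma sigma_decomp {J : Type (u + 1)} [DecidableEq J] (L : J → MVF A) (B : Alg A)
    (y : (∐ L).obj (pt B)) :
    ∃ s : Finset J, y = ∑ j ∈ s,
      ((Sigma.ι L j).app (pt B)).hom (((Sigma.π L j).app (pt B)).hom y) := by
  obtain ⟨s, ξ, hy⟩ := exists_finsum_sigma L B y
  refine ⟨s, ?_⟩
  have h1 : ∀ j₀ ∈ s, ((Sigma.π L j₀).app (pt B)).hom y = ξ j₀ := by
    intro j₀ hj₀
    rw [hy, map_sum, Finset.sum_eq_single j₀]
    · exact sigma_ι_π_apply L B j₀ _
    · intro j _ hne
      exact sigma_ι_π_apply_of_ne L B hne _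
    · intro h; exact absurd hj₀ h
  conv_lhs => rw [hy]
  refine Finset.sum_congr rfl fun j hj => ?_
  rw [h1 j hj]

/-- components of a morphism to `underline M`, with the codomain typed as a tensor product. -/
noncomputable def appU {F : MVF A} {M : ModuleCat.{u + 1} A} (ι : F ⟶ (underline A).obj M) (B : Alg A) :
    F.obj (pt B) →+ (B : Type u) ⊗[A] M := (ι.app (pt B)).hom.toAddMonoidHom

lemma appU_apply {F : MVF A} {M : ModuleCat.{u + 1} A} (ι : F ⟶ (underline A).obj M) (B : Alg A)
    (y : F.obj (pt B)) : appU ι B y = (ι.app (pt B)).hom y := rfl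

/-- coproducts of adequate functors are adequate. -/
theorem adequate_coproduct {J : Type (u + 1)} (L : J → MVF A) (hL : ∀ j, adequate A (L j)) :
    adequate A (∐ L) := by
  classical
  choose M N β ιL hinj hzero hex using fun j => exists_exact_of_adequate (hL j)
  have hzero' : ∀ (j : J) (B : Alg A) (y : (L j).obj (pt B)),
      (β j).hom.baseChange B (appU (ιL j) B y) = 0 := fun j B y => hzero j B y
  have hinj' : ∀ (j : J) (B : Alg A), Function.Injective (appU (ιL j) B) := fun j B => hinj j B
  have hex' : ∀ (j : J) (B : Alg A) (x : (B : Type u) ⊗[A] M j), (β j).hom.baseChange B x = 0 →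
      ∃ y, appU (ιL j) B y = x := fun j B x hx => hex j B x hx
  let MM : ModuleCat.{u + 1} A := ModuleCat.of A (⨁ j, M j)
  let NN : ModuleCat.{u + 1} A := ModuleCat.of A (⨁ j, N j)
  let α₀ : (⨁ j, M j) →ₗ[A] (⨁ j, N j) := DirectSum.lmap (fun j => (β j).hom)
  let lofM : ∀ j, M j ⟶ MM := fun j => ModuleCat.ofHom (DirectSum.lof A J (fun j => M j) j)
  let ι : ∐ L ⟶ (underline A).obj MM := Sigma.desc (fun j => ιL j ≫ (underline A).map (lofM j))
  have hι : ∀ (j : J) (B : Alg A) (ξ : (L j).obj (pt B)),
      appU ι B (((Sigma.ι L j).app (pt B)).hom ξ) =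
        (DirectSum.lof A J (fun j => M j) j).baseChange B (appU (ιL j) B ξ) := by
    intro j B ξ
    have h1 : Sigma.ι L j ≫ ι = ιL j ≫ (underline A).map (lofM j) := Sigma.ι_desc _ _
    have := congr(($h1).app (pt B) ξ)
    exact this
  have hα_lof : ∀ j, α₀ ∘ₗ DirectSum.lof A J (fun j => M j) j =
      DirectSum.lof A J (fun j => N j) j ∘ₗ (β j).hom := by
    intro j
    refine LinearMap.ext fun x => ?_
    simp [α₀]
  have hα_comp : ∀ j, DirectSum.component A J (fun j => N j) j ∘ₗ α₀ =
      (β j).hom ∘ₗ DirectSum.component A J (fun j => M j) j := by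
    intro j
    refine LinearMap.ext fun x => ?_
    rfl
  have hcomp_ι : ∀ (j₀ : J) (B : Alg A) (y : (∐ L).obj (pt B)),
      (DirectSum.component A J (fun j => M j) j₀).baseChange B (appU ι B y) =
        appU (ιL j₀) B (((Sigma.π L j₀).app (pt B)).hom y) := by
    intro j₀ B y
    obtain ⟨s, ξ, rfl⟩ := exists_finsum_sigma L B y
    rw [map_sum, map_sum, map_sum, map_sum]
    refine Finset.sum_congr rfl fun j _ => ?_
    rw [hι, ← baseChange_comp_apply]
    by_cases hj : j = j₀
    · subst hj
      rw [DirectSum.component_comp_lof_same, LinearMap.baseChange_id, sigma_ι_π_apply]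
      rfl
    · rw [sigma_ι_π_apply_of_ne L B hj, map_zero]
      have : DirectSum.component A J (fun j => M j) j₀ ∘ₗ DirectSum.lof A J (fun j => M j) j = 0 := by
        refine LinearMap.ext fun x => ?_
        simp [DirectSum.component.of, hj]
      rw [this, LinearMap.baseChange_zero]
      rfl
  refine adequate_of_exact (N := NN) (ModuleCat.ofHom α₀) ι ?_ ?_ ?_
  · intro B
    change Function.Injective (appU ι B)
    rw [injective_iff_map_eq_zero]
    intro y hy
    obtain ⟨s, hs⟩ := sigma_decomp L B y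
    rw [hs]
    refine Finset.sum_eq_zero fun j _ => ?_
    have h1 : appU (ιL j) B (((Sigma.π L j).app (pt B)).hom y) = 0 := by
      rw [← hcomp_ι, hy, map_zero]
    have h2 : ((Sigma.π L j).app (pt B)).hom y = 0 := by
      apply hinj' j B
      rw [h1, map_zero]
    rw [h2, map_zero]
  · intro B y
    change α₀.baseChange B (appU ι B y) = 0
    obtain ⟨s, ξ, rfl⟩ := exists_finsum_sigma L B y
    rw [map_sum, map_sum]
    refine Finset.sum_eq_zero fun j _ => ?_
    rw [hι, ← baseChange_comp_apply, hα_lof, baseChange_comp_apply, hzero' j B, map_zero]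
  · intro B x hx
    have hx' : α₀.baseChange B x = 0 := hx
    have h1 : ∀ j, ∃ ξ : (L j).obj (pt B), appU (ιL j) B ξ =
        (DirectSum.component A J (fun j => M j) j).baseChange B x := by
      intro j
      apply hex' j B
      rw [← baseChange_comp_apply, ← hα_comp, baseChange_comp_apply, hx', map_zero]
    choose ξ hξ using h1
    obtain ⟨s, hs⟩ := exists_finset_decomp (A := A) (fun j => M j) B x
    have hs' := hs s (Finset.Subset.refl _)
    refine ⟨∑ j ∈ s, ((Sigma.ι L j).app (pt B)).hom (ξ j), ?_⟩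
    change appU ι B _ = x
    rw [map_sum]
    conv_rhs => rw [hs']
    refine Finset.sum_congr rfl fun j _ => ?_
    rw [hι, hξ]

end Groth.Agent.Helper23.Adq

namespace Groth.Agent.Helper23.Adq

open Adeq

variable {A : Type u} [CommRing A]

/-- S8745: colimits of adequate functors are adequate. -/
theorem adequate_colimit {J : Type (u + 1)} [SmallCategory J] (D : J ⥤ MVF A)
    (hD : ∀ j, adequate A (D.obj j)) : adequate A (colimit D) := by
  let cc := colimitCoconeOfCoequalizerAndCoproduct D
  let s : (∐ fun f : Σ p : J × J, p.1 ⟶ p.2 => D.obj f.1.1) ⟶ ∐ D.obj :=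
    Sigma.desc fun f => D.map f.2 ≫ colimit.ι (Discrete.functor D.obj) ⟨f.1.2⟩
  let t : (∐ fun f : Σ p : J × J, p.1 ⟶ p.2 => D.obj f.1.1) ⟶ ∐ D.obj :=
    Sigma.desc fun f => colimit.ι (Discrete.functor D.obj) ⟨f.1.1⟩
  have e1 : colimit D ≅ coequalizer s t := colimit.isoColimitCocone cc
  have h1 : adequate A (∐ fun f : Σ p : J × J, p.1 ⟶ p.2 => D.obj f.1.1) :=
    adequate_coproduct _ (fun f => hD f.1.1)
  have h2 : adequate A (∐ D.obj) := adequate_coproduct _ hD
  have h3 : adequate A (cokernel (s - t)) := adequate_cokernel (s - t) h1 h2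
  have hc : IsColimit (Preadditive.coforkOfCokernelCofork
      (CokernelCofork.ofπ (cokernel.π (s - t)) (cokernel.condition (s - t)))) :=
    Preadditive.isColimitCoforkOfCokernelCofork (cokernelIsCokernel (s - t))
  have e2 : coequalizer s t ≅ cokernel (s - t) :=
    IsColimit.coconePointUniqueUpToIso (colimit.isColimit (parallelPair s t)) hc
  exact (adequate A).prop_of_iso (e1 ≪≫ e2).symm h3

end Groth.Agent.Helper23.Adq
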