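import Mathlib
import Groth.Agent.Lib.Helper23.Adq8
set_option autoImplicit false
universe u
open CategoryTheory CategoryTheory.Limits TensorProduct Opposite

namespace Groth.Agent.Helper23.Adq

open Adeq

/-- abstract flat base change for kernels, phrased with additive maps. -/
theorem flat_bc_bijective {R S : Type*} [CommRing R] [CommRing S] [Algebra R S] [Module.Flat R S]
    {K X Y K' X' Y' : Type*} [AddCommGroup K] [AddCommGroup X] [AddCommGroup Y]
    [AddCommGroup K'] [AddCommGroup X'] [AddCommGroup Y']
    [Module R K] [Module R X] [Module R Y] [Module S K'] [Module S X'] [Module S Y']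
    (i : K →ₗ[R] X) (a : X →ₗ[R] Y) (i' : K' →ₗ[S] X') (a' : X' →ₗ[S] Y')
    (κ : K →+ K') (χ : X →+ X') (υ : Y →+ Y')
    (h1 : ∀ k, i' (κ k) = χ (i k)) (h2 : ∀ x, a' (χ x) = υ (a x))
    (hi : Function.Injective i) (hia : Function.Exact i a) (hi' : Function.Injective i')
    (hzero' : ∀ k', a' (i' k') = 0)
    (bcK : S ⊗[R] K →+ K') (hbcK : ∀ s k, bcK (s ⊗ₜ k) = s • κ k)
    (bcX : S ⊗[R] X →+ X') (hbcX : ∀ s x, bcX (s ⊗ₜ x) = s • χ x)
    (hbcX_bij : Function.Bijective bcX)
    (bcY : S ⊗[R] Y →+ Y') (hbcY : ∀ s y, bcY (s ⊗ₜ y) = s • υ y)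
    (hbcY_inj : Function.Injective bcY) :
    Function.Bijective bcK := by
  have c1 : ∀ v : S ⊗[R] K, i' (bcK v) = bcX (i.lTensor S v) := by
    intro v
    induction v using TensorProduct.induction_on with
    | zero => simp
    | tmul s k => rw [hbcK, map_smul, h1, LinearMap.lTensor_tmul, hbcX]
    | add x y hx hy => rw [map_add, map_add, hx, hy, map_add, map_add]
  have c2 : ∀ w : S ⊗[R] X, a' (bcX w) = bcY (a.lTensor S w) := by
    intro w
    induction w using TensorProduct.induction_on with
    | zero => simp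
    | tmul s x => rw [hbcX, map_smul, h2, LinearMap.lTensor_tmul, hbcY]
    | add x y hx hy => rw [map_add, map_add, hx, hy, map_add, map_add]
  have hinjT : Function.Injective (i.lTensor S) :=
    Module.Flat.lTensor_preserves_injective_linearMap i hi
  have hexT : Function.Exact (i.lTensor S) (a.lTensor S) := Module.Flat.lTensor_exact S hia
  constructor
  · rw [injective_iff_map_eq_zero]
    intro v hv
    apply hinjT
    apply hbcX_bij.1
    rw [← c1, hv, map_zero, map_zero, map_zero]
  · intro y'
    obtain ⟨w, hw⟩ := hbcX_bij.2 (i' y')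
    have h3 : a.lTensor S w = 0 := by
      apply hbcY_inj
      rw [← c2, hw, map_zero]
      exact hzero' y'
    obtain ⟨v, hv⟩ := (hexT w).1 h3
    refine ⟨v, hi' ?_⟩
    rw [c1, hv, hw]

end Groth.Agent.Helper23.Adq

namespace Groth.Agent.Helper23.Adq

open Adeq ChangeOfRings

variable {A : Type u} [CommRing A]

/-- the formula for `bc` on pure tensors. -/
lemma bc_one_tmul (F : MVF A) {B B' : Alg A} (f : B ⟶ B') (x : F.obj (pt B)) :
    (F.bc f).hom ((1 : B') ⊗ₜ[B, f.hom.toRingHom] x) = (F.map (ptHom f)).hom x := by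
  have h := (ModuleCat.extendRestrictScalarsAdj.{u + 1, u, u} f.hom.toRingHom).homEquiv
    (F.obj (pt B)) (F.obj (pt B')) |>.apply_symm_apply (F.map (ptHom f))
  have h2 := congr(($h).hom x)
  exact h2

lemma bc_tmul (F : MVF A) {B B' : Alg A} (f : B ⟶ B') (s : B') (x : F.obj (pt B)) :
    (F.bc f).hom (s ⊗ₜ[B, f.hom.toRingHom] x) =
      (s • ((F.map (ptHom f)).hom x : F.obj (pt B')) : F.obj (pt B')) := by
  let t : (ModuleCat.extendScalars.{u, u, u + 1} f.hom.toRingHom).obj (F.obj (pt B)) :=
    (1 : B') ⊗ₜ[B, f.hom.toRingHom] x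
  have h1 : (s ⊗ₜ[B, f.hom.toRingHom] x :
      (ModuleCat.extendScalars.{u, u, u + 1} f.hom.toRingHom).obj (F.obj (pt B))) = s • t := by
    have h0 := ModuleCat.ExtendScalars.smul_tmul (M := F.obj (pt B)) f.hom.toRingHom s (1 : B') x
    rw [mul_one] at h0
    exact h0.symm
  rw [h1]
  refine ((F.bc f).hom.map_smul s t).trans ?_
  congr 1
  exact bc_one_tmul F f x

end Groth.Agent.Helper23.Adq

namespace Groth.Agent.Helper23.Adq

open Adeq ChangeOfRings

variable {A : Type u} [CommRing A]

lemma rTensor_smul_semilinear {B B' : Type u} [CommRing B] [CommRing B'] [Algebra A B]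
    [Algebra A B'] (f : B →ₐ[A] B') {M : Type*} [AddCommGroup M] [Module A M] (b : B)
    (x : B ⊗[A] M) :
    (f.toLinearMap.rTensor M) (b • x) = f b • (f.toLinearMap.rTensor M) x := by
  induction x using TensorProduct.induction_on with
  | zero => simp
  | tmul c m => simp [TensorProduct.smul_tmul']
  | add x y hx hy => rw [smul_add, map_add, hx, hy, map_add, smul_add]

lemma rTensor_baseChange_comm {B B' : Type u} [CommRing B] [CommRing B'] [Algebra A B]
    [Algebra A B'] (f : B →ₐ[A] B') {M N : Type*} [AddCommGroup M] [Module A M]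
    [AddCommGroup N] [Module A N] (α : M →ₗ[A] N) (x : B ⊗[A] M) :
    α.baseChange B' ((f.toLinearMap.rTensor M) x) = (f.toLinearMap.rTensor N) (α.baseChange B x) := by
  induction x using TensorProduct.induction_on with
  | zero => simp
  | tmul c m => simp
  | add x y hx hy => rw [map_add, map_add, hx, hy, map_add, map_add]

/-- S8740: flat base change for adequate functors. -/
theorem isIso_bc_of_adequate_flat (F : MVF A) (hF : adequate A F) {B B' : Alg A} (f : B ⟶ B')
    (hf : f.hom.toRingHom.Flat) : IsIso (F.bc f) := by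
  obtain ⟨M, N, α, ι, hinj, hzero, hex⟩ := exists_exact_of_adequate hF
  letI : Algebra B B' := f.hom.toRingHom.toAlgebra
  haveI : Module.Flat B B' := hf
  haveI : IsScalarTower A B B' := IsScalarTower.of_algebraMap_eq (fun a => (f.hom.commutes a).symm)
  have hfb : ∀ b : B, algebraMap B B' b = f.hom b := fun b => rfl
  let i : F.obj (pt B) →ₗ[B] (B : Type u) ⊗[A] M := (ι.app (pt B)).hom
  let i' : F.obj (pt B') →ₗ[B'] (B' : Type u) ⊗[A] M := (ι.app (pt B')).hom
  let a : (B : Type u) ⊗[A] M →ₗ[B] (B : Type u) ⊗[A] N := α.hom.baseChange B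
  let a' : (B' : Type u) ⊗[A] M →ₗ[B'] (B' : Type u) ⊗[A] N := α.hom.baseChange B'
  let κ : F.obj (pt B) →+ F.obj (pt B') :=
    AddMonoidHom.mk' (fun x => (F.map (ptHom f)).hom x) (fun x y => map_add _ x y)
  let χ : (B : Type u) ⊗[A] M →+ (B' : Type u) ⊗[A] M :=
    (f.hom.toLinearMap.rTensor M).toAddMonoidHom
  let υ : (B : Type u) ⊗[A] N →+ (B' : Type u) ⊗[A] N :=
    (f.hom.toLinearMap.rTensor N).toAddMonoidHom
  let bcK : (B' : Type u) ⊗[B] (F.obj (pt B)) →+ F.obj (pt B') :=
    AddMonoidHom.mk' (fun x => (F.bc f).hom x) (fun x y => map_add _ x y)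
  let eX := TensorProduct.AlgebraTensorModule.cancelBaseChange A B B' B' M
  let eY := TensorProduct.AlgebraTensorModule.cancelBaseChange A B B' B' N
  have hbij : Function.Bijective bcK := by
    refine flat_bc_bijective i a i' a' κ χ υ ?_ ?_ (hinj B) ?_ (hinj B') (hzero B')
      bcK ?_ eX.toLinearMap.toAddMonoidHom ?_ eX.bijective eY.toLinearMap.toAddMonoidHom ?_
      eY.injective
    · intro k
      exact naturality_apply ι f k
    · intro x
      exact rTensor_baseChange_comm f.hom α.hom x
    · intro x
      constructor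
      · intro hx
        obtain ⟨y, hy⟩ := hex B x hx
        exact ⟨y, hy⟩
      · rintro ⟨y, rfl⟩
        exact hzero B y
    · intro s k
      exact bc_tmul F f s k
    · intro s x
      change eX (s ⊗ₜ x) = s • (f.hom.toLinearMap.rTensor M) x
      induction x using TensorProduct.induction_on with
      | zero => simp
      | tmul c m =>
        rw [TensorProduct.AlgebraTensorModule.cancelBaseChange_tmul, LinearMap.rTensor_tmul,
          TensorProduct.smul_tmul', Algebra.smul_def, hfb, smul_eq_mul, mul_comm]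
        rfl
      | add x y hx hy => rw [TensorProduct.tmul_add, map_add, hx, hy, map_add, smul_add]
    · intro s x
      change eY (s ⊗ₜ x) = s • (f.hom.toLinearMap.rTensor N) x
      induction x using TensorProduct.induction_on with
      | zero => simp
      | tmul c m =>
        rw [TensorProduct.AlgebraTensorModule.cancelBaseChange_tmul, LinearMap.rTensor_tmul,
          TensorProduct.smul_tmul', Algebra.smul_def, hfb, smul_eq_mul, mul_comm]
        rfl
      | add x y hx hy => rw [TensorProduct.tmul_add, map_add, hx, hy, map_add, smul_add]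
  rw [ConcreteCategory.isIso_iff_bijective]
  exact hbij

end Groth.Agent.Helper23.Adq
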