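import Mathlib
import Groth.Agent.Lib.Helper23.Adq9
set_option autoImplicit false
universe u
open CategoryTheory CategoryTheory.Limits TensorProduct Opposite Polynomial

namespace Groth.Agent.Helper23.Adq

open Adeq ChangeOfRings

variable {A : Type u} [CommRing A]

/-- the quadratic polynomial `X² - bX + 1`. -/
noncomputable def quadPoly {B : Type u} [CommRing B] (b : B) : B[X] := X ^ 2 + (-(C b * X) + 1)

lemma quadPoly_deg_lt {B : Type u} [CommRing B] (b : B) :
    (-(C b * X) + 1 : B[X]).degree < (2 : ℕ) := by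
  refine lt_of_le_of_lt (Polynomial.degree_add_le _ _) ?_
  rw [max_lt_iff]
  constructor
  · rw [Polynomial.degree_neg]
    refine lt_of_le_of_lt (Polynomial.degree_C_mul_X_le b) ?_
    norm_num
  · refine lt_of_le_of_lt Polynomial.degree_one_le ?_
    norm_num

lemma quadPoly_monic {B : Type u} [CommRing B] (b : B) : (quadPoly b).Monic :=
  Polynomial.monic_X_pow_add (quadPoly_deg_lt b)

lemma quadPoly_natDegree {B : Type u} [CommRing B] [Nontrivial B] (b : B) :
    (quadPoly b).natDegree = 2 := by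
  have h1 : (quadPoly b).degree = (2 : ℕ) := by
    rw [quadPoly, Polynomial.degree_add_eq_left_of_degree_lt]
    · simp
    · rw [Polynomial.degree_X_pow]; exact quadPoly_deg_lt b
  exact Polynomial.natDegree_eq_of_degree_eq_some h1

/-- in `AdjoinRoot (quadPoly b)`, `root * (b - root) = 1`. -/
lemma quadPoly_root_mul {B : Type u} [CommRing B] (b : B) :
    AdjoinRoot.root (quadPoly b) *
      (AdjoinRoot.of (quadPoly b) b - AdjoinRoot.root (quadPoly b)) = 1 := by
  have h : Polynomial.eval₂ (AdjoinRoot.of (quadPoly b)) (AdjoinRoot.root (quadPoly b))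
      (X ^ 2 + (-(C b * X) + 1)) = 0 := AdjoinRoot.eval₂_root (quadPoly b)
  rw [Polynomial.eval₂_add, Polynomial.eval₂_add, Polynomial.eval₂_pow, Polynomial.eval₂_X,
    Polynomial.eval₂_neg, Polynomial.eval₂_mul, Polynomial.eval₂_C, Polynomial.eval₂_X,
    Polynomial.eval₂_one] at h
  linear_combination -h

/-- a `B`-linear retraction of `B → AdjoinRoot (quadPoly b)`. -/
lemma exists_retraction {B : Type u} [CommRing B] [Nontrivial B] (b : B) :
    ∃ ρ : AdjoinRoot (quadPoly b) →ₗ[B] B, ρ 1 = 1 := by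
  let pb := AdjoinRoot.powerBasis' (quadPoly_monic b)
  have hdim : 0 < pb.dim := by
    rw [AdjoinRoot.powerBasis'_dim, quadPoly_natDegree]; norm_num
  refine ⟨pb.basis.coord ⟨0, hdim⟩, ?_⟩
  have h1 : pb.basis ⟨0, hdim⟩ = 1 := by
    rw [pb.basis_eq_pow]; simp
  conv_lhs => rw [← h1]
  simp only [Module.Basis.coord_apply, Module.Basis.repr_self, Finsupp.single_eq_same]

end Groth.Agent.Helper23.Adq

namespace Groth.Agent.Helper23.Adq

open Adeq ChangeOfRings

variable {A : Type u} [CommRing A]

/-- if `B → B'` has a `B`-linear retraction and `G.bc f` is an isomorphism then `G(B) → G(B')` is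
injective. -/
lemma map_injective_of_retraction (G : MVF A) {B B' : Alg A} (f : B ⟶ B') [IsIso (G.bc f)]
    (ρ : (B' : Type u) →+ (B : Type u)) (hρ1 : ρ 1 = 1)
    (hρ : ∀ (c : B) (s : B'), ρ (f.hom c * s) = c * ρ s) (y : G.obj (pt B))
    (hy : (G.map (ptHom f)).hom y = 0) : y = 0 := by
  have hbij : Function.Bijective (G.bc f).hom :=
    (ConcreteCategory.isIso_iff_bijective (G.bc f)).1 inferInstance
  letI mB' : Module B B' := Module.compHom B' f.hom.toRingHom
  let ρ' : (B' : Type u) →ₗ[B] (B : Type u) :=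
    { toFun := ρ
      map_add' := ρ.map_add
      map_smul' := fun c s => hρ c s }
  let Rt : (B' : Type u) ⊗[B] (G.obj (pt B)) →ₗ[B] G.obj (pt B) :=
    (TensorProduct.lid B (G.obj (pt B))).toLinearMap ∘ₗ ρ'.rTensor (G.obj (pt B))
  have hRt : Rt ((1 : B') ⊗ₜ[B] y) = y := by
    simp only [Rt, LinearMap.comp_apply, LinearMap.rTensor_tmul, LinearEquiv.coe_coe]
    change (TensorProduct.lid B (G.obj (pt B))) (ρ 1 ⊗ₜ[B] y) = y
    rw [hρ1, TensorProduct.lid_tmul, one_smul]
  have h1 : (G.bc f).hom ((1 : B') ⊗ₜ[B, f.hom.toRingHom] y) = 0 :=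
    (bc_one_tmul G f y).trans hy
  have h2 : ((1 : B') ⊗ₜ[B, f.hom.toRingHom] y) = 0 :=
    hbij.1 (h1.trans (map_zero _).symm)
  rw [← hRt]
  exact (congrArg Rt h2).trans (map_zero Rt)

end Groth.Agent.Helper23.Adq

namespace Groth.Agent.Helper23.Adq

open Adeq ChangeOfRings

variable {A : Type u} [CommRing A]

/-- S8746: additive + unit-linear natural maps into a functor with flat base change are linear. -/
theorem linear_of_unit_linear (F G : MVF A)
    (φ : ∀ B : Alg A, F.obj (pt B) → G.obj (pt B))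
    (hnat : ∀ ⦃B B' : Alg A⦄ (f : B ⟶ B') (x : F.obj (pt B)),
      φ B' ((F.map (ptHom f)).hom x) = (G.map (ptHom f)).hom (φ B x))
    (hadd : ∀ (B : Alg A) (x y : F.obj (pt B)), φ B (x + y) = φ B x + φ B y)
    (hunit : ∀ (B : Alg A) (v : (B : Type u)ˣ) (x : F.obj (pt B)),
      φ B ((v : B) • x) = (v : B) • φ B x)
    (hG : ∀ ⦃B B' : Alg A⦄ (f : B ⟶ B'), f.hom.toRingHom.Flat → IsIso (G.bc f))
    (B : Alg A) (b : B) (x : F.obj (pt B)) : φ B (b • x) = b • φ B x := by
  by_cases hB : Subsingleton B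
  · haveI := hB
    haveI : Subsingleton (G.obj (pt B)) := Module.subsingleton B _
    exact Subsingleton.elim _ _
  · haveI : Nontrivial B := not_subsingleton_iff_nontrivial.mp hB
    let B' : Alg A := algOf A (AdjoinRoot (quadPoly b))
    let f : B ⟶ B' := CommAlgCat.ofHom (IsScalarTower.toAlgHom A B (AdjoinRoot (quadPoly b)))
    have hfb : ∀ c : B, f.hom c = AdjoinRoot.of (quadPoly b) c := fun c => rfl
    have hflat : f.hom.toRingHom.Flat := by
      haveI := (quadPoly_monic b).free_adjoinRoot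
      exact (RingHom.flat_algebraMap_iff (R := B) (S := AdjoinRoot (quadPoly b))).2 inferInstance
    haveI := hG f hflat
    obtain ⟨ρ, hρ⟩ := exists_retraction b
    have hinj : ∀ y : G.obj (pt B), (G.map (ptHom f)).hom y = 0 → y = 0 := by
      intro y hy
      refine map_injective_of_retraction G f ρ.toAddMonoidHom hρ ?_ y hy
      intro c s
      change ρ (AdjoinRoot.of (quadPoly b) c * s) = c * ρ s
      rw [← AdjoinRoot.algebraMap_eq, ← Algebra.smul_def, map_smul, smul_eq_mul]
    -- the two units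
    let r : (B' : Type u) := AdjoinRoot.root (quadPoly b)
    let s : (B' : Type u) := f.hom b - r
    have hrs : r * s = 1 := quadPoly_root_mul b
    let ur : (B' : Type u)ˣ := ⟨r, s, hrs, by rw [mul_comm]; exact hrs⟩
    let us : (B' : Type u)ˣ := ⟨s, r, by rw [mul_comm]; exact hrs, hrs⟩
    have hsum : f.hom b = r + s := by simp [s]
    let ξ' : F.obj (pt B') := (F.map (ptHom f)).hom x
    have h1 : (F.map (ptHom f)).hom (b • x) = (f.hom b • ξ' : F.obj (pt B')) :=
      PresheafOfModules.map_smul F (ptHom f) b x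
    have h2 : (G.map (ptHom f)).hom (b • φ B x) =
        (f.hom b • (G.map (ptHom f)).hom (φ B x) : G.obj (pt B')) :=
      PresheafOfModules.map_smul G (ptHom f) b (φ B x)
    have h3 : φ B' (f.hom b • ξ' : F.obj (pt B')) = (f.hom b • φ B' ξ' : G.obj (pt B')) := by
      rw [hsum, add_smul, hadd, add_smul]
      have e1 := hunit B' ur ξ'
      have e2 := hunit B' us ξ'
      rw [e1, e2]
    have h4 : (G.map (ptHom f)).hom (φ B (b • x) - b • φ B x) = 0 := by
      rw [map_sub, ← hnat f (b • x), h1, h3, h2, hnat f x]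
      exact sub_self _
    exact sub_eq_zero.mp (hinj _ h4)

end Groth.Agent.Helper23.Adq
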