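import Mathlib
import Groth.Agent.Lib.Helper23.Adq10
set_option autoImplicit false
universe u
open CategoryTheory CategoryTheory.Limits TensorProduct Opposite

namespace Groth.Agent.Helper23.Adq

open Adeq

variable {A : Type u} [CommRing A] {A' : Type u} [CommRing A'] [Algebra A A']

/-- the `A`-algebra structure on an `A'`-algebra (as in `Alg.restr`). -/
@[reducible] noncomputable def restrAlgebra (B' : Alg A') : Algebra A (B' : Type u) :=
  ((algebraMap A' (B' : Type u)).comp (algebraMap A A')).toAlgebra

attribute [local instance 10] restrAlgebra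

instance restr_isScalarTower (B' : Alg A') : IsScalarTower A A' (B' : Type u) :=
  IsScalarTower.of_algebraMap_eq (fun _ => rfl)

/-- the comparison iso `B' ⊗_{A'} (A' ⊗_A M) ≃ B' ⊗_A M`. -/
noncomputable def cbc (B' : Alg A') (M : Type (u + 1)) [AddCommGroup M] [Module A M] :
    (B' : Type u) ⊗[A'] (A' ⊗[A] M) ≃ₗ[(B' : Type u)] (B' : Type u) ⊗[A] M :=
  TensorProduct.AlgebraTensorModule.cancelBaseChange A A' B' B' M

lemma cbc_tmul (B' : Alg A') (M : Type (u + 1)) [AddCommGroup M] [Module A M] (b : B') (a' : A')
    (m : M) : cbc B' M (b ⊗ₜ[A'] (a' ⊗ₜ[A] m)) = (a' • b) ⊗ₜ[A] m :=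
  TensorProduct.AlgebraTensorModule.cancelBaseChange_tmul ..

lemma cbc_symm_tmul (B' : Alg A') (M : Type (u + 1)) [AddCommGroup M] [Module A M] (b : B')
    (m : M) : (cbc B' M).symm (b ⊗ₜ[A] m) = b ⊗ₜ[A'] ((1 : A') ⊗ₜ[A] m) :=
  TensorProduct.AlgebraTensorModule.cancelBaseChange_symm_tmul ..

end Groth.Agent.Helper23.Adq

namespace Groth.Agent.Helper23.Adq

open Adeq

variable {A : Type u} [CommRing A] {A' : Type u} [CommRing A'] [Algebra A A']

attribute [local instance 10] restrAlgebra

/-- base change of an `A`-module to `A'`, as an object of `ModuleCat A'`. -/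
noncomputable abbrev bcMod (A' : Type u) [CommRing A'] [Algebra A A'] (M : ModuleCat.{u + 1} A) :
    ModuleCat.{u + 1} A' := ModuleCat.of A' (A' ⊗[A] M)

/-- the comparison morphism `restr (underline M) ⟶ underline (A' ⊗ M)`. -/
noncomputable def theta (M : ModuleCat.{u + 1} A) :
    (restr A A').obj ((underline A).obj M) ⟶ (underline A').obj (bcMod A' M) :=
  PresheafOfModules.homMk
    { app X := AddCommGrpCat.ofHom
        ((cbc (A := A) X.unop.unop M).symm.toLinearMap.toAddMonoidHom)
      naturality {X Y} f := by
        ext x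
        change (cbc (A := A) Y.unop.unop M).symm
            ((((Alg.restr A A').map f.unop.unop).hom.toLinearMap.rTensor M) x) =
          (f.unop.unop.hom.toLinearMap.rTensor (A' ⊗[A] M)) ((cbc (A := A) X.unop.unop M).symm x)
        induction x using TensorProduct.induction_on with
        | zero => simp
        | tmul b m =>
          rw [LinearMap.rTensor_tmul, cbc_symm_tmul, cbc_symm_tmul, LinearMap.rTensor_tmul]
          rfl
        | add x y hx hy => simp only [map_add, hx, hy] }
    (by
      intro X r m
      exact (cbc (A := A) X.unop.unop M).symm.map_smul r m)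

end Groth.Agent.Helper23.Adq

namespace Groth.Agent.Helper23.Adq

open Adeq

variable {A : Type u} [CommRing A] {A' : Type u} [CommRing A'] [Algebra A A']

attribute [local instance 10] restrAlgebra

lemma theta_app_apply (M : ModuleCat.{u + 1} A) (B' : Alg A') (x : (B' : Type u) ⊗[A] M) :
    ((theta (A' := A') M).app (pt B')).hom x = (cbc B' M).symm x := rfl

lemma cbc_symm_baseChange {M N : Type (u + 1)} [AddCommGroup M] [Module A M] [AddCommGroup N]
    [Module A N] (α : M →ₗ[A] N) (B' : Alg A') (x : (B' : Type u) ⊗[A] M) :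
    (α.baseChange A').baseChange B' ((cbc B' M).symm x) = (cbc B' N).symm (α.baseChange B' x) := by
  induction x using TensorProduct.induction_on with
  | zero => simp
  | tmul b m =>
    rw [cbc_symm_tmul, LinearMap.baseChange_tmul, LinearMap.baseChange_tmul,
      LinearMap.baseChange_tmul, cbc_symm_tmul]
  | add x y hx hy => simp only [map_add, hx, hy]

/-- S8749: restriction of an adequate functor is adequate. -/
theorem adequate_restr (F : MVF A) (hF : adequate A F) :
    adequate A' ((restr A A').obj F) := by
  obtain ⟨M, N, α, ι, hinj, hzero, hex⟩ := exists_exact_of_adequate hF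
  let α' : bcMod A' M ⟶ bcMod A' N := ModuleCat.ofHom (α.hom.baseChange A')
  have happ : ∀ (B' : Alg A') (y : F.obj (pt ((Alg.restr A A').obj B'))),
      (((restr A A').map ι ≫ theta M).app (pt B')).hom y =
        (cbc B' M).symm ((ι.app (pt ((Alg.restr A A').obj B'))).hom y) := fun B' y => rfl
  refine adequate_of_exact α' ((restr A A').map ι ≫ theta M) ?_ ?_ ?_
  · intro B' y y' hyy
    have h1 := (happ B' y).symm.trans (hyy.trans (happ B' y'))
    exact hinj _ ((cbc B' M).symm.injective h1)
  · intro B' y
    refine (congrArg _ (happ B' y)).trans ?_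
    refine (cbc_symm_baseChange α.hom B' _).trans ?_
    have h2 := hzero ((Alg.restr A A').obj B') y
    exact (congrArg _ h2).trans (map_zero _)
  · intro B' x' hx'
    have h3 : α.hom.baseChange B' (cbc B' M x') = 0 := by
      apply (cbc B' N).symm.injective
      rw [← cbc_symm_baseChange, LinearEquiv.symm_apply_apply, map_zero]
      exact hx'
    obtain ⟨y, hy⟩ := hex ((Alg.restr A A').obj B') (cbc B' M x') h3
    refine ⟨y, (happ B' y).trans ?_⟩
    rw [hy, LinearEquiv.symm_apply_apply]

end Groth.Agent.Helper23.Adq
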