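import Mathlib
import Groth.Agent.Lib.Helper23.Adq11
set_option autoImplicit false
universe u
open CategoryTheory CategoryTheory.Limits TensorProduct Opposite

namespace Groth.Agent.Helper23.Adq

open Adeq

variable {A : Type u} [CommRing A] {A' : Type u} [CommRing A'] [Algebra A A']

/-- the `A`-module structure on an `A'`-module (as in `ModuleCat.restrictScalars`). -/
@[reducible] noncomputable def restrModule (M' : ModuleCat.{u + 1} A') : Module A (M' : Type (u + 1)) :=
  Module.compHom M' (algebraMap A A')

attribute [local instance 10] restrModule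

instance restrModule_isScalarTower (M' : ModuleCat.{u + 1} A') :
    IsScalarTower A A' (M' : Type (u + 1)) :=
  ⟨fun a a' m => by
    change (a • a') • m = algebraMap A A' a • (a' • m)
    rw [Algebra.smul_def, mul_smul]⟩

/-- restriction of scalars of an `A'`-module as an object of `ModuleCat A`. -/
noncomputable abbrev rsMod (A : Type u) [CommRing A] {A' : Type u} [CommRing A'] [Algebra A A']
    (M' : ModuleCat.{u + 1} A') : ModuleCat.{u + 1} A :=
  ModuleCat.of A (M' : Type (u + 1))

/-- restriction of scalars of an `A'`-linear map. -/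
noncomputable def rsHom {M' N' : ModuleCat.{u + 1} A'} (α' : M' ⟶ N') :
    (M' : Type (u + 1)) →ₗ[A] (N' : Type (u + 1)) where
  toFun := α'.hom
  map_add' := α'.hom.map_add
  map_smul' := fun a m => α'.hom.map_smul (algebraMap A A' a) m

lemma rsHom_apply {M' N' : ModuleCat.{u + 1} A'} (α' : M' ⟶ N') (m : M') :
    rsHom (A := A) α' m = α'.hom m := rfl

/-- the comparison equivalence `(A' ⊗_A B) ⊗_{A'} M' ≃ B ⊗_A M'`. -/
noncomputable def pbc (B : Type u) [CommRing B] [Algebra A B] (M' : ModuleCat.{u + 1} A') :
    (A' ⊗[A] B) ⊗[A'] (M' : Type (u + 1)) ≃+ B ⊗[A] (M' : Type (u + 1)) :=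
  (TensorProduct.comm A' (A' ⊗[A] B) M').toAddEquiv.trans
    ((TensorProduct.AlgebraTensorModule.cancelBaseChange A A' A' M' B).toAddEquiv.trans
      (TensorProduct.comm A M' B).toAddEquiv)

lemma pbc_tmul (B : Type u) [CommRing B] [Algebra A B] (M' : ModuleCat.{u + 1} A') (a' : A')
    (b : B) (m : M') : pbc B M' ((a' ⊗ₜ[A] b) ⊗ₜ[A'] m) = b ⊗ₜ[A] (a' • m) := by
  simp [pbc, TensorProduct.AlgebraTensorModule.cancelBaseChange_tmul]

lemma pbc_symm_tmul (B : Type u) [CommRing B] [Algebra A B] (M' : ModuleCat.{u + 1} A')
    (b : B) (m : M') : (pbc B M').symm (b ⊗ₜ[A] m) = ((1 : A') ⊗ₜ[A] b) ⊗ₜ[A'] m := by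
  rw [AddEquiv.symm_apply_eq, pbc_tmul, one_smul]

/-- induction principle for `(A' ⊗ B) ⊗ M'`. -/
lemma induction_pbc (B : Type u) [CommRing B] [Algebra A B] (M' : ModuleCat.{u + 1} A')
    {motive : (A' ⊗[A] B) ⊗[A'] (M' : Type (u + 1)) → Prop}
    (zero : motive 0) (tmul : ∀ (a' : A') (b : B) (m : M'), motive ((a' ⊗ₜ[A] b) ⊗ₜ[A'] m))
    (add : ∀ x y, motive x → motive y → motive (x + y))
    (x : (A' ⊗[A] B) ⊗[A'] (M' : Type (u + 1))) : motive x := by
  induction x using TensorProduct.induction_on with
  | zero => exact zero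
  | tmul t m =>
    induction t using TensorProduct.induction_on with
    | zero => rw [TensorProduct.zero_tmul]; exact zero
    | tmul a' b => exact tmul a' b m
    | add t t' ht ht' => rw [TensorProduct.add_tmul]; exact add _ _ ht ht'
  | add x y hx hy => exact add _ _ hx hy

end Groth.Agent.Helper23.Adq

namespace Groth.Agent.Helper23.Adq

open Adeq

variable {A : Type u} [CommRing A] {A' : Type u} [CommRing A'] [Algebra A A']

attribute [local instance 10] restrModule

lemma pbc_smul (B : Type u) [CommRing B] [Algebra A B] (M' : ModuleCat.{u + 1} A') (r : B)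
    (x : (A' ⊗[A] B) ⊗[A'] (M' : Type (u + 1))) :
    pbc B M' (((1 : A') ⊗ₜ[A] r : A' ⊗[A] B) • x) = r • pbc B M' x := by
  induction x using induction_pbc with
  | zero => simp
  | tmul a' b m =>
    rw [TensorProduct.smul_tmul', pbc_tmul, TensorProduct.smul_tmul', smul_eq_mul,
      Algebra.TensorProduct.tmul_mul_tmul, pbc_tmul, one_mul, smul_eq_mul]
  | add x y hx hy => simp only [smul_add, map_add, hx, hy]

/-- the comparison morphism `push (underline M') ⟶ underline (M' restricted to A)`. -/
noncomputable def thetaP (M' : ModuleCat.{u + 1} A') :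
    (push A A').obj ((underline A').obj M') ⟶ (underline A).obj (rsMod A M') :=
  PresheafOfModules.homMk
    { app X := AddCommGrpCat.ofHom (pbc (A := A) (X.unop.unop : Type u) M').toAddMonoidHom
      naturality {X Y} f := by
        ext x
        change pbc (A := A) (Y.unop.unop : Type u) M'
            ((((Alg.baseChange A A').map f.unop.unop).hom.toLinearMap.rTensor M') x) =
          (f.unop.unop.hom.toLinearMap.rTensor M') (pbc (A := A) (X.unop.unop : Type u) M' x)
        induction x using induction_pbc with
        | zero => simp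
        | tmul a' b m =>
          rw [LinearMap.rTensor_tmul, pbc_tmul]
          change pbc (A := A) (Y.unop.unop : Type u) M'
            ((a' ⊗ₜ[A] f.unop.unop.hom b) ⊗ₜ[A'] m) = _
          rw [pbc_tmul, LinearMap.rTensor_tmul]
          rfl
        | add x y hx hy => simp only [map_add, hx, hy] }
    (by
      intro X r x
      exact pbc_smul (A := A) (X.unop.unop : Type u) M' r x)

end Groth.Agent.Helper23.Adq

namespace Groth.Agent.Helper23.Adq

open Adeq

variable {A : Type u} [CommRing A] {A' : Type u} [CommRing A'] [Algebra A A']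

attribute [local instance 10] restrModule

lemma pbc_baseChange {M' N' : ModuleCat.{u + 1} A'} (α' : M' ⟶ N') (B : Type u) [CommRing B]
    [Algebra A B] (x : (A' ⊗[A] B) ⊗[A'] (M' : Type (u + 1))) :
    (rsHom (A := A) α').baseChange B (pbc B M' x) =
      pbc B N' (α'.hom.baseChange (A' ⊗[A] B) x) := by
  induction x using induction_pbc with
  | zero => simp
  | tmul a' b m =>
    rw [pbc_tmul, LinearMap.baseChange_tmul, LinearMap.baseChange_tmul, pbc_tmul, rsHom_apply]
    congr 1
    exact (α'.hom.map_smul a' m)
  | add x y hx hy => simp only [map_add, hx, hy]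

/-- S8750: `B ↦ F'(A' ⊗ B)` is adequate for adequate `F'`. -/
theorem adequate_push (F' : MVF A') (hF' : adequate A' F') :
    adequate A ((push A A').obj F') := by
  obtain ⟨M', N', α', ι, hinj, hzero, hex⟩ := exists_exact_of_adequate hF'
  let α : rsMod A M' ⟶ rsMod A N' := ModuleCat.ofHom (rsHom (A := A) α')
  have happ : ∀ (B : Alg A) (y : F'.obj (pt ((Alg.baseChange A A').obj B))),
      (((push A A').map ι ≫ thetaP M').app (pt B)).hom y =
        pbc (B : Type u) M' ((ι.app (pt ((Alg.baseChange A A').obj B))).hom y) := fun B y => rfl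
  refine adequate_of_exact α ((push A A').map ι ≫ thetaP M') ?_ ?_ ?_
  · intro B y y' hyy
    have h1 := (happ B y).symm.trans (hyy.trans (happ B y'))
    exact hinj _ ((pbc (B : Type u) M').injective h1)
  · intro B y
    refine (congrArg _ (happ B y)).trans ?_
    refine (pbc_baseChange α' (B : Type u) _).trans ?_
    have h2 := hzero ((Alg.baseChange A A').obj B) y
    exact (congrArg _ h2).trans (map_zero _)
  · intro B x hx
    have h3 : α'.hom.baseChange (A' ⊗[A] (B : Type u)) ((pbc (B : Type u) M').symm x) = 0 := by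
      apply (pbc (B : Type u) N').injective
      rw [← pbc_baseChange, AddEquiv.apply_symm_apply, map_zero]
      exact hx
    obtain ⟨y, hy⟩ := hex ((Alg.baseChange A A').obj B) ((pbc (B : Type u) M').symm x) h3
    refine ⟨y, (happ B y).trans ?_⟩
    rw [hy, AddEquiv.apply_symm_apply]

end Groth.Agent.Helper23.Adq
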