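import Mathlib
import Groth.Agent.Lib.Helper23.Adq12
set_option autoImplicit false
universe u
open CategoryTheory CategoryTheory.Limits TensorProduct Opposite

namespace Groth.Agent.Helper23.Adq

open Adeq

variable {A : Type u} [CommRing A] {A' : Type u} [CommRing A'] [Algebra A A']

/-- the `A`-algebra `A' ⊗ B`. -/
noncomputable abbrev Cb (A' : Type u) [CommRing A'] [Algebra A A'] (B : Alg A) : Alg A :=
  (Alg.restr A A').obj ((Alg.baseChange A A').obj B)

lemma unit_naturality {B B₁ : Alg A} (g : B ⟶ B₁) :
    Alg.unit A A' B ≫ (Alg.restr A A').map ((Alg.baseChange A A').map g) =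
      g ≫ Alg.unit A A' B₁ := by
  refine CommAlgCat.hom_ext (DFunLike.ext _ _ fun b => ?_)
  change (Algebra.TensorProduct.map (AlgHom.id A' A') g.hom) ((1 : A') ⊗ₜ[A] b) =
    (1 : A') ⊗ₜ[A] g.hom b
  rw [Algebra.TensorProduct.map_tmul]
  rfl

/-- the unit `F ⟶ push (restr F)`, valuewise `F(B) → F(A' ⊗ B)`. -/
noncomputable def etaT (F : MVF A) : F ⟶ (push A A').obj ((restr A A').obj F) :=
  PresheafOfModules.homMk
    { app X := AddCommGrpCat.ofHom
        (F.map (ptHom (Alg.unit A A' X.unop.unop))).hom.toAddMonoidHom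
      naturality {X Y} f := by
        ext x
        change (F.map (ptHom (Alg.unit A A' Y.unop.unop))).hom ((F.map f).hom x) =
          (F.map (ptHom ((Alg.restr A A').map ((Alg.baseChange A A').map f.unop.unop)))).hom
            ((F.map (ptHom (Alg.unit A A' X.unop.unop))).hom x)
        have h1 := PresheafOfModules.map_comp_apply F f (ptHom (Alg.unit A A' Y.unop.unop)) x
        have h2 := PresheafOfModules.map_comp_apply F (ptHom (Alg.unit A A' X.unop.unop))
          (ptHom ((Alg.restr A A').map ((Alg.baseChange A A').map f.unop.unop))) x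
        have h3 : f ≫ ptHom (Alg.unit A A' Y.unop.unop) =
            ptHom (Alg.unit A A' X.unop.unop) ≫
              ptHom ((Alg.restr A A').map ((Alg.baseChange A A').map f.unop.unop)) := by
          have := unit_naturality (A' := A') f.unop.unop
          exact congrArg (fun t => t.op.op) this.symm
        exact h1.symm.trans ((PresheafOfModules.congr_map_apply F h3 x).trans h2) }
    (by
      intro X r m
      exact PresheafOfModules.map_smul F (ptHom (Alg.unit A A' X.unop.unop)) r m)

lemma etaT_app_apply (F : MVF A) (B : Alg A) (x : F.obj (pt B)) :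
    ((etaT (A' := A') F).app (pt B)).hom x = (F.map (ptHom (Alg.unit A A' B))).hom x := rfl

end Groth.Agent.Helper23.Adq

namespace Groth.Agent.Helper23.Adq

open Adeq

variable {A : Type u} [CommRing A] {A' : Type u} [CommRing A'] [Algebra A A']

set_option maxHeartbeats 2000000 in
/-- S8751: descent of adequacy. -/
theorem adequate_of_descent (F : MVF A) (h₁ : adequate A' ((restr A A').obj F))
    (h₂ : ∀ B : Alg A, Function.Injective (F.map (ptHom (Alg.unit A A' B))).hom ∧
      ∀ y : F.obj (pt (Cb A' B)),
        (F.map (ptHom (Alg.unit A A' (Cb A' B)))).hom y =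
          (F.map (ptHom ((Alg.restr A A').map
            ((Alg.baseChange A A').map (Alg.unit A A' B))))).hom y →
        ∃ x, (F.map (ptHom (Alg.unit A A' B))).hom x = y) : adequate A F := by
  let G₁ : MVF A := (push A A').obj ((restr A A').obj F)
  have hG₁ : adequate A G₁ := adequate_push _ h₁
  let G₂ : MVF A := (push A A').obj ((restr A A').obj G₁)
  have hG₂ : adequate A G₂ := adequate_push _ (adequate_restr G₁ hG₁)
  let d₀ : G₁ ⟶ G₂ := etaT G₁
  let d₁ : G₁ ⟶ G₂ := (push A A').map ((restr A A').map (etaT F))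
  have hd₀ : ∀ (B : Alg A) (y : F.obj (pt (Cb A' B))), (d₀.app (pt B)).hom y =
      (F.map (ptHom ((Alg.restr A A').map
        ((Alg.baseChange A A').map (Alg.unit A A' B))))).hom y := fun B y => rfl
  have hd₁ : ∀ (B : Alg A) (y : F.obj (pt (Cb A' B))), (d₁.app (pt B)).hom y =
      (F.map (ptHom (Alg.unit A A' (Cb A' B)))).hom y := fun B y => rfl
  let δ : G₁ ⟶ G₂ := d₁ - d₀
  have hδ : ∀ (B : Alg A) (y : F.obj (pt (Cb A' B))), (δ.app (pt B)).hom y =
      (d₁.app (pt B)).hom y - (d₀.app (pt B)).hom y := fun B y => rfl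
  have w : etaT F ≫ δ = 0 := by
    ext X x
    let B : Alg A := X.unop.unop
    change (δ.app (pt B)).hom ((F.map (ptHom (Alg.unit A A' B))).hom x) = 0
    refine (hδ B ((F.map (ptHom (Alg.unit A A' B))).hom x)).trans ?_
    refine sub_eq_zero.mpr ?_
    refine (hd₁ B _).trans (Eq.trans ?_ (hd₀ B _).symm)
    have e1 := PresheafOfModules.map_comp_apply F (ptHom (Alg.unit A A' B))
      (ptHom (Alg.unit A A' (Cb A' B))) x
    have e2 := PresheafOfModules.map_comp_apply F (ptHom (Alg.unit A A' B))
      (ptHom ((Alg.restr A A').map ((Alg.baseChange A A').map (Alg.unit A A' B)))) x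
    have e3 : ptHom (Alg.unit A A' B) ≫ ptHom (Alg.unit A A' (Cb A' B)) =
        ptHom (Alg.unit A A' B) ≫
          ptHom ((Alg.restr A A').map ((Alg.baseChange A A').map (Alg.unit A A' B))) := by
      have := unit_naturality (A' := A') (Alg.unit A A' B)
      exact congrArg (fun t => t.op.op) this.symm
    exact e1.symm.trans ((PresheafOfModules.congr_map_apply F e3 x).trans e2)
  let k : F ⟶ kernel δ := kernel.lift δ (etaT F) w
  have hk : k ≫ kernel.ι δ = etaT F := kernel.lift_ι _ _ _
  have hkx : ∀ (B : Alg A) (x : F.obj (pt B)),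
      ((kernel.ι δ).app (pt B)).hom ((k.app (pt B)).hom x) =
        (F.map (ptHom (Alg.unit A A' B))).hom x := by
    intro B x
    have := congr(($hk).app (pt B) x)
    exact this
  haveI : Mono k := by
    apply PresheafOfModules.mono_of_injective
    intro X x x' hxx
    apply (h₂ X.unop.unop).1
    have e1 := hkx X.unop.unop x
    have e2 := hkx X.unop.unop x'
    exact e1.symm.trans ((congrArg ((kernel.ι δ).app X).hom hxx).trans e2)
  haveI : Epi k := by
    apply PresheafOfModules.epi_of_surjective
    intro X z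
    let B : Alg A := X.unop.unop
    let y : F.obj (pt (Cb A' B)) := ((kernel.ι δ).app (pt B)).hom z
    have hy : (δ.app (pt B)).hom y = 0 := by
      have := congr(($(kernel.condition δ)).app (pt B) z)
      exact this
    have hy2 := (hδ B y).symm.trans hy
    have hy3 : (d₁.app (pt B)).hom y = (d₀.app (pt B)).hom y := sub_eq_zero.mp hy2
    have hy4 := (hd₁ B y).symm.trans (hy3.trans (hd₀ B y))
    obtain ⟨x, hx⟩ := (h₂ B).2 y hy4
    refine ⟨x, ?_⟩
    apply PresheafOfModules.injective_of_mono (kernel.ι δ) (pt B)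
    exact (hkx B x).trans hx
  haveI : IsIso k := isIso_of_mono_of_epi k
  exact (adequate A).prop_of_iso (asIso k).symm (adequate_kernel δ hG₁ hG₂)

end Groth.Agent.Helper23.Adq
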