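import Mathlib
import Groth.Agent.Lib.Helper23.Adq13
set_option autoImplicit false
universe u
open CategoryTheory CategoryTheory.Limits TensorProduct Opposite

namespace Groth.Agent.Helper23.Adq

open Adeq

variable {A : Type u} [CommRing A]

/-- the forgetful functor from commutative algebras preserves filtered colimits. -/
theorem forget_commAlgCat_preserves (J : Type u) [SmallCategory J] [IsFiltered J] :
    PreservesColimitsOfShape J (forget (CommAlgCat.{u} A)) := by
  let e := commAlgCatEquivUnder (CommRingCat.of A)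
  haveI : IsConnected J := IsFiltered.isConnected J
  haveI h1 : PreservesColimitsOfShape J e.functor := inferInstance
  haveI h2 : PreservesColimitsOfShape J (Under.forget (CommRingCat.of A)) := inferInstance
  haveI h3 : PreservesColimitsOfShape J (forget CommRingCat.{u}) := inferInstance
  let iso : e.functor ⋙ Under.forget _ ⋙ forget CommRingCat.{u} ≅ forget (CommAlgCat.{u} A) :=
    NatIso.ofComponents (fun B => Iso.refl _) (by intro X Y f; rfl)
  exact preservesColimitsOfShape_of_natIso iso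

end Groth.Agent.Helper23.Adq

namespace Groth.Agent.Helper23.Adq

open Adeq

variable {A : Type u} [CommRing A]

section Filt

variable {J : Type u} [SmallCategory J] [IsFiltered J] (D : J ⥤ Alg A) (c : Cocone D)
  (hc : IsColimit c)

include hc

lemma alg_colimit_surj (x : c.pt) : ∃ (j : J) (b : D.obj j), (c.ι.app j).hom b = x := by
  haveI := forget_commAlgCat_preserves (A := A) J
  obtain ⟨j, b, hb⟩ := Types.jointly_surjective_of_isColimit
    (isColimitOfPreserves (forget (CommAlgCat.{u} A)) hc) x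
  exact ⟨j, b, hb⟩

lemma alg_colimit_eq (j : J) (b b' : D.obj j) (h : (c.ι.app j).hom b = (c.ι.app j).hom b') :
    ∃ (k : J) (g : j ⟶ k), (D.map g).hom b = (D.map g).hom b' := by
  haveI := forget_commAlgCat_preserves (A := A) J
  obtain ⟨k, g, hg⟩ := (Types.FilteredColimit.isColimit_eq_iff'
    (isColimitOfPreserves (forget (CommAlgCat.{u} A)) hc) b b').1 h
  exact ⟨k, g, hg⟩

end Filt

end Groth.Agent.Helper23.Adq

namespace Groth.Agent.Helper23.Adq

open Adeq

variable {A : Type u} [CommRing A]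

section Filt2

variable {J : Type u} [SmallCategory J] [IsFiltered J] (D : J ⥤ Alg A) (c : Cocone D)
  (hc : IsColimit c)

omit [IsFiltered J] in
lemma cocone_w_apply {j k : J} (g : j ⟶ k) (b : D.obj j) :
    (c.ι.app k).hom ((D.map g).hom b) = (c.ι.app j).hom b := by
  have := c.w g
  exact congr(($this).hom b)

omit [IsFiltered J] in
lemma map_comp_hom_apply {j k l : J} (g : j ⟶ k) (h : k ⟶ l) (b : D.obj j) :
    (D.map (g ≫ h)).hom b = (D.map h).hom ((D.map g).hom b) := by
  rw [D.map_comp]; rfl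

include hc

/-- finitely many elements of the colimit come from a common stage. -/
lemma alg_colimit_surj_fin (n : ℕ) (x : Fin n → c.pt) :
    ∃ (j : J) (b : Fin n → D.obj j), ∀ i, (c.ι.app j).hom (b i) = x i := by
  induction n with
  | zero => exact ⟨IsFiltered.nonempty.some, fun i => i.elim0, fun i => i.elim0⟩
  | succ n ih =>
    obtain ⟨j, b, hb⟩ := ih (fun i => x i.succ)
    obtain ⟨j₀, b₀, hb₀⟩ := alg_colimit_surj D c hc (x 0)
    refine ⟨IsFiltered.max j j₀, Fin.cons ((D.map (IsFiltered.rightToMax j j₀)).hom b₀)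
      (fun i => (D.map (IsFiltered.leftToMax j j₀)).hom (b i)), ?_⟩
    intro i
    refine Fin.cases ?_ (fun i => ?_) i
    · rw [Fin.cons_zero, cocone_w_apply, hb₀]
    · rw [Fin.cons_succ, cocone_w_apply, hb]

/-- finitely many equalities in the colimit hold at a common later stage. -/
lemma alg_colimit_eq_list (j : J) (l : List (((D.obj j : Alg A) : Type u) × ((D.obj j : Alg A) : Type u)))
    (h : ∀ p ∈ l, (c.ι.app j).hom p.1 = (c.ι.app j).hom p.2) :
    ∃ (k : J) (g : j ⟶ k), ∀ p ∈ l, (D.map g).hom p.1 = (D.map g).hom p.2 := by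
  induction l with
  | nil => exact ⟨j, 𝟙 j, fun p hp => by simp at hp⟩
  | cons p l ih =>
    obtain ⟨k, g, hg⟩ := ih (fun q hq => h q (List.mem_cons_of_mem _ hq))
    obtain ⟨k', g', hg'⟩ := alg_colimit_eq D c hc j p.1 p.2 (h p List.mem_cons_self)
    obtain ⟨k'', t, t', ht⟩ := IsFiltered.span g g'
    refine ⟨k'', g ≫ t, ?_⟩
    intro q hq
    rcases List.mem_cons.1 hq with rfl | hq
    · rw [ht, map_comp_hom_apply, map_comp_hom_apply, hg']
    · rw [map_comp_hom_apply, map_comp_hom_apply, hg q hq]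

end Filt2

end Groth.Agent.Helper23.Adq

namespace Groth.Agent.Helper23.Adq

open Adeq

variable {A : Type u} [CommRing A]

section Filt3

variable {J : Type u} [SmallCategory J] [IsFiltered J] (D : J ⥤ Alg A) (c : Cocone D)
  (hc : IsColimit c)

include hc

/-- every element of `C ⊗ M` comes from a finite stage. -/
lemma tensor_colimit_surj (M : Type (u + 1)) [AddCommGroup M] [Module A M]
    (x : (c.pt : Type u) ⊗[A] M) :
    ∃ (j : J) (w : (D.obj j : Type u) ⊗[A] M), ((c.ι.app j).hom.toLinearMap.rTensor M) w = x := by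
  obtain ⟨n, xs, m, rfl⟩ := TensorProduct.exists_sum_tmul_eq x
  obtain ⟨j, b, hb⟩ := alg_colimit_surj_fin D c hc n xs
  refine ⟨j, ∑ i, b i ⊗ₜ[A] m i, ?_⟩
  rw [map_sum]
  refine Finset.sum_congr rfl fun i _ => ?_
  rw [LinearMap.rTensor_tmul]
  congr 1
  exact hb i

/-- an element of `D_j ⊗ M` dying in `C ⊗ M` dies at a finite stage. -/
lemma tensor_colimit_inj (M : Type (u + 1)) [AddCommGroup M] [Module A M] (j : J)
    (w : (D.obj j : Type u) ⊗[A] M) (hw : ((c.ι.app j).hom.toLinearMap.rTensor M) w = 0) :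
    ∃ (k : J) (g : j ⟶ k), ((D.map g).hom.toLinearMap.rTensor M) w = 0 := by
  classical
  obtain ⟨N, b, m, rfl⟩ := TensorProduct.exists_sum_tmul_eq w
  let π : (Fin N → ULift.{u + 1} A) →ₗ[A] M := lc m
  let x : (c.pt : Type u) ⊗[A] (Fin N → ULift.{u + 1} A) :=
    cvec c.pt (fun n => (c.ι.app j).hom (b n))
  have hx : π.baseChange c.pt x = 0 := by
    rw [baseChange_lc_cvec, ← hw, map_sum]
    refine Finset.sum_congr rfl fun i _ => ?_
    rw [LinearMap.rTensor_tmul]
    rfl
  obtain ⟨r, k, a, μ, y, c', h1, h2, h3⟩ := exists_data π c.pt x hx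
  -- coordinates
  have hcoord : ∀ n, (c.ι.app j).hom (b n) = ∑ l, ((μ l) n).down • c' l := by
    intro n
    have := congrArg (coordB c.pt n) h3
    rw [coordB_cvec, map_sum] at this
    simp only [coordB_tmul] at this
    exact this
  -- lift the c' l
  obtain ⟨k₀, s, hs⟩ := alg_colimit_surj_fin D c hc r c'
  let k₁ := IsFiltered.max j k₀
  let g₁ : j ⟶ k₁ := IsFiltered.leftToMax j k₀
  let g₀ : k₀ ⟶ k₁ := IsFiltered.rightToMax j k₀
  let s' : Fin r → D.obj k₁ := fun l => (D.map g₀).hom (s l)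
  let b' : Fin N → D.obj k₁ := fun n => (D.map g₁).hom (b n)
  have hs' : ∀ l, (c.ι.app k₁).hom (s' l) = c' l := fun l => by
    rw [cocone_w_apply, hs]
  have hb' : ∀ n, (c.ι.app k₁).hom (b' n) = (c.ι.app j).hom (b n) := fun n => by
    rw [cocone_w_apply]
  -- the list of equalities
  let L : List (((D.obj k₁ : Alg A) : Type u) × ((D.obj k₁ : Alg A) : Type u)) :=
    List.ofFn (fun n : Fin N => (b' n, ∑ l, ((μ l) n).down • s' l)) ++
    List.ofFn (fun q : Fin k => (∑ l, a l q • s' l, 0))
  have hL : ∀ p ∈ L, (c.ι.app k₁).hom p.1 = (c.ι.app k₁).hom p.2 := by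
    intro p hp
    rcases List.mem_append.1 hp with hp | hp
    · obtain ⟨n, rfl⟩ := (List.mem_ofFn' _ _).1 hp
      simp only [map_sum, map_smul, hs', hb', hcoord]
    · obtain ⟨q, rfl⟩ := (List.mem_ofFn' _ _).1 hp
      simp only [map_sum, map_smul, hs', map_zero, h2]
  obtain ⟨k₂, g₂, hg₂⟩ := alg_colimit_eq_list D c hc k₁ L hL
  have e1 : ∀ n, (D.map g₂).hom (b' n) = ∑ l, ((μ l) n).down • (D.map g₂).hom (s' l) := by
    intro n
    have := hg₂ (b' n, ∑ l, ((μ l) n).down • s' l)
      (List.mem_append_left _ ((List.mem_ofFn' _ _).2 ⟨n, rfl⟩))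
    simpa only [map_sum, map_smul] using this
  have e2 : ∀ q, ∑ l, a l q • (D.map g₂).hom (s' l) = 0 := by
    intro q
    have := hg₂ (∑ l, a l q • s' l, 0)
      (List.mem_append_right _ ((List.mem_ofFn' _ _).2 ⟨q, rfl⟩))
    simpa only [map_sum, map_smul, map_zero] using this
  refine ⟨k₂, g₁ ≫ g₂, ?_⟩
  rw [map_sum]
  have e3 : ∀ n, ((D.map (g₁ ≫ g₂)).hom.toLinearMap.rTensor M) (b n ⊗ₜ[A] m n) =
      ∑ l, ((D.map g₂).hom (s' l)) ⊗ₜ[A] (((μ l) n).down • m n) := by
    intro n
    rw [LinearMap.rTensor_tmul]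
    change ((D.map (g₁ ≫ g₂)).hom (b n)) ⊗ₜ[A] m n = _
    rw [map_comp_hom_apply, e1 n, TensorProduct.sum_tmul]
    refine Finset.sum_congr rfl fun l _ => ?_
    rw [TensorProduct.smul_tmul]
  simp only [e3]
  rw [Finset.sum_comm]
  have e4 : ∀ l, ∑ n, ((D.map g₂).hom (s' l)) ⊗ₜ[A] (((μ l) n).down • m n) =
      ((D.map g₂).hom (s' l)) ⊗ₜ[A] (∑ q, a l q • y q) := by
    intro l
    rw [← TensorProduct.tmul_sum, ← h1 l]
    congr 1
    exact (lc_apply m (μ l)).symm
  simp only [e4]
  simp only [TensorProduct.tmul_sum, TensorProduct.tmul_smul]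
  rw [Finset.sum_comm]
  refine Finset.sum_eq_zero fun q _ => ?_
  have e5 : ∑ l, a l q • ((D.map g₂).hom (s' l) ⊗ₜ[A] y q) =
      (∑ l, a l q • (D.map g₂).hom (s' l)) ⊗ₜ[A] y q := by
    rw [TensorProduct.sum_tmul]
    simp only [TensorProduct.smul_tmul']
  rw [e5, e2 q, TensorProduct.zero_tmul]

end Filt3

end Groth.Agent.Helper23.Adq

namespace Groth.Agent.Helper23.Adq

open Adeq

variable {A : Type u} [CommRing A]

omit [CommRing A] in
lemma rTensor_comp_apply' {B B₁ B₂ : Type u} [CommRing A] [CommRing B] [CommRing B₁] [CommRing B₂]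
    [Algebra A B] [Algebra A B₁] [Algebra A B₂] (f : B →ₐ[A] B₁) (g : B₁ →ₐ[A] B₂)
    {M : Type*} [AddCommGroup M] [Module A M] (w : B ⊗[A] M) :
    ((g.comp f).toLinearMap.rTensor M) w = (g.toLinearMap.rTensor M) ((f.toLinearMap.rTensor M) w) := by
  rw [AlgHom.comp_toLinearMap, LinearMap.rTensor_comp]; rfl

/-- S8739: adequate functors commute with filtered colimits. -/
theorem adequate_preserves_filtered (F : MVF A) (hF : adequate A F) {J : Type u} [SmallCategory J]
    [IsFiltered J] (D : J ⥤ Alg A) (c : Cocone D) (hc : IsColimit c) :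
    Nonempty (IsColimit (F.toAb.mapCocone c)) := by
  obtain ⟨M, N, α, ι, hinj, hzero, hex⟩ := exists_exact_of_adequate hF
  haveI : PreservesFilteredColimitsOfSize.{u, u} (forget AddCommGrpCat.{u + 1}) :=
    preservesFilteredColimitsOfSize_shrink.{u, u + 1, u, u + 1} _
  haveI : PreservesColimitsOfShape J (forget AddCommGrpCat.{u + 1}) :=
    PreservesFilteredColimitsOfSize.preserves_filtered_colimits J
  haveI : ReflectsColimitsOfShape J (forget AddCommGrpCat.{u + 1}) :=
    reflectsColimitsOfShape_of_reflectsIsomorphisms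
  -- compatibility of transition maps
  have hcomp : ∀ {j k : J} (g : j ⟶ k) (w : (D.obj j : Type u) ⊗[A] M),
      ((c.ι.app k).hom.toLinearMap.rTensor M) (((D.map g).hom.toLinearMap.rTensor M) w) =
        ((c.ι.app j).hom.toLinearMap.rTensor M) w := by
    intro j k g w
    rw [← rTensor_comp_apply']
    have := c.w g
    have h2 : (c.ι.app k).hom.comp (D.map g).hom = (c.ι.app j).hom := congr(($this).hom)
    rw [h2]
  refine ReflectsColimit.reflects (F := forget AddCommGrpCat.{u + 1})
    (Types.FilteredColimit.isColimitOf' _ _ ?_ ?_)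
  · intro (x : F.obj (pt c.pt))
    obtain ⟨j, w, hw⟩ := tensor_colimit_surj D c hc M ((ι.app (pt c.pt)).hom x)
    have h1 : ((c.ι.app j).hom.toLinearMap.rTensor N) (α.hom.baseChange (D.obj j) w) = 0 := by
      rw [← rTensor_baseChange_comm, hw]
      exact hzero c.pt x
    obtain ⟨k, g, hg⟩ := tensor_colimit_inj D c hc N j _ h1
    have h2 : α.hom.baseChange (D.obj k) (((D.map g).hom.toLinearMap.rTensor M) w) = 0 := by
      rw [rTensor_baseChange_comm]; exact hg
    obtain ⟨xk, hxk⟩ := hex (D.obj k) _ h2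
    refine ⟨k, xk, ?_⟩
    change x = (F.map (ptHom (c.ι.app k))).hom xk
    apply hinj c.pt
    refine Eq.trans ?_ (naturality_apply ι (c.ι.app k) xk).symm
    change _ = ((c.ι.app k).hom.toLinearMap.rTensor M) ((ι.app (pt (D.obj k))).hom xk)
    rw [hxk, hcomp, hw]
  · intro j (x : F.obj (pt (D.obj j))) (y : F.obj (pt (D.obj j))) hxy
    have hxy' : (F.map (ptHom (c.ι.app j))).hom x = (F.map (ptHom (c.ι.app j))).hom y := hxy
    have h1 : ((c.ι.app j).hom.toLinearMap.rTensor M)
        (appU ι (D.obj j) x - appU ι (D.obj j) y) = 0 := by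
      rw [map_sub, sub_eq_zero]
      have e1 := naturality_apply ι (c.ι.app j) x
      have e2 := naturality_apply ι (c.ι.app j) y
      exact e1.symm.trans ((congrArg (ι.app (pt c.pt)).hom hxy').trans e2)
    obtain ⟨k, g, hg⟩ := tensor_colimit_inj D c hc M j _ h1
    refine ⟨k, g, ?_⟩
    change (F.map (ptHom (D.map g))).hom x = (F.map (ptHom (D.map g))).hom y
    apply hinj (D.obj k)
    rw [map_sub, sub_eq_zero] at hg
    have e1 := naturality_apply ι (D.map g) x
    have e2 := naturality_apply ι (D.map g) y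
    exact e1.trans (hg.trans e2.symm)

end Groth.Agent.Helper23.Adq
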