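import Groth.Agent.Lib.Helper23.Adq14
import Mathlib.CategoryTheory.Abelian.Subcategory
import Mathlib.CategoryTheory.Adjunction.AdjointFunctorTheorems
import Mathlib.CategoryTheory.Abelian.Subobject
import Mathlib.CategoryTheory.Generator.Basic

universe u

open CategoryTheory Limits Opposite TensorProduct

namespace Groth.Agent.Helper23.Adq

open Adeq

variable {A : Type u} [CommRing A]

instance closedColim (J : Type (u + 1)) [SmallCategory J] :
    (adequate A).IsClosedUnderColimitsOfShape J where
  colimitsOfShape_le := by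
    rintro X ⟨h⟩
    have h1 := adequate_colimit h.diag h.prop_diag_obj
    exact (adequate A).prop_of_iso
      ((colimit.isColimit h.diag).coconePointUniqueUpToIso h.isColimit) h1

instance closedKernels : (adequate A).IsClosedUnderKernels where
  kernels_le := by
    rintro _ ⟨f, k, hk, ⟨hX, hY⟩⟩
    exact (adequate A).prop_of_iso (IsLimit.conePointUniqueUpToIso (kernelIsKernel f) hk)
      (adequate_kernel f hX hY)

instance closedCokernels : (adequate A).IsClosedUnderCokernels where
  cokernels_le := by
    rintro _ ⟨f, k, hk, ⟨hX, hY⟩⟩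
    exact (adequate A).prop_of_iso (IsColimit.coconePointUniqueUpToIso (cokernelIsCokernel f) hk)
      (adequate_cokernel f hX hY)

instance closedEmpty : (adequate A).IsClosedUnderColimitsOfShape (Discrete.{0} PEmpty) :=
  ObjectProperty.IsClosedUnderColimitsOfShape.of_equivalence
    (J := Discrete PEmpty.{u + 2})
    (Discrete.equivalence (Equiv.equivOfIsEmpty _ _))

instance closedPair : (adequate A).IsClosedUnderColimitsOfShape (Discrete WalkingPair) :=
  ObjectProperty.IsClosedUnderColimitsOfShape.of_equivalence
    (J := Discrete (ULift.{u + 1} WalkingPair))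
    (Discrete.equivalence Equiv.ulift)

instance containsZero : (adequate A).ContainsZero where
  exists_zero := ⟨⊥_ (MVF A), IsZero.of_iso (isZero_zero _) HasZeroObject.zeroIsoInitial.symm,
    (adequate A).prop_initial⟩

instance closedBinaryProducts : (adequate A).IsClosedUnderBinaryProducts where
  limitsOfShape_le := by
    rintro X ⟨h⟩
    let X₁ := h.diag.obj ⟨WalkingPair.left⟩
    let X₂ := h.diag.obj ⟨WalkingPair.right⟩
    have h1 : adequate A (X₁ ⊞ X₂) :=
      (adequate A).prop_of_isColimit_binaryCofan (BinaryBiproduct.isColimit X₁ X₂)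
        (h.prop_diag_obj _) (h.prop_diag_obj _)
    have e1 : h.diag ≅ pair X₁ X₂ := diagramIsoPair h.diag
    have hl : IsLimit ((Cone.postcompose e1.hom).obj ⟨X, h.π⟩) :=
      (IsLimit.postcomposeHomEquiv e1 _).symm h.isLimit
    exact (adequate A).prop_of_iso
      (IsLimit.conePointUniqueUpToIso (BinaryBiproduct.isLimit X₁ X₂) hl) h1

instance closedFiniteProducts : (adequate A).IsClosedUnderFiniteProducts :=
  ObjectProperty.IsClosedUnderFiniteProducts.mk'

noncomputable instance : Abelian (Adequate A) := inferInstance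

instance : HasColimits (Adequate A) := ⟨fun _ _ => inferInstance⟩

instance : PreservesColimits (adequate A).ι := ⟨fun {_} _ => inferInstance⟩


/-- the linearly adequate functor `Lin a` as an object of `Adequate A`. -/
noncomputable def linObj (i : Σ (r : ℕ) (k : ℕ), Fin r → Fin k → A) : Adequate A :=
  ⟨Lin i.2.2, ⟨Fr A i.1, Fr A i.2.1, matHom i.2.2, ⟨Iso.refl _⟩⟩⟩

/-- the small family of objects `Lin a`. -/
def linProp : ObjectProperty (Adequate A) := .ofObj (linObj (A := A))

instance : ObjectProperty.Small.{u + 1} (linProp (A := A)) := by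
  dsimp [linProp]
  infer_instance

lemma sep_aux {X Y : MVF A} (hX : adequate A X) (f g : X ⟶ Y)
    (h : ∀ (r k : ℕ) (a : Fin r → Fin k → A) (s : Lin a ⟶ X), s ≫ f = s ≫ g) : f = g := by
  obtain ⟨M, N, α, ⟨e⟩⟩ := hX
  apply PresheafOfModules.hom_ext
  intro W
  obtain ⟨⟨B⟩⟩ := W
  apply ModuleCat.hom_ext
  refine LinearMap.ext fun x => ?_
  obtain ⟨r, k, a, μ, t, z, -, hz⟩ := exists_lin_hit α B ((e.hom.app (pt B)).hom x)
  have h1 := h r k a (t ≫ e.inv)
  have h3 : ((t ≫ e.inv).app (pt B)).hom z = x := by
    rw [comp_app_apply, hz]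
    exact congr((($(e.hom_inv_id)).app (pt B)).hom x)
  have h2 : (((t ≫ e.inv) ≫ f).app (pt B)).hom z = (((t ≫ e.inv) ≫ g).app (pt B)).hom z := by
    rw [h1]
  rw [comp_app_apply (t ≫ e.inv) f, comp_app_apply (t ≫ e.inv) g, h3] at h2
  exact h2

lemma linProp_isSeparating : (linProp (A := A)).IsSeparating := by
  intro X Y f g h
  apply ObjectProperty.hom_ext
  apply sep_aux X.property
  intro r k a s
  have h1 := h (linObj ⟨r, k, a⟩) (ObjectProperty.ofObj_apply (linObj (A := A)) ⟨r, k, a⟩) ((adequate A).homMk s)
  have h2 := congrArg (fun q => q.hom) h1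
  exact h2

instance : WellPowered.{u + 1} (Adequate A) :=
  wellPowered_of_isDetecting (linProp_isSeparating (A := A)).isDetecting

instance : WellPowered.{u + 1} (Adequate A)ᵒᵖ := inferInstance

/-- S8752: the inclusion of adequate functors into all module-valued functors has a right
adjoint. -/
theorem ι_isLeftAdjoint : (adequate A).ι.IsLeftAdjoint :=
  isLeftAdjoint_of_preservesColimits_of_isSeparating (linProp_isSeparating (A := A)) _

end Groth.Agent.Helper23.Adq
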