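import Groth.Agent.Lib.Helper23.Adq15
import Mathlib.CategoryTheory.Abelian.GrothendieckCategory.EnoughInjectives
import Mathlib.CategoryTheory.Abelian.GrothendieckAxioms.FunctorCategory
import Mathlib.Algebra.Category.Grp.AB
import Mathlib.Algebra.Homology.ShortComplex.ExactFunctor

universe u

open CategoryTheory Limits Opposite TensorProduct

namespace Groth.Agent.Helper23.Adq

open Adeq

variable {A : Type u} [CommRing A]

instance mvf_ab5 (J : Type (u + 1)) [SmallCategory J] [IsFiltered J] :
    HasExactColimitsOfShape J (MVF A) :=
  HasExactColimitsOfShape.domain_of_functor J (PresheafOfModules.toPresheaf (ringOf A))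

instance ι_preservesFiniteLimits : PreservesFiniteLimits (adequate A).ι :=
  ((Functor.preservesFiniteLimits_tfae (adequate A).ι).out 2 3).1
    (fun _ _ f => (adequate A).preservesKernels_ι f)

instance adequate_ab5 (J : Type (u + 1)) [SmallCategory J] [IsFiltered J] :
    HasExactColimitsOfShape J (Adequate A) :=
  HasExactColimitsOfShape.domain_of_functor J (adequate A).ι

instance : HasSeparator (Adequate A) := by
  haveI : HasColimitsOfSize.{u, u} (Adequate A) := hasColimitsOfSizeShrink.{u, u, u + 1, u + 1} _
  exact ⟨⟨_, (linProp_isSeparating (A := A)).isSeparator_coproduct⟩⟩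

instance : IsGrothendieckAbelian.{u + 1} (Adequate A) where
  ab5OfSize := ⟨fun J _ _ => inferInstance⟩

/-- S8753. -/
theorem enoughInjectives_adequate : EnoughInjectives (Adequate A) := inferInstance

end Groth.Agent.Helper23.Adq
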