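import Mathlib
import Groth.Agent.Lib.Helper23.Adq16
set_option autoImplicit false
universe u
open CategoryTheory CategoryTheory.Limits TensorProduct Opposite

/-! Towards S8747: extensions of a linearly adequate functor by `underline M` split.
Part I: decomposition of values on the square-zero extension `B[ε₁, ε₂]`. -/

namespace Groth.Agent.Helper23.Adq

/-- left-exact five lemma for additive maps. -/
theorem bij_of_left_exact {X' X X'' Y' Y Y'' : Type*} [AddCommGroup X'] [AddCommGroup X]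
    [AddCommGroup X''] [AddCommGroup Y'] [AddCommGroup Y] [AddCommGroup Y'']
    (i : X' →+ X) (p : X →+ X'') (j : Y' →+ Y) (q : Y →+ Y'')
    (φ' : X' →+ Y') (φ : X →+ Y) (φ'' : X'' →+ Y'')
    (h1 : ∀ x, j (φ' x) = φ (i x)) (h2 : ∀ x, q (φ x) = φ'' (p x))
    (hi : Function.Injective i) (hip : ∀ x, p x = 0 → ∃ x', i x' = x)
    (hj : Function.Injective j) (hjq : ∀ y, q (j y) = 0)
    (hφ : Function.Bijective φ) (hφ'' : Function.Injective φ'') : Function.Bijective φ' := by
  constructor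
  · intro x y hxy
    apply hi
    apply hφ.1
    rw [← h1, ← h1, hxy]
  · intro y'
    obtain ⟨x, hx⟩ := hφ.2 (j y')
    have h3 : p x = 0 := by
      apply hφ''
      rw [← h2, hx, hjq, map_zero]
    obtain ⟨x', rfl⟩ := hip x h3
    refine ⟨x', hj ?_⟩
    rw [h1, hx]

/-- short five lemma for additive maps. -/
theorem bij_of_short_exact {X' X X'' Y' Y Y'' : Type*} [AddCommGroup X'] [AddCommGroup X]
    [AddCommGroup X''] [AddCommGroup Y'] [AddCommGroup Y] [AddCommGroup Y'']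
    (i : X' →+ X) (p : X →+ X'') (j : Y' →+ Y) (q : Y →+ Y'')
    (φ' : X' →+ Y') (φ : X →+ Y) (φ'' : X'' →+ Y'')
    (h1 : ∀ x, j (φ' x) = φ (i x)) (h2 : ∀ x, q (φ x) = φ'' (p x))
    (hip : ∀ x, p x = 0 → ∃ x', i x' = x) (hp : Function.Surjective p)
    (hj : Function.Injective j) (hjq : ∀ y, q y = 0 → ∃ y', j y' = y)
    (hφ' : Function.Bijective φ') (hφ'' : Function.Bijective φ'') : Function.Bijective φ := by
  constructor
  · rw [injective_iff_map_eq_zero]
    intro x hx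
    have h3 : p x = 0 := by
      apply hφ''.1
      rw [← h2, hx, map_zero, map_zero]
    obtain ⟨x', rfl⟩ := hip x h3
    have h4 : φ' x' = 0 := by
      apply hj
      rw [h1, hx, map_zero]
    have h5 : x' = 0 := hφ'.1 (h4.trans (map_zero φ').symm)
    rw [h5, map_zero]
  · intro y
    obtain ⟨x'', hx''⟩ := hφ''.2 (q y)
    obtain ⟨x, rfl⟩ := hp x''
    have h3 : q (y - φ x) = 0 := by rw [map_sub, h2, hx'', sub_self]
    obtain ⟨y', hy'⟩ := hjq _ h3
    obtain ⟨x', rfl⟩ := hφ'.2 y'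
    refine ⟨x + i x', ?_⟩
    rw [map_add, ← h1, hy']
    abel

end Groth.Agent.Helper23.Adq

namespace Groth.Agent.Helper23.Adq

section Tsz

variable (A : Type u) [CommRing A] (B : Type u) [CommRing B] [Algebra A B]

/-- coordinate inclusions and projections of `B[ε₁, ε₂]` as `A`-linear maps. -/
noncomputable def tj0 : B →ₗ[A] TrivSqZeroExt B (B × B) := (TrivSqZeroExt.inlAlgHom A B (B × B)).toLinearMap
noncomputable def tj1 : B →ₗ[A] TrivSqZeroExt B (B × B) :=
  ((TrivSqZeroExt.inrHom B (B × B)) ∘ₗ (LinearMap.inl B B B)).restrictScalars A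
noncomputable def tj2 : B →ₗ[A] TrivSqZeroExt B (B × B) :=
  ((TrivSqZeroExt.inrHom B (B × B)) ∘ₗ (LinearMap.inr B B B)).restrictScalars A
noncomputable def tk0 : TrivSqZeroExt B (B × B) →ₗ[A] B := (TrivSqZeroExt.fstHom A B (B × B)).toLinearMap
noncomputable def tk1 : TrivSqZeroExt B (B × B) →ₗ[A] B :=
  ((LinearMap.fst B B B) ∘ₗ (TrivSqZeroExt.sndHom B (B × B))).restrictScalars A
noncomputable def tk2 : TrivSqZeroExt B (B × B) →ₗ[A] B :=
  ((LinearMap.snd B B B) ∘ₗ (TrivSqZeroExt.sndHom B (B × B))).restrictScalars A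

lemma tk0_tj0 : tk0 A B ∘ₗ tj0 A B = LinearMap.id := by ext; simp [tk0, tj0]
lemma tk0_tj1 : tk0 A B ∘ₗ tj1 A B = 0 := by ext; simp [tk0, tj1]
lemma tk0_tj2 : tk0 A B ∘ₗ tj2 A B = 0 := by ext; simp [tk0, tj2]
lemma tk1_tj0 : tk1 A B ∘ₗ tj0 A B = 0 := by ext; simp [tk1, tj0]
lemma tk1_tj1 : tk1 A B ∘ₗ tj1 A B = LinearMap.id := by ext; simp [tk1, tj1]
lemma tk1_tj2 : tk1 A B ∘ₗ tj2 A B = 0 := by ext; simp [tk1, tj2]
lemma tk2_tj0 : tk2 A B ∘ₗ tj0 A B = 0 := by ext; simp [tk2, tj0]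
lemma tk2_tj1 : tk2 A B ∘ₗ tj1 A B = 0 := by ext; simp [tk2, tj1]
lemma tk2_tj2 : tk2 A B ∘ₗ tj2 A B = LinearMap.id := by ext; simp [tk2, tj2]

lemma tj_tk_sum : tj0 A B ∘ₗ tk0 A B + tj1 A B ∘ₗ tk1 A B + tj2 A B ∘ₗ tk2 A B = LinearMap.id := by
  apply LinearMap.ext
  intro x
  ext <;> simp [tk0, tj0, tk1, tj1, tk2, tj2]

variable (M : Type*) [AddCommGroup M] [Module A M]

/-- tensor-level decomposition map. -/
noncomputable def PhiU : (B ⊗[A] M) × (B ⊗[A] M) × (B ⊗[A] M) →+ TrivSqZeroExt B (B × B) ⊗[A] M :=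
  AddMonoidHom.mk' (fun g => (tj0 A B).rTensor M g.1 + (tj1 A B).rTensor M g.2.1
    + (tj2 A B).rTensor M g.2.2)
    (by
      intro g g'
      simp only [Prod.fst_add, Prod.snd_add, map_add]
      abel)

lemma PhiU_apply (g : (B ⊗[A] M) × (B ⊗[A] M) × (B ⊗[A] M)) :
    PhiU A B M g = (tj0 A B).rTensor M g.1 + (tj1 A B).rTensor M g.2.1
      + (tj2 A B).rTensor M g.2.2 := rfl

lemma rTensor_comp_apply'' {P Q R : Type*} [AddCommGroup P] [Module A P] [AddCommGroup Q]
    [Module A Q] [AddCommGroup R] [Module A R] (f : Q →ₗ[A] R) (g : P →ₗ[A] Q) (x : P ⊗[A] M) :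
    f.rTensor M (g.rTensor M x) = (f ∘ₗ g).rTensor M x := by
  rw [LinearMap.rTensor_comp]; rfl

lemma PhiU_bijective : Function.Bijective (PhiU A B M) := by
  constructor
  · rw [injective_iff_map_eq_zero]
    intro g hg
    rw [PhiU_apply] at hg
    have h0 := congrArg ((tk0 A B).rTensor M) hg
    have h1 := congrArg ((tk1 A B).rTensor M) hg
    have h2 := congrArg ((tk2 A B).rTensor M) hg
    simp only [map_add, rTensor_comp_apply'', tk0_tj0, tk0_tj1, tk0_tj2, tk1_tj0, tk1_tj1,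
      tk1_tj2, tk2_tj0, tk2_tj1, tk2_tj2, LinearMap.rTensor_id, LinearMap.rTensor_zero,
      LinearMap.id_apply, LinearMap.zero_apply, add_zero, zero_add, map_zero] at h0 h1 h2
    ext <;> simp [h0, h1, h2]
  · intro x
    refine ⟨((tk0 A B).rTensor M x, (tk1 A B).rTensor M x, (tk2 A B).rTensor M x), ?_⟩
    rw [PhiU_apply]
    simp only [rTensor_comp_apply'']
    rw [← LinearMap.add_apply, ← LinearMap.add_apply, ← LinearMap.rTensor_add,
      ← LinearMap.rTensor_add, tj_tk_sum, LinearMap.rTensor_id, LinearMap.id_apply]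

lemma eps1_smul (g : B ⊗[A] M) :
    (TrivSqZeroExt.inr ((1 : B), (0 : B)) : TrivSqZeroExt B (B × B)) • ((tj0 A B).rTensor M g) =
      (tj1 A B).rTensor M g := by
  induction g using TensorProduct.induction_on with
  | zero => simp
  | tmul b m =>
    rw [LinearMap.rTensor_tmul, LinearMap.rTensor_tmul, TensorProduct.smul_tmul']
    congr 1
    simp only [tj0, tj1, AlgHom.toLinearMap_apply, TrivSqZeroExt.inlAlgHom_apply,
      LinearMap.coe_restrictScalars, LinearMap.coe_comp, Function.comp_apply,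
      TrivSqZeroExt.inrHom_apply, LinearMap.inl_apply]
    rw [smul_eq_mul, TrivSqZeroExt.inr_mul_inl]
    congr 1
    ext <;> simp
  | add x y hx hy => rw [map_add, smul_add, hx, hy, map_add]

lemma eps2_smul (g : B ⊗[A] M) :
    (TrivSqZeroExt.inr ((0 : B), (1 : B)) : TrivSqZeroExt B (B × B)) • ((tj0 A B).rTensor M g) =
      (tj2 A B).rTensor M g := by
  induction g using TensorProduct.induction_on with
  | zero => simp
  | tmul b m =>
    rw [LinearMap.rTensor_tmul, LinearMap.rTensor_tmul, TensorProduct.smul_tmul']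
    congr 1
    simp only [tj0, tj2, AlgHom.toLinearMap_apply, TrivSqZeroExt.inlAlgHom_apply,
      LinearMap.coe_restrictScalars, LinearMap.coe_comp, Function.comp_apply,
      TrivSqZeroExt.inrHom_apply, LinearMap.inr_apply]
    rw [smul_eq_mul, TrivSqZeroExt.inr_mul_inl]
    congr 1
    ext <;> simp
  | add x y hx hy => rw [map_add, smul_add, hx, hy, map_add]

end Tsz

end Groth.Agent.Helper23.Adq

namespace Groth.Agent.Helper23.Adq

open Adeq

variable {A : Type u} [CommRing A]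

/-- the square-zero extension `B[ε₁, ε₂]`. -/
abbrev TB (B : Alg A) : Alg A := algOf A (TrivSqZeroExt B (B × B))

/-- the inclusion `B → B[ε₁, ε₂]`. -/
noncomputable def inclT (B : Alg A) : B ⟶ TB B :=
  CommAlgCat.ofHom (TrivSqZeroExt.inlAlgHom A B (B × B))

/-- `ε₁`. -/
def eps1 (B : Alg A) : TB B := (TrivSqZeroExt.inr ((1 : B), (0 : B)) : TrivSqZeroExt B (B × B))

/-- `ε₂`. -/
def eps2 (B : Alg A) : TB B := (TrivSqZeroExt.inr ((0 : B), (1 : B)) : TrivSqZeroExt B (B × B))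

/-- the transition map of `F` along `f`, as an additive map between the honest values. -/
noncomputable def mapE (F : MVF A) {B B' : Alg A} (f : B ⟶ B') : F.obj (pt B) →+ F.obj (pt B') :=
  AddMonoidHom.mk' (fun x => (F.map (ptHom f)).hom x) (fun x y => map_add _ x y)

lemma mapE_apply (F : MVF A) {B B' : Alg A} (f : B ⟶ B') (x : F.obj (pt B)) :
    mapE F f x = (F.map (ptHom f)).hom x := rfl

lemma mapE_smul (F : MVF A) {B B' : Alg A} (f : B ⟶ B') (b : B) (x : F.obj (pt B)) :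
    mapE F f (b • x) = f.hom b • mapE F f x :=
  PresheafOfModules.map_smul F (ptHom f) b x

lemma mapE_comp (F : MVF A) {B B' B'' : Alg A} (f : B ⟶ B') (g : B' ⟶ B'') (x : F.obj (pt B)) :
    mapE F (f ≫ g) x = mapE F g (mapE F f x) := by
  change (F.map (ptHom (f ≫ g))).hom x = (F.map (ptHom g)).hom ((F.map (ptHom f)).hom x)
  have : ptHom (f ≫ g) = ptHom f ≫ ptHom g := rfl
  rw [this, F.map_comp]
  rfl

lemma mapE_id (F : MVF A) (B : Alg A) (x : F.obj (pt B)) : mapE F (𝟙 B) x = x := by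
  change (F.map (ptHom (𝟙 B))).hom x = x
  have : ptHom (𝟙 B) = 𝟙 (pt B) := rfl
  rw [this, F.map_id]
  rfl

lemma mapE_nat {F F' : MVF A} (φ : F ⟶ F') {B B' : Alg A} (f : B ⟶ B') (x : F.obj (pt B)) :
    (φ.app (pt B')).hom (mapE F f x) = mapE F' f ((φ.app (pt B)).hom x) :=
  naturality_apply φ f x

/-- the map `(g₀, g₁, g₂) ↦ g₀ + ε₁ g₁ + ε₂ g₂`. -/
noncomputable def Phi (F : MVF A) (B : Alg A) :
    F.obj (pt B) × F.obj (pt B) × F.obj (pt B) →+ F.obj (pt (TB B)) :=
  AddMonoidHom.mk' (fun g => mapE F (inclT B) g.1 + eps1 B • mapE F (inclT B) g.2.1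
    + eps2 B • mapE F (inclT B) g.2.2)
    (by
      intro g g'
      simp only [Prod.fst_add, Prod.snd_add, map_add, smul_add]
      abel)

lemma Phi_apply (F : MVF A) (B : Alg A) (g : F.obj (pt B) × F.obj (pt B) × F.obj (pt B)) :
    Phi F B g = mapE F (inclT B) g.1 + eps1 B • mapE F (inclT B) g.2.1
      + eps2 B • mapE F (inclT B) g.2.2 :=
  rfl

/-- componentwise application of a morphism. -/
noncomputable def app3 {F F' : MVF A} (φ : F ⟶ F') (B : Alg A) :
    F.obj (pt B) × F.obj (pt B) × F.obj (pt B) →+ F'.obj (pt B) × F'.obj (pt B) × F'.obj (pt B) :=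
  AddMonoidHom.prodMap (φ.app (pt B)).hom.toAddMonoidHom
    (AddMonoidHom.prodMap (φ.app (pt B)).hom.toAddMonoidHom (φ.app (pt B)).hom.toAddMonoidHom)

lemma app3_apply {F F' : MVF A} (φ : F ⟶ F') (B : Alg A)
    (g : F.obj (pt B) × F.obj (pt B) × F.obj (pt B)) :
    app3 φ B g = ((φ.app (pt B)).hom g.1, (φ.app (pt B)).hom g.2.1, (φ.app (pt B)).hom g.2.2) :=
  rfl

lemma Phi_nat {F F' : MVF A} (φ : F ⟶ F') (B : Alg A)
    (g : F.obj (pt B) × F.obj (pt B) × F.obj (pt B)) :
    (φ.app (pt (TB B))).hom (Phi F B g) = Phi F' B (app3 φ B g) := by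
  rw [Phi_apply, Phi_apply, app3_apply, map_add, map_add, map_smul, map_smul,
    mapE_nat, mapE_nat, mapE_nat]

/-- the decomposition property. -/
def Dec (F : MVF A) (B : Alg A) : Prop := Function.Bijective (Phi F B)


theorem dec_underline (M : ModuleCat.{u + 1} A) (B : Alg A) : Dec ((underline A).obj M) B := by
  have h : ∀ g, Phi ((underline A).obj M) B g = PhiU A B M g := by
    intro g
    have e1 := eps1_smul A B M g.2.1
    have e2 := eps2_smul A B M g.2.2
    exact congrArg₂ (· + ·) (congrArg₂ (· + ·) rfl e1) e2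
  have h' : (Phi ((underline A).obj M) B : _ → _) = PhiU A B M := funext h
  unfold Dec
  rw [h']
  exact PhiU_bijective A B M


lemma app3_injective {F F' : MVF A} (φ : F ⟶ F') (B : Alg A)
    (h : Function.Injective (φ.app (pt B)).hom) : Function.Injective (app3 φ B) := by
  intro x y hxy
  rw [app3_apply, app3_apply] at hxy
  simp only [Prod.mk.injEq] at hxy
  ext
  · exact h hxy.1
  · exact h hxy.2.1
  · exact h hxy.2.2

lemma app3_surjective {F F' : MVF A} (φ : F ⟶ F') (B : Alg A)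
    (h : Function.Surjective (φ.app (pt B)).hom) : Function.Surjective (app3 φ B) := by
  rintro ⟨y0, y1, y2⟩
  obtain ⟨x0, h0⟩ := h y0
  obtain ⟨x1, h1⟩ := h y1
  obtain ⟨x2, h2⟩ := h y2
  exact ⟨(x0, x1, x2), by rw [app3_apply, h0, h1, h2]⟩

lemma app3_exact {F F' F'' : MVF A} (φ : F ⟶ F') (ψ : F' ⟶ F'') (B : Alg A)
    (h : ∀ x, (ψ.app (pt B)).hom x = 0 → ∃ y, (φ.app (pt B)).hom y = x)
    (x : F'.obj (pt B) × F'.obj (pt B) × F'.obj (pt B)) (hx : app3 ψ B x = 0) :
    ∃ y, app3 φ B y = x := by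
  obtain ⟨x0, x1, x2⟩ := x
  rw [app3_apply] at hx
  simp only [Prod.mk_eq_zero] at hx
  obtain ⟨y0, h0⟩ := h x0 hx.1
  obtain ⟨y1, h1⟩ := h x1 hx.2.1
  obtain ⟨y2, h2⟩ := h x2 hx.2.2
  exact ⟨(y0, y1, y2), by rw [app3_apply, h0, h1, h2]⟩

theorem dec_adequate {F : MVF A} (hF : adequate A F) (B : Alg A) : Dec F B := by
  obtain ⟨M, N, α, ι, hinj, hzero, hex⟩ := exists_exact_of_adequate hF
  refine bij_of_left_exact (app3 ι B) (app3 ((underline A).map α) B)
    (ι.app (pt (TB B))).hom.toAddMonoidHom (((underline A).map α).app (pt (TB B))).hom.toAddMonoidHom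
    (Phi F B) (Phi ((underline A).obj M) B) (Phi ((underline A).obj N) B)
    (fun x => Phi_nat ι B x) (fun x => Phi_nat ((underline A).map α) B x)
    (app3_injective ι B (hinj B))
    (app3_exact ι ((underline A).map α) B (fun x hx => hex B x hx))
    (hinj (TB B)) (fun y => hzero (TB B) y) (dec_underline M B) (dec_underline N B).1

theorem dec_ext {S : ShortComplex (MVF A)} (hS : S.ShortExact) (B : Alg A)
    (h1 : Dec S.X₁ B) (h3 : Dec S.X₃ B) : Dec S.X₂ B := by
  haveI := hS.mono_f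
  haveI := hS.epi_g
  refine bij_of_short_exact (app3 S.f B) (app3 S.g B)
    (S.f.app (pt (TB B))).hom.toAddMonoidHom (S.g.app (pt (TB B))).hom.toAddMonoidHom
    (Phi S.X₁ B) (Phi S.X₂ B) (Phi S.X₃ B)
    (fun x => Phi_nat S.f B x) (fun x => Phi_nat S.g B x)
    (app3_exact S.f S.g B (fun x hx => exact_app hS.exact B x hx))
    (app3_surjective S.g B (PresheafOfModules.surjective_of_epi S.g (pt B)))
    (PresheafOfModules.injective_of_mono S.f (pt (TB B)))
    (fun y hy => exact_app hS.exact (TB B) y hy) h1 h3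

end Groth.Agent.Helper23.Adq
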