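import Mathlib
import Groth.Agent.Lib.Helper23.Adq17
set_option autoImplicit false
universe u
open CategoryTheory CategoryTheory.Limits TensorProduct Opposite

/-! Towards S8747, Part II: algebra maps out of `B[ε₁, ε₂]` and their effect on `Phi`. -/

namespace Groth.Agent.Helper23.Adq

open Adeq

variable {A : Type u} [CommRing A]

/-- an algebra map `B[ε₁,ε₂] → B'[ε₁,ε₂]` from a map `B → B'` and a semilinear map on the ideal. -/
noncomputable def tszLift {B B' : Alg A} (g : B ⟶ B') (lam : (B × B) →ₗ[A] (B' × B'))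
    (hlam : ∀ (b : B) (x : B × B), lam (b • x) = g.hom b • lam x) : TB B ⟶ TB B' :=
  CommAlgCat.ofHom (TrivSqZeroExt.lift
    ((TrivSqZeroExt.inlAlgHom A B' (B' × B')).comp g.hom)
    (((TrivSqZeroExt.inrHom B' (B' × B')).restrictScalars A) ∘ₗ lam)
    (by intro x y; simp)
    (by
      intro b x
      change TrivSqZeroExt.inr (lam (b • x)) = TrivSqZeroExt.inl (g.hom b) * TrivSqZeroExt.inr (lam x)
      rw [hlam, TrivSqZeroExt.inl_mul_inr])
    (by
      intro b x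
      change TrivSqZeroExt.inr (lam (MulOpposite.op b • x)) =
        TrivSqZeroExt.inr (lam x) * TrivSqZeroExt.inl (g.hom b)
      rw [op_smul_eq_smul, hlam, TrivSqZeroExt.inr_mul_inl, op_smul_eq_smul]))

lemma tszLift_inl {B B' : Alg A} (g : B ⟶ B') (lam : (B × B) →ₗ[A] (B' × B'))
    (hlam : ∀ (b : B) (x : B × B), lam (b • x) = g.hom b • lam x) (b : B) :
    (tszLift g lam hlam).hom (TrivSqZeroExt.inl b : TrivSqZeroExt B (B × B)) =
      (TrivSqZeroExt.inl (g.hom b) : TrivSqZeroExt B' (B' × B')) := by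
  simp [tszLift]

lemma tszLift_inr {B B' : Alg A} (g : B ⟶ B') (lam : (B × B) →ₗ[A] (B' × B'))
    (hlam : ∀ (b : B) (x : B × B), lam (b • x) = g.hom b • lam x)
    (x : B × B) :
    (tszLift g lam hlam).hom (TrivSqZeroExt.inr x : TrivSqZeroExt B (B × B)) =
      (TrivSqZeroExt.inr (lam x) : TrivSqZeroExt B' (B' × B')) := by
  simp [tszLift]

lemma tszLift_incl {B B' : Alg A} (g : B ⟶ B') (lam : (B × B) →ₗ[A] (B' × B'))
    (hlam : ∀ (b : B) (x : B × B), lam (b • x) = g.hom b • lam x) :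
    inclT B ≫ tszLift g lam hlam = g ≫ inclT B' := by
  refine CommAlgCat.hom_ext (DFunLike.ext _ _ fun b => ?_)
  exact tszLift_inl g lam hlam b

/-- effect of a compatible algebra map on the decomposition. -/
lemma map_Phi (F : MVF A) {B B' : Alg A} (g : B ⟶ B') (θ : TB B ⟶ TB B')
    (hθ : inclT B ≫ θ = g ≫ inclT B') (x : F.obj (pt B) × F.obj (pt B) × F.obj (pt B)) :
    mapE F θ (Phi F B x) = mapE F (inclT B') (mapE F g x.1)
      + θ.hom (eps1 B) • mapE F (inclT B') (mapE F g x.2.1)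
      + θ.hom (eps2 B) • mapE F (inclT B') (mapE F g x.2.2) := by
  rw [Phi_apply, map_add, map_add, mapE_smul, mapE_smul, ← mapE_comp, ← mapE_comp, ← mapE_comp,
    hθ, mapE_comp, mapE_comp, mapE_comp]


/-- functoriality of `B ↦ B[ε₁, ε₂]`. -/
noncomputable def TBmap {B B' : Alg A} (g : B ⟶ B') : TB B ⟶ TB B' :=
  tszLift g (g.hom.toLinearMap.prodMap g.hom.toLinearMap) (by
    intro b x
    ext <;> simp)

lemma TBmap_eps1 {B B' : Alg A} (g : B ⟶ B') : (TBmap g).hom (eps1 B) = eps1 B' := by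
  refine (tszLift_inr g _ _ _).trans ?_
  simp [eps1]

lemma TBmap_eps2 {B B' : Alg A} (g : B ⟶ B') : (TBmap g).hom (eps2 B) = eps2 B' := by
  refine (tszLift_inr g _ _ _).trans ?_
  simp [eps2]

lemma TBmap_Phi (F : MVF A) {B B' : Alg A} (g : B ⟶ B')
    (x : F.obj (pt B) × F.obj (pt B) × F.obj (pt B)) :
    mapE F (TBmap g) (Phi F B x) = Phi F B' (mapE F g x.1, mapE F g x.2.1, mapE F g x.2.2) := by
  rw [map_Phi F g (TBmap g) (tszLift_incl g _ _), TBmap_eps1, TBmap_eps2, Phi_apply]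

/-- the `B`-algebra endomorphism `ε₁ ↦ w₁ ε₁, ε₂ ↦ w₂ ε₁`. -/
noncomputable def mw (B : Alg A) (w₁ w₂ : B) : TB B ⟶ TB B :=
  tszLift (𝟙 B) ((LinearMap.prod (w₁ • LinearMap.fst B B B + w₂ • LinearMap.snd B B B)
    (0 : B × B →ₗ[B] B)).restrictScalars A) (by
    intro b x
    simp only [LinearMap.coe_restrictScalars, map_smul]
    rfl)

lemma mw_eps1 (B : Alg A) (w₁ w₂ : B) :
    (mw B w₁ w₂).hom (eps1 B) = (inclT B).hom w₁ * eps1 B := by
  refine (tszLift_inr (𝟙 B) _ _ _).trans ?_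
  change _ = (TrivSqZeroExt.inl w₁ : TrivSqZeroExt B (B × B)) * TrivSqZeroExt.inr ((1 : B), (0 : B))
  rw [TrivSqZeroExt.inl_mul_inr]
  congr 1
  ext <;> simp

lemma mw_eps2 (B : Alg A) (w₁ w₂ : B) :
    (mw B w₁ w₂).hom (eps2 B) = (inclT B).hom w₂ * eps1 B := by
  refine (tszLift_inr (𝟙 B) _ _ _).trans ?_
  change _ = (TrivSqZeroExt.inl w₂ : TrivSqZeroExt B (B × B)) * TrivSqZeroExt.inr ((1 : B), (0 : B))
  rw [TrivSqZeroExt.inl_mul_inr]
  congr 1
  ext <;> simp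

lemma mw_Phi (F : MVF A) (B : Alg A) (w₁ w₂ : B)
    (x : F.obj (pt B) × F.obj (pt B) × F.obj (pt B)) :
    mapE F (mw B w₁ w₂) (Phi F B x) = Phi F B (x.1, w₁ • x.2.1 + w₂ • x.2.2, 0) := by
  have hθ : inclT B ≫ mw B w₁ w₂ = 𝟙 B ≫ inclT B := tszLift_incl (𝟙 B) _ _
  rw [map_Phi F (𝟙 B) (mw B w₁ w₂) hθ, mw_eps1, mw_eps2, Phi_apply, mapE_id, mapE_id, mapE_id]
  simp only [map_zero, smul_zero, add_zero, map_add, smul_add, mapE_smul, mul_smul]
  rw [add_assoc]
  congr 1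
  rw [smul_comm (eps1 B) ((inclT B).hom w₁), smul_comm (eps1 B) ((inclT B).hom w₂)]


section Univ

variable {r k : ℕ} (a : Fin r → Fin k → A)

/-- the first-order universal algebra of `Lin a`. -/
abbrev TQ : Alg A := algOf A (TrivSqZeroExt A (Qm a))

/-- the universal coordinates. -/
def cQ (l : Fin r) : TQ a := (TrivSqZeroExt.inr (qv a l) : TrivSqZeroExt A (Qm a))

lemma cQ_rel (j : Fin k) : ∑ l, a l j • cQ a l = 0 := by
  have : ∑ l, a l j • cQ a l =
      (TrivSqZeroExt.inr (∑ l, a l j • qv a l) : TrivSqZeroExt A (Qm a)) := by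
    simp only [cQ, TrivSqZeroExt.inr_sum, TrivSqZeroExt.inr_smul]
  rw [this, qv_rel, TrivSqZeroExt.inr_zero]

lemma TQ_hom_ext {C : Alg A} (φ ψ : TQ a ⟶ C) (h : ∀ l, φ.hom (cQ a l) = ψ.hom (cQ a l)) :
    φ = ψ := by
  refine CommAlgCat.hom_ext (TrivSqZeroExt.algHom_ext fun q => ?_)
  obtain ⟨x, rfl⟩ := exists_qv a q
  simp only [TrivSqZeroExt.inr_sum, TrivSqZeroExt.inr_smul, map_sum, map_smul]
  refine Finset.sum_congr rfl fun l _ => ?_
  congr 1
  exact h l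

/-- the algebra map `TQ → B[ε₁, ε₂]` classifying `ε₁ z + ε₂ z'`. -/
noncomputable def hmap (B : Alg A) (c c' : Fin r → B) (hc : ∀ j, ∑ l, a l j • c l = 0)
    (hc' : ∀ j, ∑ l, a l j • c' l = 0) : TQ a ⟶ TB B :=
  CommAlgCat.ofHom (TrivSqZeroExt.lift (Algebra.ofId A (TrivSqZeroExt B (B × B)))
    (((TrivSqZeroExt.inrHom B (B × B)).restrictScalars A) ∘ₗ
      (liftQ a (fun l => ((c l, c' l) : B × B)) (by
        intro j
        ext
        · simp only [Prod.fst_sum, Prod.smul_fst, Prod.fst_zero]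
          exact hc j
        · simp only [Prod.snd_sum, Prod.smul_snd, Prod.snd_zero]
          exact hc' j)))
    (by intro x y; simp)
    (by
      intro s x
      change TrivSqZeroExt.inr (liftQ a _ _ (s • x)) =
        algebraMap A (TrivSqZeroExt B (B × B)) s * TrivSqZeroExt.inr (liftQ a _ _ x)
      rw [map_smul, TrivSqZeroExt.algebraMap_eq_inl', TrivSqZeroExt.inl_mul_inr,
        algebraMap_smul])
    (by
      intro s x
      change TrivSqZeroExt.inr (liftQ a _ _ (MulOpposite.op s • x)) =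
        TrivSqZeroExt.inr (liftQ a _ _ x) * algebraMap A (TrivSqZeroExt B (B × B)) s
      rw [op_smul_eq_smul, mul_comm, map_smul, TrivSqZeroExt.algebraMap_eq_inl',
        TrivSqZeroExt.inl_mul_inr, algebraMap_smul]))

lemma hmap_cQ (B : Alg A) (c c' : Fin r → B) (hc : ∀ j, ∑ l, a l j • c l = 0)
    (hc' : ∀ j, ∑ l, a l j • c' l = 0) (l : Fin r) :
    (hmap a B c c' hc hc').hom (cQ a l) =
      (TrivSqZeroExt.inr ((c l, c' l) : B × B) : TrivSqZeroExt B (B × B)) := by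
  simp [hmap, cQ, liftQ_qv]

lemma hmap_mw (B : Alg A) (c c' : Fin r → B) (hc : ∀ j, ∑ l, a l j • c l = 0)
    (hc' : ∀ j, ∑ l, a l j • c' l = 0) (w₁ w₂ : B)
    (h1 : ∀ j, ∑ l, a l j • (w₁ * c l + w₂ * c' l) = 0)
    (h2 : ∀ j, ∑ l, a l j • ((fun _ => 0 : Fin r → B) l) = 0) :
    hmap a B c c' hc hc' ≫ mw B w₁ w₂ =
      hmap a B (fun l => w₁ * c l + w₂ * c' l) (fun _ => 0) h1 h2 := by
  apply TQ_hom_ext
  intro l
  rw [hmap_cQ]
  change (mw B w₁ w₂).hom ((hmap a B c c' hc hc').hom (cQ a l)) = _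
  rw [hmap_cQ]
  refine (tszLift_inr (𝟙 B) _ _ _).trans ?_
  congr 1

lemma hmap_TBmap {B B' : Alg A} (g : B ⟶ B') (c c' : Fin r → B)
    (hc : ∀ j, ∑ l, a l j • c l = 0) (hc' : ∀ j, ∑ l, a l j • c' l = 0)
    (h1 : ∀ j, ∑ l, a l j • g.hom (c l) = 0) (h2 : ∀ j, ∑ l, a l j • g.hom (c' l) = 0) :
    hmap a B c c' hc hc' ≫ TBmap g =
      hmap a B' (fun l => g.hom (c l)) (fun l => g.hom (c' l)) h1 h2 := by
  apply TQ_hom_ext
  intro l
  rw [hmap_cQ]
  change (TBmap g).hom ((hmap a B c c' hc hc').hom (cQ a l)) = _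
  rw [hmap_cQ]
  refine (tszLift_inr g _ _ _).trans ?_
  congr 1

end Univ

lemma Phi_underline_eq (M : ModuleCat.{u + 1} A) (B : Alg A)
    (g : ((B : Type u) ⊗[A] M) × ((B : Type u) ⊗[A] M) × ((B : Type u) ⊗[A] M)) :
    Phi ((underline A).obj M) B g = PhiU A B M g := by
  have e1 := eps1_smul A B M g.2.1
  have e2 := eps2_smul A B M g.2.2
  exact congrArg₂ (· + ·) (congrArg₂ (· + ·) rfl e1) e2

end Groth.Agent.Helper23.Adq
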