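import Mathlib
import Groth.Agent.Lib.Helper23.Adq18
set_option autoImplicit false
universe u
open CategoryTheory CategoryTheory.Limits TensorProduct Opposite

/-! Towards S8747, Part III: the linear section. -/

namespace Groth.Agent.Helper23.Adq

open Adeq

variable {A : Type u} [CommRing A] {r k : ℕ} (a : Fin r → Fin k → A)

/-- chosen coordinates of an element of `Lin a`. -/
noncomputable def coordL (B : Alg A) (z : (Lin a).obj (pt B)) : Fin r → B :=
  Classical.choose (exists_coords_Lin a B z)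

lemma coordL_spec (B : Alg A) (z : (Lin a).obj (pt B)) :
    ((kernel.ι ((underline A).map (matHom a))).app (pt B)).hom z = cvec B (coordL a B z) :=
  (Classical.choose_spec (exists_coords_Lin a B z)).1

lemma coordL_rel (B : Alg A) (z : (Lin a).obj (pt B)) (j : Fin k) :
    ∑ l, a l j • coordL a B z l = 0 :=
  (Classical.choose_spec (exists_coords_Lin a B z)).2 j

lemma cvec_lin {r : ℕ} (B : Alg A) (w₁ w₂ : B) (c c' : Fin r → B) :
    cvec B (fun l => w₁ * c l + w₂ * c' l) = w₁ • cvec B c + w₂ • cvec B c' := by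
  simp only [cvec, Finset.smul_sum, TensorProduct.smul_tmul', smul_eq_mul, TensorProduct.add_tmul,
    Finset.sum_add_distrib]

lemma coordL_lin (B : Alg A) (w₁ w₂ : B) (z z' : (Lin a).obj (pt B)) :
    coordL a B (w₁ • z + w₂ • z') = fun l => w₁ * coordL a B z l + w₂ * coordL a B z' l := by
  apply cvec_injective B
  rw [← coordL_spec, cvec_lin, map_add, map_smul, map_smul, coordL_spec, coordL_spec]
  rfl

lemma coordL_map {B B' : Alg A} (f : B ⟶ B') (z : (Lin a).obj (pt B)) :
    coordL a B' (mapE (Lin a) f z) = fun l => f.hom (coordL a B z l) := by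
  apply cvec_injective B'
  rw [← coordL_spec]
  exact Lin_map_coords a f z (coordL a B z) (coordL_spec a B z)


lemma tj1_add_tj2 (B : Alg A) (x y : B) :
    tj1 A B x + tj2 A B y = (TrivSqZeroExt.inr ((x, y) : B × B) : TrivSqZeroExt B (B × B)) := by
  simp only [tj1, tj2, LinearMap.coe_restrictScalars, LinearMap.coe_comp, Function.comp_apply,
    TrivSqZeroExt.inrHom_apply, LinearMap.inl_apply, LinearMap.inr_apply]
  rw [← TrivSqZeroExt.inr_add]
  congr 1
  ext <;> simp

lemma PhiU_cvec (B : Alg A) (c c' : Fin r → B) :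
    PhiU A B (Fin r → ULift.{u + 1} A) (0, cvec B c, cvec B c') =
      cvec (TB B) (fun l => (TrivSqZeroExt.inr ((c l, c' l) : B × B) : TrivSqZeroExt B (B × B))) := by
  rw [PhiU_apply]
  simp only [cvec, map_sum, LinearMap.rTensor_tmul, map_zero, zero_add]
  rw [← Finset.sum_add_distrib]
  refine Finset.sum_congr rfl fun l _ => ?_
  rw [← TensorProduct.add_tmul, tj1_add_tj2]

/-- the universal element maps to `ε₁ z + ε₂ z'`. -/
lemma key1 (u1 : (Lin a).obj (pt (TQ a)))
    (hu1 : ((kernel.ι ((underline A).map (matHom a))).app (pt (TQ a))).hom u1 = cvec (TQ a) (cQ a))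
    (B : Alg A) (z z' : (Lin a).obj (pt B)) (c c' : Fin r → B)
    (hz : ((kernel.ι ((underline A).map (matHom a))).app (pt B)).hom z = cvec B c)
    (hz' : ((kernel.ι ((underline A).map (matHom a))).app (pt B)).hom z' = cvec B c')
    (hc : ∀ j, ∑ l, a l j • c l = 0) (hc' : ∀ j, ∑ l, a l j • c' l = 0) :
    mapE (Lin a) (hmap a B c c' hc hc') u1 = Phi (Lin a) B (0, z, z') := by
  apply Lin_ext a (TB B)
  refine (Lin_map_coords a (hmap a B c c' hc hc') u1 (cQ a) hu1).trans ?_
  refine Eq.trans ?_ (Phi_nat (kernel.ι ((underline A).map (matHom a))) B (0, z, z')).symm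
  have h3 : app3 (kernel.ι ((underline A).map (matHom a))) B (0, z, z') =
      ((0 : (B : Type u) ⊗[A] (Fin r → ULift.{u + 1} A)), cvec B c, cvec B c') := by
    rw [app3_apply]
    refine Prod.ext (map_zero _) (Prod.ext hz hz')
  rw [h3]
  refine Eq.trans ?_ (Phi_underline_eq _ B _).symm
  rw [PhiU_cvec]
  congr 1
  funext l
  exact hmap_cQ a B c c' hc hc' l


lemma hmap_congr (B : Alg A) {c c' d d' : Fin r → B} (h : c = d) (h' : c' = d')
    (hc : ∀ j, ∑ l, a l j • c l = 0) (hc' : ∀ j, ∑ l, a l j • c' l = 0)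
    (hd : ∀ j, ∑ l, a l j • d l = 0) (hd' : ∀ j, ∑ l, a l j • d' l = 0) :
    hmap a B c c' hc hc' = hmap a B d d' hd hd' := by
  subst h; subst h'; rfl

lemma rel_zero (B : Alg A) (j : Fin k) : ∑ l, a l j • ((fun _ => 0 : Fin r → B) l) = 0 := by
  simp

lemma rel_comb (B : Alg A) (c c' : Fin r → B) (hc : ∀ j, ∑ l, a l j • c l = 0)
    (hc' : ∀ j, ∑ l, a l j • c' l = 0) (w₁ w₂ : B) (j : Fin k) :
    ∑ l, a l j • (w₁ * c l + w₂ * c' l) = 0 := by
  have h1 : ∀ x, a x j • (w₁ * c x) = w₁ * (a x j • c x) := fun x => (mul_smul_comm _ _ _).symm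
  have h2 : ∀ x, a x j • (w₂ * c' x) = w₂ * (a x j • c' x) := fun x => (mul_smul_comm _ _ _).symm
  simp only [smul_add, Finset.sum_add_distrib, h1, h2, ← Finset.mul_sum, hc, hc', mul_zero,
    add_zero]

lemma rel_map {B B' : Alg A} (f : B ⟶ B') (c : Fin r → B) (hc : ∀ j, ∑ l, a l j • c l = 0)
    (j : Fin k) : ∑ l, a l j • f.hom (c l) = 0 := by
  have := congrArg f.hom (hc j)
  simpa only [map_sum, map_smul, map_zero] using this

section Sect

variable {a}
variable {G : MVF A} (π : G ⟶ Lin a) (hdec : ∀ B, Dec G B)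
  (u1 : (Lin a).obj (pt (TQ a)))
  (hu1 : ((kernel.ι ((underline A).map (matHom a))).app (pt (TQ a))).hom u1 = cvec (TQ a) (cQ a))
  (ξ : G.obj (pt (TQ a))) (hξ : (π.app (pt (TQ a))).hom ξ = u1)

/-- the decomposition of elements of `G(B[ε₁, ε₂])`. -/
noncomputable def decE (B : Alg A) :
    G.obj (pt (TB B)) ≃ G.obj (pt B) × G.obj (pt B) × G.obj (pt B) :=
  (Equiv.ofBijective _ (hdec B)).symm

lemma Phi_decE (B : Alg A) (Ξ : G.obj (pt (TB B))) : Phi G B (decE hdec B Ξ) = Ξ :=
  Equiv.ofBijective_apply_symm_apply _ (hdec B) Ξ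

lemma decE_Phi (B : Alg A) (g : G.obj (pt B) × G.obj (pt B) × G.obj (pt B)) :
    decE hdec B (Phi G B g) = g :=
  Equiv.ofBijective_symm_apply_apply _ (hdec B) g

/-- the value of the section on coordinates. -/
noncomputable def sg (B : Alg A) (c : Fin r → B) (hc : ∀ j, ∑ l, a l j • c l = 0) : G.obj (pt B) :=
  (decE hdec B (mapE G (hmap a B c (fun _ => 0) hc (rel_zero a B)) ξ)).2.1

lemma sg_congr (B : Alg A) {c d : Fin r → B} (h : c = d) (hc : ∀ j, ∑ l, a l j • c l = 0)
    (hd : ∀ j, ∑ l, a l j • d l = 0) : sg hdec ξ B c hc = sg hdec ξ B d hd := by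
  subst h; rfl

lemma sg_comb (B : Alg A) (c c' : Fin r → B) (hc : ∀ j, ∑ l, a l j • c l = 0)
    (hc' : ∀ j, ∑ l, a l j • c' l = 0) (w₁ w₂ : B) :
    sg hdec ξ B (fun l => w₁ * c l + w₂ * c' l) (rel_comb a B c c' hc hc' w₁ w₂) =
      w₁ • (decE hdec B (mapE G (hmap a B c c' hc hc') ξ)).2.1 +
      w₂ • (decE hdec B (mapE G (hmap a B c c' hc hc') ξ)).2.2 := by
  have e : mapE G (hmap a B (fun l => w₁ * c l + w₂ * c' l) (fun _ => 0)
      (rel_comb a B c c' hc hc' w₁ w₂) (rel_zero a B)) ξ =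
      Phi G B ((decE hdec B (mapE G (hmap a B c c' hc hc') ξ)).1,
        w₁ • (decE hdec B (mapE G (hmap a B c c' hc hc') ξ)).2.1 +
        w₂ • (decE hdec B (mapE G (hmap a B c c' hc hc') ξ)).2.2, 0) := by
    rw [← hmap_mw a B c c' hc hc' w₁ w₂ (rel_comb a B c c' hc hc' w₁ w₂) (rel_zero a B),
      mapE_comp]
    conv_lhs => rw [← Phi_decE hdec B (mapE G (hmap a B c c' hc hc') ξ)]
    exact mw_Phi G B w₁ w₂ _
  unfold sg
  rw [e, decE_Phi]

include hu1 hξ in
lemma app3_decE (B : Alg A) (z z' : (Lin a).obj (pt B)) (c c' : Fin r → B)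
    (hz : ((kernel.ι ((underline A).map (matHom a))).app (pt B)).hom z = cvec B c)
    (hz' : ((kernel.ι ((underline A).map (matHom a))).app (pt B)).hom z' = cvec B c')
    (hc : ∀ j, ∑ l, a l j • c l = 0) (hc' : ∀ j, ∑ l, a l j • c' l = 0) :
    app3 π B (decE hdec B (mapE G (hmap a B c c' hc hc') ξ)) = (0, z, z') := by
  have hL : Dec (Lin a) B := dec_adequate ⟨_, _, matHom a, ⟨Iso.refl _⟩⟩ B
  apply hL.1
  rw [← Phi_nat, Phi_decE, mapE_nat, hξ]
  exact key1 a u1 hu1 B z z' c c' hz hz' hc hc'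

/-- the section on elements. -/
noncomputable def sigma (B : Alg A) (z : (Lin a).obj (pt B)) : G.obj (pt B) :=
  sg hdec ξ B (coordL a B z) (coordL_rel a B z)

lemma sigma_eq_left (B : Alg A) (z z' : (Lin a).obj (pt B)) :
    sigma hdec ξ B z = (decE hdec B (mapE G (hmap a B (coordL a B z) (coordL a B z')
      (coordL_rel a B z) (coordL_rel a B z')) ξ)).2.1 := by
  have h := sg_comb hdec ξ B (coordL a B z) (coordL a B z') (coordL_rel a B z) (coordL_rel a B z')
    1 0
  rw [one_smul, zero_smul, add_zero] at h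
  rw [← h]
  exact sg_congr hdec ξ B (by funext l; simp) _ _

lemma sigma_eq_right (B : Alg A) (z z' : (Lin a).obj (pt B)) :
    sigma hdec ξ B z' = (decE hdec B (mapE G (hmap a B (coordL a B z) (coordL a B z')
      (coordL_rel a B z) (coordL_rel a B z')) ξ)).2.2 := by
  have h := sg_comb hdec ξ B (coordL a B z) (coordL a B z') (coordL_rel a B z) (coordL_rel a B z')
    0 1
  rw [one_smul, zero_smul, zero_add] at h
  rw [← h]
  exact sg_congr hdec ξ B (by funext l; simp) _ _

lemma sigma_lin (B : Alg A) (w₁ w₂ : B) (z z' : (Lin a).obj (pt B)) :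
    sigma hdec ξ B (w₁ • z + w₂ • z') = w₁ • sigma hdec ξ B z + w₂ • sigma hdec ξ B z' := by
  rw [sigma_eq_left hdec ξ B z z', sigma_eq_right hdec ξ B z z',
    ← sg_comb hdec ξ B (coordL a B z) (coordL a B z') (coordL_rel a B z) (coordL_rel a B z') w₁ w₂]
  exact sg_congr hdec ξ B (coordL_lin a B w₁ w₂ z z') _ _

include hu1 hξ in
lemma pi_sigma (B : Alg A) (z : (Lin a).obj (pt B)) :
    (π.app (pt B)).hom (sigma hdec ξ B z) = z := by
  have h := app3_decE π hdec u1 hu1 ξ hξ B z z (coordL a B z) (coordL a B z) (coordL_spec a B z)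
    (coordL_spec a B z) (coordL_rel a B z) (coordL_rel a B z)
  rw [app3_apply] at h
  rw [sigma_eq_left hdec ξ B z z]
  exact congrArg (fun t => t.2.1) h

lemma sigma_nat {B B' : Alg A} (f : B ⟶ B') (z : (Lin a).obj (pt B)) :
    sigma hdec ξ B' (mapE (Lin a) f z) = mapE G f (sigma hdec ξ B z) := by
  have e : mapE G (hmap a B' (fun l => f.hom (coordL a B z l)) (fun _ => 0)
      (rel_map a f _ (coordL_rel a B z)) (rel_zero a B')) ξ =
      Phi G B' (mapE G f (decE hdec B (mapE G (hmap a B (coordL a B z) (fun _ => 0)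
          (coordL_rel a B z) (rel_zero a B)) ξ)).1,
        mapE G f (decE hdec B (mapE G (hmap a B (coordL a B z) (fun _ => 0)
          (coordL_rel a B z) (rel_zero a B)) ξ)).2.1,
        mapE G f (decE hdec B (mapE G (hmap a B (coordL a B z) (fun _ => 0)
          (coordL_rel a B z) (rel_zero a B)) ξ)).2.2) := by
    have h1 := hmap_TBmap a f (coordL a B z) (fun _ => 0) (coordL_rel a B z) (rel_zero a B)
      (rel_map a f _ (coordL_rel a B z)) (rel_map a f _ (rel_zero a B))
    have h2 : hmap a B' (fun l => f.hom (coordL a B z l)) (fun l => f.hom ((fun _ => 0 : Fin r → B) l))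
        (rel_map a f _ (coordL_rel a B z)) (rel_map a f _ (rel_zero a B)) =
        hmap a B' (fun l => f.hom (coordL a B z l)) (fun _ => 0)
        (rel_map a f _ (coordL_rel a B z)) (rel_zero a B') :=
      hmap_congr a B' rfl (by funext l; exact map_zero _) _ _ _ _
    rw [← h2, ← h1, mapE_comp]
    conv_lhs => rw [← Phi_decE hdec B (mapE G (hmap a B (coordL a B z) (fun _ => 0)
      (coordL_rel a B z) (rel_zero a B)) ξ)]
    exact TBmap_Phi G f _
  have e2 : sigma hdec ξ B' (mapE (Lin a) f z) =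
      sg hdec ξ B' (fun l => f.hom (coordL a B z l)) (rel_map a f _ (coordL_rel a B z)) :=
    sg_congr hdec ξ B' (coordL_map a f z) _ _
  rw [e2]
  unfold sg
  rw [e, decE_Phi]
  rfl

lemma sigma_add (B : Alg A) (z z' : (Lin a).obj (pt B)) :
    sigma hdec ξ B (z + z') = sigma hdec ξ B z + sigma hdec ξ B z' := by
  have h := sigma_lin hdec ξ B 1 1 z z'
  rwa [one_smul, one_smul, one_smul, one_smul] at h

lemma sigma_smul (B : Alg A) (b : B) (z : (Lin a).obj (pt B)) :
    sigma hdec ξ B (b • z) = b • sigma hdec ξ B z := by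
  have h := sigma_lin hdec ξ B b 0 z z
  rwa [zero_smul, zero_smul, add_zero, add_zero] at h

/-- the section as a morphism of module-valued functors. -/
noncomputable def sigmaHom : Lin a ⟶ G :=
  PresheafOfModules.homMk
    { app X := AddCommGrpCat.ofHom
        (AddMonoidHom.mk' (sigma hdec ξ X.unop.unop) (sigma_add hdec ξ X.unop.unop))
      naturality {X Y} f := by
        ext x
        exact sigma_nat hdec ξ f.unop.unop x }
    (by
      intro X b z
      exact sigma_smul hdec ξ X.unop.unop b z)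

lemma sigmaHom_app (B : Alg A) (z : (Lin a).obj (pt B)) :
    ((sigmaHom hdec ξ).app (pt B)).hom z = sigma hdec ξ B z := rfl

include hu1 hξ in
lemma sigmaHom_comp : sigmaHom hdec ξ ≫ π = 𝟙 (Lin a) := by
  apply PresheafOfModules.hom_ext
  intro X
  obtain ⟨⟨B⟩⟩ := X
  apply ModuleCat.hom_ext
  refine LinearMap.ext fun z => ?_
  exact pi_sigma π hdec u1 hu1 ξ hξ B z

end Sect

/-- existence of a section of a valuewise surjective `π : G ⟶ Lin a` when `G` has the
decomposition property. -/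
theorem exists_section {G : MVF A} (π : G ⟶ Lin a) [Epi π] (hdec : ∀ B, Dec G B) :
    ∃ s : Lin a ⟶ G, s ≫ π = 𝟙 _ := by
  obtain ⟨u1, hu1⟩ := exists_mem_Lin a (TQ a) (cQ a) (cQ_rel a)
  obtain ⟨ξ, hξ⟩ := PresheafOfModules.surjective_of_epi π (pt (TQ a)) u1
  exact ⟨sigmaHom hdec ξ, sigmaHom_comp π hdec u1 hu1 ξ hξ⟩


end Groth.Agent.Helper23.Adq

namespace Groth.Agent.Helper23.Adq

open Adeq

variable {A : Type u} [CommRing A]

lemma adequate_underline (M : ModuleCat.{u + 1} A) : adequate A ((underline A).obj M) :=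
  ⟨M, M, 0, ⟨kernelZeroIsoSource.symm ≪≫ kernelIsoOfEq ((underline A).map_zero M M).symm⟩⟩

lemma adequate_of_linAdequate {F : MVF A} (h : linAdequate A F) : adequate A F := by
  obtain ⟨M, N, φ, -, -, -, -, hi⟩ := h
  exact ⟨M, N, φ, hi⟩

/-- a linearly adequate functor is isomorphic to a standard one. -/
theorem exists_iso_Lin {F : MVF A} (h : linAdequate A F) :
    ∃ (r k : ℕ) (a : Fin r → Fin k → A), Nonempty (F ≅ Lin a) := by
  obtain ⟨P, P', φ₀, h1, h2, h3, h4, ⟨i⟩⟩ := h
  obtain ⟨n, ⟨e⟩⟩ := exists_iso_Fr P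
  obtain ⟨k, ⟨e'⟩⟩ := exists_iso_Fr P'
  let a : Fin n → Fin k → A := fun l j => ((e'.inv.hom (φ₀.hom (e.hom.hom (bv A l)))) j).down
  have hcomm : e.hom ≫ φ₀ = matHom a ≫ e'.hom := by
    ext : 1
    apply ext_Fr
    intro l
    change φ₀.hom (e.hom.hom (bv A l)) = e'.hom.hom ((matHom a).hom (bv A l))
    rw [matHom_bv]
    have h1 := Fr_decomp (e'.inv.hom (φ₀.hom (e.hom.hom (bv A l))))
    have h2 : e'.hom.hom (e'.inv.hom (φ₀.hom (e.hom.hom (bv A l)))) = φ₀.hom (e.hom.hom (bv A l)) := by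
      have := congr(($(e'.inv_hom_id)).hom (φ₀.hom (e.hom.hom (bv A l))))
      exact this
    rw [← h2]
    congr 1
  have hcomm' : φ₀ ≫ e'.inv = e.inv ≫ matHom a := by
    rw [Iso.comp_inv_eq, Category.assoc, ← hcomm, Iso.inv_hom_id_assoc]
  refine ⟨n, k, a, ⟨i ≪≫ kernel.mapIso ((underline A).map φ₀) ((underline A).map (matHom a))
    ((underline A).mapIso e.symm) ((underline A).mapIso e'.symm) ?_⟩⟩
  change (underline A).map φ₀ ≫ (underline A).map e'.inv =
    (underline A).map e.inv ≫ (underline A).map (matHom a)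
  rw [← Functor.map_comp, ← Functor.map_comp, hcomm']

/-- S8747. -/
theorem split_of_linAdequate (S : ShortComplex (MVF A)) (hS : S.ShortExact)
    (M : ModuleCat.{u + 1} A) (e : S.X₁ ≅ (underline A).obj M) (hL : linAdequate A S.X₃) :
    Nonempty S.Splitting ∧ adequate A S.X₂ := by
  have had1 : adequate A S.X₁ := (adequate A).prop_of_iso e.symm (adequate_underline M)
  have had3 : adequate A S.X₃ := adequate_of_linAdequate hL
  have hdec : ∀ B, Dec S.X₂ B := fun B => dec_ext hS B (dec_adequate had1 B) (dec_adequate had3 B)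
  obtain ⟨r, k, a, ⟨lam⟩⟩ := exists_iso_Lin hL
  haveI := hS.epi_g
  haveI := hS.mono_f
  obtain ⟨s', hs'⟩ := exists_section a (S.g ≫ lam.hom) hdec
  have hs : (lam.hom ≫ s') ≫ S.g = 𝟙 S.X₃ := by
    have h1 : (lam.hom ≫ s') ≫ S.g = lam.hom ≫ (s' ≫ S.g ≫ lam.hom) ≫ lam.inv := by
      simp only [Category.assoc, Iso.hom_inv_id, Category.comp_id]
    rw [h1, hs', Category.id_comp, Iso.hom_inv_id]
  let sp : S.Splitting := ShortComplex.Splitting.ofExactOfSection S hS.exact (lam.hom ≫ s') hs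
    hS.mono_f
  refine ⟨⟨sp⟩, ?_⟩
  exact (adequate A).prop_of_iso sp.isoBinaryBiproduct.symm
    ((adequate A).prop_of_isLimit_binaryFan (BinaryBiproduct.isLimit S.X₁ S.X₃) had1 had3)

end Groth.Agent.Helper23.Adq
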