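import Mathlib
import Groth.Agent.Lib.Helper23.Adq19
set_option autoImplicit false
universe u
open CategoryTheory CategoryTheory.Limits TensorProduct Opposite

/-! Towards S8748: pullbacks and pushouts of short exact sequences in abelian categories. -/

namespace Groth.Agent.Helper23.Adq

section Abelian

universe v' u'
variable {C : Type u'} [Category.{v'} C] [Abelian C]

/-- a kernel of `f` lifts to a kernel of `pullback.snd f g`. -/
noncomputable def isKernelPullbackSnd {X Y Z K : C} (f : X ⟶ Z) (g : Y ⟶ Z) (k : K ⟶ X) (hk : k ≫ f = 0)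
    (hK : IsLimit (KernelFork.ofι k hk)) :
    IsLimit (KernelFork.ofι (f := pullback.snd f g) (pullback.lift k 0 (by rw [hk, zero_comp]))
      (by rw [pullback.lift_snd])) :=
  KernelFork.IsLimit.ofι _ _
    (fun {T} t ht => hK.lift (KernelFork.ofι (t ≫ pullback.fst f g) (by
      rw [Category.assoc, pullback.condition, ← Category.assoc, ht, zero_comp])))
    (fun {T} t ht => by
      have h2 := hK.fac (KernelFork.ofι (t ≫ pullback.fst f g) (by
        rw [Category.assoc, pullback.condition, ← Category.assoc, ht, zero_comp]))
        WalkingParallelPair.zero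
      apply pullback.hom_ext
      · rw [Category.assoc, pullback.lift_fst]
        exact h2
      · rw [Category.assoc, pullback.lift_snd, comp_zero, ht])
    (fun {T} t ht m hm => by
      apply Fork.IsLimit.hom_ext hK
      have h2 := hK.fac (KernelFork.ofι (t ≫ pullback.fst f g) (by
        rw [Category.assoc, pullback.condition, ← Category.assoc, ht, zero_comp]))
        WalkingParallelPair.zero
      refine Eq.trans ?_ h2.symm
      change m ≫ k = t ≫ pullback.fst f g
      rw [← hm, Category.assoc, pullback.lift_fst])

/-- a kernel of `g` lifts to a kernel of `pullback.fst f g`. -/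
noncomputable def isKernelPullbackFst {X Y Z K : C} (f : X ⟶ Z) (g : Y ⟶ Z) (k : K ⟶ Y) (hk : k ≫ g = 0)
    (hK : IsLimit (KernelFork.ofι k hk)) :
    IsLimit (KernelFork.ofι (f := pullback.fst f g) (pullback.lift 0 k (by rw [hk, zero_comp]))
      (by rw [pullback.lift_fst])) :=
  KernelFork.IsLimit.ofι _ _
    (fun {T} t ht => hK.lift (KernelFork.ofι (t ≫ pullback.snd f g) (by
      rw [Category.assoc, ← pullback.condition, ← Category.assoc, ht, zero_comp])))
    (fun {T} t ht => by
      have h2 := hK.fac (KernelFork.ofι (t ≫ pullback.snd f g) (by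
        rw [Category.assoc, ← pullback.condition, ← Category.assoc, ht, zero_comp]))
        WalkingParallelPair.zero
      apply pullback.hom_ext
      · rw [Category.assoc, pullback.lift_fst, comp_zero, ht]
      · rw [Category.assoc, pullback.lift_snd]
        exact h2)
    (fun {T} t ht m hm => by
      apply Fork.IsLimit.hom_ext hK
      have h2 := hK.fac (KernelFork.ofι (t ≫ pullback.snd f g) (by
        rw [Category.assoc, ← pullback.condition, ← Category.assoc, ht, zero_comp]))
        WalkingParallelPair.zero
      refine Eq.trans ?_ h2.symm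
      change m ≫ k = t ≫ pullback.snd f g
      rw [← hm, Category.assoc, pullback.lift_snd])

/-- a cokernel of `g` descends to a cokernel of `pushout.inl f g`. -/
noncomputable def isCokernelPushoutInl {X Y Z Q : C} (f : Z ⟶ X) (g : Z ⟶ Y) (q : Y ⟶ Q) (hq : g ≫ q = 0)
    (hQ : IsColimit (CokernelCofork.ofπ q hq)) :
    IsColimit (CokernelCofork.ofπ (f := pushout.inl f g) (pushout.desc 0 q (by rw [hq, comp_zero]))
      (by rw [pushout.inl_desc])) :=
  CokernelCofork.IsColimit.ofπ _ _
    (fun {T} t ht => hQ.desc (CokernelCofork.ofπ (pushout.inr f g ≫ t) (by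
      rw [← Category.assoc, ← pushout.condition, Category.assoc, ht, comp_zero])))
    (fun {T} t ht => by
      have h2 := hQ.fac (CokernelCofork.ofπ (pushout.inr f g ≫ t) (by
        rw [← Category.assoc, ← pushout.condition, Category.assoc, ht, comp_zero]))
        WalkingParallelPair.one
      apply pushout.hom_ext
      · rw [← Category.assoc, pushout.inl_desc, zero_comp, ht]
      · rw [← Category.assoc, pushout.inr_desc]
        exact h2)
    (fun {T} t ht m hm => by
      apply Cofork.IsColimit.hom_ext hQ
      have h2 := hQ.fac (CokernelCofork.ofπ (pushout.inr f g ≫ t) (by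
        rw [← Category.assoc, ← pushout.condition, Category.assoc, ht, comp_zero]))
        WalkingParallelPair.one
      refine Eq.trans ?_ h2.symm
      change q ≫ m = pushout.inr f g ≫ t
      rw [← hm, ← Category.assoc, pushout.inr_desc])

/-- a cokernel of `f` descends to a cokernel of `pushout.inr f g`. -/
noncomputable def isCokernelPushoutInr {X Y Z Q : C} (f : Z ⟶ X) (g : Z ⟶ Y) (q : X ⟶ Q) (hq : f ≫ q = 0)
    (hQ : IsColimit (CokernelCofork.ofπ q hq)) :
    IsColimit (CokernelCofork.ofπ (f := pushout.inr f g) (pushout.desc q 0 (by rw [hq, comp_zero]))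
      (by rw [pushout.inr_desc])) :=
  CokernelCofork.IsColimit.ofπ _ _
    (fun {T} t ht => hQ.desc (CokernelCofork.ofπ (pushout.inl f g ≫ t) (by
      rw [← Category.assoc, pushout.condition, Category.assoc, ht, comp_zero])))
    (fun {T} t ht => by
      have h2 := hQ.fac (CokernelCofork.ofπ (pushout.inl f g ≫ t) (by
        rw [← Category.assoc, pushout.condition, Category.assoc, ht, comp_zero]))
        WalkingParallelPair.one
      apply pushout.hom_ext
      · rw [← Category.assoc, pushout.inl_desc]
        exact h2
      · rw [← Category.assoc, pushout.inr_desc, zero_comp, ht])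
    (fun {T} t ht m hm => by
      apply Cofork.IsColimit.hom_ext hQ
      have h2 := hQ.fac (CokernelCofork.ofπ (pushout.inl f g ≫ t) (by
        rw [← Category.assoc, pushout.condition, Category.assoc, ht, comp_zero]))
        WalkingParallelPair.one
      refine Eq.trans ?_ h2.symm
      change q ≫ m = pushout.inl f g ≫ t
      rw [← hm, ← Category.assoc, pushout.inl_desc])

/-- pullback of a short exact sequence along a map to the cokernel. -/
lemma shortExact_pullback (S : ShortComplex C) (hS : S.ShortExact) {Y : C} (p : Y ⟶ S.X₃) :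
    (ShortComplex.mk (pullback.lift S.f 0 (by rw [S.zero, zero_comp]) : S.X₁ ⟶ pullback S.g p)
      (pullback.snd S.g p) (by rw [pullback.lift_snd])).ShortExact := by
  haveI := hS.mono_f
  haveI := hS.epi_g
  have hex := ShortComplex.exact_of_f_is_kernel
    (ShortComplex.mk (pullback.lift S.f 0 (by rw [S.zero, zero_comp]) : S.X₁ ⟶ pullback S.g p)
      (pullback.snd S.g p) (by rw [pullback.lift_snd]))
    (isKernelPullbackSnd S.g p S.f S.zero hS.fIsKernel)
  haveI : Mono (pullback.lift S.f 0 (by rw [S.zero, zero_comp]) : S.X₁ ⟶ pullback S.g p) :=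
    mono_of_mono_fac (pullback.lift_fst _ _ _)
  exact ShortComplex.ShortExact.mk' hex inferInstance inferInstance

/-- pushout of a short exact sequence along a map from the kernel. -/
lemma shortExact_pushout (S : ShortComplex C) (hS : S.ShortExact) {Y : C} (i : S.X₁ ⟶ Y) :
    (ShortComplex.mk (pushout.inr S.f i) (pushout.desc S.g 0 (by rw [S.zero, comp_zero]))
      (by rw [pushout.inr_desc])).ShortExact := by
  haveI := hS.mono_f
  haveI := hS.epi_g
  have hex := ShortComplex.exact_of_g_is_cokernel
    (ShortComplex.mk (pushout.inr S.f i) (pushout.desc S.g 0 (by rw [S.zero, comp_zero]))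
      (by rw [pushout.inr_desc]))
    (isCokernelPushoutInr S.f i S.g S.zero hS.gIsCokernel)
  haveI : Epi (pushout.desc S.g 0 (by rw [S.zero, comp_zero]) : pushout S.f i ⟶ S.X₃) :=
    epi_of_epi_fac (pushout.inl_desc _ _ _)
  exact ShortComplex.ShortExact.mk' hex inferInstance inferInstance

end Abelian

end Groth.Agent.Helper23.Adq

namespace Groth.Agent.Helper23.Adq

open Adeq

variable {A : Type u} [CommRing A]

/-- (B): an extension of a direct sum of linearly adequate functors by `underline M` splits. -/
theorem exists_section_cofan (S : ShortComplex (MVF A)) (hS : S.ShortExact)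
    (M : ModuleCat.{u + 1} A) (e : S.X₁ ≅ (underline A).obj M)
    {ι : Type (u + 1)} (L : ι → MVF A) (hL : ∀ i, linAdequate A (L i))
    (c : Cofan L) (hc : IsColimit c) (e3 : c.pt ≅ S.X₃) :
    ∃ s : S.X₃ ⟶ S.X₂, s ≫ S.g = 𝟙 _ := by
  have key : ∀ i, ∃ si : L i ⟶ S.X₂, si ≫ S.g = c.inj i ≫ e3.hom := by
    intro i
    have hSi := shortExact_pullback S hS (c.inj i ≫ e3.hom)
    obtain ⟨⟨sp⟩, -⟩ := split_of_linAdequate _ hSi M e (hL i)
    refine ⟨sp.s ≫ pullback.fst S.g (c.inj i ≫ e3.hom), ?_⟩
    rw [Category.assoc, pullback.condition, ← Category.assoc]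
    have := sp.s_g
    dsimp at this
    rw [this, Category.id_comp]
  choose si hsi using key
  refine ⟨e3.inv ≫ Cofan.IsColimit.desc hc si, ?_⟩
  rw [Category.assoc, Iso.inv_comp_eq, Category.comp_id]
  apply Cofan.IsColimit.hom_ext hc
  intro i
  rw [← Category.assoc, Cofan.IsColimit.fac, hsi]

/-- (C): an extension of an adequate functor by `underline M` is adequate. -/
theorem adequate_ext_underline (S : ShortComplex (MVF A)) (hS : S.ShortExact)
    (M : ModuleCat.{u + 1} A) (e : S.X₁ ≅ (underline A).obj M) (h3 : adequate A S.X₃) :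
    adequate A S.X₂ := by
  obtain ⟨ι, L, hL, c, hc, p, hp⟩ := exists_epi_of_adequate S.X₃ h3
  haveI := hS.epi_g
  haveI := hp
  have had1 : adequate A S.X₁ := (adequate A).prop_of_iso e.symm (adequate_underline M)
  have hadc : adequate A c.pt :=
    (adequate A).prop_of_isColimit hc (fun j => adequate_of_linAdequate (hL j.as))
  have hSP := shortExact_pullback S hS p
  obtain ⟨s, hs⟩ := exists_section_cofan _ hSP M e L hL c hc (Iso.refl _)
  let sp := ShortComplex.Splitting.ofExactOfSection _ hSP.exact s hs hSP.mono_f
  have hP : adequate A (pullback S.g p) :=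
    (adequate A).prop_of_iso sp.isoBinaryBiproduct.symm
      ((adequate A).prop_of_isLimit_binaryFan (BinaryBiproduct.isLimit S.X₁ c.pt) had1 hadc)
  let k : kernel p ⟶ pullback S.g p :=
    pullback.lift 0 (kernel.ι p) (by rw [kernel.condition, zero_comp])
  have hk := isKernelPullbackFst S.g p (kernel.ι p) (kernel.condition p) (kernelIsKernel p)
  have hcok := Abelian.epiIsCokernelOfKernel _ hk
  have iso : cokernel k ≅ S.X₂ := (cokernelIsCokernel k).coconePointUniqueUpToIso hcok
  exact (adequate A).prop_of_iso iso (adequate_cokernel k (adequate_kernel p hadc h3) hP)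

/-- S8748: extensions of adequate functors are adequate. -/
theorem adequate_ext (S : ShortComplex (MVF A)) (hS : S.ShortExact)
    (h1 : adequate A S.X₁) (h3 : adequate A S.X₃) : adequate A S.X₂ := by
  obtain ⟨M, N, α, i, hinj, -, -⟩ := exists_exact_of_adequate h1
  haveI : Mono i := PresheafOfModules.mono_of_injective (fun X => hinj X.unop.unop)
  haveI := hS.mono_f
  have hSQ := shortExact_pushout S hS i
  have hQ : adequate A (pushout S.f i) := adequate_ext_underline _ hSQ M (Iso.refl _) h3
  have hC : adequate A (cokernel i) := adequate_cokernel i h1 (adequate_underline M)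
  let q : pushout S.f i ⟶ cokernel i :=
    pushout.desc 0 (cokernel.π i) (by rw [cokernel.condition, comp_zero])
  have hq := isCokernelPushoutInl S.f i (cokernel.π i) (cokernel.condition i) (cokernelIsCokernel i)
  have hker := Abelian.monoIsKernelOfCokernel _ hq
  have iso : kernel q ≅ S.X₂ := (kernelIsKernel q).conePointUniqueUpToIso hker
  exact (adequate A).prop_of_iso iso (adequate_kernel q hQ hC)

end Groth.Agent.Helper23.Adq
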