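import Mathlib
import Groth.Agent.Lib.Helper23.Adq20
set_option autoImplicit false
universe u
open CategoryTheory CategoryTheory.Limits TensorProduct Opposite

/-! Descent of adequacy along a finite family of ring maps. -/

namespace Groth.Agent.Helper23.Adq

open Adeq

variable {A : Type u} [CommRing A]

instance mvf_hasFiniteBiproducts : HasFiniteBiproducts (MVF A) :=
  HasFiniteBiproducts.of_hasFiniteProducts

/-- evaluation of a finite sum of morphisms of module-valued functors. -/
lemma sum_app_apply {J : Type} [Fintype J] {F G : MVF A} (φ : J → (F ⟶ G)) (B : Alg A)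
    (x : F.obj (pt B)) :
    ((∑ j, φ j).app (pt B)).hom x = ∑ j, ((φ j).app (pt B)).hom x := by
  classical
  induction (Finset.univ : Finset J) using Finset.induction_on with
  | empty => simp
  | insert a s ha ih =>
    rw [Finset.sum_insert ha, Finset.sum_insert ha, ← ih]
    rfl

/-- elements of a finite biproduct are determined by their components. -/
lemma biproduct_ext_apply {J : Type} [Fintype J] (G : J → MVF A) (B : Alg A)
    (w w' : (⨁ G).obj (pt B))
    (h : ∀ j, ((biproduct.π G j).app (pt B)).hom w = ((biproduct.π G j).app (pt B)).hom w') :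
    w = w' := by
  have key : ∀ z : (⨁ G).obj (pt B),
      z = ∑ j, ((biproduct.ι G j).app (pt B)).hom (((biproduct.π G j).app (pt B)).hom z) := by
    intro z
    have h1 := sum_app_apply (fun j => biproduct.π G j ≫ biproduct.ι G j) B z
    rw [biproduct.total] at h1
    exact h1
  rw [key w, key w']
  refine Finset.sum_congr rfl fun j _ => ?_
  rw [h j]


section Family

variable {J : Type} [Fintype J] (C : J → Type u) [∀ j, CommRing (C j)] [∀ j, Algebra A (C j)]

set_option maxHeartbeats 2000000 in
/-- descent of adequacy along a finite family of ring maps. -/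
theorem adequate_of_descent_family (F : MVF A)
    (h₁ : ∀ j, adequate (C j) ((restr A (C j)).obj F))
    (h₂ : ∀ B : Alg A,
      (∀ x x' : F.obj (pt B), (∀ j, (F.map (ptHom (Alg.unit A (C j) B))).hom x =
          (F.map (ptHom (Alg.unit A (C j) B))).hom x') → x = x') ∧
      ∀ y : ∀ j, F.obj (pt (Cb (C j) B)),
        (∀ j k, (F.map (ptHom ((Alg.restr A (C j)).map
            ((Alg.baseChange A (C j)).map (Alg.unit A (C k) B))))).hom (y j) =
          (F.map (ptHom (Alg.unit A (C j) (Cb (C k) B)))).hom (y k)) →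
        ∃ x, ∀ j, (F.map (ptHom (Alg.unit A (C j) B))).hom x = y j) : adequate A F := by
  classical
  let G1 : J → MVF A := fun j => (push A (C j)).obj ((restr A (C j)).obj F)
  have hG1 : ∀ j, adequate A (G1 j) := fun j => adequate_push _ (h₁ j)
  let G2 : J × J → MVF A := fun jk => (push A (C jk.2)).obj ((restr A (C jk.2)).obj (G1 jk.1))
  have hG2 : ∀ jk, adequate A (G2 jk) := fun jk =>
    adequate_push _ (adequate_restr (G1 jk.1) (hG1 jk.1))
  let d₀ : ∀ jk : J × J, G1 jk.1 ⟶ G2 jk := fun jk => etaT (A' := C jk.2) (G1 jk.1)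
  let d₁ : ∀ jk : J × J, G1 jk.2 ⟶ G2 jk := fun jk =>
    (push A (C jk.2)).map ((restr A (C jk.2)).map (etaT (A' := C jk.1) F))
  have hd₀ : ∀ (j k : J) (B : Alg A) (y : F.obj (pt (Cb (C j) B))),
      ((d₀ (j, k)).app (pt B)).hom y = (F.map (ptHom ((Alg.restr A (C j)).map
        ((Alg.baseChange A (C j)).map (Alg.unit A (C k) B))))).hom y := fun j k B y => rfl
  have hd₁ : ∀ (j k : J) (B : Alg A) (y : F.obj (pt (Cb (C k) B))),
      ((d₁ (j, k)).app (pt B)).hom y = (F.map (ptHom (Alg.unit A (C j) (Cb (C k) B)))).hom y :=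
    fun j k B y => rfl
  have hadG1 : adequate A (⨁ G1) :=
    (adequate A).prop_of_isLimit (biproduct.isLimit G1) (fun j => hG1 j.as)
  have hadG2 : adequate A (⨁ G2) :=
    (adequate A).prop_of_isLimit (biproduct.isLimit G2) (fun j => hG2 j.as)
  let δ : (⨁ G1) ⟶ (⨁ G2) :=
    biproduct.lift (fun jk => biproduct.π G1 jk.2 ≫ d₁ jk - biproduct.π G1 jk.1 ≫ d₀ jk)
  let η : F ⟶ ⨁ G1 := biproduct.lift (fun j => etaT (A' := C j) F)
  have hηπ : ∀ j, η ≫ biproduct.π G1 j = etaT (A' := C j) F := fun j => biproduct.lift_π _ _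
  have hδπ : ∀ jk, δ ≫ biproduct.π G2 jk =
      biproduct.π G1 jk.2 ≫ d₁ jk - biproduct.π G1 jk.1 ≫ d₀ jk := fun jk => biproduct.lift_π _ _
  have hcomm : ∀ (j k : J), etaT (A' := C k) F ≫ d₁ (j, k) = etaT (A' := C j) F ≫ d₀ (j, k) := by
    intro j k
    ext X x
    let B : Alg A := X.unop.unop
    change ((d₁ (j, k)).app (pt B)).hom ((F.map (ptHom (Alg.unit A (C k) B))).hom x) =
      ((d₀ (j, k)).app (pt B)).hom ((F.map (ptHom (Alg.unit A (C j) B))).hom x)
    refine (hd₁ j k B _).trans (Eq.trans ?_ (hd₀ j k B _).symm)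
    have e1 := PresheafOfModules.map_comp_apply F (ptHom (Alg.unit A (C k) B))
      (ptHom (Alg.unit A (C j) (Cb (C k) B))) x
    have e2 := PresheafOfModules.map_comp_apply F (ptHom (Alg.unit A (C j) B))
      (ptHom ((Alg.restr A (C j)).map ((Alg.baseChange A (C j)).map (Alg.unit A (C k) B)))) x
    have e3 : ptHom (Alg.unit A (C k) B) ≫ ptHom (Alg.unit A (C j) (Cb (C k) B)) =
        ptHom (Alg.unit A (C j) B) ≫
          ptHom ((Alg.restr A (C j)).map ((Alg.baseChange A (C j)).map (Alg.unit A (C k) B))) := by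
      have := unit_naturality (A' := C j) (Alg.unit A (C k) B)
      exact congrArg (fun t => t.op.op) this.symm
    exact e1.symm.trans ((PresheafOfModules.congr_map_apply F e3 x).trans e2)
  have w : η ≫ δ = 0 := by
    apply biproduct.hom_ext
    intro jk
    rw [Category.assoc, hδπ, Preadditive.comp_sub, ← Category.assoc, ← Category.assoc, hηπ, hηπ,
      zero_comp, sub_eq_zero]
    exact hcomm jk.1 jk.2
  let k : F ⟶ kernel δ := kernel.lift δ η w
  have hk : k ≫ kernel.ι δ = η := kernel.lift_ι _ _ _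
  have hkx : ∀ (B : Alg A) (x : F.obj (pt B)) (j : J),
      ((biproduct.π G1 j).app (pt B)).hom (((kernel.ι δ).app (pt B)).hom ((k.app (pt B)).hom x)) =
        (F.map (ptHom (Alg.unit A (C j) B))).hom x := by
    intro B x j
    have h3 : (k ≫ kernel.ι δ) ≫ biproduct.π G1 j = etaT (A' := C j) F := by rw [hk, hηπ]
    have := congr(($h3).app (pt B) x)
    exact this
  haveI : Mono k := by
    apply PresheafOfModules.mono_of_injective
    intro X x x' hxx
    apply (h₂ X.unop.unop).1
    intro j
    have e1 := hkx X.unop.unop x j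
    have e2 := hkx X.unop.unop x' j
    refine e1.symm.trans (Eq.trans ?_ e2)
    exact congrArg (fun t => ((biproduct.π G1 j).app X).hom (((kernel.ι δ).app X).hom t)) hxx
  haveI : Epi k := by
    apply PresheafOfModules.epi_of_surjective
    intro X z
    let B : Alg A := X.unop.unop
    let wz : (⨁ G1).obj (pt B) := ((kernel.ι δ).app (pt B)).hom z
    let y : ∀ j, F.obj (pt (Cb (C j) B)) := fun j => ((biproduct.π G1 j).app (pt B)).hom wz
    have hy : ∀ j k, ((d₀ (j, k)).app (pt B)).hom (y j) = ((d₁ (j, k)).app (pt B)).hom (y k) := by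
      intro j k
      have h3 : kernel.ι δ ≫ (biproduct.π G1 k ≫ d₁ (j, k) - biproduct.π G1 j ≫ d₀ (j, k)) = 0 := by
        rw [← hδπ (j, k), ← Category.assoc, kernel.condition, zero_comp]
      have h4 := congr(($h3).app (pt B) z)
      have h5 : ((d₁ (j, k)).app (pt B)).hom (y k) - ((d₀ (j, k)).app (pt B)).hom (y j) = 0 := h4
      exact (sub_eq_zero.mp h5).symm
    obtain ⟨x, hx⟩ := (h₂ B).2 y (fun j k => (hd₀ j k B (y j)).symm.trans ((hy j k).trans (hd₁ j k B (y k))))
    refine ⟨x, ?_⟩
    apply PresheafOfModules.injective_of_mono (kernel.ι δ) (pt B)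
    apply biproduct_ext_apply G1 B
    intro j
    exact (hkx B x j).trans (hx j)
  haveI : IsIso k := isIso_of_mono_of_epi k
  exact (adequate A).prop_of_iso (asIso k).symm (adequate_kernel δ hadG1 hadG2)

end Family

end Groth.Agent.Helper23.Adq
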