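import Mathlib
import Groth.Agent.Lib.Helper23.Adq21
set_option autoImplicit false
universe u
open CategoryTheory CategoryTheory.Limits TensorProduct Opposite

/-! Generic gluing for sheaves of abelian groups along a covering family with weak pullbacks. -/

namespace Groth.Agent.Helper23.Adq

universe v₁ u₁

theorem sheaf_inj_glue {C : Type u₁} [Category.{v₁} C] (J : GrothendieckTopology C)
    (P : Cᵒᵖ ⥤ AddCommGrpCat.{max u₁ v₁}) (hP : Presheaf.IsSheaf J P)
    {U : C} {I : Type*} (V : I → C) (π : ∀ i, V i ⟶ U) (hcov : Sieve.ofArrows V π ∈ J U)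
    (W : I → I → C) (p₁ : ∀ i j, W i j ⟶ V i) (p₂ : ∀ i j, W i j ⟶ V j)
    (hW : ∀ i j (Z : C) (a : Z ⟶ V i) (b : Z ⟶ V j), a ≫ π i = b ≫ π j →
      ∃ c : Z ⟶ W i j, c ≫ p₁ i j = a ∧ c ≫ p₂ i j = b) :
    (∀ x x' : P.obj (op U), (∀ i, (P.map (π i).op).hom x = (P.map (π i).op).hom x') → x = x') ∧
    (∀ y : ∀ i, P.obj (op (V i)),
      (∀ i j, (P.map (p₁ i j).op).hom (y i) = (P.map (p₂ i j).op).hom (y j)) →
      ∃ x, ∀ i, (P.map (π i).op).hom x = y i) := by
  have h1 : Presieve.IsSheaf J (P ⋙ forget AddCommGrpCat) := by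
    rw [← isSheaf_iff_isSheaf_of_type]
    exact (Presheaf.isSheaf_iff_isSheaf_forget J P (forget AddCommGrpCat)).1 hP
  have h2 : Presieve.IsSheafFor (P ⋙ forget AddCommGrpCat) (Presieve.ofArrows V π) := by
    rw [Presieve.isSheafFor_iff_generate]
    exact h1 _ hcov
  rw [Presieve.isSheafFor_arrows_iff] at h2
  constructor
  · intro x x' hxx
    have hc : Presieve.Arrows.Compatible (P ⋙ forget AddCommGrpCat) π
        (fun i => (P.map (π i).op).hom x) := by
      intro i j Z gi gj hg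
      change (P.map gi.op).hom ((P.map (π i).op).hom x) = (P.map gj.op).hom ((P.map (π j).op).hom x)
      have e1 : (P.map (π i).op ≫ P.map gi.op) = (P.map (π j).op ≫ P.map gj.op) := by
        rw [← P.map_comp, ← P.map_comp, ← op_comp, ← op_comp, hg]
      exact congr(($e1).hom x)
    obtain ⟨t, -, ht⟩ := h2 _ hc
    exact (ht x (fun i => rfl)).trans (ht x' (fun i => (hxx i).symm)).symm
  · intro y hy
    have hc : Presieve.Arrows.Compatible (P ⋙ forget AddCommGrpCat) π y := by
      intro i j Z gi gj hg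
      obtain ⟨c, hc1, hc2⟩ := hW i j Z gi gj hg
      change (P.map gi.op).hom (y i) = (P.map gj.op).hom (y j)
      rw [← hc1, ← hc2, op_comp, op_comp, P.map_comp, P.map_comp]
      change (P.map c.op).hom ((P.map (p₁ i j).op).hom (y i)) =
        (P.map c.op).hom ((P.map (p₂ i j).op).hom (y j))
      rw [hy i j]
    obtain ⟨t, ht, -⟩ := h2 y hc
    exact ⟨t, ht⟩

end Groth.Agent.Helper23.Adq
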