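import Mathlib
import Groth.Agent.Lib.Helper23.Adq22
import Groth.Prelude.Def_Adeq2
set_option autoImplicit false
universe u
open CategoryTheory CategoryTheory.Limits TensorProduct Opposite AlgebraicGeometry

/-! Sheaf condition on the big site gives the descent datum hypotheses for `toMVF`. -/

namespace Groth.Agent.Helper23.Adq

open Adeq

section

variable {R : Type u} [CommRing R]

/-- underlying ring map of a morphism of algebras. -/
def rh {B B' : Alg R} (f : B ⟶ B') : CommRingCat.of B ⟶ CommRingCat.of B' :=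
  CommRingCat.ofHom f.hom.toRingHom

/-- structure map of an algebra. -/
def sm (B : Alg R) : CommRingCat.of R ⟶ CommRingCat.of B := CommRingCat.ofHom (algebraMap R B)

lemma sm_rh {B B' : Alg R} (f : B ⟶ B') : sm B ≫ rh f = sm B' := by
  ext r
  exact f.hom.commutes r

variable (C C' : Type u) [CommRing C] [CommRing C'] [Algebra R C] [Algebra R C'] (B : Alg R)

lemma baseChange_map_tmul {B B' : Alg R} (g : B ⟶ B') (c : C) (x : B) :
    ((Alg.baseChange R C).map g).hom (c ⊗ₜ[R] x) = c ⊗ₜ[R] g.hom x := rfl

lemma rh_restr_baseChange_tmul {B B' : Alg R} (g : B ⟶ B') (c : C) (x : B) :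
    (rh ((Alg.restr R C).map ((Alg.baseChange R C).map g))).hom (c ⊗ₜ[R] x) = c ⊗ₜ[R] g.hom x := rfl

lemma rh_unit_apply (x : B) : (rh (Alg.unit R C B)).hom x = (1 : C) ⊗ₜ[R] x := rfl

lemma isPushout_unit : IsPushout (sm B) (CommRingCat.ofHom (algebraMap R C))
    (rh (Alg.unit R C B))
    (CommRingCat.ofHom (S := C ⊗[R] B) Algebra.TensorProduct.includeLeftRingHom) :=
  (CommRingCat.isPushout_tensorProduct R C B).flip

/-- the pushout square `B → C' ⊗ B`, `B → C ⊗ B`, `C ⊗ (C' ⊗ B)`. -/
lemma isPushout_unit_unit :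
    IsPushout (rh (Alg.unit R C' B)) (rh (Alg.unit R C B)) (rh (Alg.unit R C (Cb C' B)))
      (rh ((Alg.restr R C).map ((Alg.baseChange R C).map (Alg.unit R C' B)))) := by
  have t := isPushout_unit C B
  have s := isPushout_unit C (Cb C' B)
  refine IsPushout.of_left ?_ ?_ t
  · convert s using 1
    · exact sm_rh _
    · ext c
      refine (rh_restr_baseChange_tmul C (Alg.unit R C' B) c (1 : B)).trans ?_
      congr 1
  · ext x
    refine (rh_unit_apply C (Cb C' B) _).trans ?_
    exact (rh_restr_baseChange_tmul C (Alg.unit R C' B) (1 : C) x).symm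

end

section

variable {S : Scheme.{u}} {R : CommRingCat.{u}} (b : Spec R ⟶ S)

lemma specOver_map_left {B B' : Alg R} (f : B ⟶ B') :
    ((specOver b).map f.op).left = Spec.map (rh f) := rfl

variable (C C' : Type u) [CommRing C] [CommRing C'] [Algebra R C] [Algebra R C'] (B : Alg R)

lemma isPullback_unit_unit :
    IsPullback ((specOver b).map (Alg.unit R C (Cb C' B)).op).left
      ((specOver b).map ((Alg.restr R C).map ((Alg.baseChange R C).map (Alg.unit R C' B))).op).left
      ((specOver b).map (Alg.unit R C' B).op).left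
      ((specOver b).map (Alg.unit R C B).op).left :=
  isPullback_SpecMap_of_isPushout _ _ _ _ (isPushout_unit_unit C C' B)

/-- weak pullback property in `Over S`. -/
lemma weakPullback_unit_unit (Z : Over S) (a : Z ⟶ (specOver b).obj (op (Cb C B)))
    (a' : Z ⟶ (specOver b).obj (op (Cb C' B)))
    (h : a ≫ (specOver b).map (Alg.unit R C B).op = a' ≫ (specOver b).map (Alg.unit R C' B).op) :
    ∃ c : Z ⟶ (specOver b).obj (op (Cb C (Cb C' B))),
      c ≫ (specOver b).map ((Alg.restr R C).map ((Alg.baseChange R C).map (Alg.unit R C' B))).op = a ∧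
      c ≫ (specOver b).map (Alg.unit R C (Cb C' B)).op = a' := by
  have hp := isPullback_unit_unit b C C' B
  have h' : a'.left ≫ ((specOver b).map (Alg.unit R C' B).op).left =
      a.left ≫ ((specOver b).map (Alg.unit R C B).op).left := by
    have := congrArg (fun t => t.left) h
    exact this.symm
  let l := hp.lift a'.left a.left h'
  have hl1 : l ≫ ((specOver b).map (Alg.unit R C (Cb C' B)).op).left = a'.left := hp.lift_fst _ _ _
  have hl2 : l ≫ ((specOver b).map ((Alg.restr R C).map
      ((Alg.baseChange R C).map (Alg.unit R C' B))).op).left = a.left := hp.lift_snd _ _ _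
  have hw : l ≫ ((specOver b).obj (op (Cb C (Cb C' B)))).hom = Z.hom := by
    rw [← Over.w ((specOver b).map (Alg.unit R C (Cb C' B)).op), ← Category.assoc, hl1]
    exact Over.w a'
  refine ⟨Over.homMk l hw, ?_, ?_⟩
  · ext : 1
    exact hl2
  · ext : 1
    exact hl1

end


section

variable (K : Precoverage Scheme.{u}) [Precoverage.IsStableUnderBaseChange K]
  {S : Scheme.{u}} {R : CommRingCat.{u}} (b : Spec R ⟶ S)
  {J : Type} (C : J → Type u) [∀ j, CommRing (C j)] [∀ j, Algebra R (C j)]

lemma unit_cover_mem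
    (hC : Presieve.ofArrows (fun j => Spec (CommRingCat.of (C j)))
      (fun j => Spec.map (CommRingCat.ofHom (algebraMap R (C j)))) ∈ K.coverings (Spec R))
    (B : Alg R) :
    Sieve.ofArrows (fun j => (specOver b).obj (op (Cb (C j) B)))
      (fun j => (specOver b).map (Alg.unit R (C j) B).op) ∈
        (QuotSh.J K S) ((specOver b).obj (op B)) := by
  rw [GrothendieckTopology.mem_over_iff, Sieve.overEquiv_ofArrows]
  refine Precoverage.generate_mem_toGrothendieck ?_
  refine Precoverage.mem_coverings_of_isPullback _ hC (Spec.map (sm B)) _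
    (fun j => Spec.map (CommRingCat.ofHom (S := C j ⊗[R] B)
      Algebra.TensorProduct.includeLeftRingHom)) (fun j => ?_)
  exact isPullback_SpecMap_of_isPushout _ _ _ _ (isPushout_unit (C j) B)

variable [BigSite.OSh K]

omit [Precoverage.IsStableUnderBaseChange K] in
lemma toMVF_map_hom (M : BigSite.Mod K S) {B B' : Alg R} (f : B ⟶ B')
    (x : ((toMVF K b).obj M).obj (pt B)) :
    (((toMVF K b).obj M).map (ptHom f)).hom x =
      (M.val.presheaf.map ((specOver b).map f.op).op).hom x := rfl

theorem toMVF_descent_hyp (M : BigSite.Mod K S)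
    (hC : Presieve.ofArrows (fun j => Spec (CommRingCat.of (C j)))
      (fun j => Spec.map (CommRingCat.ofHom (algebraMap R (C j)))) ∈ K.coverings (Spec R))
    (B : Alg R) :
    (∀ x x' : ((toMVF K b).obj M).obj (pt B),
      (∀ j, (((toMVF K b).obj M).map (ptHom (Alg.unit R (C j) B))).hom x =
          (((toMVF K b).obj M).map (ptHom (Alg.unit R (C j) B))).hom x') → x = x') ∧
      ∀ y : ∀ j, ((toMVF K b).obj M).obj (pt (Cb (C j) B)),
        (∀ j k, (((toMVF K b).obj M).map (ptHom ((Alg.restr R (C j)).map
            ((Alg.baseChange R (C j)).map (Alg.unit R (C k) B))))).hom (y j) =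
          (((toMVF K b).obj M).map (ptHom (Alg.unit R (C j) (Cb (C k) B)))).hom (y k)) →
        ∃ x, ∀ j, (((toMVF K b).obj M).map (ptHom (Alg.unit R (C j) B))).hom x = y j := by
  exact sheaf_inj_glue (QuotSh.J K S) M.val.presheaf M.isSheaf
    (fun j => (specOver b).obj (op (Cb (C j) B)))
    (fun j => (specOver b).map (Alg.unit R (C j) B).op) (unit_cover_mem K b C hC B)
    (fun j k => (specOver b).obj (op (Cb (C j) (Cb (C k) B))))
    (fun j k => (specOver b).map ((Alg.restr R (C j)).map
      ((Alg.baseChange R (C j)).map (Alg.unit R (C k) B))).op)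
    (fun j k => (specOver b).map (Alg.unit R (C j) (Cb (C k) B)).op)
    (fun j k Z a a' h => weakPullback_unit_unit b (C j) (C k) B Z a a' h)

end

end Groth.Agent.Helper23.Adq
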