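import Mathlib
import Groth.Agent.Lib.Helper23.Adq23
set_option autoImplicit false
universe u
open CategoryTheory CategoryTheory.Limits TensorProduct Opposite AlgebraicGeometry

/-! Restriction of `toMVF` along a ring map; adequacy of `F_{M,R}` for every affine object. -/

namespace Groth.Agent.Helper23.Adq

open Adeq

section

variable (K : Precoverage Scheme.{u}) [BigSite.OSh K] {S : Scheme.{u}} {R : CommRingCat.{u}}
  (b : Spec R ⟶ S) (C : Type u) [CommRing C] [Algebra R C] (c : Spec (CommRingCat.of C) ⟶ S)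
  (hc : c = Spec.map (CommRingCat.ofHom (algebraMap R C)) ≫ b)

/-- comparison isomorphism in `Over S`. -/
noncomputable def cmpIso (B' : Alg C) :
    (specOver c).obj (op B') ≅ (specOver b).obj (op ((Alg.restr R C).obj B')) :=
  Over.isoMk (Iso.refl _) (by
    change 𝟙 _ ≫ Spec.map (CommRingCat.ofHom ((algebraMap C B').comp (algebraMap R C))) ≫ b =
      Spec.map (CommRingCat.ofHom (algebraMap C B')) ≫ c
    rw [hc, Category.id_comp, CommRingCat.ofHom_comp, Spec.map_comp, Category.assoc])

include hc in
lemma cmpIso_nat {B' B'' : Alg C} (f : B' ⟶ B'') :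
    (cmpIso b C c hc B'').hom ≫ (specOver b).map ((Alg.restr R C).map f).op =
      (specOver c).map f.op ≫ (cmpIso b C c hc B').hom := by
  ext : 1
  change 𝟙 _ ≫ Spec.map (rh ((Alg.restr R C).map f)) = Spec.map (rh f) ≫ 𝟙 _
  rw [Category.id_comp, Category.comp_id]
  rfl

variable (M : BigSite.Mod K S)

/-- comparison map `(restr F_{M,b}) ⟶ F_{M,c}`. -/
noncomputable def restrHom : (restr R C).obj ((toMVF K b).obj M) ⟶ (toMVF K c).obj M :=
  PresheafOfModules.homMk
    { app X := M.val.presheaf.map (cmpIso b C c hc X.unop.unop).hom.op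
      naturality {X Y} f := by
        change M.val.presheaf.map ((specOver b).map ((Alg.restr R C).map f.unop.unop).op).op ≫
            M.val.presheaf.map (cmpIso b C c hc Y.unop.unop).hom.op =
          M.val.presheaf.map (cmpIso b C c hc X.unop.unop).hom.op ≫
            M.val.presheaf.map ((specOver c).map f.unop).op
        rw [← Functor.map_comp, ← Functor.map_comp, ← op_comp, ← op_comp]
        congr 2 }
    (by
      intro X r m
      have h := M.val.map_smul (cmpIso b C c hc X.unop.unop).hom.op
        (toSect K b ((Alg.restr R C).obj X.unop.unop) r) m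
      refine h.trans ?_
      congr 1)

instance restrHom_isIso : IsIso (restrHom K b C c hc M) := by
  haveI : ∀ X, IsIso (((PresheafOfModules.toPresheaf _).map (restrHom K b C c hc M)).app X) := by
    intro X
    change IsIso (M.val.presheaf.map (cmpIso b C c hc X.unop.unop).hom.op)
    infer_instance
  haveI : IsIso ((PresheafOfModules.toPresheaf _).map (restrHom K b C c hc M)) :=
    NatIso.isIso_of_isIso_app _
  exact isIso_of_reflects_iso _ (PresheafOfModules.toPresheaf _)

include hc in
lemma adequate_restr_toMVF_iff :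
    adequate C ((restr R C).obj ((toMVF K b).obj M)) ↔ adequate C ((toMVF K c).obj M) :=
  (adequate C).prop_iff_of_iso (asIso (restrHom K b C c hc M))


end

section

instance fppf_respectsLeft :
    (@Flat ⊓ @LocallyOfFinitePresentation : MorphismProperty Scheme.{u}).RespectsLeft
      @IsOpenImmersion where
  precomp i hi f hf := by
    haveI : IsOpenImmersion i := hi
    haveI : Flat f := hf.1
    haveI : LocallyOfFinitePresentation f := hf.2
    exact ⟨inferInstance, inferInstance⟩

set_option backward.isDefEq.respectTransparency.types false in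
/-- refine the pullback of an fppf covering of `S` to a finite affine fppf covering of `Spec R`. -/
theorem exists_finite_affine_refinement {S : Scheme.{u}} {ι : Type u} (R' : ι → CommRingCat.{u})
    (a : ∀ i, Spec (R' i) ⟶ S)
    (hcov : Presieve.ofArrows (fun i => Spec (R' i)) a ∈ Scheme.fppfPrecoverage.coverings S)
    (R : CommRingCat.{u}) (b : Spec R ⟶ S) :
    ∃ (n : ℕ) (C : Fin n → CommRingCat.{u}) (g : ∀ j, R ⟶ C j) (i : Fin n → ι)
      (ψ : ∀ j, R' (i j) ⟶ C j),
      Presieve.ofArrows (fun j => Spec (C j)) (fun j => Spec.map (g j)) ∈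
        Scheme.fppfPrecoverage.coverings (Spec R) ∧
      ∀ j, Spec.map (ψ j) ≫ a (i j) = Spec.map (g j) ≫ b := by
  let 𝒰₀ : S.Cover Scheme.fppfPrecoverage := ⟨⟨ι, fun i => Spec (R' i), a⟩, hcov⟩
  let 𝒰 : (Spec R).Cover (Scheme.precoverage (@Flat ⊓ @LocallyOfFinitePresentation)) :=
    𝒰₀.pullback₁ b
  haveI : QuasiCompactCover 𝒰.toPreZeroHypercover := by
    refine QuasiCompactCover.of_isOpenMap (fun i => ?_)
    have hp := 𝒰.map_prop i
    haveI : Flat (𝒰.f i) := hp.1
    haveI : LocallyOfFinitePresentation (𝒰.f i) := hp.2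
    exact (𝒰.f i).isOpenMap
  obtain ⟨𝒱, f, hfin, -⟩ := QuasiCompactCover.exists_hom 𝒰
  obtain ⟨n, ⟨e⟩⟩ := Finite.exists_equiv_fin 𝒱.I₀
  refine ⟨n, fun j => 𝒱.X (e.symm j), fun j => Spec.preimage (𝒱.f (e.symm j)),
    fun j => f.s₀ (e.symm j),
    fun j => Spec.preimage (f.h₀ (e.symm j) ≫ pullback.snd b (a (f.s₀ (e.symm j)))), ?_, ?_⟩
  · have h1 := 𝒱.cover.mem₀
    simp only [Spec.map_preimage]
    change _ ∈ (Scheme.precoverage (@Flat ⊓ @LocallyOfFinitePresentation)).coverings (Spec R)
    rw [Scheme.ofArrows_mem_precoverage_iff]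
    refine ⟨fun x => ?_, fun j => 𝒱.map_prop _⟩
    refine ⟨e (𝒱.idx x), ?_⟩
    rw [Equiv.symm_apply_apply]
    exact 𝒱.covers x
  · intro j
    rw [Spec.map_preimage, Spec.map_preimage, Category.assoc]
    have h2 : pullback.snd b (a (f.s₀ (e.symm j))) ≫ a (f.s₀ (e.symm j)) =
        pullback.fst b (a (f.s₀ (e.symm j))) ≫ b := pullback.condition.symm
    have h3 : f.h₀ (e.symm j) ≫ pullback.fst b (a (f.s₀ (e.symm j))) = 𝒱.f (e.symm j) :=
      f.w₀ (e.symm j)
    refine (congrArg (fun t => f.h₀ (e.symm j) ≫ t) h2).trans ?_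
    exact (Category.assoc _ _ _).symm.trans (congrArg (fun t => t ≫ b) h3)

end


section

/-- S8755: adequacy of `F_{M,R}` for every affine object of the big fppf site. -/
theorem adequate_toMVF_of_adequateMod (S : Scheme.{u}) (M : BigSite.Mod Scheme.fppfPrecoverage S)
    (hM : adequateMod Scheme.fppfPrecoverage S M) (R : CommRingCat.{u}) (b : Spec R ⟶ S) :
    adequate R ((toMVF Scheme.fppfPrecoverage b).obj M) := by
  obtain ⟨ι, R', a, hcov, hadq⟩ := hM
  obtain ⟨n, C, g, i, ψ, hC, hcomm⟩ := exists_finite_affine_refinement R' a hcov R b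
  letI : ∀ j, Algebra R (C j) := fun j => (g j).hom.toAlgebra
  refine adequate_of_descent_family (A := R) (fun j => (C j : Type u)) _ (fun j => ?_)
    (fun B => ?_)
  · rw [adequate_restr_toMVF_iff Scheme.fppfPrecoverage b (C j) (Spec.map (g j) ≫ b) rfl M]
    letI : Algebra (R' (i j)) (C j) := (ψ j).hom.toAlgebra
    have h := adequate_restr (A' := C j) _ (hadq (i j))
    rw [adequate_restr_toMVF_iff Scheme.fppfPrecoverage (a (i j)) (C j) (Spec.map (g j) ≫ b)
      (hcomm j).symm M] at h
    exact h
  · exact toMVF_descent_hyp Scheme.fppfPrecoverage b (fun j => (C j : Type u)) M hC B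

end

end Groth.Agent.Helper23.Adq
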