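import Mathlib
import Groth.Agent.Lib.Helper23.Adq24
set_option autoImplicit false
universe u
open CategoryTheory CategoryTheory.Limits TensorProduct Opposite AlgebraicGeometry

/-! Pullback, locality and kernels for adequate modules on the big fppf site. -/

namespace Groth.Agent.Helper23.Adq

open Adeq

section

variable (K : Precoverage Scheme.{u}) [BigSite.OSh K] {S T : Scheme.{u}} (f : T ⟶ S)
  {R : CommRingCat.{u}} (t : Spec R ⟶ T)

/-- comparison isomorphism in `Over S`. -/
noncomputable def pullCmpIso (B : Alg R) :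
    (specOver (t ≫ f)).obj (op B) ≅ (Over.map f).obj ((specOver t).obj (op B)) :=
  Over.isoMk (Iso.refl _) (by
    change 𝟙 _ ≫ (Spec.map (CommRingCat.ofHom (algebraMap R B)) ≫ t) ≫ f =
      Spec.map (CommRingCat.ofHom (algebraMap R B)) ≫ t ≫ f
    rw [Category.id_comp, Category.assoc])

variable (M : BigSite.Mod K S)

/-- comparison map `F_{f^*M,t} ⟶ F_{M,t ≫ f}`. -/
noncomputable def pullHom :
    (toMVF K t).obj ((BigSite.pullMod K f).obj M) ⟶ (toMVF K (t ≫ f)).obj M :=
  PresheafOfModules.homMk
    { app X := M.val.presheaf.map (pullCmpIso f t X.unop.unop).hom.op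
      naturality {X Y} g := by
        change M.val.presheaf.map ((Over.map f).map ((specOver t).map g.unop)).op ≫
            M.val.presheaf.map (pullCmpIso f t Y.unop.unop).hom.op =
          M.val.presheaf.map (pullCmpIso f t X.unop.unop).hom.op ≫
            M.val.presheaf.map ((specOver (t ≫ f)).map g.unop).op
        rw [← Functor.map_comp, ← Functor.map_comp, ← op_comp, ← op_comp]
        congr 2 }
    (by
      intro X r m
      have h := M.val.map_smul (pullCmpIso f t X.unop.unop).hom.op
        (((Sheaf.pushforwardOverMapIso (BigSite.ORingAbs K) f).inv.hom.app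
          (op ((specOver t).obj (op X.unop.unop)))).hom (toSect K t X.unop.unop r)) m
      refine h.trans ?_
      congr 1)


instance pullHom_isIso : IsIso (pullHom K f t M) := by
  haveI : ∀ X, IsIso (((PresheafOfModules.toPresheaf _).map (pullHom K f t M)).app X) := by
    intro X
    change IsIso (M.val.presheaf.map (pullCmpIso f t X.unop.unop).hom.op)
    infer_instance
  haveI : IsIso ((PresheafOfModules.toPresheaf _).map (pullHom K f t M)) :=
    NatIso.isIso_of_isIso_app _
  exact isIso_of_reflects_iso _ (PresheafOfModules.toPresheaf _)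

lemma adequate_toMVF_pullMod_iff :
    adequate R ((toMVF K t).obj ((BigSite.pullMod K f).obj M)) ↔
      adequate R ((toMVF K (t ≫ f)).obj M) :=
  (adequate R).prop_iff_of_iso (asIso (pullHom K f t M))

end

section

/-- the affine open cover of a scheme as an fppf covering family. -/
lemma affineOpenCover_mem_fppf (T : Scheme.{u}) :
    Presieve.ofArrows (fun i => Spec (T.affineOpenCover.X i)) T.affineOpenCover.f ∈
      Scheme.fppfPrecoverage.coverings T :=
  Scheme.zariskiPrecoverage_le_fppfPrecoverage _ T.affineOpenCover.cover.mem₀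

/-- an `O`-module all of whose `F_{M,R}` are adequate is adequate. -/
lemma adequateMod_of_forall {S : Scheme.{u}} (M : BigSite.Mod Scheme.fppfPrecoverage S)
    (h : ∀ (R : CommRingCat.{u}) (a : Spec R ⟶ S),
      adequate R ((toMVF Scheme.fppfPrecoverage a).obj M)) :
    adequateMod Scheme.fppfPrecoverage S M :=
  ⟨_, _, _, affineOpenCover_mem_fppf S, fun _ => h _ _⟩

lemma adequateMod_iff_forall {S : Scheme.{u}} (M : BigSite.Mod Scheme.fppfPrecoverage S) :
    adequateMod Scheme.fppfPrecoverage S M ↔ ∀ (R : CommRingCat.{u}) (a : Spec R ⟶ S),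
      adequate R ((toMVF Scheme.fppfPrecoverage a).obj M) :=
  ⟨fun h R a => adequate_toMVF_of_adequateMod S M h R a, adequateMod_of_forall M⟩

/-- S8757: pullback of adequate modules. -/
theorem adequateMod_pullMod {S T : Scheme.{u}} (f : T ⟶ S)
    (M : BigSite.Mod Scheme.fppfPrecoverage S) (hM : adequateMod Scheme.fppfPrecoverage S M) :
    adequateMod Scheme.fppfPrecoverage T ((BigSite.pullMod Scheme.fppfPrecoverage f).obj M) := by
  refine adequateMod_of_forall _ (fun R t => ?_)
  rw [adequate_toMVF_pullMod_iff]
  exact adequate_toMVF_of_adequateMod S M hM R (t ≫ f)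

/-- S8758: adequacy is local for the fppf topology. -/
theorem adequateMod_of_cover (S : Scheme.{u}) (M : BigSite.Mod Scheme.fppfPrecoverage S)
    (ι : Type u) (T : ι → Scheme.{u}) (f : ∀ i, T i ⟶ S)
    (hcov : Presieve.ofArrows T f ∈ Scheme.fppfPrecoverage.coverings S)
    (h : ∀ i, adequateMod Scheme.fppfPrecoverage (T i)
      ((BigSite.pullMod Scheme.fppfPrecoverage (f i)).obj M)) :
    adequateMod Scheme.fppfPrecoverage S M := by
  choose κ R a hc hadq using h
  refine ⟨Σ i, κ i, fun p => R p.1 p.2, fun p => a p.1 p.2 ≫ f p.1, ?_, fun p => ?_⟩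
  · exact Precoverage.comp_mem_coverings (J := Scheme.fppfPrecoverage) f hcov
      (fun i j => a i j) hc
  · rw [← adequate_toMVF_pullMod_iff]
    exact hadq p.1 p.2

end

section

variable {A : Type u} [CommRing A]

/-- a morphism of module-valued functors that is valuewise bijective is an isomorphism. -/
lemma isIso_of_bijective_app {F G : MVF A} (k : F ⟶ G)
    (h : ∀ B : Alg A, Function.Bijective (k.app (pt B)).hom) : IsIso k := by
  haveI : ∀ X, IsIso (((PresheafOfModules.toPresheaf _).map k).app X) := by
    intro X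
    rw [ConcreteCategory.isIso_iff_bijective]
    exact h X.unop.unop
  haveI : IsIso ((PresheafOfModules.toPresheaf _).map k) := NatIso.isIso_of_isIso_app _
  exact isIso_of_reflects_iso _ (PresheafOfModules.toPresheaf _)

lemma kernel_ι_app_injective {F G : MVF A} (φ : F ⟶ G) (B : Alg A) :
    Function.Injective ((kernel.ι φ).app (pt B)).hom := by
  exact PresheafOfModules.injective_of_mono (kernel.ι φ) (pt B)

/-- valuewise left exact sequences of module-valued functors with adequate middle and right
terms have adequate left term. -/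
theorem adequate_of_left_exact {F' F G : MVF A} (ι : F' ⟶ F) (φ : F ⟶ G) (w : ι ≫ φ = 0)
    (hinj : ∀ B : Alg A, Function.Injective (ι.app (pt B)).hom)
    (hex : ∀ (B : Alg A) (x : F.obj (pt B)), (φ.app (pt B)).hom x = 0 →
      ∃ ξ, (ι.app (pt B)).hom ξ = x)
    (hF : adequate A F) (hG : adequate A G) : adequate A F' := by
  let k : F' ⟶ kernel φ := kernel.lift φ ι w
  have hk : k ≫ kernel.ι φ = ι := kernel.lift_ι _ _ _
  have hk' : ∀ (B : Alg A) (ξ : F'.obj (pt B)),
      ((kernel.ι φ).app (pt B)).hom ((k.app (pt B)).hom ξ) = (ι.app (pt B)).hom ξ := by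
    intro B ξ
    rw [← hk]
    rfl
  haveI : IsIso k := by
    refine isIso_of_bijective_app k (fun B => ⟨fun x y hxy => ?_, fun y => ?_⟩)
    · apply hinj B
      rw [← hk' B x, ← hk' B y, hxy]
    · have hy : (φ.app (pt B)).hom (((kernel.ι φ).app (pt B)).hom y) = 0 := by
        have := kernel.condition φ
        exact congr((($this).app (pt B)).hom y)
      obtain ⟨ξ, hξ⟩ := hex B _ hy
      refine ⟨ξ, kernel_ι_app_injective φ B ?_⟩
      rw [hk' B ξ, hξ]
  exact (adequate A).prop_of_iso (asIso k).symm (adequate_kernel φ hF hG)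

end

section

variable (K : Precoverage Scheme.{u}) [BigSite.OSh K] {S : Scheme.{u}}

lemma sheaf_kernel_ι_injective {M N : BigSite.Mod K S} (φ : M ⟶ N) (U : (Over S)ᵒᵖ) :
    Function.Injective ((kernel.ι φ).val.app U).hom := by
  haveI : Mono ((SheafOfModules.forget _).map (kernel.ι φ)) := inferInstance
  exact PresheafOfModules.injective_of_mono ((SheafOfModules.forget _).map (kernel.ι φ)) U

lemma sheaf_kernel_exact {M N : BigSite.Mod K S} (φ : M ⟶ N) (U : (Over S)ᵒᵖ)
    (x : M.val.obj U) (hx : (φ.val.app U).hom x = 0) :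
    ∃ ξ, ((kernel.ι φ).val.app U).hom ξ = x := by
  have hS := ShortComplex.exact_kernel φ
  haveI : (SheafOfModules.evaluation (BigSite.ORing K S) U).PreservesZeroMorphisms :=
    ⟨fun _ _ => rfl⟩
  have h2 := hS.map_of_mono_of_preservesKernel (SheafOfModules.evaluation _ U)
    (inferInstanceAs (Mono (kernel.ι φ))) inferInstance
  rw [ShortComplex.moduleCat_exact_iff] at h2
  exact h2 x hx


/-- `F_{ker φ,R}` is adequate when `F_{M,R}` and `F_{N,R}` are. -/
theorem adequate_toMVF_kernel {M N : BigSite.Mod K S} (φ : M ⟶ N) {R : CommRingCat.{u}}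
    (a : Spec R ⟶ S) (hM : adequate R ((toMVF K a).obj M)) (hN : adequate R ((toMVF K a).obj N)) :
    adequate R ((toMVF K a).obj (kernel φ)) := by
  refine adequate_of_left_exact ((toMVF K a).map (kernel.ι φ)) ((toMVF K a).map φ) ?_ ?_ ?_ hM hN
  · rw [← Functor.map_comp, kernel.condition, Functor.map_zero]
  · intro B
    exact sheaf_kernel_ι_injective K φ (op ((specOver a).obj (op B)))
  · intro B x hx
    exact sheaf_kernel_exact K φ (op ((specOver a).obj (op B))) x hx

end

/-- S8761: kernels of maps of adequate modules are adequate. -/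
theorem adequateMod_kernel (S : Scheme.{u}) {M N : BigSite.Mod Scheme.fppfPrecoverage S}
    (φ : M ⟶ N) (hM : adequateMod Scheme.fppfPrecoverage S M)
    (hN : adequateMod Scheme.fppfPrecoverage S N) :
    adequateMod Scheme.fppfPrecoverage S (kernel φ) :=
  adequateMod_of_forall _ (fun R a => adequate_toMVF_kernel _ φ a
    (adequate_toMVF_of_adequateMod S M hM R a) (adequate_toMVF_of_adequateMod S N hN R a))

end Groth.Agent.Helper23.Adq
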