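import Mathlib
import Groth.Agent.Lib.Helper23.Adq25
set_option autoImplicit false
universe u
open CategoryTheory CategoryTheory.Limits TensorProduct Opposite AlgebraicGeometry

/-! General-precoverage version of `adequate_toMVF_of_adequateMod` (covers the Zariski case). -/

namespace Groth.Agent.Helper23.Adq

open Adeq

section

variable (P : MorphismProperty Scheme.{u}) [P.RespectsLeft @IsOpenImmersion]
  [Precoverage.IsStableUnderBaseChange (Scheme.precoverage P)]

/-- refine the pullback of a `P`-covering of `S` to a finite affine `P`-covering of `Spec R`. -/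
theorem exists_finite_affine_refinement' (hP : ∀ {X Y : Scheme.{u}} (f : X ⟶ Y), P f → IsOpenMap f)
    {S : Scheme.{u}} {ι : Type u} (R' : ι → CommRingCat.{u})
    (a : ∀ i, Spec (R' i) ⟶ S)
    (hcov : Presieve.ofArrows (fun i => Spec (R' i)) a ∈ (Scheme.precoverage P).coverings S)
    (R : CommRingCat.{u}) (b : Spec R ⟶ S) :
    ∃ (n : ℕ) (C : Fin n → CommRingCat.{u}) (g : ∀ j, R ⟶ C j) (i : Fin n → ι)
      (ψ : ∀ j, R' (i j) ⟶ C j),
      Presieve.ofArrows (fun j => Spec (C j)) (fun j => Spec.map (g j)) ∈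
        (Scheme.precoverage P).coverings (Spec R) ∧
      ∀ j, Spec.map (ψ j) ≫ a (i j) = Spec.map (g j) ≫ b := by
  let 𝒰₀ : S.Cover (Scheme.precoverage P) := ⟨⟨ι, fun i => Spec (R' i), a⟩, hcov⟩
  let 𝒰 : (Spec R).Cover (Scheme.precoverage P) := 𝒰₀.pullback₁ b
  haveI : QuasiCompactCover 𝒰.toPreZeroHypercover :=
    QuasiCompactCover.of_isOpenMap (fun i => hP _ (𝒰.map_prop i))
  obtain ⟨𝒱, f, hfin, -⟩ := QuasiCompactCover.exists_hom 𝒰
  obtain ⟨n, ⟨e⟩⟩ := Finite.exists_equiv_fin 𝒱.I₀
  refine ⟨n, fun j => 𝒱.X (e.symm j), fun j => Spec.preimage (𝒱.f (e.symm j)),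
    fun j => f.s₀ (e.symm j),
    fun j => Spec.preimage (f.h₀ (e.symm j) ≫ pullback.snd b (a (f.s₀ (e.symm j)))), ?_, ?_⟩
  · simp only [Spec.map_preimage]
    rw [Scheme.ofArrows_mem_precoverage_iff]
    refine ⟨fun x => ?_, fun j => 𝒱.map_prop _⟩
    refine ⟨e (𝒱.idx x), ?_⟩
    rw [Equiv.symm_apply_apply]
    exact 𝒱.covers x
  · intro j
    rw [Spec.map_preimage, Spec.map_preimage]
    refine (Category.assoc _ _ _).trans ?_
    have h2 : pullback.snd b (a (f.s₀ (e.symm j))) ≫ a (f.s₀ (e.symm j)) =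
        pullback.fst b (a (f.s₀ (e.symm j))) ≫ b := pullback.condition.symm
    have h3 : f.h₀ (e.symm j) ≫ pullback.fst b (a (f.s₀ (e.symm j))) = 𝒱.f (e.symm j) :=
      f.w₀ (e.symm j)
    refine (congrArg (fun t => f.h₀ (e.symm j) ≫ t) h2).trans ?_
    exact (Category.assoc _ _ _).symm.trans (congrArg (fun t => t ≫ b) h3)

variable [BigSite.OSh (Scheme.precoverage P)]

/-- adequacy of `F_{M,R}` for every affine object, for a precoverage of open maps. -/
theorem adequate_toMVF_of_adequateMod' (hP : ∀ {X Y : Scheme.{u}} (f : X ⟶ Y), P f → IsOpenMap f)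
    (S : Scheme.{u}) (M : BigSite.Mod (Scheme.precoverage P) S)
    (hM : adequateMod (Scheme.precoverage P) S M) (R : CommRingCat.{u}) (b : Spec R ⟶ S) :
    adequate R ((toMVF (Scheme.precoverage P) b).obj M) := by
  obtain ⟨ι, R', a, hcov, hadq⟩ := hM
  obtain ⟨n, C, g, i, ψ, hC, hcomm⟩ := exists_finite_affine_refinement' P hP R' a hcov R b
  letI : ∀ j, Algebra R (C j) := fun j => (g j).hom.toAlgebra
  refine adequate_of_descent_family (A := R) (fun j => (C j : Type u)) _ (fun j => ?_)
    (fun B => ?_)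
  · rw [adequate_restr_toMVF_iff (Scheme.precoverage P) b (C j) (Spec.map (g j) ≫ b) rfl M]
    letI : Algebra (R' (i j)) (C j) := (ψ j).hom.toAlgebra
    have h := adequate_restr (A' := C j) _ (hadq (i j))
    rw [adequate_restr_toMVF_iff (Scheme.precoverage P) (a (i j)) (C j) (Spec.map (g j) ≫ b)
      (hcomm j).symm M] at h
    exact h
  · exact toMVF_descent_hyp (Scheme.precoverage P) b (fun j => (C j : Type u)) M hC B

end

/-- S8756: adequacy of `F_{M,R}` for every affine object of the big Zariski site. -/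
theorem adequate_toMVF_of_adequateMod_zariski (S : Scheme.{u})
    (M : BigSite.Mod Scheme.zariskiPrecoverage S)
    (hM : adequateMod Scheme.zariskiPrecoverage S M) (R : CommRingCat.{u}) (b : Spec R ⟶ S) :
    adequate R ((toMVF Scheme.zariskiPrecoverage b).obj M) :=
  adequate_toMVF_of_adequateMod' @IsOpenImmersion
    (fun f hf => by haveI : IsOpenImmersion f := hf; exact f.isOpenEmbedding.isOpenMap) S M hM R b

end Groth.Agent.Helper23.Adq
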