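import Mathlib
import Groth.Agent.Lib.Helper23.Adq26
set_option autoImplicit false
universe u v
open CategoryTheory CategoryTheory.Limits TensorProduct Opposite

/-! Faithfully flat descent: exactness of `M → B ⊗ M → (B ⊗ B) ⊗ M` and the analogue for
adequate functors. -/

namespace Groth.Agent.Helper23.Adq

section Amitsur

variable (R : Type u) (B : Type u) [CommRing R] [CommRing B] [Algebra R B]
  (M : Type v) [AddCommGroup M] [Module R M]

/-- contracting homotopy in degree one. -/
noncomputable def amH : B ⊗[R] ((B ⊗[R] B) ⊗[R] M) →ₗ[R] B ⊗[R] (B ⊗[R] M) :=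
  (LinearMap.rTensor (B ⊗[R] M) (Algebra.TensorProduct.lmul' R (S := B)).toLinearMap) ∘ₗ
    (TensorProduct.assoc R B B (B ⊗[R] M)).symm.toLinearMap ∘ₗ
    (LinearMap.lTensor B (TensorProduct.assoc R B B M).toLinearMap)

/-- contracting homotopy in degree zero. -/
noncomputable def amH0 : B ⊗[R] (B ⊗[R] M) →ₗ[R] B ⊗[R] M :=
  (LinearMap.rTensor M (Algebra.TensorProduct.lmul' R (S := B)).toLinearMap) ∘ₗ
    (TensorProduct.assoc R B B M).symm.toLinearMap

lemma amH_tmul (b' b₁ b₂ : B) (m : M) :
    amH R B M (b' ⊗ₜ ((b₁ ⊗ₜ b₂) ⊗ₜ m)) = (b' * b₁) ⊗ₜ (b₂ ⊗ₜ m) := by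
  simp [amH]

lemma amH0_tmul (b' b : B) (m : M) : amH0 R B M (b' ⊗ₜ (b ⊗ₜ m)) = (b' * b) ⊗ₜ m := by
  simp [amH0]

lemma am_homotopy (z : B ⊗[R] (B ⊗[R] M)) :
    amH R B M (LinearMap.lTensor B
        (LinearMap.rTensor M (Algebra.TensorProduct.includeLeftSubRight R B)) z) =
      LinearMap.lTensor B (TensorProduct.mk R B M 1) (amH0 R B M z) - z := by
  induction z using TensorProduct.induction_on with
  | zero => simp
  | add x y hx hy => simp only [map_add, hx, hy]; abel
  | tmul b' w =>
    induction w using TensorProduct.induction_on with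
    | zero => simp
    | add x y hx hy => simp only [TensorProduct.tmul_add, map_add, hx, hy]; abel
    | tmul b m =>
      rw [LinearMap.lTensor_tmul, LinearMap.rTensor_tmul,
        Algebra.TensorProduct.includeLeftSubRight_apply, TensorProduct.sub_tmul,
        TensorProduct.tmul_sub, map_sub, amH_tmul, amH_tmul, amH0_tmul, LinearMap.lTensor_tmul,
        mul_one]
      rfl

/-- exactness of `M → B ⊗ M → (B ⊗ B) ⊗ M` for faithfully flat `B`. -/
theorem amitsur_exact [Module.FaithfullyFlat R B] :
    Function.Exact (TensorProduct.mk R B M 1)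
      (LinearMap.rTensor M (Algebra.TensorProduct.includeLeftSubRight R B)) := by
  refine Module.FaithfullyFlat.lTensor_reflects_exact R B _ _ (fun z => ⟨fun hz => ?_, ?_⟩)
  · refine ⟨amH0 R B M z, ?_⟩
    have h := am_homotopy R B M z
    rw [hz, map_zero] at h
    exact (sub_eq_zero.1 h.symm)
  · rintro ⟨w, rfl⟩
    induction w using TensorProduct.induction_on with
    | zero => simp
    | add x y hx hy => simp only [map_add, hx, hy, add_zero]
    | tmul b m =>
      rw [LinearMap.lTensor_tmul, LinearMap.lTensor_tmul]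
      simp

end Amitsur

section Descent

open Adeq

variable {A : Type u} [CommRing A]

lemma appU_nat {F : MVF A} {M : ModuleCat.{u + 1} A} (ι : F ⟶ (underline A).obj M)
    {C C' : Alg A} (f : C ⟶ C') (x : F.obj (pt C)) :
    appU ι C' ((F.map (ptHom f)).hom x) = (f.hom.toLinearMap.rTensor M) (appU ι C x) :=
  PresheafOfModules.naturality_apply ι (ptHom f) x

/-- faithfully flat descent for adequate functors, first two degrees. -/
theorem adequate_ff_descent {F : MVF A} (hF : adequate A F) (B : Type u) [CommRing B]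
    [Algebra A B] [Module.FaithfullyFlat A B] :
    Function.Injective (F.map
        (ptHom (CommAlgCat.ofHom (Algebra.ofId A B) : algOf A A ⟶ algOf A B))) ∧
      ∀ y : F.obj (pt (algOf A B)),
        F.map (ptHom (CommAlgCat.ofHom
            (Algebra.TensorProduct.includeLeft : B →ₐ[A] B ⊗[A] B) :
              algOf A B ⟶ algOf A (B ⊗[A] B))) y =
          F.map (ptHom (CommAlgCat.ofHom
            (Algebra.TensorProduct.includeRight : B →ₐ[A] B ⊗[A] B) :
              algOf A B ⟶ algOf A (B ⊗[A] B))) y →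
        y ∈ Set.range (F.map
          (ptHom (CommAlgCat.ofHom (Algebra.ofId A B) : algOf A A ⟶ algOf A B))) := by
  obtain ⟨M, N, α, ι, hinj, hzero, hex⟩ := exists_exact_of_adequate hF
  let fB : algOf A A ⟶ algOf A B := CommAlgCat.ofHom (Algebra.ofId A B)
  let fL : algOf A B ⟶ algOf A (B ⊗[A] B) :=
    CommAlgCat.ofHom (Algebra.TensorProduct.includeLeft : B →ₐ[A] B ⊗[A] B)
  let fR : algOf A B ⟶ algOf A (B ⊗[A] B) :=
    CommAlgCat.ofHom (Algebra.TensorProduct.includeRight : B →ₐ[A] B ⊗[A] B)
  -- the map `A ⊗ M → B ⊗ M`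
  have hone : ∀ w : A ⊗[A] M, w = (1 : A) ⊗ₜ[A] (TensorProduct.lid A M w) := by
    intro w
    induction w using TensorProduct.induction_on with
    | zero => simp
    | add x y hx hy => rw [map_add, TensorProduct.tmul_add, ← hx, ← hy]
    | tmul a m =>
      rw [TensorProduct.lid_tmul, TensorProduct.tmul_smul, TensorProduct.smul_tmul', smul_eq_mul,
        mul_one]
  have hrt : ∀ m : M, ((Algebra.ofId A B).toLinearMap.rTensor M) ((1 : A) ⊗ₜ[A] m) =
      (1 : B) ⊗ₜ[A] m := by
    intro m
    rw [LinearMap.rTensor_tmul]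
    simp
  have hrinj : Function.Injective ((Algebra.ofId A B).toLinearMap.rTensor M) := by
    rw [injective_iff_map_eq_zero]
    intro w hw
    rw [hone w, hrt, Module.FaithfullyFlat.one_tmul_eq_zero_iff] at hw
    rw [hone w, hw, TensorProduct.tmul_zero]
  constructor
  · intro x x' hxx
    apply hinj (algOf A A)
    apply hrinj
    have h1 := appU_nat ι fB x
    have h2 := appU_nat ι fB x'
    exact h1.symm.trans ((congrArg (appU ι (algOf A B)) hxx).trans h2)
  · intro y hy
    have h1 := appU_nat ι fL y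
    have h2 := appU_nat ι fR y
    have h3 : (LinearMap.rTensor M (Algebra.TensorProduct.includeLeftSubRight A B))
        (appU ι (algOf A B) y) = 0 := by
      have : Algebra.TensorProduct.includeLeftSubRight A B =
          (Algebra.TensorProduct.includeLeft : B →ₐ[A] B ⊗[A] B).toLinearMap -
            (Algebra.TensorProduct.includeRight : B →ₐ[A] B ⊗[A] B).toLinearMap := rfl
      rw [this, LinearMap.rTensor_sub, LinearMap.sub_apply, sub_eq_zero]
      exact h1.symm.trans ((congrArg (appU ι (algOf A (B ⊗[A] B))) hy).trans h2)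
    obtain ⟨m, hm⟩ := (amitsur_exact A B M _).1 h3
    have hm' : (1 : B) ⊗ₜ[A] m = appU ι (algOf A B) y := hm
    have hαm : α.hom m = 0 := by
      have h4 := hzero (algOf A B) y
      have h5 : α.hom.baseChange B ((1 : B) ⊗ₜ[A] m) = 0 := by
        rw [hm']
        exact h4
      rw [LinearMap.baseChange_tmul] at h5
      exact (Module.FaithfullyFlat.one_tmul_eq_zero_iff A N (A := B) _).1 h5
    obtain ⟨x, hx⟩ := hex (algOf A A) ((1 : A) ⊗ₜ[A] m) (by
      rw [LinearMap.baseChange_tmul, hαm, TensorProduct.tmul_zero])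
    refine ⟨x, ?_⟩
    apply hinj (algOf A B)
    have h6 := appU_nat ι fB x
    refine h6.trans ?_
    have hx' : appU ι (algOf A A) x = (1 : A) ⊗ₜ[A] m := hx
    rw [hx']
    exact (hrt m).trans hm'

end Descent

end Groth.Agent.Helper23.Adq
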