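import Mathlib
import Groth.Agent.Lib.Helper23.Adq27
set_option autoImplicit false
universe u
open CategoryTheory CategoryTheory.Limits Opposite AlgebraicGeometry

/-! `SheafOfModules.toSheaf` preserves finite colimits on the big site; epimorphisms of sheaves of
modules are locally surjective. Parasitic modules and exact sequences. -/

namespace Groth.Agent.Helper23.Adq

open Adeq

section

variable (K : Precoverage Scheme.{u}) [BigSite.OSh K] (S : Scheme.{u})

instance toSheaf_preservesColimitsOfShape (k : Type) [SmallCategory k] [FinCategory k] :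
    PreservesColimitsOfShape k (SheafOfModules.toSheaf.{u + 1} (BigSite.ORing K S)) := by
  constructor
  intro D
  let a := PresheafOfModules.sheafification.{u + 1} (𝟙 (BigSite.ORing K S).obj)
  let G := SheafOfModules.toSheaf.{u + 1} (BigSite.ORing K S)
  let U' := SheafOfModules.forget.{u + 1} (BigSite.ORing K S) ⋙
    PresheafOfModules.restrictScalars (𝟙 (BigSite.ORing K S).obj)
  let E := D ⋙ U'
  have ε : U' ⋙ a ≅ 𝟭 _ :=
    asIso (PresheafOfModules.sheafificationAdjunction (𝟙 (BigSite.ORing K S).obj)).counit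
  have iso : E ⋙ a ≅ D :=
    Functor.associator _ _ _ ≪≫ Functor.isoWhiskerLeft D ε ≪≫ D.rightUnitor
  haveI : PreservesColimit E (a ⋙ G) := by
    change PreservesColimit E (PresheafOfModules.toPresheaf _ ⋙ presheafToSheaf _ _)
    infer_instance
  haveI : PreservesColimit (E ⋙ a) G :=
    preservesColimit_of_preserves_colimit_cocone (isColimitOfPreserves a (colimit.isColimit E))
      (isColimitOfPreserves (a ⋙ G) (colimit.isColimit E))
  exact preservesColimit_of_iso_diagram G iso

instance toSheaf_preservesFiniteColimits :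
    PreservesFiniteColimits (SheafOfModules.toSheaf.{u + 1} (BigSite.ORing K S)) :=
  ⟨fun _ _ _ => inferInstance⟩

end

section

variable (K : Precoverage Scheme.{u}) [BigSite.OSh K] {S : Scheme.{u}}

/-- epimorphisms of sheaves of modules on the big site are locally surjective. -/
lemma locallySurjective_of_epi {M N : BigSite.Mod K S} (φ : M ⟶ N) [Epi φ] :
    Presheaf.IsLocallySurjective (QuotSh.J K S)
      ((PresheafOfModules.toPresheaf _).map φ.val) := by
  haveI : Epi ((SheafOfModules.toSheaf.{u + 1} (BigSite.ORing K S)).map φ) := inferInstance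
  exact (Sheaf.isLocallySurjective_iff_epi'
    (φ := (SheafOfModules.toSheaf.{u + 1} (BigSite.ORing K S)).map φ)).2 inferInstance

/-- a section of a sheaf of modules vanishing on a covering sieve is zero. -/
lemma eq_zero_of_locally_zero (M : BigSite.Mod K S) (U : Over S) (x : M.val.obj (op U))
    (T : Sieve U) (hT : T ∈ QuotSh.J K S U)
    (h : ∀ (V : Over S) (f : V ⟶ U), T f → (M.val.presheaf.map f.op).hom x = 0) : x = 0 := by
  have h1 : Presieve.IsSheaf (QuotSh.J K S) (M.val.presheaf ⋙ forget AddCommGrpCat) := by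
    rw [← isSheaf_iff_isSheaf_of_type]
    exact (Presheaf.isSheaf_iff_isSheaf_forget _ M.val.presheaf (forget AddCommGrpCat)).1 M.isSheaf
  refine (h1 T hT).isSeparatedFor.ext (fun V f hf => ?_)
  change (M.val.presheaf.map f.op).hom x = (M.val.presheaf.map f.op).hom 0
  rw [h V f hf, map_zero]

end

section

variable {S : Scheme.{u}}

/-- membership of a morphism of `Over S` in a sieve depends only on the underlying morphism. -/
lemma sieve_over_iff {U V : Over S} (T : Sieve U) (f : V ⟶ U) :
    T f ↔ Sieve.overEquiv U T f.left := by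
  rw [Sieve.overEquiv_iff]
  let e : V ≅ Over.mk (f.left ≫ U.hom) := Over.isoMk (Iso.refl _) (by simp)
  have h1 : e.hom ≫ (Over.homMk f.left : Over.mk (f.left ≫ U.hom) ⟶ U) = f := by
    ext : 1
    simp [e]
  have h2 : e.inv ≫ f = (Over.homMk f.left : Over.mk (f.left ≫ U.hom) ⟶ U) := by
    ext : 1
    simp [e]
  constructor
  · intro h
    rw [← h2]
    exact T.downward_closed h _
  · intro h
    rw [← h1]
    exact T.downward_closed h _

instance lfp_isMultiplicative :
    MorphismProperty.IsMultiplicative @LocallyOfFinitePresentation.{u} where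
  id_mem _ := inferInstance

set_option backward.isDefEq.respectTransparency.types false in
/-- a covering sieve of the big fppf site contains an fppf covering family. -/
lemma exists_fppf_cover_of_mem {U : Over S} (T : Sieve U)
    (hT : T ∈ QuotSh.J Scheme.fppfPrecoverage S U) :
    ∃ 𝒰 : Scheme.Cover.{u} (Scheme.precoverage (@Flat ⊓ @LocallyOfFinitePresentation)) U.left,
      ∀ i, T (Over.homMk (𝒰.f i) : Over.mk (𝒰.f i ≫ U.hom) ⟶ U) := by
  rw [GrothendieckTopology.mem_over_iff] at hT
  obtain ⟨𝒰, h𝒰⟩ := (Scheme.mem_grothendieckTopology_iff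
    (P := @Flat ⊓ @LocallyOfFinitePresentation)).1 hT
  refine ⟨𝒰, fun i => ?_⟩
  rw [sieve_over_iff]
  exact h𝒰 _ _ (Presieve.ofArrows.mk i)

set_option backward.isDefEq.respectTransparency.types false in
/-- a sieve containing an fppf covering family is covering. -/
lemma mem_J_of_fppf_cover {U : Over S} (T : Sieve U)
    (𝒰 : Scheme.Cover.{u} (Scheme.precoverage (@Flat ⊓ @LocallyOfFinitePresentation)) U.left)
    (h : ∀ i, T (Over.homMk (𝒰.f i) : Over.mk (𝒰.f i ≫ U.hom) ⟶ U)) :
    T ∈ QuotSh.J Scheme.fppfPrecoverage S U := by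
  rw [GrothendieckTopology.mem_over_iff]
  refine (Scheme.mem_grothendieckTopology_iff
    (P := @Flat ⊓ @LocallyOfFinitePresentation)).2 ⟨𝒰, ?_⟩
  rintro V g ⟨i⟩
  have := h i
  rw [sieve_over_iff] at this
  exact this

end

section

variable {S : Scheme.{u}}

/-- S8784: the middle term of a complex of modules, exact in the middle, with parasitic outer
terms is parasitic. -/
theorem parasitic_of_exact (C : ShortComplex (BigSite.Mod Scheme.fppfPrecoverage S))
    (hC : C.Exact) (p₁ : parasitic Scheme.fppfPrecoverage S C.X₁)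
    (p₃ : parasitic Scheme.fppfPrecoverage S C.X₃) :
    parasitic Scheme.fppfPrecoverage S C.X₂ := by
  intro U hU
  suffices h0 : ∀ x : C.X₂.val.obj (op U), x = 0 from ⟨fun x y => (h0 x).trans (h0 y).symm⟩
  intro x
  haveI := p₃ U hU
  have hgx : (C.g.val.app (op U)).hom x = 0 := Subsingleton.elim _ _
  obtain ⟨ξ, hξ⟩ := sheaf_kernel_exact Scheme.fppfPrecoverage C.g (op U) x hgx
  let k : C.X₁ ⟶ kernel C.g := kernel.lift C.g C.f C.zero
  haveI : Epi k := C.exact_iff_epi_kernel_lift.1 hC
  have hls := locallySurjective_of_epi Scheme.fppfPrecoverage k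
  have hmem := Presheaf.imageSieve_mem (QuotSh.J Scheme.fppfPrecoverage S)
    ((PresheafOfModules.toPresheaf _).map k.val) (U := op U) ξ
  obtain ⟨𝒰, h𝒰⟩ := exists_fppf_cover_of_mem _ hmem
  -- the sieve where `x` vanishes
  let T : Sieve U :=
    { arrows := fun V f => (C.X₂.val.presheaf.map f.op).hom x = 0
      downward_closed := by
        intro V W f hf g
        change (C.X₂.val.presheaf.map (g ≫ f).op).hom x = 0
        rw [op_comp, Functor.map_comp]
        change (C.X₂.val.presheaf.map g.op).hom ((C.X₂.val.presheaf.map f.op).hom x) = 0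
        rw [hf, map_zero] }
  refine eq_zero_of_locally_zero Scheme.fppfPrecoverage C.X₂ U x T ?_ (fun V f hf => hf)
  refine mem_J_of_fppf_cover T 𝒰 (fun i => ?_)
  obtain ⟨t, ht⟩ := h𝒰 i
  have hflat : Flat (Over.mk (𝒰.f i ≫ U.hom)).hom := by
    have hp := 𝒰.map_prop i
    haveI : Flat (𝒰.f i) := hp.1
    haveI : Flat U.hom := hU
    change Flat (𝒰.f i ≫ U.hom)
    infer_instance
  haveI := p₁ (Over.mk (𝒰.f i ≫ U.hom)) hflat
  have ht0 : t = 0 := @Subsingleton.elim _ this t 0
  -- restriction of ξ vanishes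
  have hξ0 : ((kernel C.g).val.presheaf.map
      (Over.homMk (𝒰.f i) : Over.mk (𝒰.f i ≫ U.hom) ⟶ U).op).hom ξ = 0 := by
    refine ht.symm.trans ?_
    rw [ht0]
    exact map_zero _
  change (C.X₂.val.presheaf.map
    (Over.homMk (𝒰.f i) : Over.mk (𝒰.f i ≫ U.hom) ⟶ U).op).hom x = 0
  rw [← hξ]
  have hnat := PresheafOfModules.naturality_apply (kernel.ι C.g).val
    (Over.homMk (𝒰.f i) : Over.mk (𝒰.f i ≫ U.hom) ⟶ U).op ξ
  refine hnat.symm.trans ?_
  have : ((kernel C.g).val.map (Over.homMk (𝒰.f i) : Over.mk (𝒰.f i ≫ U.hom) ⟶ U).op).hom ξ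
      = 0 := hξ0
  rw [this]
  exact map_zero _

end

end Groth.Agent.Helper23.Adq
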