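import Mathlib
import Groth.Agent.Lib.Helper23.Adq28
set_option autoImplicit false
universe u v
open CategoryTheory CategoryTheory.Limits TensorProduct Opposite

/-! Family version of faithfully flat descent for modules and adequate functors. -/

namespace Groth.Agent.Helper23.Adq

section Family

variable (R : Type u) [CommRing R] {J : Type} [Fintype J] [DecidableEq J]
  (C : J → Type u) [∀ j, CommRing (C j)] [∀ j, Algebra R (C j)]
  (M : Type v) [AddCommGroup M] [Module R M]

/-- projections of the product algebra. -/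
noncomputable def piπ (j : J) : (∀ j, C j) →ₗ[R] C j := LinearMap.proj j

/-- inclusions into the product algebra. -/
noncomputable def piσ (j : J) : C j →ₗ[R] (∀ j, C j) := LinearMap.single R C j

lemma sum_piσ_piπ : ∑ j, (piσ R C j) ∘ₗ (piπ R C j) = LinearMap.id := by
  refine LinearMap.ext fun x => ?_
  rw [LinearMap.sum_apply, LinearMap.id_apply]
  exact Finset.univ_sum_single x

omit [Fintype J] in
lemma piπ_piσ_same (j : J) : (piπ R C j) ∘ₗ (piσ R C j) = LinearMap.id :=
  LinearMap.proj_comp_single_same R C j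

omit [Fintype J] in
lemma piπ_piσ_ne (k j : J) (h : k ≠ j) : (piπ R C k) ∘ₗ (piσ R C j) = 0 :=
  LinearMap.proj_comp_single_ne R C k j h

lemma rTensor_decomp (z : (∀ j, C j) ⊗[R] M) :
    z = ∑ j, LinearMap.rTensor M (piσ R C j) (LinearMap.rTensor M (piπ R C j) z) := by
  have h := congrArg (fun f => LinearMap.rTensor M f z) (sum_piσ_piπ R C)
  simp only [LinearMap.rTensor_id, LinearMap.id_coe, id_eq] at h
  refine h.symm.trans ?_
  have h2 : LinearMap.rTensor M (∑ j, (piσ R C j) ∘ₗ (piπ R C j)) =
      ∑ j, LinearMap.rTensor M ((piσ R C j) ∘ₗ (piπ R C j)) :=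
    map_sum (LinearMap.rTensorHom M) _ _
  rw [h2, LinearMap.sum_apply]
  refine Finset.sum_congr rfl (fun j _ => ?_)
  rw [LinearMap.rTensor_comp, LinearMap.comp_apply]

lemma rTensor_piπ_sum (w : ∀ j, C j ⊗[R] M) (k : J) :
    LinearMap.rTensor M (piπ R C k) (∑ j, LinearMap.rTensor M (piσ R C j) (w j)) = w k := by
  rw [map_sum, Finset.sum_eq_single k]
  · rw [← LinearMap.comp_apply, ← LinearMap.rTensor_comp, piπ_piσ_same, LinearMap.rTensor_id,
      LinearMap.id_apply]
  · intro j _ hj
    rw [← LinearMap.comp_apply, ← LinearMap.rTensor_comp, piπ_piσ_ne R C k j hj.symm,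
      LinearMap.rTensor_zero, LinearMap.zero_apply]
  · simp

omit [Fintype J] [DecidableEq J] in
lemma map_sum_left' {ι : Type} (s : Finset ι) {A A' B B' : Type*} [AddCommGroup A]
    [AddCommGroup A'] [AddCommGroup B] [AddCommGroup B'] [Module R A] [Module R A'] [Module R B]
    [Module R B'] (f : ι → (A →ₗ[R] A')) (g : B →ₗ[R] B') :
    TensorProduct.map (∑ i ∈ s, f i) g = ∑ i ∈ s, TensorProduct.map (f i) g := by
  classical
  induction s using Finset.induction_on with
  | empty => simp
  | insert a s ha ih =>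
    rw [Finset.sum_insert ha, Finset.sum_insert ha, TensorProduct.map_add_left, ih]

omit [Fintype J] [DecidableEq J] in
lemma map_sum_right' {ι : Type} (s : Finset ι) {A A' B B' : Type*} [AddCommGroup A]
    [AddCommGroup A'] [AddCommGroup B] [AddCommGroup B'] [Module R A] [Module R A'] [Module R B]
    [Module R B'] (f : A →ₗ[R] A') (g : ι → (B →ₗ[R] B')) :
    TensorProduct.map f (∑ i ∈ s, g i) = ∑ i ∈ s, TensorProduct.map f (g i) := by
  classical
  induction s using Finset.induction_on with
  | empty => simp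
  | insert a s ha ih =>
    rw [Finset.sum_insert ha, Finset.sum_insert ha, TensorProduct.map_add_right, ih]

lemma map_decomp :
    (LinearMap.id : (∀ j, C j) ⊗[R] (∀ j, C j) →ₗ[R] (∀ j, C j) ⊗[R] (∀ j, C j)) =
      ∑ j, ∑ k, (TensorProduct.map (piσ R C j) (piσ R C k)) ∘ₗ
        (TensorProduct.map (piπ R C j) (piπ R C k)) := by
  have h0 : (LinearMap.id : (∀ j, C j) ⊗[R] (∀ j, C j) →ₗ[R] (∀ j, C j) ⊗[R] (∀ j, C j)) =
      TensorProduct.map LinearMap.id LinearMap.id := TensorProduct.map_id.symm
  rw [h0]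
  conv_lhs => rw [← sum_piσ_piπ R C]
  rw [map_sum_left']
  refine Finset.sum_congr rfl (fun j _ => ?_)
  rw [map_sum_right']
  refine Finset.sum_congr rfl (fun k _ => ?_)
  rw [TensorProduct.map_comp]

lemma rTensor_map_inj (z : ((∀ j, C j) ⊗[R] (∀ j, C j)) ⊗[R] M)
    (h : ∀ j k, LinearMap.rTensor M (TensorProduct.map (piπ R C j) (piπ R C k)) z = 0) :
    z = 0 := by
  have h1 := congrArg (fun f => LinearMap.rTensor M f z) (map_decomp R C)
  simp only [LinearMap.rTensor_id, LinearMap.id_coe, id_eq] at h1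
  rw [h1]
  have h2 : ∀ (ι : Type) (s : Finset ι) (f : ι → ((∀ j, C j) ⊗[R] (∀ j, C j) →ₗ[R]
      (∀ j, C j) ⊗[R] (∀ j, C j))),
      LinearMap.rTensor M (∑ i ∈ s, f i) = ∑ i ∈ s, LinearMap.rTensor M (f i) := fun ι s f =>
    map_sum (LinearMap.rTensorHom M) _ _
  rw [h2, LinearMap.sum_apply]
  refine Finset.sum_eq_zero (fun j _ => ?_)
  rw [h2, LinearMap.sum_apply]
  refine Finset.sum_eq_zero (fun k _ => ?_)
  rw [LinearMap.rTensor_comp, LinearMap.comp_apply, h j k, map_zero]

/-- family version of faithfully flat descent for modules. -/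
theorem amitsur_family [Module.FaithfullyFlat R (∀ j, C j)] :
    (∀ m : M, (∀ j, (1 : C j) ⊗ₜ[R] m = 0) → m = 0) ∧
    ∀ w : ∀ j, C j ⊗[R] M,
      (∀ j k, LinearMap.rTensor M
          (Algebra.TensorProduct.includeLeft : C j →ₐ[R] C j ⊗[R] C k).toLinearMap (w j) =
        LinearMap.rTensor M
          (Algebra.TensorProduct.includeRight : C k →ₐ[R] C j ⊗[R] C k).toLinearMap (w k)) →
      ∃ m : M, ∀ j, (1 : C j) ⊗ₜ[R] m = w j := by
  have hπ1 : ∀ (j : J) (m : M), LinearMap.rTensor M (piπ R C j) ((1 : ∀ j, C j) ⊗ₜ[R] m) =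
      (1 : C j) ⊗ₜ[R] m := fun j m => by
    rw [LinearMap.rTensor_tmul]
    rfl
  constructor
  · intro m hm
    have h1 := rTensor_decomp R C M ((1 : ∀ j, C j) ⊗ₜ[R] m)
    have h2 : (1 : ∀ j, C j) ⊗ₜ[R] m = 0 := by
      rw [h1]
      refine Finset.sum_eq_zero (fun j _ => ?_)
      rw [hπ1, hm j, map_zero]
    exact (Module.FaithfullyFlat.one_tmul_eq_zero_iff R M (A := ∀ j, C j) m).1 h2
  · intro w hw
    let z : (∀ j, C j) ⊗[R] M := ∑ j, LinearMap.rTensor M (piσ R C j) (w j)
    have hz : ∀ k, LinearMap.rTensor M (piπ R C k) z = w k := rTensor_piπ_sum R C M w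
    have hδ : LinearMap.rTensor M (Algebra.TensorProduct.includeLeftSubRight R (∀ j, C j)) z
        = 0 := by
      refine rTensor_map_inj R C M _ (fun j k => ?_)
      rw [← LinearMap.comp_apply, ← LinearMap.rTensor_comp]
      have e1 : (TensorProduct.map (piπ R C j) (piπ R C k)) ∘ₗ
          (Algebra.TensorProduct.includeLeftSubRight R (∀ j, C j)) =
          (Algebra.TensorProduct.includeLeft : C j →ₐ[R] C j ⊗[R] C k).toLinearMap ∘ₗ
              (piπ R C j) -
            (Algebra.TensorProduct.includeRight : C k →ₐ[R] C j ⊗[R] C k).toLinearMap ∘ₗ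
              (piπ R C k) := by
        refine LinearMap.ext fun b => ?_
        simp only [LinearMap.comp_apply, Algebra.TensorProduct.includeLeftSubRight_apply,
          map_sub, TensorProduct.map_tmul, LinearMap.sub_apply, AlgHom.toLinearMap_apply,
          Algebra.TensorProduct.includeLeft_apply, Algebra.TensorProduct.includeRight_apply]
        rfl
      rw [e1, LinearMap.rTensor_sub, LinearMap.sub_apply, LinearMap.rTensor_comp,
        LinearMap.rTensor_comp, LinearMap.comp_apply, LinearMap.comp_apply, hz j, hz k, hw j k,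
        sub_self]
    obtain ⟨m, hm⟩ := (amitsur_exact R (∀ j, C j) M _).1 hδ
    refine ⟨m, fun j => ?_⟩
    rw [← hπ1 j m, ← hz j]
    exact congrArg _ hm

end Family

section DescentFamily

open Adeq

variable {A : Type u} [CommRing A]

/-- descent for adequate functors along a finite faithfully flat family, at the base ring. -/
theorem adequate_descent_family_base {F : MVF A} (hF : adequate A F) {J : Type} [Fintype J]
    [DecidableEq J] (C : J → Type u) [∀ j, CommRing (C j)] [∀ j, Algebra A (C j)]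
    [Module.FaithfullyFlat A (∀ j, C j)] :
    (∀ x x' : F.obj (pt (algOf A A)),
      (∀ j, (F.map (ptHom (CommAlgCat.ofHom (Algebra.ofId A (C j)) :
          algOf A A ⟶ algOf A (C j)))).hom x =
        (F.map (ptHom (CommAlgCat.ofHom (Algebra.ofId A (C j)) :
          algOf A A ⟶ algOf A (C j)))).hom x') → x = x') ∧
    ∀ y : ∀ j, F.obj (pt (algOf A (C j))),
      (∀ j k, (F.map (ptHom (CommAlgCat.ofHom
            (Algebra.TensorProduct.includeLeft : C j →ₐ[A] C j ⊗[A] C k) :
              algOf A (C j) ⟶ algOf A (C j ⊗[A] C k)))).hom (y j) =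
          (F.map (ptHom (CommAlgCat.ofHom
            (Algebra.TensorProduct.includeRight : C k →ₐ[A] C j ⊗[A] C k) :
              algOf A (C k) ⟶ algOf A (C j ⊗[A] C k)))).hom (y k)) →
      ∃ x, ∀ j, (F.map (ptHom (CommAlgCat.ofHom (Algebra.ofId A (C j)) :
          algOf A A ⟶ algOf A (C j)))).hom x = y j := by
  obtain ⟨M, N, α, ι, hinj, hzero, hex⟩ := exists_exact_of_adequate hF
  let fC : ∀ j, algOf A A ⟶ algOf A (C j) := fun j => CommAlgCat.ofHom (Algebra.ofId A (C j))
  have hone : ∀ w : A ⊗[A] M, w = (1 : A) ⊗ₜ[A] (TensorProduct.lid A M w) := by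
    intro w
    induction w using TensorProduct.induction_on with
    | zero => simp
    | add x y hx hy => rw [map_add, TensorProduct.tmul_add, ← hx, ← hy]
    | tmul a m =>
      rw [TensorProduct.lid_tmul, TensorProduct.tmul_smul, TensorProduct.smul_tmul', smul_eq_mul,
        mul_one]
  have hrt : ∀ (j : J) (m : M), ((Algebra.ofId A (C j)).toLinearMap.rTensor M)
      ((1 : A) ⊗ₜ[A] m) = (1 : C j) ⊗ₜ[A] m := by
    intro j m
    rw [LinearMap.rTensor_tmul]
    simp
  obtain ⟨hMinj, hMglue⟩ := amitsur_family A C M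
  obtain ⟨hNinj, -⟩ := amitsur_family A C N
  constructor
  · intro x x' hxx
    apply hinj (algOf A A)
    have e1 := hone (appU ι (algOf A A) x)
    have e2 := hone (appU ι (algOf A A) x')
    change appU ι (algOf A A) x = appU ι (algOf A A) x'
    rw [e1, e2]
    have hm : TensorProduct.lid A M (appU ι (algOf A A) x) -
        TensorProduct.lid A M (appU ι (algOf A A) x') = 0 := by
      refine hMinj _ (fun j => ?_)
      rw [TensorProduct.tmul_sub, sub_eq_zero, ← hrt, ← hrt, ← e1, ← e2]
      have h1 := appU_nat ι (fC j) x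
      have h2 := appU_nat ι (fC j) x'
      exact h1.symm.trans ((congrArg (appU ι (algOf A (C j))) (hxx j)).trans h2)
    rw [sub_eq_zero.1 hm]
  · intro y hy
    obtain ⟨m, hm⟩ := hMglue (fun j => appU ι (algOf A (C j)) (y j)) (fun j k => by
      have h1 := appU_nat ι (CommAlgCat.ofHom
        (Algebra.TensorProduct.includeLeft : C j →ₐ[A] C j ⊗[A] C k) :
          algOf A (C j) ⟶ algOf A (C j ⊗[A] C k)) (y j)
      have h2 := appU_nat ι (CommAlgCat.ofHom
        (Algebra.TensorProduct.includeRight : C k →ₐ[A] C j ⊗[A] C k) :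
          algOf A (C k) ⟶ algOf A (C j ⊗[A] C k)) (y k)
      exact h1.symm.trans ((congrArg (appU ι (algOf A (C j ⊗[A] C k))) (hy j k)).trans h2))
    have hαm : α.hom m = 0 := by
      refine hNinj _ (fun j => ?_)
      have h4 := hzero (algOf A (C j)) (y j)
      have h5 : α.hom.baseChange (C j) ((1 : C j) ⊗ₜ[A] m) = 0 := by
        rw [hm j]
        exact h4
      rw [LinearMap.baseChange_tmul] at h5
      exact h5
    obtain ⟨x, hx⟩ := hex (algOf A A) ((1 : A) ⊗ₜ[A] m) (by
      rw [LinearMap.baseChange_tmul, hαm, TensorProduct.tmul_zero])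
    refine ⟨x, fun j => ?_⟩
    apply hinj (algOf A (C j))
    have h6 := appU_nat ι (fC j) x
    refine h6.trans ?_
    have hx' : appU ι (algOf A A) x = (1 : A) ⊗ₜ[A] m := hx
    rw [hx']
    exact (hrt j m).trans (hm j)

end DescentFamily

end Groth.Agent.Helper23.Adq
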