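import Mathlib
import Groth.Agent.Lib.Helper23.Adq29
set_option autoImplicit false
universe u
open CategoryTheory CategoryTheory.Limits TensorProduct Opposite AlgebraicGeometry

/-! Sheafification of a presheaf of modules with adequate `F_{P,R}`. -/

namespace Groth.Agent.Helper23.Adq

open Adeq

section FF

variable {R : CommRingCat.{u}} {J : Type} [Fintype J] (C : J → Type u) [∀ j, CommRing (C j)]
  [∀ j, Algebra R (C j)]

set_option backward.isDefEq.respectTransparency.types false in
/-- a finite affine fppf covering family gives a faithfully flat product algebra. -/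
theorem faithfullyFlat_pi_of_cover
    (hC : Presieve.ofArrows (fun j => Spec (CommRingCat.of (C j)))
      (fun j => Spec.map (CommRingCat.ofHom (algebraMap R (C j)))) ∈
        Scheme.fppfPrecoverage.coverings (Spec R)) :
    Module.FaithfullyFlat R (∀ j, C j) := by
  classical
  change _ ∈ (Scheme.precoverage (@Flat ⊓ @LocallyOfFinitePresentation)).coverings (Spec R) at hC
  rw [Scheme.ofArrows_mem_precoverage_iff] at hC
  obtain ⟨hsurj, hP⟩ := hC
  haveI : ∀ j, Module.Flat R (C j) := fun j => by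
    have h := (hP j).1
    rw [Flat.SpecMap_iff] at h
    exact (RingHom.flat_algebraMap_iff).1 h
  haveI : Module.Flat R (∀ j, C j) :=
    Module.Flat.of_linearEquiv (DirectSum.linearEquivFunOnFintype R J C).symm
  refine Module.FaithfullyFlat.of_comap_surjective (fun x => ?_)
  obtain ⟨j, y, hy⟩ := hsurj x
  refine ⟨PrimeSpectrum.comap (Pi.evalRingHom C j) y, ?_⟩
  rw [← hy]
  rfl

end FF

section Ref

variable {S : Scheme.{u}}

set_option backward.isDefEq.respectTransparency.types false in
/-- a covering sieve of an affine object of the big fppf site contains a finite affine fppf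
covering family. -/
theorem exists_finite_family_of_mem {R : CommRingCat.{u}} (U : Over S) (hU : U.left = Spec R)
    (T : Sieve U) (hT : T ∈ QuotSh.J Scheme.fppfPrecoverage S U) :
    ∃ (n : ℕ) (C : Fin n → CommRingCat.{u}) (g : ∀ j, Spec (C j) ⟶ U.left),
      Presieve.ofArrows (fun j => Spec (C j)) g ∈ Scheme.fppfPrecoverage.coverings U.left ∧
      ∀ j, Sieve.overEquiv U T (g j) := by
  obtain ⟨𝒰, h𝒰⟩ := exists_fppf_cover_of_mem T hT
  haveI : QuasiCompactCover 𝒰.toPreZeroHypercover := by
    refine QuasiCompactCover.of_isOpenMap (fun i => ?_)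
    have hp := 𝒰.map_prop i
    haveI : Flat (𝒰.f i) := hp.1
    haveI : LocallyOfFinitePresentation (𝒰.f i) := hp.2
    exact (𝒰.f i).isOpenMap
  haveI : CompactSpace U.left := by
    rw [hU]
    infer_instance
  obtain ⟨𝒱, f, hfin, -⟩ := QuasiCompactCover.exists_hom 𝒰
  obtain ⟨n, ⟨e⟩⟩ := Finite.exists_equiv_fin 𝒱.I₀
  refine ⟨n, fun j => 𝒱.X (e.symm j), fun j => 𝒱.f (e.symm j), ?_, fun j => ?_⟩
  · change _ ∈ (Scheme.precoverage (@Flat ⊓ @LocallyOfFinitePresentation)).coverings U.left
    rw [Scheme.ofArrows_mem_precoverage_iff]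
    refine ⟨fun x => ?_, fun j => 𝒱.map_prop _⟩
    refine ⟨e (𝒱.idx x), ?_⟩
    have key : ∀ i i' : 𝒱.I₀, i = i' → x ∈ Set.range (𝒱.f i') → x ∈ Set.range (𝒱.f i) := by
      rintro i _ rfl h
      exact h
    exact key _ _ (e.symm_apply_apply _) (𝒱.covers x)
  · have h1 : f.h₀ (e.symm j) ≫ 𝒰.f (f.s₀ (e.symm j)) = 𝒱.f (e.symm j) := f.w₀ (e.symm j)
    change Sieve.overEquiv U T (𝒱.f (e.symm j))
    rw [← h1]
    refine (Sieve.overEquiv U T).downward_closed ?_ _
    exact (sieve_over_iff T _).1 (h𝒰 _)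

end Ref

section Bij

variable {S : Scheme.{u}}

/-- the affine object `Spec R → S` as a value of `specOver`. -/
noncomputable abbrev U0 {R : CommRingCat.{u}} (b : Spec R ⟶ S) : Over S :=
  (specOver b).obj (op (algOf R R))

/-- the object `Spec C → Spec R → S`. -/
noncomputable abbrev VC {R : CommRingCat.{u}} (b : Spec R ⟶ S) (C : Type u) [CommRing C]
    [Algebra R C] : Over S := (specOver b).obj (op (algOf R C))

/-- the structure arrow `Spec C → Spec R` over `S`. -/
noncomputable abbrev aId {R : CommRingCat.{u}} (b : Spec R ⟶ S) (C : Type u) [CommRing C]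
    [Algebra R C] : VC b C ⟶ U0 b :=
  (specOver b).map (CommAlgCat.ofHom (Algebra.ofId R C) : algOf R R ⟶ algOf R C).op

/-- first projection `Spec (C ⊗ C') → Spec C`. -/
noncomputable abbrev aL {R : CommRingCat.{u}} (b : Spec R ⟶ S) (C C' : Type u) [CommRing C]
    [Algebra R C] [CommRing C'] [Algebra R C'] : VC b (C ⊗[R] C') ⟶ VC b C :=
  (specOver b).map (CommAlgCat.ofHom
    (Algebra.TensorProduct.includeLeft : C →ₐ[R] C ⊗[R] C') : algOf R C ⟶ algOf R (C ⊗[R] C')).op

/-- second projection `Spec (C ⊗ C') → Spec C'`. -/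
noncomputable abbrev aR {R : CommRingCat.{u}} (b : Spec R ⟶ S) (C C' : Type u) [CommRing C]
    [Algebra R C] [CommRing C'] [Algebra R C'] : VC b (C ⊗[R] C') ⟶ VC b C' :=
  (specOver b).map (CommAlgCat.ofHom
    (Algebra.TensorProduct.includeRight : C' →ₐ[R] C ⊗[R] C') : algOf R C' ⟶ algOf R (C ⊗[R] C')).op

lemma aL_aId {R : CommRingCat.{u}} (b : Spec R ⟶ S) (C C' : Type u) [CommRing C]
    [Algebra R C] [CommRing C'] [Algebra R C'] :
    aL b C C' ≫ aId b C = aR b C C' ≫ aId b C' := by
  have h : (CommAlgCat.ofHom (Algebra.ofId R C) : algOf R R ⟶ algOf R C) ≫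
      (CommAlgCat.ofHom (Algebra.TensorProduct.includeLeft : C →ₐ[R] C ⊗[R] C') :
        algOf R C ⟶ algOf R (C ⊗[R] C')) =
      (CommAlgCat.ofHom (Algebra.ofId R C') : algOf R R ⟶ algOf R C') ≫
      (CommAlgCat.ofHom (Algebra.TensorProduct.includeRight : C' →ₐ[R] C ⊗[R] C') :
        algOf R C' ⟶ algOf R (C ⊗[R] C')) := by
    refine CommAlgCat.hom_ext (AlgHom.ext fun r => ?_)
    change (Algebra.TensorProduct.includeLeft : C →ₐ[R] C ⊗[R] C') (algebraMap R C r) =
      (Algebra.TensorProduct.includeRight : C' →ₐ[R] C ⊗[R] C') (algebraMap R C' r)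
    rw [AlgHom.commutes, AlgHom.commutes]
  change (specOver b).map _ ≫ (specOver b).map _ = (specOver b).map _ ≫ (specOver b).map _
  rw [← Functor.map_comp, ← Functor.map_comp, ← op_comp, ← op_comp, h]

/-- descent at the base ring for a presheaf of abelian groups on `Over S`. -/
def DescBase (P₀ : (Over S)ᵒᵖ ⥤ AddCommGrpCat.{u + 1}) : Prop :=
  ∀ (R : CommRingCat.{u}) (b : Spec R ⟶ S) (n : ℕ) (C : Fin n → Type u)
    [∀ j, CommRing (C j)] [∀ j, Algebra R (C j)],
    Presieve.ofArrows (fun j => Spec (CommRingCat.of (C j)))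
      (fun j => Spec.map (CommRingCat.ofHom (algebraMap R (C j)))) ∈
        Scheme.fppfPrecoverage.coverings (Spec R) →
    (∀ x x' : P₀.obj (op (U0 b)),
      (∀ j, (P₀.map (aId b (C j)).op).hom x = (P₀.map (aId b (C j)).op).hom x') → x = x') ∧
    ∀ y : ∀ j, P₀.obj (op (VC b (C j))),
      (∀ j k, (P₀.map (aL b (C j) (C k)).op).hom (y j) =
        (P₀.map (aR b (C j) (C k)).op).hom (y k)) →
      ∃ x, ∀ j, (P₀.map (aId b (C j)).op).hom x = y j


theorem descBase_of_adequate
    (P : PresheafOfModules.{u + 1} (BigSite.ORing Scheme.fppfPrecoverage S).obj)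
    (h : ∀ (R : CommRingCat.{u}) (a : Spec R ⟶ S),
      adequate R ((toMVFPre Scheme.fppfPrecoverage a).obj P)) : DescBase P.presheaf := by
  intro R b n C _ _ hC
  haveI := faithfullyFlat_pi_of_cover C hC
  exact adequate_descent_family_base (h R b) C

end Bij

section Bij2

variable {S : Scheme.{u}} {P₀ Q₀ : (Over S)ᵒᵖ ⥤ AddCommGrpCat.{u + 1}} (η : P₀ ⟶ Q₀)

lemma sheaf_sep (hQ : Presheaf.IsSheaf (QuotSh.J Scheme.fppfPrecoverage S) Q₀) {U : Over S}
    (T : Sieve U) (hT : T ∈ QuotSh.J Scheme.fppfPrecoverage S U) (s s' : Q₀.obj (op U))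
    (h : ∀ (V : Over S) (f : V ⟶ U), T f → (Q₀.map f.op).hom s = (Q₀.map f.op).hom s') :
    s = s' := by
  have h1 : Presieve.IsSheaf (QuotSh.J Scheme.fppfPrecoverage S)
      (Q₀ ⋙ forget AddCommGrpCat) := by
    rw [← isSheaf_iff_isSheaf_of_type]
    exact (Presheaf.isSheaf_iff_isSheaf_forget _ Q₀ (forget AddCommGrpCat)).1 hQ
  exact (h1 T hT).isSeparatedFor.ext (fun V f hf => h V f hf)

lemma app_nat {U V : Over S} (f : V ⟶ U) (x : P₀.obj (op U)) :
    (η.app (op V)).hom ((P₀.map f.op).hom x) = (Q₀.map f.op).hom ((η.app (op U)).hom x) :=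
  NatTrans.naturality_apply η f.op x

/-- transport along the algebra structures given by ring maps. -/
lemma family_mem {R : CommRingCat.{u}} (b : Spec R ⟶ S) (T : Sieve (U0 b))
    (C : Type u) [CommRing C] [Algebra R C]
    (h : Sieve.overEquiv (U0 b) T (Spec.map (CommRingCat.ofHom (algebraMap R C)))) :
    T (aId b C) :=
  (sieve_over_iff T (aId b C)).2 h

include η in
theorem inj_base (hD : DescBase P₀)
    [Presheaf.IsLocallyInjective (QuotSh.J Scheme.fppfPrecoverage S) η]
    {R : CommRingCat.{u}} (b : Spec R ⟶ S) : Function.Injective (η.app (op (U0 b))).hom := by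
  intro x x' hxx
  have hT := Presheaf.equalizerSieve_mem (QuotSh.J Scheme.fppfPrecoverage S) η
    (X := op (U0 b)) x x' hxx
  obtain ⟨n, C, g, hcov, hmem⟩ := exists_finite_family_of_mem (R := R) (U0 b) rfl _ hT
  let g' : ∀ j, R ⟶ C j := fun j => Spec.preimage (g j)
  have hg' : ∀ j, Spec.map (g' j) = g j := fun j => Spec.map_preimage _
  letI : ∀ j, Algebra R (C j) := fun j => (g' j).hom.toAlgebra
  have hcov' : Presieve.ofArrows (fun j => Spec (CommRingCat.of (C j)))
      (fun j => Spec.map (CommRingCat.ofHom (algebraMap R (C j)))) ∈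
        Scheme.fppfPrecoverage.coverings (Spec R) := by
    have : (fun j => Spec.map (CommRingCat.ofHom (algebraMap R (C j)))) = g :=
      funext fun j => hg' j
    rw [this]
    exact hcov
  refine (hD R b n (fun j => C j) hcov').1 x x' (fun j => ?_)
  have hj : Presheaf.equalizerSieve x x' (aId b (C j)) := by
    refine family_mem b _ (C j) ?_
    have : Spec.map (CommRingCat.ofHom (algebraMap R (C j))) = g j := hg' j
    rw [this]
    exact hmem j
  exact hj


include η in
lemma inj_of_iso {X Y : Over S} (e : X ≅ Y) (h : Function.Injective (η.app (op Y)).hom) :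
    Function.Injective (η.app (op X)).hom := by
  intro x x' hxx
  have h1 : (P₀.map e.inv.op).hom x = (P₀.map e.inv.op).hom x' := by
    apply h
    rw [app_nat η e.inv x, app_nat η e.inv x', hxx]
  have h2 : ∀ z : P₀.obj (op X), (P₀.map e.hom.op).hom ((P₀.map e.inv.op).hom z) = z := by
    intro z
    have : P₀.map e.inv.op ≫ P₀.map e.hom.op = 𝟙 _ := by
      rw [← P₀.map_comp, ← op_comp, e.hom_inv_id, op_id, P₀.map_id]
    exact congr(($this).hom z)
  rw [← h2 x, ← h2 x', h1]

include η in
lemma surj_of_iso {X Y : Over S} (e : X ≅ Y) (h : Function.Surjective (η.app (op Y)).hom) :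
    Function.Surjective (η.app (op X)).hom := by
  intro y
  obtain ⟨x, hx⟩ := h ((Q₀.map e.inv.op).hom y)
  refine ⟨(P₀.map e.hom.op).hom x, ?_⟩
  rw [app_nat η e.hom x, hx]
  have : Q₀.map e.inv.op ≫ Q₀.map e.hom.op = 𝟙 _ := by
    rw [← Q₀.map_comp, ← op_comp, e.hom_inv_id, op_id, Q₀.map_id]
  exact congr(($this).hom y)

omit η in
lemma specMap_algebraMap_self (B : Type u) [CommRing B] :
    Spec.map (CommRingCat.ofHom (algebraMap B B)) = 𝟙 (Spec (CommRingCat.of B)) := by
  have : CommRingCat.ofHom (algebraMap B B) = 𝟙 (CommRingCat.of B) := rfl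
  rw [this, Spec.map_id]

/-- the object `Spec B → Spec R → S` is a base object for `Spec B → S`. -/
noncomputable def baseIso {R : CommRingCat.{u}} (a : Spec R ⟶ S) (B : Alg R) :
    (specOver a).obj (op B) ≅
      U0 (R := CommRingCat.of B) (Spec.map (CommRingCat.ofHom (algebraMap R B)) ≫ a) := by
  refine Over.isoMk (Iso.refl (Spec (CommRingCat.of B))) ?_
  change 𝟙 (Spec (CommRingCat.of B)) ≫
      Spec.map (CommRingCat.ofHom (algebraMap (B : Type u) (B : Type u))) ≫
      Spec.map (CommRingCat.ofHom (algebraMap R B)) ≫ a =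
    Spec.map (CommRingCat.ofHom (algebraMap R B)) ≫ a
  rw [specMap_algebraMap_self, Category.id_comp, Category.id_comp]

include η in
theorem inj_specOver (hD : DescBase P₀)
    [Presheaf.IsLocallyInjective (QuotSh.J Scheme.fppfPrecoverage S) η]
    {R : CommRingCat.{u}} (a : Spec R ⟶ S) (B : Alg R) :
    Function.Injective (η.app (op ((specOver a).obj (op B)))).hom :=
  inj_of_iso η (baseIso a B) (inj_base η hD _)


lemma aId_cover_mem {R : CommRingCat.{u}} (b : Spec R ⟶ S) {n : ℕ} (C : Fin n → Type u)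
    [∀ j, CommRing (C j)] [∀ j, Algebra R (C j)]
    (hC : Presieve.ofArrows (fun j => Spec (CommRingCat.of (C j)))
      (fun j => Spec.map (CommRingCat.ofHom (algebraMap R (C j)))) ∈
        Scheme.fppfPrecoverage.coverings (Spec R)) :
    Sieve.ofArrows (fun j => VC b (C j)) (fun j => aId b (C j)) ∈
      QuotSh.J Scheme.fppfPrecoverage S (U0 b) := by
  rw [GrothendieckTopology.mem_over_iff, Sieve.overEquiv_ofArrows]
  exact Precoverage.generate_mem_toGrothendieck hC

include η in
theorem surj_base (hD : DescBase P₀)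
    (hQ : Presheaf.IsSheaf (QuotSh.J Scheme.fppfPrecoverage S) Q₀)
    [Presheaf.IsLocallyInjective (QuotSh.J Scheme.fppfPrecoverage S) η]
    [Presheaf.IsLocallySurjective (QuotSh.J Scheme.fppfPrecoverage S) η]
    {R : CommRingCat.{u}} (b : Spec R ⟶ S) : Function.Surjective (η.app (op (U0 b))).hom := by
  intro y
  have hT := Presheaf.imageSieve_mem (QuotSh.J Scheme.fppfPrecoverage S) η (U := op (U0 b)) y
  obtain ⟨n, C, g, hcov, hmem⟩ := exists_finite_family_of_mem (R := R) (U0 b) rfl _ hT
  let g' : ∀ j, R ⟶ C j := fun j => Spec.preimage (g j)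
  have hg' : ∀ j, Spec.map (g' j) = g j := fun j => Spec.map_preimage _
  letI : ∀ j, Algebra R (C j) := fun j => (g' j).hom.toAlgebra
  have hcov' : Presieve.ofArrows (fun j => Spec (CommRingCat.of (C j)))
      (fun j => Spec.map (CommRingCat.ofHom (algebraMap R (C j)))) ∈
        Scheme.fppfPrecoverage.coverings (Spec R) := by
    have : (fun j => Spec.map (CommRingCat.ofHom (algebraMap R (C j)))) = g :=
      funext fun j => hg' j
    rw [this]
    exact hcov
  have hj : ∀ j, Presheaf.imageSieve η y (aId b (C j)) := by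
    intro j
    refine family_mem b _ (C j) ?_
    have : Spec.map (CommRingCat.ofHom (algebraMap R (C j))) = g j := hg' j
    rw [this]
    exact hmem j
  choose xj hxj using hj
  have hxj' : ∀ j, (η.app (op (VC b (C j)))).hom (xj j) = (Q₀.map (aId b (C j)).op).hom y :=
    hxj
  have hcompat : ∀ j k, (P₀.map (aL b (C j) (C k)).op).hom (xj j) =
      (P₀.map (aR b (C j) (C k)).op).hom (xj k) := by
    intro j k
    apply inj_specOver η hD b (algOf R (C j ⊗[R] C k))
    refine (app_nat η (aL b (C j) (C k)) (xj j)).trans ?_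
    refine Eq.trans ?_ (app_nat η (aR b (C j) (C k)) (xj k)).symm
    rw [hxj' j, hxj' k]
    have e1 : Q₀.map (aId b (C j)).op ≫ Q₀.map (aL b (C j) (C k)).op =
        Q₀.map (aId b (C k)).op ≫ Q₀.map (aR b (C j) (C k)).op := by
      rw [← Functor.map_comp, ← Functor.map_comp, ← op_comp, ← op_comp, aL_aId]
    exact congr(($e1).hom y)
  obtain ⟨x, hx⟩ := (hD R b n (fun j => C j) hcov').2 xj hcompat
  refine ⟨x, ?_⟩
  have hcovJ := aId_cover_mem b (fun j => C j) hcov'
  refine sheaf_sep hQ _ hcovJ _ _ ?_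
  rintro V f ⟨W, h, -, ⟨j⟩, rfl⟩
  have e2 : ∀ s : Q₀.obj (op (U0 b)), (Q₀.map (h ≫ aId b (C j)).op).hom s =
      (Q₀.map h.op).hom ((Q₀.map (aId b (C j)).op).hom s) := by
    intro s
    rw [op_comp, Functor.map_comp]
    rfl
  rw [e2, e2, ← app_nat η (aId b (C j)) x, hx j, hxj' j]


include η in
theorem bij_specOver (hD : DescBase P₀)
    (hQ : Presheaf.IsSheaf (QuotSh.J Scheme.fppfPrecoverage S) Q₀)
    [Presheaf.IsLocallyInjective (QuotSh.J Scheme.fppfPrecoverage S) η]
    [Presheaf.IsLocallySurjective (QuotSh.J Scheme.fppfPrecoverage S) η]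
    {R : CommRingCat.{u}} (a : Spec R ⟶ S) (B : Alg R) :
    Function.Bijective (η.app (op ((specOver a).obj (op B)))).hom :=
  ⟨inj_specOver η hD a B, surj_of_iso η (baseIso a B) (surj_base η hD hQ _)⟩

end Bij2

section Sheafification

variable {S : Scheme.{u}}
  (P : PresheafOfModules.{u + 1} (BigSite.ORing Scheme.fppfPrecoverage S).obj)

/-- the unit of sheafification as a morphism of presheaves of modules `P ⟶ (aP).val`. -/
noncomputable def unitHom :
    P ⟶ ((PresheafOfModules.sheafification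
      (𝟙 (BigSite.ORing Scheme.fppfPrecoverage S).obj)).obj P).val :=
  PresheafOfModules.homMk
    (CategoryTheory.toSheafify (QuotSh.J Scheme.fppfPrecoverage S) P.presheaf)
    (by
      intro X r m
      exact ((PresheafOfModules.toSheafify (𝟙 (BigSite.ORing Scheme.fppfPrecoverage S).obj)
        (CategoryTheory.toSheafify (QuotSh.J Scheme.fppfPrecoverage S) P.presheaf)).app
          X).hom.map_smul r m)


/-- the comparison `F_{P,R} ⟶ F_{aP,R}` is an isomorphism when all `F_{P,R}` are adequate. -/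
theorem isIso_toMVFPre_unitHom
    (h : ∀ (R : CommRingCat.{u}) (a : Spec R ⟶ S),
      adequate R ((toMVFPre Scheme.fppfPrecoverage a).obj P))
    {R : CommRingCat.{u}} (a : Spec R ⟶ S) :
    IsIso ((toMVFPre Scheme.fppfPrecoverage a).map (unitHom P)) := by
  refine isIso_of_bijective_app _ (fun B => ?_)
  exact bij_specOver (CategoryTheory.toSheafify (QuotSh.J Scheme.fppfPrecoverage S) P.presheaf)
    (descBase_of_adequate P h)
    ((PresheafOfModules.sheafification
      (𝟙 (BigSite.ORing Scheme.fppfPrecoverage S).obj)).obj P).isSheaf a B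

/-- S8760: sheafification of a presheaf of modules with adequate `F_{P,R}` is adequate. -/
theorem adequateMod_sheafification
    (h : ∀ (R : CommRingCat.{u}) (a : Spec R ⟶ S),
      adequate R ((toMVFPre Scheme.fppfPrecoverage a).obj P)) :
    adequateMod Scheme.fppfPrecoverage S
      ((PresheafOfModules.sheafification
        (𝟙 (BigSite.ORing Scheme.fppfPrecoverage S).obj)).obj P) := by
  refine adequateMod_of_forall _ (fun R a => ?_)
  have hi : IsIso ((toMVFPre Scheme.fppfPrecoverage a).map (unitHom P)) :=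
    isIso_toMVFPre_unitHom P h a
  exact (adequate R).prop_of_iso
    (@asIso _ _ _ _ ((toMVFPre Scheme.fppfPrecoverage a).map (unitHom P)) hi) (h R a)

end Sheafification

end Groth.Agent.Helper23.Adq
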