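import Mathlib
import Groth.Agent.Lib.Helper23.Adq30
set_option autoImplicit false
universe u w w'
open CategoryTheory CategoryTheory.Limits TensorProduct Opposite AlgebraicGeometry

/-! `toMVFPre` preserves colimits; colimits and cokernels of adequate modules. -/

namespace Groth.Agent.Helper23.Adq

open Adeq

section Pres

variable (K : Precoverage Scheme.{u}) [BigSite.OSh K] {S : Scheme.{u}} {R : CommRingCat.{u}}
  (a : Spec R ⟶ S)

/-- evaluation of `toMVFPre` followed by the forgetful functor to abelian groups is evaluation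
of the presheaf of modules. -/
noncomputable def toMVFPreEvalIso (X : (Alg R)ᵒᵖᵒᵖ) :
    toMVFPre K a ⋙ PresheafOfModules.evaluation (ringOf R) X ⋙
        forget₂ (ModuleCat _) AddCommGrpCat.{u + 1} ≅
      PresheafOfModules.evaluation (BigSite.ORing K S).obj
          (op ((specOver a).obj (op X.unop.unop))) ⋙
        forget₂ (ModuleCat _) AddCommGrpCat.{u + 1} :=
  NatIso.ofComponents (fun P => Iso.refl _) (fun f => by
    ext x
    rfl)

variable {J : Type w} [Category.{w'} J] [HasColimitsOfShape J AddCommGrpCat.{u + 1}]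

instance toMVFPre_preservesColimitsOfShape :
    PreservesColimitsOfShape J (toMVFPre K a) := by
  constructor
  intro E
  haveI h1 : ∀ X : (Alg R)ᵒᵖᵒᵖ, PreservesColimit E
      (toMVFPre K a ⋙ PresheafOfModules.evaluation (ringOf R) X) := by
    intro X
    haveI : PreservesColimit E ((toMVFPre K a ⋙ PresheafOfModules.evaluation (ringOf R) X) ⋙
        forget₂ (ModuleCat _) AddCommGrpCat.{u + 1}) :=
      preservesColimit_of_natIso E (toMVFPreEvalIso K a X).symm
    exact preservesColimit_of_reflects_of_preserves
      (toMVFPre K a ⋙ PresheafOfModules.evaluation (ringOf R) X)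
      (forget₂ (ModuleCat _) AddCommGrpCat.{u + 1})
  refine preservesColimit_of_preserves_colimit_cocone (colimit.isColimit E) ?_
  refine PresheafOfModules.evaluationJointlyReflectsColimits _ _ (fun X => ?_)
  exact isColimitOfPreserves (toMVFPre K a ⋙ PresheafOfModules.evaluation (ringOf R) X)
    (colimit.isColimit E)

end Pres

section Colim

variable {S : Scheme.{u}}

/-- forgetting to presheaves of modules (composed with the trivial restriction of scalars, the
right adjoint of sheafification). -/
noncomputable abbrev fgt (S : Scheme.{u}) : BigSite.Mod Scheme.fppfPrecoverage S ⥤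
    PresheafOfModules.{u + 1} (BigSite.ORing Scheme.fppfPrecoverage S).obj :=
  SheafOfModules.forget.{u + 1} (BigSite.ORing Scheme.fppfPrecoverage S) ⋙
    PresheafOfModules.restrictScalars (𝟙 (BigSite.ORing Scheme.fppfPrecoverage S).obj)

/-- sheafification of presheaves of modules on the big fppf site. -/
noncomputable abbrev shf (S : Scheme.{u}) :
    PresheafOfModules.{u + 1} (BigSite.ORing Scheme.fppfPrecoverage S).obj ⥤
      BigSite.Mod Scheme.fppfPrecoverage S :=
  PresheafOfModules.sheafification.{u + 1} (𝟙 (BigSite.ORing Scheme.fppfPrecoverage S).obj)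

variable {J : Type w} [Category.{w'} J] [HasColimitsOfShape J AddCommGrpCat.{u + 1}]

/-- a colimit of sheaves of modules is the sheafification of the colimit of presheaves. -/
noncomputable def colimitIsoShf (D : J ⥤ BigSite.Mod Scheme.fppfPrecoverage S) :
    colimit D ≅ (shf S).obj (colimit (D ⋙ fgt S)) :=
  let ε : fgt S ⋙ shf S ≅ 𝟭 _ := asIso (PresheafOfModules.sheafificationAdjunction
    (𝟙 (BigSite.ORing Scheme.fppfPrecoverage S).obj)).counit
  let iso : (D ⋙ fgt S) ⋙ shf S ≅ D :=
    Functor.associator _ _ _ ≪≫ Functor.isoWhiskerLeft D ε ≪≫ D.rightUnitor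
  (HasColimit.isoOfNatIso iso).symm ≪≫ (preservesColimitIso (shf S) (D ⋙ fgt S)).symm

/-- the colimit of a diagram of modules all of whose `F_{-,R}` are adequate. -/
theorem adequateMod_colimit_of_forall (D : J ⥤ BigSite.Mod Scheme.fppfPrecoverage S)
    (h : ∀ (R : CommRingCat.{u}) (a : Spec R ⟶ S),
      adequate R (colimit ((D ⋙ fgt S) ⋙ toMVFPre Scheme.fppfPrecoverage a))) :
    adequateMod Scheme.fppfPrecoverage S (colimit D) := by
  refine (adequateMod Scheme.fppfPrecoverage S).prop_of_iso (colimitIsoShf D).symm ?_
  refine adequateMod_sheafification _ (fun R a => ?_)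
  exact (adequate R).prop_of_iso
    (preservesColimitIso (toMVFPre Scheme.fppfPrecoverage a) (D ⋙ fgt S)).symm (h R a)

end Colim

section Final

variable {S : Scheme.{u}}

lemma adequate_toMVFPre_fgt (M : BigSite.Mod Scheme.fppfPrecoverage S)
    (hM : adequateMod Scheme.fppfPrecoverage S M) (R : CommRingCat.{u}) (a : Spec R ⟶ S) :
    adequate R ((toMVFPre Scheme.fppfPrecoverage a).obj ((fgt S).obj M)) :=
  adequate_toMVF_of_adequateMod S M hM R a

/-- S8764: colimits of adequate modules are adequate. -/
theorem adequateMod_colimit {J : Type (u + 1)} [SmallCategory J]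
    (D : J ⥤ BigSite.Mod Scheme.fppfPrecoverage S)
    (hD : ∀ j, adequateMod Scheme.fppfPrecoverage S (D.obj j)) :
    adequateMod Scheme.fppfPrecoverage S (colimit D) :=
  adequateMod_colimit_of_forall D (fun R a =>
    adequate_colimit _ (fun j => adequate_toMVFPre_fgt (D.obj j) (hD j) R a))


/-- S8762: cokernels of maps of adequate modules are adequate. -/
theorem adequateMod_cokernel {M N : BigSite.Mod Scheme.fppfPrecoverage S} (φ : M ⟶ N)
    (hM : adequateMod Scheme.fppfPrecoverage S M) (hN : adequateMod Scheme.fppfPrecoverage S N) :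
    adequateMod Scheme.fppfPrecoverage S (cokernel φ) := by
  refine adequateMod_colimit_of_forall (parallelPair φ 0) (fun R a => ?_)
  let G := fgt S ⋙ toMVFPre Scheme.fppfPrecoverage a
  have hz : G.map (0 : M ⟶ N) = 0 := by
    ext X x
    rfl
  have e : (parallelPair φ 0 ⋙ fgt S) ⋙ toMVFPre Scheme.fppfPrecoverage a ≅
      parallelPair (G.map φ) 0 :=
    Functor.associator _ _ _ ≪≫ diagramIsoParallelPair (parallelPair φ 0 ⋙ G) ≪≫
      parallelPair.eqOfHomEq (by simp) (by simpa using hz)
  refine (adequate R).prop_of_iso (HasColimit.isoOfNatIso e).symm ?_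
  exact adequate_cokernel (G.map φ) (adequate_toMVFPre_fgt M hM R a)
    (adequate_toMVFPre_fgt N hN R a)

end Final

end Groth.Agent.Helper23.Adq
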