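import Mathlib
import Groth.Agent.Lib.Helper23.Adq31
set_option autoImplicit false
universe u
open CategoryTheory CategoryTheory.Limits TensorProduct Opposite AlgebraicGeometry

/-! Abstract gluing lemmas for the pushforward of adequate modules. -/

namespace Groth.Agent.Helper23.Adq

open Adeq

section Site

universe v₁ u₁

/-- gluing for sheaves of abelian groups along a covering family whose pairwise overlaps are
only locally covered by auxiliary objects. -/
theorem sheaf_inj_glue' {C : Type u₁} [Category.{v₁} C] (J : GrothendieckTopology C)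
    (P : Cᵒᵖ ⥤ AddCommGrpCat.{max u₁ v₁}) (hP : Presheaf.IsSheaf J P)
    {U : C} {I : Type*} (V : I → C) (π : ∀ i, V i ⟶ U) (hcov : Sieve.ofArrows V π ∈ J U)
    {κ : I → I → Type*} (W : ∀ i i', κ i i' → C) (p₁ : ∀ i i' k, W i i' k ⟶ V i)
    (p₂ : ∀ i i' k, W i i' k ⟶ V i')
    (hW : ∀ i i' (Z : C) (a : Z ⟶ V i) (b : Z ⟶ V i'), a ≫ π i = b ≫ π i' →
      ∃ R : Sieve Z, R ∈ J Z ∧ ∀ (Z' : C) (g : Z' ⟶ Z), R g →
        ∃ (k : κ i i') (c : Z' ⟶ W i i' k), c ≫ p₁ i i' k = g ≫ a ∧ c ≫ p₂ i i' k = g ≫ b) :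
    (∀ x x' : P.obj (op U), (∀ i, (P.map (π i).op).hom x = (P.map (π i).op).hom x') → x = x') ∧
    (∀ y : ∀ i, P.obj (op (V i)),
      (∀ i i' k, (P.map (p₁ i i' k).op).hom (y i) = (P.map (p₂ i i' k).op).hom (y i')) →
      ∃ x, ∀ i, (P.map (π i).op).hom x = y i) := by
  have h1 : Presieve.IsSheaf J (P ⋙ forget AddCommGrpCat) := by
    rw [← isSheaf_iff_isSheaf_of_type]
    exact (Presheaf.isSheaf_iff_isSheaf_forget J P (forget AddCommGrpCat)).1 hP
  have h2 : Presieve.IsSheafFor (P ⋙ forget AddCommGrpCat) (Presieve.ofArrows V π) := by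
    rw [Presieve.isSheafFor_iff_generate]
    exact h1 _ hcov
  rw [Presieve.isSheafFor_arrows_iff] at h2
  constructor
  · intro x x' hxx
    have hc : Presieve.Arrows.Compatible (P ⋙ forget AddCommGrpCat) π
        (fun i => (P.map (π i).op).hom x) := by
      intro i j Z gi gj hg
      change (P.map gi.op).hom ((P.map (π i).op).hom x) = (P.map gj.op).hom ((P.map (π j).op).hom x)
      have e1 : (P.map (π i).op ≫ P.map gi.op) = (P.map (π j).op ≫ P.map gj.op) := by
        rw [← P.map_comp, ← P.map_comp, ← op_comp, ← op_comp, hg]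
      exact congr(($e1).hom x)
    obtain ⟨t, -, ht⟩ := h2 _ hc
    exact (ht x (fun i => rfl)).trans (ht x' (fun i => (hxx i).symm)).symm
  · intro y hy
    have hc : Presieve.Arrows.Compatible (P ⋙ forget AddCommGrpCat) π y := by
      intro i j Z gi gj hg
      obtain ⟨R, hR, hRW⟩ := hW i j Z gi gj hg
      change (P.map gi.op).hom (y i) = (P.map gj.op).hom (y j)
      refine (h1 R hR).isSeparatedFor.ext (fun Z' g hg' => ?_)
      obtain ⟨k, c, hc1, hc2⟩ := hRW Z' g hg'
      change (P.map g.op).hom ((P.map gi.op).hom (y i)) = (P.map g.op).hom ((P.map gj.op).hom (y j))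
      have e1 : (P.map g.op).hom ((P.map gi.op).hom (y i)) =
          (P.map c.op).hom ((P.map (p₁ i j k).op).hom (y i)) := by
        have : P.map gi.op ≫ P.map g.op = P.map (p₁ i j k).op ≫ P.map c.op := by
          rw [← P.map_comp, ← P.map_comp, ← op_comp, ← op_comp, hc1]
        exact congr(($this).hom (y i))
      have e2 : (P.map g.op).hom ((P.map gj.op).hom (y j)) =
          (P.map c.op).hom ((P.map (p₂ i j k).op).hom (y j)) := by
        have : P.map gj.op ≫ P.map g.op = P.map (p₂ i j k).op ≫ P.map c.op := by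
          rw [← P.map_comp, ← P.map_comp, ← op_comp, ← op_comp, hc2]
        exact congr(($this).hom (y j))
      rw [e1, e2, hy i j k]
    obtain ⟨t, ht, -⟩ := h2 y hc
    exact ⟨t, ht⟩

end Site

section Family

variable {A : Type u} [CommRing A]

set_option maxHeartbeats 1000000 in
/-- a module-valued functor which is valuewise the equalizer of two maps between finite
families of adequate functors is adequate. -/
theorem adequate_of_cover_family {I L : Type} [Fintype I] [Fintype L] (s t : L → I)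
    (F : MVF A) (P : I → MVF A) (Q : L → MVF A) (hP : ∀ i, adequate A (P i))
    (hQ : ∀ l, adequate A (Q l)) (ι : ∀ i, F ⟶ P i) (r₁ : ∀ l, P (s l) ⟶ Q l)
    (r₂ : ∀ l, P (t l) ⟶ Q l) (hr : ∀ l, ι (s l) ≫ r₁ l = ι (t l) ≫ r₂ l)
    (hinj : ∀ (B : Alg A) (x x' : F.obj (pt B)),
      (∀ i, ((ι i).app (pt B)).hom x = ((ι i).app (pt B)).hom x') → x = x')
    (hglue : ∀ (B : Alg A) (y : ∀ i, (P i).obj (pt B)),
      (∀ l, ((r₁ l).app (pt B)).hom (y (s l)) = ((r₂ l).app (pt B)).hom (y (t l))) →
        ∃ x, ∀ i, ((ι i).app (pt B)).hom x = y i) : adequate A F := by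
  classical
  have hadP : adequate A (⨁ P) :=
    (adequate A).prop_of_isLimit (biproduct.isLimit P) (fun j => hP j.as)
  have hadQ : adequate A (⨁ Q) :=
    (adequate A).prop_of_isLimit (biproduct.isLimit Q) (fun j => hQ j.as)
  let δ : (⨁ P) ⟶ (⨁ Q) :=
    biproduct.lift (fun l => biproduct.π P (s l) ≫ r₁ l - biproduct.π P (t l) ≫ r₂ l)
  let η : F ⟶ ⨁ P := biproduct.lift ι
  have hηπ : ∀ i, η ≫ biproduct.π P i = ι i := fun i => biproduct.lift_π _ _
  have hδπ : ∀ l, δ ≫ biproduct.π Q l =
      biproduct.π P (s l) ≫ r₁ l - biproduct.π P (t l) ≫ r₂ l := fun l => biproduct.lift_π _ _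
  have w : η ≫ δ = 0 := by
    apply biproduct.hom_ext
    intro l
    rw [Category.assoc, hδπ, Preadditive.comp_sub, ← Category.assoc, ← Category.assoc, hηπ, hηπ,
      zero_comp, sub_eq_zero]
    exact hr l
  have hηx : ∀ (B : Alg A) (x : F.obj (pt B)) (i : I),
      ((biproduct.π P i).app (pt B)).hom ((η.app (pt B)).hom x) = ((ι i).app (pt B)).hom x := by
    intro B x i
    have := congr((($(hηπ i)).app (pt B)).hom x)
    exact this
  refine adequate_of_left_exact η δ w (fun B x x' hxx => ?_) (fun B z hz => ?_) hadP hadQ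
  · apply hinj B
    intro i
    rw [← hηx B x i, ← hηx B x' i, hxx]
  · let y : ∀ i, (P i).obj (pt B) := fun i => ((biproduct.π P i).app (pt B)).hom z
    have hy : ∀ l, ((r₁ l).app (pt B)).hom (y (s l)) = ((r₂ l).app (pt B)).hom (y (t l)) := by
      intro l
      have h4 : ((δ ≫ biproduct.π Q l).app (pt B)).hom z = 0 := by
        change ((biproduct.π Q l).app (pt B)).hom ((δ.app (pt B)).hom z) = 0
        rw [hz, map_zero]
      rw [hδπ] at h4
      have h5 : ((r₁ l).app (pt B)).hom (y (s l)) - ((r₂ l).app (pt B)).hom (y (t l)) = 0 := h4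
      exact sub_eq_zero.mp h5
    obtain ⟨x, hx⟩ := hglue B y hy
    refine ⟨x, ?_⟩
    apply biproduct_ext_apply P B
    intro i
    exact (hηx B x i).trans (hx i)

end Family

end Groth.Agent.Helper23.Adq
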