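import Mathlib
import Groth.Agent.Lib.Helper23.Adq32
set_option autoImplicit false
universe u
open CategoryTheory CategoryTheory.Limits TensorProduct Opposite AlgebraicGeometry

/-! Geometric constructions for the pushforward of adequate modules. -/

namespace Groth.Agent.Helper23.Adq

open Adeq

section Geo

variable {S T : Scheme.{u}} (f : T ⟶ S) {A : CommRingCat.{u}} (a : Spec A ⟶ S)

/-- the object `Spec B ×_S T → T` of the big site of `T`. -/
noncomputable abbrev YB (B : Alg A) : Over T := (Over.pullback f).obj ((specOver a).obj (op B))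

variable {f a} in
lemma YB_hom_ext {B : Alg A} {Z : Over T} (m m' : Z ⟶ YB f a B)
    (h : m.left ≫ pullback.fst _ _ = m'.left ≫ pullback.fst _ _) : m = m' := by
  ext : 1
  apply pullback.hom_ext h
  exact (Over.w m).trans (Over.w m').symm

variable (C : Type u) [CommRing C] [Algebra A C] (w : Spec (CommRingCat.of C) ⟶ pullback a f)

/-- `Spec (C ⊗ B) → Spec C → T`. -/
noncomputable abbrev VB (B : Alg A) : Over T :=
  (specOver (w ≫ pullback.snd a f)).obj (op ((Alg.baseChange A C).obj B))

variable (hw : w ≫ pullback.fst a f = Spec.map (CommRingCat.ofHom (algebraMap A C)))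

include hw in
lemma jw_aux (B : Alg A) :
    Spec.map (rh (Alg.unit A C B)) ≫ ((specOver a).obj (op B)).hom =
      (VB f a C w B).hom ≫ f := by
  change Spec.map (rh (Alg.unit A C B)) ≫ Spec.map (sm B) ≫ a =
    (Spec.map (CommRingCat.ofHom (S := C ⊗[A] B) Algebra.TensorProduct.includeLeftRingHom) ≫
      w ≫ pullback.snd a f) ≫ f
  rw [Category.assoc, Category.assoc, ← pullback.condition, ← Category.assoc w, hw,
    ← Category.assoc, ← Category.assoc, ← Spec.map_comp, ← Spec.map_comp,
    (isPushout_unit C B).w]

/-- the canonical morphism `Spec (C ⊗ B) → Spec B ×_S T` over `T`. -/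
noncomputable def jw (B : Alg A) : VB f a C w B ⟶ YB f a B :=
  Over.homMk (pullback.lift (Spec.map (rh (Alg.unit A C B))) (VB f a C w B).hom
    (jw_aux f a C w hw B)) (pullback.lift_snd _ _ _)

lemma jw_left_fst (B : Alg A) :
    (jw f a C w hw B).left ≫ pullback.fst _ _ = Spec.map (rh (Alg.unit A C B)) :=
  pullback.lift_fst _ _ _

lemma rh_comp {R : Type u} [CommRing R] {B B' B'' : Alg R} (g : B ⟶ B') (g' : B' ⟶ B'') :
    rh (g ≫ g') = rh g ≫ rh g' := rfl

lemma pullback_map_left_fst {X Y : Over S} (φ : X ⟶ Y) :
    ((Over.pullback f).map φ).left ≫ pullback.fst Y.hom f = pullback.fst X.hom f ≫ φ.left :=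
  pullback.lift_fst _ _ _

lemma jw_naturality {B B' : Alg A} (g : B ⟶ B') :
    (specOver (w ≫ pullback.snd a f)).map ((Alg.baseChange A C).map g).op ≫ jw f a C w hw B =
      jw f a C w hw B' ≫ (Over.pullback f).map ((specOver a).map g.op) := by
  apply YB_hom_ext
  rw [Over.comp_left, Over.comp_left, Category.assoc, Category.assoc, jw_left_fst,
    pullback_map_left_fst, ← Category.assoc, jw_left_fst, specOver_map_left, specOver_map_left]
  have e : Spec.map (rh (Alg.unit A C B ≫ (Alg.restr A C).map ((Alg.baseChange A C).map g))) =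
      Spec.map (rh (g ≫ Alg.unit A C B')) := congrArg Spec.map (congrArg rh (unit_naturality g))
  rw [rh_comp, rh_comp, Spec.map_comp, Spec.map_comp] at e
  exact e

variable (K : Precoverage Scheme.{u}) [BigSite.OSh K] (M : BigSite.Mod K T)

/-- the restriction map `(f_* M)(Spec B) → M(Spec (C ⊗ B))`, as a map of module-valued
functors. -/
noncomputable def iotaW :
    (toMVF K a).obj ((BigSite.pushMod K f).obj M) ⟶
      (push A C).obj ((toMVF K (w ≫ pullback.snd a f)).obj M) :=
  PresheafOfModules.homMk
    { app X := M.val.presheaf.map (jw f a C w hw X.unop.unop).op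
      naturality {X Y} g := by
        change M.val.presheaf.map ((Over.pullback f).map ((specOver a).map g.unop)).op ≫
            M.val.presheaf.map (jw f a C w hw Y.unop.unop).op =
          M.val.presheaf.map (jw f a C w hw X.unop.unop).op ≫
            M.val.presheaf.map ((specOver (w ≫ pullback.snd a f)).map
              ((Alg.baseChange A C).map g.unop.unop).op).op
        rw [← Functor.map_comp, ← Functor.map_comp, ← op_comp, ← op_comp]
        congr 2
        exact (jw_naturality f a C w hw g.unop.unop).symm }
    (by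
      intro X r m
      have h := M.val.map_smul (jw f a C w hw X.unop.unop).op
        (((Sheaf.toPushforwardOverPullback (BigSite.ORingAbs K) f).hom.app
          (op ((specOver a).obj (op X.unop.unop)))).hom (toSect K a X.unop.unop r)) m
      refine h.trans ?_
      congr 1
      apply ULift.ext
      change ((Scheme.ΓSpecIso (CommRingCat.of X.unop.unop)).inv ≫
          (pullback.fst ((specOver a).obj (op X.unop.unop)).hom f).appTop ≫
            (jw f a C w hw X.unop.unop).left.appTop) r =
        (rh (Alg.unit A C X.unop.unop) ≫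
          (Scheme.ΓSpecIso (CommRingCat.of (C ⊗[A] X.unop.unop))).inv) r
      have e1 : (pullback.fst ((specOver a).obj (op X.unop.unop)).hom f).appTop ≫
          (jw f a C w hw X.unop.unop).left.appTop =
            (Spec.map (rh (Alg.unit A C X.unop.unop))).appTop :=
        (Scheme.Hom.comp_appTop _ _).symm.trans
          (congrArg Scheme.Hom.appTop (jw_left_fst f a C w hw X.unop.unop))
      have e2 := Scheme.ΓSpecIso_inv_naturality (rh (Alg.unit A C X.unop.unop))
      have e3 : (Scheme.ΓSpecIso (CommRingCat.of X.unop.unop)).inv ≫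
          (pullback.fst ((specOver a).obj (op X.unop.unop)).hom f).appTop ≫
            (jw f a C w hw X.unop.unop).left.appTop =
          rh (Alg.unit A C X.unop.unop) ≫
            (Scheme.ΓSpecIso (CommRingCat.of (C ⊗[A] X.unop.unop))).inv :=
        (congrArg (fun t => (Scheme.ΓSpecIso (CommRingCat.of X.unop.unop)).inv ≫ t) e1).trans
          e2.symm
      exact congr(($e3).hom r))

lemma iotaW_app (B : Alg A) (x : ((toMVF K a).obj ((BigSite.pushMod K f).obj M)).obj (pt B)) :
    ((iotaW f a C w hw K M).app (pt B)).hom x =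
      (M.val.presheaf.map (jw f a C w hw B).op).hom x := rfl

section Restr

variable (D : Type u) [CommRing D] [Algebra A D] (w' : Spec (CommRingCat.of D) ⟶ pullback a f)
  (h : C →ₐ[A] D) (hh : Spec.map (CommRingCat.ofHom h.toRingHom) ≫ w = w')

/-- the ring map `C ⊗ B → D ⊗ B`. -/
noncomputable def tmap (B : Alg A) : CommRingCat.of (C ⊗[A] B) ⟶ CommRingCat.of (D ⊗[A] B) :=
  CommRingCat.ofHom (Algebra.TensorProduct.map h (AlgHom.id A B)).toRingHom

lemma tmap_tmul (B : Alg A) (c : C) (b : B) :
    (tmap C D h B).hom (c ⊗ₜ[A] b) = h c ⊗ₜ[A] b := rfl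

include hh in
lemma rhB_aux (B : Alg A) :
    Spec.map (tmap C D h B) ≫ (VB f a C w B).hom = (VB f a D w' B).hom := by
  change Spec.map (tmap C D h B) ≫
      Spec.map (CommRingCat.ofHom (S := C ⊗[A] B) Algebra.TensorProduct.includeLeftRingHom) ≫
        w ≫ pullback.snd a f =
    Spec.map (CommRingCat.ofHom (S := D ⊗[A] B) Algebra.TensorProduct.includeLeftRingHom) ≫
      w' ≫ pullback.snd a f
  rw [← hh, ← Category.assoc, ← Spec.map_comp, Category.assoc, ← Category.assoc (Spec.map _),
    ← Category.assoc (Spec.map _), ← Spec.map_comp, Category.assoc]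
  rfl

/-- `Spec (D ⊗ B) → Spec (C ⊗ B)` over `T`. -/
noncomputable def rhB (B : Alg A) : VB f a D w' B ⟶ VB f a C w B :=
  Over.homMk (Spec.map (tmap C D h B)) (rhB_aux f a C w D w' h hh B)

lemma rhB_left (B : Alg A) : (rhB f a C w D w' h hh B).left = Spec.map (tmap C D h B) := rfl

lemma tmap_naturality {B B' : Alg A} (g : B ⟶ B') :
    rh ((Alg.baseChange A C).map g) ≫ tmap C D h B' =
      tmap C D h B ≫ rh ((Alg.baseChange A D).map g) := by
  refine CommRingCat.hom_ext (RingHom.ext fun x => ?_)
  induction x using TensorProduct.induction_on with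
  | zero => simp
  | tmul c b => rfl
  | add x y hx hy =>
    rw [map_add, map_add, hx, hy]

lemma rhB_naturality {B B' : Alg A} (g : B ⟶ B') :
    rhB f a C w D w' h hh B' ≫
        (specOver (w ≫ pullback.snd a f)).map ((Alg.baseChange A C).map g).op =
      (specOver (w' ≫ pullback.snd a f)).map ((Alg.baseChange A D).map g).op ≫
        rhB f a C w D w' h hh B := by
  ext : 1
  rw [Over.comp_left, Over.comp_left, rhB_left, rhB_left, specOver_map_left, specOver_map_left]
  have e := congrArg Spec.map (tmap_naturality C D h g)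
  rw [Spec.map_comp, Spec.map_comp] at e
  exact e

lemma unit_tmap (B : Alg A) :
    rh (Alg.unit A C B) ≫ tmap C D h B = rh (Alg.unit A D B) := by
  refine CommRingCat.hom_ext (RingHom.ext fun b => ?_)
  change h 1 ⊗ₜ[A] b = (1 : D) ⊗ₜ[A] b
  rw [map_one]

variable {f a C w hw} in
lemma jw_rhB (B : Alg A) (hw' : w' ≫ pullback.fst a f =
    Spec.map (CommRingCat.ofHom (algebraMap A D))) :
    rhB f a C w D w' h hh B ≫ jw f a C w hw B = jw f a D w' hw' B := by
  apply YB_hom_ext
  rw [Over.comp_left, Category.assoc, jw_left_fst, jw_left_fst, rhB_left]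
  exact (Spec.map_comp (rh (Alg.unit A C B)) (tmap C D h B)).symm.trans
    (congrArg Spec.map (unit_tmap C D h B))

/-- the restriction map `M(Spec (C ⊗ B)) → M(Spec (D ⊗ B))`, as a map of module-valued
functors. -/
noncomputable def rW :
    (push A C).obj ((toMVF K (w ≫ pullback.snd a f)).obj M) ⟶
      (push A D).obj ((toMVF K (w' ≫ pullback.snd a f)).obj M) :=
  PresheafOfModules.homMk
    { app X := M.val.presheaf.map (rhB f a C w D w' h hh X.unop.unop).op
      naturality {X Y} g := by
        change M.val.presheaf.map ((specOver (w ≫ pullback.snd a f)).map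
              ((Alg.baseChange A C).map g.unop.unop).op).op ≫
            M.val.presheaf.map (rhB f a C w D w' h hh Y.unop.unop).op =
          M.val.presheaf.map (rhB f a C w D w' h hh X.unop.unop).op ≫
            M.val.presheaf.map ((specOver (w' ≫ pullback.snd a f)).map
              ((Alg.baseChange A D).map g.unop.unop).op).op
        rw [← Functor.map_comp, ← Functor.map_comp, ← op_comp, ← op_comp]
        congr 2
        exact rhB_naturality f a C w D w' h hh g.unop.unop }
    (by
      intro X r m
      have h1 := M.val.map_smul (rhB f a C w D w' h hh X.unop.unop).op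
        (toSect K (w ≫ pullback.snd a f) ((Alg.baseChange A C).obj X.unop.unop)
          ((1 : C) ⊗ₜ[A] r)) m
      refine h1.trans ?_
      congr 1
      apply ULift.ext
      have e2 := Scheme.ΓSpecIso_inv_naturality (tmap C D h X.unop.unop)
      have e3 := congr(($e2).hom ((1 : C) ⊗ₜ[A] r))
      refine e3.symm.trans ?_
      change (Scheme.ΓSpecIso (CommRingCat.of (D ⊗[A] X.unop.unop))).inv.hom
          (h 1 ⊗ₜ[A] r) =
        (Scheme.ΓSpecIso (CommRingCat.of (D ⊗[A] X.unop.unop))).inv.hom ((1 : D) ⊗ₜ[A] r)
      rw [map_one])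

lemma rW_app (B : Alg A) (x : ((push A C).obj ((toMVF K (w ≫ pullback.snd a f)).obj M)).obj (pt B)) :
    ((rW f a C w K M D w' h hh).app (pt B)).hom x =
      (M.val.presheaf.map (rhB f a C w D w' h hh B).op).hom x := rfl

variable {hw} in
lemma iotaW_rW (hw' : w' ≫ pullback.fst a f = Spec.map (CommRingCat.ofHom (algebraMap A D))) :
    iotaW f a C w hw K M ≫ rW f a C w K M D w' h hh = iotaW f a D w' hw' K M := by
  ext X x
  change (M.val.presheaf.map (rhB f a C w D w' h hh X.unop.unop).op).hom
      ((M.val.presheaf.map (jw f a C w hw X.unop.unop).op).hom x) =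
    (M.val.presheaf.map (jw f a D w' hw' X.unop.unop).op).hom x
  have e : M.val.presheaf.map (jw f a C w hw X.unop.unop).op ≫
      M.val.presheaf.map (rhB f a C w D w' h hh X.unop.unop).op =
        M.val.presheaf.map (jw f a D w' hw' X.unop.unop).op := by
    rw [← Functor.map_comp, ← op_comp, jw_rhB D w' h hh X.unop.unop hw']
  exact congr(($e).hom x)

end Restr

end Geo

end Groth.Agent.Helper23.Adq
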