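import Mathlib
import Groth.Agent.Lib.Helper23.Adq33
set_option autoImplicit false
universe u
open CategoryTheory CategoryTheory.Limits TensorProduct Opposite AlgebraicGeometry

/-! Coverings of `Spec B ×_S T` by the affine pieces `Spec (C ⊗ B)`. -/

namespace Groth.Agent.Helper23.Adq

open Adeq

section Mem

variable {S : Scheme.{u}}

/-- a sieve of the big fppf site containing a (not nec. small-indexed) fppf covering family is
covering. -/
lemma mem_J_of_ofArrows {U : Over S} (T : Sieve U) {I : Type*} (X : I → Scheme.{u})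
    (g : ∀ i, X i ⟶ U.left)
    (hmem : Presieve.ofArrows X g ∈ Scheme.fppfPrecoverage.coverings U.left)
    (h : ∀ i, T (Over.homMk (g i) : Over.mk (g i ≫ U.hom) ⟶ U)) :
    T ∈ QuotSh.J Scheme.fppfPrecoverage S U := by
  rw [GrothendieckTopology.mem_over_iff]
  refine GrothendieckTopology.superset_covering _ ?_
    (Precoverage.generate_mem_toGrothendieck hmem)
  rw [Sieve.generate_le_iff]
  rintro V k ⟨i⟩
  exact (sieve_over_iff T _).1 (h i)

/-- the pullback of a jointly surjective family of open immersions is an fppf covering. -/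
lemma pullback_openCover_mem {X Z : Scheme.{u}} (g : Z ⟶ X) {I : Type*} (V : I → Scheme.{u})
    (w : ∀ i, V i ⟶ X) [∀ i, IsOpenImmersion (w i)]
    (hsurj : ∀ x : X, ∃ i, x ∈ Set.range (w i)) :
    Presieve.ofArrows (fun i => pullback g (w i)) (fun i => pullback.fst g (w i)) ∈
      Scheme.fppfPrecoverage.coverings Z := by
  change _ ∈ (Scheme.precoverage (@Flat ⊓ @LocallyOfFinitePresentation)).coverings Z
  rw [Scheme.ofArrows_mem_precoverage_iff]
  refine ⟨fun x => ?_, fun i => ⟨inferInstance, inferInstance⟩⟩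
  obtain ⟨i, hi⟩ := hsurj (g x)
  refine ⟨i, ?_⟩
  rw [Scheme.Pullback.range_fst]
  exact hi

end Mem

section Cover

variable {S T : Scheme.{u}} (f : T ⟶ S) {A : CommRingCat.{u}} (a : Spec A ⟶ S)

/-- the projection `Spec B ×_S T → Spec B`. -/
noncomputable def fY (B : Alg A) : (YB f a B).left ⟶ Spec (CommRingCat.of B) :=
  pullback.fst ((specOver a).obj (op B)).hom f

variable {f a} in
lemma YB_hom_ext' {B : Alg A} {Z : Over T} (m m' : Z ⟶ YB f a B)
    (h : m.left ≫ fY f a B = m'.left ≫ fY f a B) : m = m' := YB_hom_ext m m' h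

lemma fY_condition (B : Alg A) : fY f a B ≫ Spec.map (sm B) ≫ a = (YB f a B).hom ≫ f :=
  pullback.condition

/-- the canonical map `Spec B ×_S T → Spec A ×_S T`. -/
noncomputable def gB (B : Alg A) : (YB f a B).left ⟶ pullback a f :=
  pullback.lift (fY f a B ≫ Spec.map (sm B)) (YB f a B).hom
    ((Category.assoc _ _ _).trans (fY_condition f a B))

lemma gB_fst (B : Alg A) : gB f a B ≫ pullback.fst a f = fY f a B ≫ Spec.map (sm B) :=
  pullback.lift_fst _ _ _

lemma gB_snd (B : Alg A) : gB f a B ≫ pullback.snd a f = (YB f a B).hom :=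
  pullback.lift_snd _ _ _

variable (C : Type u) [CommRing C] [Algebra A C]

/-- the tensor product square of spectra. -/
lemma tsq (B : Alg A) : IsPullback (Spec.map (rh (Alg.unit A C B)))
    (Spec.map (CommRingCat.ofHom (S := C ⊗[A] B) Algebra.TensorProduct.includeLeftRingHom))
    (Spec.map (sm B)) (Spec.map (CommRingCat.ofHom (algebraMap A C))) :=
  isPullback_SpecMap_of_isPushout _ _ _ _ (isPushout_unit C B)

variable (w : Spec (CommRingCat.of C) ⟶ pullback a f)

/-- projection `Spec (C ⊗ B) → Spec B`. -/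
noncomputable def pB (B : Alg A) : (VB f a C w B).left ⟶ Spec (CommRingCat.of B) :=
  Spec.map (rh (Alg.unit A C B))

/-- projection `Spec (C ⊗ B) → Spec C`. -/
noncomputable def pC (B : Alg A) : (VB f a C w B).left ⟶ Spec (CommRingCat.of C) :=
  Spec.map (CommRingCat.ofHom (S := C ⊗[A] B) Algebra.TensorProduct.includeLeftRingHom)

lemma pC_hom (B : Alg A) : pC f a C w B ≫ w ≫ pullback.snd a f = (VB f a C w B).hom := rfl

variable {f a C w} in
lemma VB_hom_ext {B : Alg A} {Z : Over T} (m m' : Z ⟶ VB f a C w B)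
    (h1 : m.left ≫ pB f a C w B = m'.left ≫ pB f a C w B)
    (h2 : m.left ≫ pC f a C w B = m'.left ≫ pC f a C w B) : m = m' := by
  ext : 1
  exact (tsq C B).hom_ext h1 h2

lemma lift_VB (B : Alg A) (Z : Over T) (β : Z.left ⟶ Spec (CommRingCat.of B))
    (γ : Z.left ⟶ Spec (CommRingCat.of C))
    (h1 : β ≫ Spec.map (sm B) = γ ≫ Spec.map (CommRingCat.ofHom (algebraMap A C)))
    (h2 : γ ≫ w ≫ pullback.snd a f = Z.hom) :
    ∃ m : Z ⟶ VB f a C w B, m.left ≫ pB f a C w B = β ∧ m.left ≫ pC f a C w B = γ := by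
  let l : Z.left ⟶ (VB f a C w B).left := (tsq C B).lift β γ h1
  have hl1 : l ≫ pB f a C w B = β := (tsq C B).lift_fst _ _ _
  have hl2 : l ≫ pC f a C w B = γ := (tsq C B).lift_snd _ _ _
  have hl : l ≫ (VB f a C w B).hom = Z.hom := by
    rw [← pC_hom, ← Category.assoc, hl2, h2]
  exact ⟨Over.homMk l hl, hl1, hl2⟩

lemma jw_left_fst' (hw : w ≫ pullback.fst a f = Spec.map (CommRingCat.ofHom (algebraMap A C)))
    (B : Alg A) :
    (jw f a C w hw B).left ≫ fY f a B = pB f a C w B :=
  jw_left_fst f a C w hw B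

lemma pB_sm (B : Alg A) : pB f a C w B ≫ Spec.map (sm B) =
    pC f a C w B ≫ Spec.map (CommRingCat.ofHom (algebraMap A C)) := (tsq C B).w

section

variable (D : Type u) [CommRing D] [Algebra A D] (w' : Spec (CommRingCat.of D) ⟶ pullback a f)
  (h : C →ₐ[A] D) (hh : Spec.map (CommRingCat.ofHom h.toRingHom) ≫ w = w')

lemma rhB_pB (B : Alg A) : (rhB f a C w D w' h hh B).left ≫ pB f a C w B = pB f a D w' B :=
  (Spec.map_comp (rh (Alg.unit A C B)) (tmap C D h B)).symm.trans
    (congrArg Spec.map (unit_tmap C D h B))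

lemma rhB_pC (B : Alg A) : (rhB f a C w D w' h hh B).left ≫ pC f a C w B =
    pC f a D w' B ≫ Spec.map (CommRingCat.ofHom h.toRingHom) := by
  refine (Spec.map_comp (CommRingCat.ofHom (S := C ⊗[A] B)
    Algebra.TensorProduct.includeLeftRingHom) (tmap C D h B)).symm.trans ?_
  refine Eq.trans ?_ (Spec.map_comp (CommRingCat.ofHom h.toRingHom) (CommRingCat.ofHom
    (S := D ⊗[A] B) Algebra.TensorProduct.includeLeftRingHom))
  rfl

end

end Cover

section CoverMem

variable {S T : Scheme.{u}} (f : T ⟶ S) {A : CommRingCat.{u}} (a : Spec A ⟶ S)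
  {I : Type*} (C : I → Type u) [∀ i, CommRing (C i)] [∀ i, Algebra A (C i)]
  (w : ∀ i, Spec (CommRingCat.of (C i)) ⟶ pullback a f)
  (hw : ∀ i, w i ≫ pullback.fst a f = Spec.map (CommRingCat.ofHom (algebraMap A (C i))))

/-- the affine pieces `Spec (C_i ⊗ B)` cover `Spec B ×_S T`. -/
lemma jw_cover_mem [∀ i, IsOpenImmersion (w i)]
    (hsurj : ∀ x : ↥(pullback a f), ∃ i, x ∈ Set.range (w i)) (B : Alg A) :
    Sieve.ofArrows (fun i => VB f a (C i) (w i) B) (fun i => jw f a (C i) (w i) (hw i) B) ∈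
      QuotSh.J Scheme.fppfPrecoverage T (YB f a B) := by
  refine mem_J_of_ofArrows _ (fun i => pullback (gB f a B) (w i))
    (fun i => pullback.fst (gB f a B) (w i)) (pullback_openCover_mem (gB f a B) _ w hsurj)
    (fun i => ?_)
  have h1 : (pullback.fst (gB f a B) (w i) ≫ fY f a B) ≫ Spec.map (sm B) =
        pullback.snd (gB f a B) (w i) ≫ Spec.map (CommRingCat.ofHom (algebraMap A (C i))) := by
    rw [Category.assoc, ← gB_fst, ← Category.assoc, pullback.condition, Category.assoc, hw]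
  have h2 : pullback.snd (gB f a B) (w i) ≫ w i ≫ pullback.snd a f =
      (Over.mk (pullback.fst (gB f a B) (w i) ≫ (YB f a B).hom)).hom := by
    rw [← Category.assoc, ← pullback.condition, Category.assoc, gB_snd]
    rfl
  obtain ⟨m, hm1, hm2⟩ := lift_VB f a (C i) (w i) B
    (Over.mk (pullback.fst (gB f a B) (w i) ≫ (YB f a B).hom))
    (pullback.fst (gB f a B) (w i) ≫ fY f a B)
    (pullback.snd (gB f a B) (w i)) h1 h2
  have e : (Over.homMk (pullback.fst (gB f a B) (w i)) :
      Over.mk (pullback.fst (gB f a B) (w i) ≫ (YB f a B).hom) ⟶ YB f a B) =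
        m ≫ jw f a (C i) (w i) (hw i) B := by
    apply YB_hom_ext'
    rw [Over.comp_left, Category.assoc, jw_left_fst', hm1]
    rfl
  rw [e]
  exact Sieve.downward_closed _ (Sieve.ofArrows_mk (fun i => VB f a (C i) (w i) B)
    (fun i => jw f a (C i) (w i) (hw i) B) i) m

end CoverMem

section Overlap

variable {S T : Scheme.{u}} (f : T ⟶ S) {A : CommRingCat.{u}} (a : Spec A ⟶ S)
  (C : Type u) [CommRing C] [Algebra A C] (w : Spec (CommRingCat.of C) ⟶ pullback a f)
  (hw : w ≫ pullback.fst a f = Spec.map (CommRingCat.ofHom (algebraMap A C)))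
  (C' : Type u) [CommRing C'] [Algebra A C'] (w' : Spec (CommRingCat.of C') ⟶ pullback a f)
  (hw' : w' ≫ pullback.fst a f = Spec.map (CommRingCat.ofHom (algebraMap A C')))
  {κ : Type*} (D : κ → Type u) [∀ k, CommRing (D k)] [∀ k, Algebra A (D k)]
  (wD : ∀ k, Spec (CommRingCat.of (D k)) ⟶ pullback a f)
  (h : ∀ k, C →ₐ[A] D k) (hh : ∀ k, Spec.map (CommRingCat.ofHom (h k).toRingHom) ≫ w = wD k)
  (h' : ∀ k, C' →ₐ[A] D k)
  (hh' : ∀ k, Spec.map (CommRingCat.ofHom (h' k).toRingHom) ≫ w' = wD k)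
  (v : ∀ k, Spec (CommRingCat.of (D k)) ⟶ pullback w w')
  (hv1 : ∀ k, v k ≫ pullback.fst w w' = Spec.map (CommRingCat.ofHom (h k).toRingHom))
  (hv2 : ∀ k, v k ≫ pullback.snd w w' = Spec.map (CommRingCat.ofHom (h' k).toRingHom))

include hv1 hv2 in
/-- two sections on overlapping affine pieces can be compared locally on the pieces
`Spec (D_k ⊗ B)`. -/
lemma overlap [∀ k, IsOpenImmersion (v k)]
    (hsurj : ∀ x : ↥(pullback w w'), ∃ k, x ∈ Set.range (v k))
    (B : Alg A) (Z : Over T) (α : Z ⟶ VB f a C w B) (β : Z ⟶ VB f a C' w' B)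
    (hαβ : α ≫ jw f a C w hw B = β ≫ jw f a C' w' hw' B) :
    ∃ R : Sieve Z, R ∈ QuotSh.J Scheme.fppfPrecoverage T Z ∧
      ∀ (Z' : Over T) (g : Z' ⟶ Z), R g →
        ∃ (k : κ) (c : Z' ⟶ VB f a (D k) (wD k) B),
          c ≫ rhB f a C w (D k) (wD k) (h k) (hh k) B = g ≫ α ∧
          c ≫ rhB f a C' w' (D k) (wD k) (h' k) (hh' k) B = g ≫ β := by
  have hB : α.left ≫ pB f a C w B = β.left ≫ pB f a C' w' B := by
    have e := congrArg (fun t => t.left ≫ fY f a B) hαβ
    simp only [Over.comp_left, Category.assoc] at e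
    rw [jw_left_fst', jw_left_fst'] at e
    exact e
  have hζ : (α.left ≫ pC f a C w B) ≫ w = (β.left ≫ pC f a C' w' B) ≫ w' := by
    apply pullback.hom_ext
    · rw [Category.assoc, Category.assoc, Category.assoc, Category.assoc, hw, hw', ← pB_sm,
        ← pB_sm, ← Category.assoc, ← Category.assoc, hB]
    · rw [Category.assoc, Category.assoc, Category.assoc, Category.assoc, pC_hom, pC_hom,
        Over.w α, Over.w β]
  let ζ : Z.left ⟶ pullback w w' := pullback.lift _ _ hζ
  have hζ1 : ζ ≫ pullback.fst w w' = α.left ≫ pC f a C w B := pullback.lift_fst _ _ _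
  have hζ2 : ζ ≫ pullback.snd w w' = β.left ≫ pC f a C' w' B := pullback.lift_snd _ _ _
  let R : Sieve Z :=
    { arrows := fun Z' g => ∃ (k : κ) (c : Z' ⟶ VB f a (D k) (wD k) B),
        c ≫ rhB f a C w (D k) (wD k) (h k) (hh k) B = g ≫ α ∧
        c ≫ rhB f a C' w' (D k) (wD k) (h' k) (hh' k) B = g ≫ β
      downward_closed := by
        rintro Y Y' g ⟨k, c, hc1, hc2⟩ e
        exact ⟨k, e ≫ c, by rw [Category.assoc, hc1, Category.assoc],
          by rw [Category.assoc, hc2, Category.assoc]⟩ }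
  refine ⟨R, ?_, fun Z' g hg => hg⟩
  refine mem_J_of_ofArrows R (fun k => pullback ζ (v k)) (fun k => pullback.fst ζ (v k))
    (pullback_openCover_mem ζ _ v hsurj) (fun k => ?_)
  have hwD : wD k ≫ pullback.fst a f = Spec.map (CommRingCat.ofHom (algebraMap A (D k))) := by
    rw [← hh k, Category.assoc, hw, ← Spec.map_comp]
    congr 1
    ext x
    exact (h k).commutes x
  have hcond : pullback.snd ζ (v k) ≫ Spec.map (CommRingCat.ofHom (h k).toRingHom) =
      pullback.fst ζ (v k) ≫ α.left ≫ pC f a C w B := by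
    rw [← hv1 k, ← Category.assoc, ← pullback.condition, Category.assoc, hζ1]
  have hcond' : pullback.snd ζ (v k) ≫ Spec.map (CommRingCat.ofHom (h' k).toRingHom) =
      pullback.fst ζ (v k) ≫ β.left ≫ pC f a C' w' B := by
    rw [← hv2 k, ← Category.assoc, ← pullback.condition, Category.assoc, hζ2]
  have h1 : (pullback.fst ζ (v k) ≫ α.left ≫ pB f a C w B) ≫ Spec.map (sm B) =
      pullback.snd ζ (v k) ≫ Spec.map (CommRingCat.ofHom (algebraMap A (D k))) := by
    rw [← hwD, ← hh k]
    simp only [Category.assoc]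
    rw [reassoc_of% hcond, hw, pB_sm]
  have h2 : pullback.snd ζ (v k) ≫ wD k ≫ pullback.snd a f =
      (Over.mk (pullback.fst ζ (v k) ≫ Z.hom)).hom := by
    rw [← hh k]
    simp only [Category.assoc]
    rw [reassoc_of% hcond, pC_hom, Over.w α]
    rfl
  obtain ⟨c, hc1, hc2⟩ := lift_VB f a (D k) (wD k) B (Over.mk (pullback.fst ζ (v k) ≫ Z.hom))
    (pullback.fst ζ (v k) ≫ α.left ≫ pB f a C w B) (pullback.snd ζ (v k)) h1 h2
  refine ⟨k, c, ?_, ?_⟩
  · apply VB_hom_ext
    · rw [Over.comp_left, Category.assoc, rhB_pB, hc1, Over.comp_left, Category.assoc]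
      rfl
    · rw [Over.comp_left, Category.assoc, rhB_pC, ← Category.assoc, hc2, hcond, Over.comp_left,
        Category.assoc]
      rfl
  · apply VB_hom_ext
    · rw [Over.comp_left, Category.assoc, rhB_pB, hc1, Over.comp_left, Category.assoc, hB]
      rfl
    · rw [Over.comp_left, Category.assoc, rhB_pC, ← Category.assoc, hc2, hcond', Over.comp_left,
        Category.assoc]
      rfl

end Overlap

end Groth.Agent.Helper23.Adq
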