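import Mathlib
import Groth.Agent.Lib.Helper23.Adq34
set_option autoImplicit false
universe u
open CategoryTheory CategoryTheory.Limits TensorProduct Opposite AlgebraicGeometry

/-! The pushforward of an adequate module along a qcqs morphism is adequate. -/

namespace Groth.Agent.Helper23.Adq

open Adeq

/-- a compact scheme has a finite affine open cover indexed by `Fin n`. -/
lemma exists_fin_affine_cover (X : Scheme.{u}) [CompactSpace X] :
    ∃ (n : ℕ) (R : Fin n → CommRingCat.{u}) (v : ∀ i, Spec (R i) ⟶ X),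
      (∀ i, IsOpenImmersion (v i)) ∧ ∀ x : X, ∃ i, x ∈ Set.range (v i) := by
  let 𝒰 := X.affineCover.finiteSubcover
  obtain ⟨n, ⟨e⟩⟩ := Finite.exists_equiv_fin 𝒰.I₀
  refine ⟨n, fun i => Γ(𝒰.X (e.symm i), ⊤),
    fun i => (𝒰.X (e.symm i)).isoSpec.inv ≫ 𝒰.f (e.symm i), fun i => inferInstance, fun x => ?_⟩
  refine ⟨e (𝒰.idx x), ?_⟩
  have key : ∀ j j' : 𝒰.I₀, j = j' → x ∈ Set.range (𝒰.f j') →
      x ∈ Set.range ((𝒰.X j).isoSpec.inv ≫ 𝒰.f j) := by
    rintro j _ rfl ⟨y, hy⟩
    refine ⟨(𝒰.X j).isoSpec.hom y, ?_⟩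
    rw [← Scheme.Hom.comp_apply, Iso.hom_inv_id_assoc]
    exact hy
  exact key _ _ (e.symm_apply_apply _) (𝒰.covers x)

section Data

variable {S T : Scheme.{u}} (f : T ⟶ S) {A : CommRingCat.{u}} (a : Spec A ⟶ S)
  {n : ℕ} (C : Fin n → Type u) [∀ i, CommRing (C i)] [∀ i, Algebra A (C i)]
  (w : ∀ i, Spec (CommRingCat.of (C i)) ⟶ pullback a f)
  (hw : ∀ i, w i ≫ pullback.fst a f = Spec.map (CommRingCat.ofHom (algebraMap A (C i))))
  (m : Fin n → Fin n → ℕ) (D : ∀ i i', Fin (m i i') → Type u) [∀ i i' k, CommRing (D i i' k)]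
  [∀ i i' k, Algebra A (D i i' k)]
  (wD : ∀ i i' k, Spec (CommRingCat.of (D i i' k)) ⟶ pullback a f)
  (h : ∀ i i' k, C i →ₐ[A] D i i' k)
  (hh : ∀ i i' k, Spec.map (CommRingCat.ofHom (h i i' k).toRingHom) ≫ w i = wD i i' k)
  (h' : ∀ i i' k, C i' →ₐ[A] D i i' k)
  (hh' : ∀ i i' k, Spec.map (CommRingCat.ofHom (h' i i' k).toRingHom) ≫ w i' = wD i i' k)
  (v : ∀ i i' k, Spec (CommRingCat.of (D i i' k)) ⟶ pullback (w i) (w i'))
  (hv1 : ∀ i i' k, v i i' k ≫ pullback.fst (w i) (w i') =
    Spec.map (CommRingCat.ofHom (h i i' k).toRingHom))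
  (hv2 : ∀ i i' k, v i i' k ≫ pullback.snd (w i) (w i') =
    Spec.map (CommRingCat.ofHom (h' i i' k).toRingHom))

include hw hv1 hv2 hh hh' in
set_option maxHeartbeats 1000000 in
/-- adequacy of `F_{f_* M, A}` from a finite affine cover of `Spec A ×_S T` with finite affine
covers of the pairwise overlaps. -/
theorem adequate_pushMod_of_data [∀ i, IsOpenImmersion (w i)]
    (hsurj : ∀ x : ↥(pullback a f), ∃ i, x ∈ Set.range (w i))
    [∀ i i' k, IsOpenImmersion (v i i' k)]
    (hsurjv : ∀ i i' (x : ↥(pullback (w i) (w i'))), ∃ k, x ∈ Set.range (v i i' k))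
    (M : BigSite.Mod Scheme.fppfPrecoverage T) (hM : adequateMod Scheme.fppfPrecoverage T M) :
    adequate A ((toMVF Scheme.fppfPrecoverage a).obj
      ((BigSite.pushMod Scheme.fppfPrecoverage f).obj M)) := by
  have hwD : ∀ i i' k, wD i i' k ≫ pullback.fst a f =
      Spec.map (CommRingCat.ofHom (algebraMap A (D i i' k))) := by
    intro i i' k
    rw [← hh i i' k, Category.assoc, hw, ← Spec.map_comp]
    congr 1
    ext x
    exact (h i i' k).commutes x
  have key := fun B : Alg A => sheaf_inj_glue' (QuotSh.J Scheme.fppfPrecoverage T)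
    M.val.presheaf M.isSheaf (U := YB f a B) (fun i => VB f a (C i) (w i) B)
    (fun i => jw f a (C i) (w i) (hw i) B) (jw_cover_mem f a C w hw hsurj B)
    (κ := fun i i' => Fin (m i i')) (fun i i' k => VB f a (D i i' k) (wD i i' k) B)
    (fun i i' k => rhB f a (C i) (w i) (D i i' k) (wD i i' k) (h i i' k) (hh i i' k) B)
    (fun i i' k => rhB f a (C i') (w i') (D i i' k) (wD i i' k) (h' i i' k) (hh' i i' k) B)
    (fun i i' Z α β hαβ => overlap f a (C i) (w i) (hw i) (C i') (w i') (hw i') (D i i')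
      (wD i i') (h i i') (hh i i') (h' i i') (hh' i i') (v i i') (hv1 i i') (hv2 i i')
      (hsurjv i i') B Z α β hαβ)
  refine adequate_of_cover_family (I := Fin n) (L := Σ (i : Fin n) (i' : Fin n), Fin (m i i'))
    (fun l => l.1) (fun l => l.2.1) _
    (fun i => (push A (C i)).obj
      ((toMVF Scheme.fppfPrecoverage (w i ≫ pullback.snd a f)).obj M))
    (fun l => (push A (D l.1 l.2.1 l.2.2)).obj
      ((toMVF Scheme.fppfPrecoverage (wD l.1 l.2.1 l.2.2 ≫ pullback.snd a f)).obj M))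
    (fun i => adequate_push _ (adequate_toMVF_of_adequateMod T M hM (CommRingCat.of (C i))
      (w i ≫ pullback.snd a f)))
    (fun l => adequate_push _ (adequate_toMVF_of_adequateMod T M hM
      (CommRingCat.of (D l.1 l.2.1 l.2.2)) (wD l.1 l.2.1 l.2.2 ≫ pullback.snd a f)))
    (fun i => iotaW f a (C i) (w i) (hw i) Scheme.fppfPrecoverage M)
    (fun l => rW f a (C l.1) (w l.1) Scheme.fppfPrecoverage M (D l.1 l.2.1 l.2.2)
      (wD l.1 l.2.1 l.2.2) (h l.1 l.2.1 l.2.2) (hh l.1 l.2.1 l.2.2))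
    (fun l => rW f a (C l.2.1) (w l.2.1) Scheme.fppfPrecoverage M (D l.1 l.2.1 l.2.2)
      (wD l.1 l.2.1 l.2.2) (h' l.1 l.2.1 l.2.2) (hh' l.1 l.2.1 l.2.2))
    (fun l => (iotaW_rW f a (C l.1) (w l.1) Scheme.fppfPrecoverage M (D l.1 l.2.1 l.2.2)
      (wD l.1 l.2.1 l.2.2) (h l.1 l.2.1 l.2.2) (hh l.1 l.2.1 l.2.2)
      (hwD l.1 l.2.1 l.2.2)).trans
      (iotaW_rW f a (C l.2.1) (w l.2.1) Scheme.fppfPrecoverage M (D l.1 l.2.1 l.2.2)
      (wD l.1 l.2.1 l.2.2) (h' l.1 l.2.1 l.2.2) (hh' l.1 l.2.1 l.2.2)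
      (hwD l.1 l.2.1 l.2.2)).symm)
    (fun B x x' hx => (key B).1 x x' hx)
    (fun B y hy => (key B).2 y (fun i i' k => hy ⟨i, i', k⟩))

end Data

section Final

/-- the module-valued functor of `f_* M` at an affine object is adequate. -/
theorem adequate_toMVF_pushMod {S T : Scheme.{u}} (f : T ⟶ S) [QuasiCompact f] [QuasiSeparated f]
    (M : BigSite.Mod Scheme.fppfPrecoverage T) (hM : adequateMod Scheme.fppfPrecoverage T M)
    (A : CommRingCat.{u}) (a : Spec A ⟶ S) :
    adequate A ((toMVF Scheme.fppfPrecoverage a).obj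
      ((BigSite.pushMod Scheme.fppfPrecoverage f).obj M)) := by
  haveI : CompactSpace ↥(pullback a f) := inferInstance
  haveI : QuasiSeparatedSpace ↥(pullback a f) :=
    quasiSeparatedSpace_of_quasiSeparated (pullback.fst a f)
  obtain ⟨n, R, u, hu, hsurj⟩ := exists_fin_affine_cover (pullback a f)
  haveI : ∀ i i', CompactSpace ↥(pullback (u i) (u i')) := fun i i' => inferInstance
  choose m RD v hv hsurjv using fun i i' => exists_fin_affine_cover (pullback (u i) (u i'))
  let φ : ∀ i, A ⟶ R i := fun i => Spec.preimage (u i ≫ pullback.fst a f)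
  letI : ∀ i, Algebra A (R i) := fun i => (φ i).hom.toAlgebra
  let ψ : ∀ i i' k, R i ⟶ RD i i' k := fun i i' k =>
    Spec.preimage (v i i' k ≫ pullback.fst (u i) (u i'))
  let ψ' : ∀ i i' k, R i' ⟶ RD i i' k := fun i i' k =>
    Spec.preimage (v i i' k ≫ pullback.snd (u i) (u i'))
  letI : ∀ i i' k, Algebra A (RD i i' k) := fun i i' k => (φ i ≫ ψ i i' k).hom.toAlgebra
  have hψ : ∀ i i' k, φ i ≫ ψ i i' k = φ i' ≫ ψ' i i' k := by
    intro i i' k
    apply Spec.map_injective
    simp only [φ, ψ, ψ', Spec.map_comp, Spec.map_preimage, Category.assoc]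
    rw [← Category.assoc _ (u i), pullback.condition, Category.assoc]
  haveI : ∀ i, IsOpenImmersion (u i) := hu
  haveI : ∀ i i' k, IsOpenImmersion (v i i' k) := hv
  exact adequate_pushMod_of_data f a (fun i => (R i : Type u)) u
    (fun i => (Spec.map_preimage _).symm) m (fun i i' k => (RD i i' k : Type u))
    (fun i i' k => v i i' k ≫ pullback.fst (u i) (u i') ≫ u i)
    (fun i i' k => { toRingHom := (ψ i i' k).hom, commutes' := fun r => rfl })
    (fun i i' k => by
      change Spec.map (ψ i i' k) ≫ u i = _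
      simp only [ψ, Spec.map_preimage, Category.assoc])
    (fun i i' k => { toRingHom := (ψ' i i' k).hom,
                     commutes' := fun r => (congr(($(hψ i i' k)).hom r)).symm })
    (fun i i' k => by
      change Spec.map (ψ' i i' k) ≫ u i' = _
      simp only [ψ', Spec.map_preimage, Category.assoc]
      rw [pullback.condition])
    v
    (fun i i' k => (Spec.map_preimage _).symm)
    (fun i i' k => (Spec.map_preimage _).symm)
    hsurj hsurjv M hM

/-- S8765: the pushforward of an adequate module along a quasi-compact quasi-separated morphism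
is adequate. -/
theorem adequateMod_pushMod {S T : Scheme.{u}} (f : T ⟶ S) [QuasiCompact f] [QuasiSeparated f]
    (M : BigSite.Mod Scheme.fppfPrecoverage T) (hM : adequateMod Scheme.fppfPrecoverage T M) :
    adequateMod Scheme.fppfPrecoverage S ((BigSite.pushMod Scheme.fppfPrecoverage f).obj M) :=
  adequateMod_of_forall _ (fun A a => adequate_toMVF_pushMod f M hM A a)

end Final

end Groth.Agent.Helper23.Adq
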