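import Mathlib
import Groth.Agent.Lib.Helper23.Adq35
set_option autoImplicit false
universe w v₁ u₁
open CategoryTheory CategoryTheory.Limits Opposite

/-! The total presheaf on `C` of a presheaf on `Over S`, and the comparison of sheaf conditions. -/

namespace Groth.Agent.Helper23.Sig

variable {C : Type u₁} [Category.{v₁} C] {S : C} (G : (Over S)ᵒᵖ ⥤ Type w)

/-- restriction along a morphism of `C` lying over `S`. -/
def res {X Y : C} (g : Y ⟶ X) (φ : X ⟶ S) (ψ : Y ⟶ S) (h : g ≫ φ = ψ) :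
    G.obj (op (Over.mk φ)) → G.obj (op (Over.mk ψ)) :=
  G.map (Over.homMk g h : Over.mk ψ ⟶ Over.mk φ).op

lemma res_id {X : C} (φ : X ⟶ S) (y : G.obj (op (Over.mk φ))) :
    res G (𝟙 X) φ φ (Category.id_comp _) y = y := by
  have : (Over.homMk (𝟙 X) (Category.id_comp _) : Over.mk φ ⟶ Over.mk φ) = 𝟙 _ := rfl
  change G.map (Over.homMk (𝟙 X) (Category.id_comp _) : Over.mk φ ⟶ Over.mk φ).op y = y
  rw [this, op_id, G.map_id]
  rfl

lemma res_res {X Y Z : C} (g : Y ⟶ X) (g' : Z ⟶ Y) (φ : X ⟶ S) (ψ : Y ⟶ S) (χ : Z ⟶ S)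
    (h : g ≫ φ = ψ) (h' : g' ≫ ψ = χ) (y : G.obj (op (Over.mk φ))) :
    res G g' ψ χ h' (res G g φ ψ h y) =
      res G (g' ≫ g) φ χ ((Category.assoc _ _ _).trans ((congrArg (g' ≫ ·) h).trans h')) y := by
  have : (Over.homMk (g' ≫ g) ((Category.assoc _ _ _).trans ((congrArg (g' ≫ ·) h).trans h')) :
      Over.mk χ ⟶ Over.mk φ) =
      (Over.homMk g' h' : Over.mk χ ⟶ Over.mk ψ) ≫ (Over.homMk g h : Over.mk ψ ⟶ Over.mk φ) := rfl
  change G.map (Over.homMk g' h' : Over.mk χ ⟶ Over.mk ψ).op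
    (G.map (Over.homMk g h : Over.mk ψ ⟶ Over.mk φ).op y) = G.map _ y
  rw [this, op_comp, G.map_comp]
  rfl

lemma res_congr {X Y : C} {g g' : Y ⟶ X} (e : g = g') (φ : X ⟶ S) (ψ : Y ⟶ S) (h : g ≫ φ = ψ)
    (h' : g' ≫ φ = ψ) (y : G.obj (op (Over.mk φ))) : res G g φ ψ h y = res G g' φ ψ h' y := by
  subst e
  rfl

/-- elements of the total presheaf. -/
abbrev El (X : C) : Type (max v₁ w) := Σ φ : X ⟶ S, G.obj (op (Over.mk φ))

variable {G} in
lemma el_ext {X : C} (p q : El G X) (e : p.1 = q.1)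
    (h : res G (𝟙 X) q.1 p.1 ((Category.id_comp _).trans e.symm) q.2 = p.2) : p = q := by
  obtain ⟨φ, y⟩ := p
  obtain ⟨ψ, z⟩ := q
  dsimp only at e
  subst e
  dsimp only at h
  rw [res_id] at h
  rw [h]

variable {G} in
lemma el_snd_eq {X : C} {φ : X ⟶ S} {y z : G.obj (op (Over.mk φ))}
    (h : (⟨φ, y⟩ : El G X) = ⟨φ, z⟩) : y = z := by
  have := Sigma.mk.inj_iff.1 h
  exact eq_of_heq this.2

/-- the action of a morphism on elements of the total presheaf. -/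
def elMap {X Y : C} (g : Y ⟶ X) (p : El G X) : El G Y := ⟨g ≫ p.1, res G g p.1 _ rfl p.2⟩

lemma elMap_id {X : C} (p : El G X) : elMap G (𝟙 X) p = p :=
  el_ext _ _ (Category.id_comp _) rfl

lemma elMap_comp {X Y Z : C} (g : Y ⟶ X) (g' : Z ⟶ Y) (p : El G X) :
    elMap G (g' ≫ g) p = elMap G g' (elMap G g p) := by
  obtain ⟨φ, y⟩ := p
  refine el_ext _ _ (Category.assoc _ _ _) ?_
  change res G (𝟙 Z) (g' ≫ g ≫ φ) ((g' ≫ g) ≫ φ) _ (res G g' (g ≫ φ) (g' ≫ g ≫ φ) rfl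
    (res G g φ (g ≫ φ) rfl y)) = res G (g' ≫ g) φ ((g' ≫ g) ≫ φ) rfl y
  refine (congrArg (res G (𝟙 Z) (g' ≫ g ≫ φ) ((g' ≫ g) ≫ φ) _)
    (res_res G g g' φ (g ≫ φ) (g' ≫ g ≫ φ) rfl rfl y)).trans ?_
  refine (res_res G (g' ≫ g) (𝟙 Z) φ (g' ≫ g ≫ φ) ((g' ≫ g) ≫ φ) _ _ y).trans ?_
  exact res_congr G (Category.id_comp _) _ _ _ _ y

/-- the total presheaf `X ↦ Σ φ : X ⟶ S, G (X, φ)`. -/
def sig : Cᵒᵖ ⥤ Type (max v₁ w) where
  obj X := El G X.unop
  map {X Y} g := ↾(elMap G g.unop)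
  map_id X := ConcreteCategory.hom_ext _ _ (fun p => elMap_id G p)
  map_comp {X Y Z} g g' := ConcreteCategory.hom_ext _ _ (fun p => elMap_comp G g.unop g'.unop p)

lemma sig_map_apply {X Y : C} (g : Y ⟶ X) (p : El G X) :
    (sig G).map g.op p = elMap G g p := rfl

section Sheaf

open Presieve

variable {G}

/-- comparing an object of `Over S` with `Over.mk` of its structure map. -/
def mkIso (V : Over S) : V ≅ Over.mk V.hom := Over.isoMk (Iso.refl _) (by simp)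

lemma mem_symm {X : C} (R : Sieve X) (φ : X ⟶ S) {Y : C} (g : Y ⟶ X) (ψ : Y ⟶ S)
    (h : g ≫ φ = ψ) (hg : R g) :
    ((Sieve.overEquiv (Over.mk φ)).symm R).arrows (Over.homMk g h : Over.mk ψ ⟶ Over.mk φ) := by
  rw [Sieve.overEquiv_symm_iff]
  exact hg

/-- the sheaf condition for the total presheaf implies the sheaf condition on `Over S`. -/
theorem isSheafFor_of_sig {X : C} (R : Sieve X) (φ : X ⟶ S)
    (hsep : IsSeparatedFor (yoneda.obj S) R.arrows) (hs : IsSheafFor (sig G) R.arrows) :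
    IsSheafFor G ((Sieve.overEquiv (Over.mk φ)).symm R).arrows := by
  intro x hx
  let x' : FamilyOfElements (sig G) R.arrows := fun Y g hg =>
    ⟨g ≫ φ, x (Over.homMk g rfl : Over.mk (g ≫ φ) ⟶ Over.mk φ) (mem_symm R φ g _ rfl hg)⟩
  have hx' : x'.Compatible := by
    intro Y₁ Y₂ Z g₁ g₂ f₁ f₂ h₁ h₂ e
    have e' : g₁ ≫ f₁ ≫ φ = g₂ ≫ f₂ ≫ φ := by rw [← Category.assoc, e, Category.assoc]
    refine el_ext _ _ e' ?_
    change res G (𝟙 Z) (g₂ ≫ f₂ ≫ φ) (g₁ ≫ f₁ ≫ φ) _ (res G g₂ (f₂ ≫ φ) _ rfl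
      (x (Over.homMk f₂ rfl : Over.mk (f₂ ≫ φ) ⟶ Over.mk φ) _)) =
      res G g₁ (f₁ ≫ φ) _ rfl (x (Over.homMk f₁ rfl : Over.mk (f₁ ≫ φ) ⟶ Over.mk φ) _)
    refine (res_res G g₂ (𝟙 Z) (f₂ ≫ φ) (g₂ ≫ f₂ ≫ φ) (g₁ ≫ f₁ ≫ φ) rfl _ _).trans ?_
    refine (hx (Over.homMk (𝟙 Z ≫ g₂) (by simp [e']) :
      Over.mk (g₁ ≫ f₁ ≫ φ) ⟶ Over.mk (f₂ ≫ φ))
      (Over.homMk g₁ rfl : Over.mk (g₁ ≫ f₁ ≫ φ) ⟶ Over.mk (f₁ ≫ φ)) _ _ ?_)
    ext
    simp [e]
  obtain ⟨⟨φ', t⟩, ht, huniq⟩ := hs x' hx'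
  have hφ : φ' = φ := by
    refine hsep.ext (fun Y g hg => ?_)
    have := congrArg Sigma.fst (ht g hg)
    exact this
  subst hφ
  have key : ∀ ⦃Y : C⦄ (g : Y ⟶ X) (hg : R g), G.map (Over.homMk g rfl :
      Over.mk (g ≫ φ') ⟶ Over.mk φ').op t =
      x (Over.homMk g rfl : Over.mk (g ≫ φ') ⟶ Over.mk φ') (mem_symm R φ' g _ rfl hg) := by
    intro Y g hg
    exact el_snd_eq (ht g hg)
  refine ⟨t, ?_, ?_⟩
  · intro V k hk
    have hk' : R k.left := (Sieve.overEquiv_symm_iff R k).1 hk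
    have e1 : k = (Over.homMk (𝟙 _) (by simpa using Over.w k) :
        V ⟶ Over.mk (k.left ≫ φ')) ≫
        (Over.homMk k.left rfl : Over.mk (k.left ≫ φ') ⟶ Over.mk φ') := by
      ext
      simp
    have e2 := hx (𝟙 V) (Over.homMk (𝟙 _) (by simpa using Over.w k) :
        V ⟶ Over.mk (k.left ≫ φ')) hk (mem_symm R φ' k.left _ rfl hk')
        (by rw [Category.id_comp]; exact e1)
    rw [op_id, G.map_id] at e2
    refine Eq.trans ?_ e2.symm
    rw [← key k.left hk']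
    change G.map k.op t = (G.map _ ≫ G.map _) t
    rw [← G.map_comp, ← op_comp, ← e1]
  · intro t' ht'
    have h2 : x'.IsAmalgamation ⟨φ', t'⟩ := by
      intro Y g hg
      have := ht' (Over.homMk g rfl : Over.mk (g ≫ φ') ⟶ Over.mk φ') (mem_symm R φ' g _ rfl hg)
      exact congrArg (fun z => (⟨g ≫ φ', z⟩ : El G Y)) this
    exact el_snd_eq (huniq _ h2)

lemma el_eq_snd {X : C} {p q : El G X} (h : p = q) :
    res G (𝟙 X) p.1 q.1 ((Category.id_comp _).trans (congrArg Sigma.fst h)) p.2 = q.2 := by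
  subst h
  exact res_id G _ _

lemma map_res {V : Over S} {X Y : C} (g : Y ⟶ X) (φ : X ⟶ S) (ψ : Y ⟶ S) (h : g ≫ φ = ψ)
    (m : V ⟶ Over.mk ψ) (y : G.obj (op (Over.mk φ))) :
    G.map m.op (res G g φ ψ h y) =
      G.map (m ≫ (Over.homMk g h : Over.mk ψ ⟶ Over.mk φ)).op y := by
  rw [op_comp, G.map_comp]
  rfl

lemma map_congr_left {V W : Over S} (m m' : V ⟶ W) (h : m.left = m'.left)
    (y : G.obj (op W)) : G.map m.op y = G.map m'.op y := by
  have : m = m' := Over.OverMorphism.ext h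
  rw [this]

lemma map_map {V W W' : Over S} (m : V ⟶ W) (m' : W ⟶ W') (y : G.obj (op W')) :
    G.map m.op (G.map m'.op y) = G.map (m ≫ m').op y := by
  rw [op_comp, G.map_comp]
  rfl

/-- the sheaf condition on `Over S` (for all structure maps) implies the sheaf condition for
the total presheaf. -/
theorem isSheafFor_sig {X : C} (R : Sieve X) (hS : IsSheafFor (yoneda.obj S) R.arrows)
    (hG : ∀ φ : X ⟶ S, IsSheafFor G ((Sieve.overEquiv (Over.mk φ)).symm R).arrows) :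
    IsSheafFor (sig G) R.arrows := by
  intro x hx
  let x₁ : FamilyOfElements (yoneda.obj S) R.arrows := fun Y g hg => (x g hg).1
  have hx₁ : x₁.Compatible := fun Y₁ Y₂ Z g₁ g₂ f₁ f₂ h₁ h₂ e =>
    congrArg Sigma.fst (hx g₁ g₂ h₁ h₂ e)
  obtain ⟨φ, hφ, hφu⟩ := hS x₁ hx₁
  have hφ' : ∀ ⦃Y : C⦄ (g : Y ⟶ X) (hg : R g), g ≫ φ = (x g hg).1 := fun Y g hg => hφ g hg
  have hmem : ∀ {V : Over S} (k : V ⟶ Over.mk φ),
      ((Sieve.overEquiv (Over.mk φ)).symm R).arrows k → R k.left :=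
    fun k hk => (Sieve.overEquiv_symm_iff R k).1 hk
  have hfst : ∀ {V : Over S} (k : V ⟶ Over.mk φ)
      (hk : ((Sieve.overEquiv (Over.mk φ)).symm R).arrows k),
      𝟙 V.left ≫ (x k.left (hmem k hk)).1 = V.hom := by
    intro V k hk
    rw [Category.id_comp, ← hφ' k.left (hmem k hk)]
    exact Over.w k
  let x₂ : FamilyOfElements G ((Sieve.overEquiv (Over.mk φ)).symm R).arrows := fun V k hk =>
    G.map (Over.homMk (𝟙 V.left) (hfst k hk) : V ⟶ Over.mk (x k.left (hmem k hk)).1).op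
      (x k.left (hmem k hk)).2
  have hx₂ : x₂.Compatible := by
    intro V₁ V₂ W k₁ k₂ t₁ t₂ h₁ h₂ e
    have e' : k₁.left ≫ t₁.left = k₂.left ≫ t₂.left := congrArg (fun m => m.left) e
    have h3 := el_eq_snd (hx k₁.left k₂.left (hmem t₁ h₁) (hmem t₂ h₂) e')
    have hW : 𝟙 W.left ≫ (k₂.left ≫ (x t₂.left (hmem t₂ h₂)).1) = W.hom := by
      rw [Category.id_comp, ← hφ' t₂.left (hmem t₂ h₂), ← Category.assoc]
      exact Over.w (k₂ ≫ t₂)
    let m₂ : W ⟶ Over.mk (k₂.left ≫ (x t₂.left (hmem t₂ h₂)).1) := Over.homMk (𝟙 W.left) hW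
    have R1 : G.map k₂.op (x₂ t₂ h₂) =
        G.map m₂.op (res G k₂.left (x t₂.left (hmem t₂ h₂)).1 _ rfl
          (x t₂.left (hmem t₂ h₂)).2) := by
      rw [map_res]
      refine (map_map _ _ _).trans (map_congr_left _ _ ?_ _)
      simp [m₂]
    have R2 : G.map k₁.op (x₂ t₁ h₁) =
        G.map m₂.op (res G (𝟙 W.left) (k₁.left ≫ (x t₁.left (hmem t₁ h₁)).1)
          (k₂.left ≫ (x t₂.left (hmem t₂ h₂)).1)
          ((Category.id_comp _).trans (congrArg Sigma.fst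
            (hx k₁.left k₂.left (hmem t₁ h₁) (hmem t₂ h₂) e')))
          (res G k₁.left (x t₁.left (hmem t₁ h₁)).1 _ rfl (x t₁.left (hmem t₁ h₁)).2)) := by
      rw [map_res, map_res]
      refine (map_map _ _ _).trans (map_congr_left _ _ ?_ _)
      simp [m₂]
    rw [R1, R2]
    exact congrArg (G.map m₂.op) h3
  obtain ⟨t, ht, htu⟩ := hG φ x₂ hx₂
  refine ⟨⟨φ, t⟩, ?_, ?_⟩
  · intro Y g hg
    refine el_ext _ _ (hφ' g hg) ?_
    have h5 := ht (Over.homMk g rfl : Over.mk (g ≫ φ) ⟶ Over.mk φ) (mem_symm R φ g _ rfl hg)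
    change _ = res G g φ (g ≫ φ) rfl t
    exact h5.symm
  · rintro ⟨φ'', t''⟩ h6
    have h7 : φ'' = φ := hφu φ'' (fun Y g hg => congrArg Sigma.fst (h6 g hg))
    subst h7
    have h8 : x₂.IsAmalgamation t'' := by
      intro V k hk
      have h9 := el_eq_snd (h6 k.left (hmem k hk))
      change G.map k.op t'' = G.map _ (x k.left (hmem k hk)).2
      rw [← h9, map_res]
      refine Eq.trans ?_ (map_map _ (Over.homMk k.left rfl :
        Over.mk (k.left ≫ φ'') ⟶ Over.mk φ'') t'').symm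
      refine map_congr_left _ _ ?_ _
      change k.left = (𝟙 V.left ≫ 𝟙 V.left) ≫ k.left
      rw [Category.id_comp, Category.id_comp]
    rw [htu t'' h8]

end Sheaf

end Groth.Agent.Helper23.Sig
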