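import Mathlib
import Groth.Agent.Lib.Helper23.Adq36
set_option autoImplicit false
universe u
open CategoryTheory CategoryTheory.Limits TensorProduct Opposite AlgebraicGeometry

/-! Adequate modules are sheaves for the fpqc topology. -/

namespace Groth.Agent.Helper23.Adq

open Adeq

section Bridge

variable {S : Scheme.{u}} (K : Precoverage Scheme.{u}) [BigSite.OSh K] (M : BigSite.Mod K S)

/-- `Spec R → S` compared with the base object of `specOver`. -/
noncomputable def baseIso0 {R : CommRingCat.{u}} (φ : Spec R ⟶ S) : Over.mk φ ≅ U0 φ := by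
  refine Over.isoMk (Iso.refl (Spec R)) ?_
  change 𝟙 (Spec R) ≫ Spec.map (CommRingCat.ofHom (algebraMap (R : Type u) (R : Type u))) ≫ φ = φ
  rw [specMap_algebraMap_self, Category.id_comp]
  exact Category.id_comp φ

set_option backward.isDefEq.respectTransparency.types false in
/-- affine faithfully flat descent as a sheaf condition for a singleton presieve. -/
theorem isSheafFor_singleton_of_adequate {R R' : CommRingCat.{u}} (f : R ⟶ R') (φ : Spec R ⟶ S)
    (hF : adequate R ((toMVF K φ).obj M)) (hf : Flat (Spec.map f))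
    (hs : Surjective (Spec.map f)) :
    Presieve.IsSheafFor (M.val.presheaf ⋙ forget AddCommGrpCat)
      (Presieve.singleton (Over.homMk (Spec.map f) rfl :
        Over.mk (Spec.map f ≫ φ) ⟶ Over.mk φ)) := by
  letI : Algebra R R' := f.hom.toAlgebra
  haveI : Module.Flat R R' := by
    rw [Flat.SpecMap_iff] at hf
    exact (RingHom.flat_algebraMap_iff).1 hf
  haveI : Module.FaithfullyFlat R R' := by
    refine Module.FaithfullyFlat.of_comap_surjective (fun x => ?_)
    obtain ⟨y, hy⟩ := hs.surj x
    exact ⟨y, hy⟩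
  obtain ⟨hinj, hglue⟩ := adequate_ff_descent hF R'
  let e₀ := baseIso0 φ
  let h : VC φ (R' : Type u) ⟶ Over.mk φ := Over.homMk (Spec.map f) rfl
  change Presieve.IsSheafFor _ (Presieve.singleton h)
  have he : h ≫ e₀.hom = aId φ (R' : Type u) := by
    ext : 1
    change Spec.map f ≫ 𝟙 _ = Spec.map f
    rw [Category.comp_id]
  have he' : aId φ (R' : Type u) ≫ e₀.inv = h := by
    rw [← he, Category.assoc, e₀.hom_inv_id, Category.comp_id]
  have hLR : aL φ (R' : Type u) (R' : Type u) ≫ h = aR φ (R' : Type u) (R' : Type u) ≫ h := by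
    rw [← he', ← Category.assoc, ← Category.assoc, aL_aId]
  rw [Presieve.isSheafFor_singleton]
  intro x hx
  have h1 := hx _ _ hLR
  obtain ⟨y₀, hy₀⟩ := hglue x h1
  refine ⟨(M.val.presheaf.map e₀.hom.op).hom y₀, ?_, ?_⟩
  · change (M.val.presheaf.map h.op).hom ((M.val.presheaf.map e₀.hom.op).hom y₀) = x
    have e1 : M.val.presheaf.map e₀.hom.op ≫ M.val.presheaf.map h.op =
        M.val.presheaf.map (aId φ (R' : Type u)).op := by
      rw [← Functor.map_comp, ← op_comp, he]
    exact (congr(($e1).hom y₀)).trans hy₀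
  · intro y' hy'
    have e2 : M.val.presheaf.map e₀.inv.op ≫ M.val.presheaf.map (aId φ (R' : Type u)).op =
        M.val.presheaf.map h.op := by
      rw [← Functor.map_comp, ← op_comp, he']
    have h3 : (M.val.presheaf.map e₀.inv.op).hom y' = y₀ := by
      apply hinj
      refine (congr(($e2).hom y')).trans ?_
      exact hy'.trans hy₀.symm
    rw [← h3]
    have e4 : M.val.presheaf.map e₀.inv.op ≫ M.val.presheaf.map e₀.hom.op = 𝟙 _ := by
      rw [← Functor.map_comp, ← op_comp, e₀.hom_inv_id, op_id, M.val.presheaf.map_id]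
    exact (congr(($e4).hom y')).symm

end Bridge

section Main

variable {S : Scheme.{u}}

set_option backward.isDefEq.respectTransparency.types false in
/-- a presheaf on `Over S` which is a Zariski sheaf and satisfies affine faithfully flat descent
is an fpqc sheaf. -/
theorem isSheaf_fpqc_of_zariski_of_affine (G : (Over S)ᵒᵖ ⥤ Type (u + 1))
    (hZ : Presieve.IsSheaf (QuotSh.J Scheme.zariskiPrecoverage S) G)
    (hF : ∀ {R R' : CommRingCat.{u}} (f : R ⟶ R') (φ : Spec R ⟶ S), Flat (Spec.map f) →
      Surjective (Spec.map f) → Presieve.IsSheafFor G (Presieve.singleton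
        (Over.homMk (Spec.map f) rfl : Over.mk (Spec.map f ≫ φ) ⟶ Over.mk φ))) :
    Presieve.IsSheaf (QuotSh.J Scheme.fpqcPrecoverage S) G := by
  have hs : Presieve.IsSheaf Scheme.fpqcTopology (Sig.sig G) := by
    rw [Scheme.fpqcTopology_eq_propQCTopology, isSheaf_type_propQCTopology_iff]
    refine ⟨fun X R hR => ?_, fun {R R'} f hf hsurj => ?_⟩
    · refine Sig.isSheafFor_sig R ?_ (fun φ => ?_)
      · exact GrothendieckTopology.Subcanonical.isSheaf_of_isRepresentable
          (J := Scheme.zariskiTopology) (yoneda.obj S) R hR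
      · exact hZ _ (GrothendieckTopology.overEquiv_symm_mem_over Scheme.zariskiTopology
          (Over.mk φ) R hR)
    · rw [Presieve.isSheafFor_iff_generate]
      refine Sig.isSheafFor_sig (Sieve.generate (Presieve.singleton (Spec.map f))) ?_
        (fun φ => ?_)
      · exact GrothendieckTopology.Subcanonical.isSheaf_of_isRepresentable
          (J := Scheme.fpqcTopology) (yoneda.obj S) _
          (Scheme.Hom.generate_singleton_mem_propQCTopology (Spec.map f) hf)
      · have e : Sieve.overEquiv (Over.mk φ) (Sieve.generate (Presieve.singleton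
            (Over.homMk (Spec.map f) rfl : Over.mk (Spec.map f ≫ φ) ⟶ Over.mk φ))) =
            Sieve.generate (Presieve.singleton (Spec.map f)) := by
          have := Sieve.overEquiv_ofArrows (Y := Over.mk φ)
            (fun _ : PUnit.{1} => Over.mk (Spec.map f ≫ φ))
            (fun _ => (Over.homMk (Spec.map f) rfl : Over.mk (Spec.map f ≫ φ) ⟶ Over.mk φ))
          simp only [Sieve.ofArrows, Presieve.ofArrows_pUnit] at this
          exact this
        rw [← e, OrderIso.symm_apply_apply, ← Presieve.isSheafFor_iff_generate]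
        exact hF f φ hf hsurj
  intro U T hT
  rw [GrothendieckTopology.mem_over_iff] at hT
  have hsep : Presieve.IsSeparatedFor (yoneda.obj S) (Sieve.overEquiv U T).arrows :=
    (GrothendieckTopology.Subcanonical.isSheaf_of_isRepresentable
      (J := Scheme.fpqcTopology) (yoneda.obj S) _ hT).isSeparatedFor
  have h1 := Sig.isSheafFor_of_sig (G := G) (Sieve.overEquiv U T) U.hom hsep (hs _ hT)
  have h2 : (Sieve.overEquiv (Over.mk U.hom)).symm (Sieve.overEquiv U T) = T :=
    OrderIso.symm_apply_apply (Sieve.overEquiv U) T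
  rw [h2] at h1
  exact h1

/-- a module all of whose `F_{M,R}` are adequate is an fpqc sheaf. -/
theorem isSheaf_fpqc_of_forall_adequate (K : Precoverage Scheme.{u}) [BigSite.OSh K]
    (hK : Scheme.zariskiPrecoverage ≤ K) (M : BigSite.Mod K S)
    (h : ∀ (R : CommRingCat.{u}) (a : Spec R ⟶ S), adequate R ((toMVF K a).obj M)) :
    Presheaf.IsSheaf (QuotSh.J Scheme.fpqcPrecoverage S) ((BigSite.toAbMod K S).obj M).obj := by
  rw [Presheaf.isSheaf_iff_isSheaf_forget _ _ (forget AddCommGrpCat), isSheaf_iff_isSheaf_of_type]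
  refine isSheaf_fpqc_of_zariski_of_affine (M.val.presheaf ⋙ forget AddCommGrpCat) ?_
    (fun {R R'} f φ hf hs => isSheafFor_singleton_of_adequate K M f φ (h R φ) hf hs)
  have h1 : Presieve.IsSheaf (QuotSh.J K S) (M.val.presheaf ⋙ forget AddCommGrpCat) := by
    rw [← isSheaf_iff_isSheaf_of_type]
    exact (Presheaf.isSheaf_iff_isSheaf_forget _ M.val.presheaf (forget AddCommGrpCat)).1
      M.isSheaf
  exact Presieve.isSheaf_of_le _ (BigSite.J_mono hK S) h1

/-- S8787: adequate modules on the big fppf site are fpqc sheaves. -/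
theorem isSheaf_fpqc_of_adequateMod_fppf (M : BigSite.Mod Scheme.fppfPrecoverage S)
    (hM : adequateMod Scheme.fppfPrecoverage S M) :
    Presheaf.IsSheaf (QuotSh.J Scheme.fpqcPrecoverage S)
      ((BigSite.toAbMod Scheme.fppfPrecoverage S).obj M).obj :=
  isSheaf_fpqc_of_forall_adequate _ Scheme.zariskiPrecoverage_le_fppfPrecoverage M
    (fun R a => adequate_toMVF_of_adequateMod S M hM R a)

/-- S8786: adequate modules on the big Zariski site are fpqc sheaves. -/
theorem isSheaf_fpqc_of_adequateMod_zariski (M : BigSite.Mod Scheme.zariskiPrecoverage S)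
    (hM : adequateMod Scheme.zariskiPrecoverage S M) :
    Presheaf.IsSheaf (QuotSh.J Scheme.fpqcPrecoverage S)
      ((BigSite.toAbMod Scheme.zariskiPrecoverage S).obj M).obj :=
  isSheaf_fpqc_of_forall_adequate _ le_rfl M
    (fun R a => adequate_toMVF_of_adequateMod_zariski S M hM R a)

end Main

end Groth.Agent.Helper23.Adq
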