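import Mathlib
import Groth.Agent.Lib.Helper23.Adq37
set_option autoImplicit false
universe u
open CategoryTheory CategoryTheory.Limits TensorProduct Opposite AlgebraicGeometry

/-! Parasitic adequate modules. -/

namespace Groth.Agent.Helper23.Adq

open Adeq

section Alg

variable {A : Type u} [CommRing A]

/-- an adequate functor vanishing at `A` vanishes at every flat `A`-algebra. -/
theorem subsingleton_of_flat (F : MVF A) (hF : adequate A F) (D : Type u) [CommRing D]
    [Algebra A D] [Module.Flat A D] (h0 : Subsingleton (F.obj (pt (algOf A A)))) :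
    Subsingleton (F.obj (pt (algOf A D))) := by
  let f : algOf A A ⟶ algOf A D := CommAlgCat.ofHom (Algebra.ofId A D)
  have hf : f.hom.toRingHom.Flat := (RingHom.flat_algebraMap_iff (R := A) (S := D)).2 inferInstance
  haveI := isIso_bc_of_adequate_flat F hF f hf
  haveI : Subsingleton ((ModuleCat.extendScalars.{u, u, u + 1} f.hom.toRingHom).obj
      (F.obj (pt (algOf A A)))) := by
    change Subsingleton (TensorProduct A _ (F.obj (pt (algOf A A))))
    infer_instance
  exact (asIso (F.bc f)).symm.toLinearEquiv.toEquiv.subsingleton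

end Alg

section Geo

variable {S : Scheme.{u}} (M : BigSite.Mod Scheme.fppfPrecoverage S)

lemma subsingleton_of_objIso {X Y : Over S} (e : X ≅ Y) (h : Subsingleton (M.val.obj (op Y))) :
    Subsingleton (M.val.obj (op X)) := by
  have key : ∀ z : M.val.obj (op X),
      z = (M.val.presheaf.map e.hom.op).hom ((M.val.presheaf.map e.inv.op).hom z) := by
    intro z
    have e4 : M.val.presheaf.map e.inv.op ≫ M.val.presheaf.map e.hom.op = 𝟙 _ := by
      rw [← Functor.map_comp, ← op_comp, e.hom_inv_id, op_id, M.val.presheaf.map_id]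
    exact (congr(($e4).hom z)).symm
  refine ⟨fun x x' => ?_⟩
  rw [key x, key x']
  congr 1
  exact h.elim _ _

/-- the affine object attached to an affine open of `S`, compared with the open itself. -/
noncomputable def openIso {U : S.Opens} (hU : IsAffineOpen U) :
    U0 (R := Γ(S, U)) hU.fromSpec ≅ Over.mk U.ι :=
  (baseIso0 hU.fromSpec).symm ≪≫ Over.isoMk hU.isoSpec.symm (by
    change hU.isoSpec.inv ≫ U.ι = hU.fromSpec
    exact hU.isoSpec_inv_ι)

set_option backward.isDefEq.respectTransparency.types false in
/-- the affine piece: sections over `Spec D → V → S` vanish when `Spec D → S` factors through an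
affine open `U` with `M(U) = 0`, flatly. -/
theorem subsingleton_of_factors (hM : adequateMod Scheme.fppfPrecoverage S M) {U : S.Opens}
    (hU : IsAffineOpen U) (h0 : Subsingleton (M.val.obj (op (Over.mk U.ι))))
    {D : CommRingCat.{u}} (g : Spec D ⟶ S) [Flat g] (q : Spec D ⟶ U.toScheme)
    (hq : q ≫ U.ι = g) : Subsingleton (M.val.obj (op (Over.mk g))) := by
  let ψ : Spec D ⟶ Spec Γ(S, U) := q ≫ hU.isoSpec.hom
  have hψ : ψ ≫ hU.fromSpec = g := by
    rw [← hq, ← hU.isoSpec_inv_ι, Category.assoc, Iso.hom_inv_id_assoc]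
  let φ : Γ(S, U) ⟶ D := Spec.preimage ψ
  have hφ : Spec.map φ = ψ := Spec.map_preimage ψ
  letI : Algebra Γ(S, U) D := φ.hom.toAlgebra
  haveI : Flat ψ := by
    have h1 : Flat (ψ ≫ hU.fromSpec) := by rw [hψ]; infer_instance
    exact MorphismProperty.of_postcomp (W := @Flat) (W' := @IsOpenImmersion) ψ hU.fromSpec
      inferInstance h1
  haveI : Module.Flat Γ(S, U) D := by
    have h2 : Flat (Spec.map φ) := by rw [hφ]; infer_instance
    rw [Flat.SpecMap_iff] at h2
    exact (RingHom.flat_algebraMap_iff).1 h2
  have hF := adequate_toMVF_of_adequateMod S M hM Γ(S, U) hU.fromSpec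
  have h1 : Subsingleton (((toMVF Scheme.fppfPrecoverage hU.fromSpec).obj M).obj
      (pt (algOf Γ(S, U) Γ(S, U)))) :=
    subsingleton_of_objIso M (openIso hU) h0
  have h2 := subsingleton_of_flat _ hF D h1
  let e : Over.mk g ≅ VC hU.fromSpec (D : Type u) := by
    refine Over.isoMk (Iso.refl _) ?_
    change 𝟙 _ ≫ Spec.map φ ≫ hU.fromSpec = g
    rw [Category.id_comp, hφ, hψ]
  exact subsingleton_of_objIso M e h2

set_option backward.isDefEq.respectTransparency.types false in
/-- an adequate module vanishing on the members of an affine open covering of `S` is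
parasitic. -/
theorem parasitic_of_affine_cover (hM : adequateMod Scheme.fppfPrecoverage S M) {ι : Type u}
    (U : ι → S.Opens) (hU : ∀ i, IsAffineOpen (U i)) (hcov : (⨆ i, U i) = ⊤)
    (h0 : ∀ i, Subsingleton (M.val.obj (op (Over.mk (U i).ι)))) :
    parasitic Scheme.fppfPrecoverage S M := by
  intro V hV
  haveI : Flat V.hom := hV
  suffices h : ∀ x : M.val.obj (op V), x = 0 from ⟨fun x y => (h x).trans (h y).symm⟩
  intro x
  let T : Sieve V :=
    { arrows := fun W g => (M.val.presheaf.map g.op).hom x = 0
      downward_closed := by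
        intro W W' g hg k
        change (M.val.presheaf.map (k ≫ g).op).hom x = 0
        rw [op_comp, Functor.map_comp]
        change (M.val.presheaf.map k.op).hom ((M.val.presheaf.map g.op).hom x) = 0
        rw [hg, map_zero] }
  refine eq_zero_of_locally_zero Scheme.fppfPrecoverage M V x T ?_ (fun W g hg => hg)
  refine mem_J_of_ofArrows T
    (fun p : Σ i, (pullback V.hom (U i).ι).affineOpenCover.I₀ =>
      Spec ((pullback V.hom (U p.1).ι).affineOpenCover.X p.2))
    (fun p => (pullback V.hom (U p.1).ι).affineOpenCover.f p.2 ≫ pullback.fst V.hom (U p.1).ι)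
    ?_ (fun p => ?_)
  · change _ ∈ (Scheme.precoverage (@Flat ⊓ @LocallyOfFinitePresentation)).coverings V.left
    rw [Scheme.ofArrows_mem_precoverage_iff]
    refine ⟨fun v => ?_, fun p => ⟨inferInstance, inferInstance⟩⟩
    have hv : V.hom v ∈ (⨆ i, U i : S.Opens) := by rw [hcov]; trivial
    obtain ⟨i, hi⟩ := TopologicalSpace.Opens.mem_iSup.1 hv
    have hv2 : v ∈ Set.range (pullback.fst V.hom (U i).ι) := by
      rw [Scheme.Pullback.range_fst]
      change V.hom v ∈ Set.range (U i).ι
      rw [Scheme.Opens.range_ι]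
      exact hi
    obtain ⟨y, hy⟩ := hv2
    obtain ⟨z, hz⟩ := (pullback V.hom (U i).ι).affineOpenCover.covers y
    refine ⟨⟨i, (pullback V.hom (U i).ι).affineOpenCover.idx y⟩, z, ?_⟩
    rw [Scheme.Hom.comp_apply, hz, hy]
  · have hsub : Subsingleton (M.val.obj (op (Over.mk
        (((pullback V.hom (U p.1).ι).affineOpenCover.f p.2 ≫
          pullback.fst V.hom (U p.1).ι) ≫ V.hom)))) := by
      refine subsingleton_of_factors M hM (hU p.1) (h0 p.1) _
        ((pullback V.hom (U p.1).ι).affineOpenCover.f p.2 ≫ pullback.snd V.hom (U p.1).ι) ?_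
      rw [Category.assoc, Category.assoc, pullback.condition]
    exact hsub.elim _ _

set_option backward.isDefEq.respectTransparency.types false in
/-- S8767: equivalent characterisations of parasitic adequate modules. -/
theorem parasitic_tfae (hM : adequateMod Scheme.fppfPrecoverage S M) :
    List.TFAE [parasitic Scheme.fppfPrecoverage S M, parasiticFor Scheme.fppfPrecoverage S M,
      ∀ U : S.Opens, Subsingleton (BigSite.sectMod Scheme.fppfPrecoverage M
        ((BigSite.zarIncl S).obj U)),
      ∃ (ι : Type u) (U : ι → S.Opens), (∀ i, IsAffineOpen (U i)) ∧ (⨆ i, U i) = ⊤ ∧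
        ∀ i, Subsingleton (BigSite.sectMod Scheme.fppfPrecoverage M
          ((BigSite.zarIncl S).obj (U i)))] := by
  tfae_have 1 → 2 := by
    intro h P hP V g hg
    change P ∈ (Scheme.precoverage (@Flat ⊓ @LocallyOfFinitePresentation)).coverings S at hP
    exact h (Over.mk g) (hP.2 hg).1
  tfae_have 2 → 3 := by
    intro h U
    let X : Bool → Scheme.{u} := fun b => cond b U.toScheme S
    let f : ∀ b, X b ⟶ S := fun b => match b with
      | true => U.ι
      | false => 𝟙 S
    have hP : Presieve.ofArrows X f ∈ Scheme.fppfPrecoverage.coverings S := by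
      change _ ∈ (Scheme.precoverage (@Flat ⊓ @LocallyOfFinitePresentation)).coverings S
      rw [Scheme.ofArrows_mem_precoverage_iff]
      refine ⟨fun x => ⟨false, x, rfl⟩, fun b => ?_⟩
      cases b
      · exact ⟨inferInstanceAs (Flat (𝟙 S)), inferInstanceAs (LocallyOfFinitePresentation (𝟙 S))⟩
      · exact ⟨inferInstanceAs (Flat U.ι), inferInstanceAs (LocallyOfFinitePresentation U.ι)⟩
    exact h hP U.ι (Presieve.ofArrows.mk true)
  tfae_have 3 → 4 := by
    intro h
    exact ⟨S.affineOpens, fun i => i.1, fun i => i.2, iSup_affineOpens_eq_top S, fun i => h i.1⟩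
  tfae_have 4 → 1 := by
    rintro ⟨ι, U, hU, hcov, h0⟩
    exact parasitic_of_affine_cover M hM U hU hcov h0
  tfae_finish

end Geo

end Groth.Agent.Helper23.Adq
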