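import Mathlib
import Groth.Agent.Lib.Helper23.Adq38
set_option autoImplicit false
universe u v
open CategoryTheory CategoryTheory.Limits TensorProduct Opposite

/-! Faithfully flat descent in degree one: exactness of
`B ⊗ M → (B ⊗ B) ⊗ M → (B ⊗ (B ⊗ B)) ⊗ M`. -/

namespace Groth.Agent.Helper23.Adq

section Amitsur1

variable (R : Type u) (B : Type u) [CommRing R] [CommRing B] [Algebra R B]
  (M : Type v) [AddCommGroup M] [Module R M]

/-- `x ↦ 1 ⊗ x`. -/
noncomputable def d0 : B ⊗[R] B →ₗ[R] B ⊗[R] (B ⊗[R] B) :=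
  TensorProduct.mk R B (B ⊗[R] B) 1

/-- `b₁ ⊗ b₂ ↦ b₁ ⊗ (1 ⊗ b₂)`. -/
noncomputable def d1 : B ⊗[R] B →ₗ[R] B ⊗[R] (B ⊗[R] B) :=
  LinearMap.lTensor B (TensorProduct.mk R B B 1)

/-- `b₁ ⊗ b₂ ↦ b₁ ⊗ (b₂ ⊗ 1)`. -/
noncomputable def d2 : B ⊗[R] B →ₗ[R] B ⊗[R] (B ⊗[R] B) :=
  LinearMap.lTensor B ((TensorProduct.mk R B B).flip 1)

/-- `b ↦ b ⊗ 1 - 1 ⊗ b` as a plain linear map. -/
noncomputable def e01 : B →ₗ[R] B ⊗[R] B :=
  (TensorProduct.mk R B B).flip 1 - TensorProduct.mk R B B 1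

/-- the differential in degree zero. -/
noncomputable def amD0 : B ⊗[R] M →ₗ[R] (B ⊗[R] B) ⊗[R] M :=
  LinearMap.rTensor M (e01 R B)

/-- the differential in degree one. -/
noncomputable def amD1 : (B ⊗[R] B) ⊗[R] M →ₗ[R] (B ⊗[R] (B ⊗[R] B)) ⊗[R] M :=
  LinearMap.rTensor M (d0 R B - d1 R B + d2 R B)

/-- the contracting homotopy in degree two. -/
noncomputable def amH1 : B ⊗[R] ((B ⊗[R] (B ⊗[R] B)) ⊗[R] M) →ₗ[R] B ⊗[R] ((B ⊗[R] B) ⊗[R] M) :=
  amH0 R B ((B ⊗[R] B) ⊗[R] M) ∘ₗ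
    LinearMap.lTensor B (TensorProduct.assoc R B (B ⊗[R] B) M).toLinearMap

lemma amH1_tmul (b' b₁ : B) (x : B ⊗[R] B) (m : M) :
    amH1 R B M (b' ⊗ₜ ((b₁ ⊗ₜ x) ⊗ₜ m)) = (b' * b₁) ⊗ₜ (x ⊗ₜ m) := by
  simp [amH1, amH0_tmul]

lemma amD1_tmul (b₁ b₂ : B) (m : M) :
    amD1 R B M ((b₁ ⊗ₜ[R] b₂) ⊗ₜ[R] m) =
      ((1 : B) ⊗ₜ[R] (b₁ ⊗ₜ[R] b₂)) ⊗ₜ[R] m - (b₁ ⊗ₜ[R] ((1 : B) ⊗ₜ[R] b₂)) ⊗ₜ[R] m +
        (b₁ ⊗ₜ[R] (b₂ ⊗ₜ[R] (1 : B))) ⊗ₜ[R] m := by
  simp only [amD1, d0, d1, d2, LinearMap.rTensor_tmul, LinearMap.add_apply, LinearMap.sub_apply,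
    TensorProduct.mk_apply, LinearMap.lTensor_tmul, LinearMap.flip_apply,
    TensorProduct.add_tmul, TensorProduct.sub_tmul]

lemma amD0_tmul (b : B) (m : M) :
    amD0 R B M (b ⊗ₜ[R] m) = (b ⊗ₜ[R] (1 : B)) ⊗ₜ[R] m - ((1 : B) ⊗ₜ[R] b) ⊗ₜ[R] m := by
  simp only [amD0, e01, LinearMap.rTensor_tmul, LinearMap.sub_apply, LinearMap.flip_apply,
    TensorProduct.mk_apply, TensorProduct.sub_tmul]

lemma am_homotopy1 (z : B ⊗[R] ((B ⊗[R] B) ⊗[R] M)) :
    amH1 R B M (LinearMap.lTensor B (amD1 R B M) z) =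
      z + LinearMap.lTensor B (amD0 R B M) (amH R B M z) := by
  induction z using TensorProduct.induction_on with
  | zero => simp
  | add x y hx hy => simp only [map_add, hx, hy]; abel
  | tmul b' w =>
    induction w using TensorProduct.induction_on with
    | zero => simp
    | add x y hx hy => simp only [TensorProduct.tmul_add, map_add, hx, hy]; abel
    | tmul x m =>
      induction x using TensorProduct.induction_on with
      | zero => simp
      | add x y hx hy =>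
        simp only [TensorProduct.add_tmul, TensorProduct.tmul_add, map_add, hx, hy]; abel
      | tmul b₁ b₂ =>
        rw [LinearMap.lTensor_tmul, amH_tmul, LinearMap.lTensor_tmul, amD1_tmul, amD0_tmul]
        have e1 : b' ⊗ₜ[R] (((1 : B) ⊗ₜ[R] (b₁ ⊗ₜ[R] b₂)) ⊗ₜ[R] m -
            (b₁ ⊗ₜ[R] ((1 : B) ⊗ₜ[R] b₂)) ⊗ₜ[R] m + (b₁ ⊗ₜ[R] (b₂ ⊗ₜ[R] (1 : B))) ⊗ₜ[R] m) =
            b' ⊗ₜ[R] (((1 : B) ⊗ₜ[R] (b₁ ⊗ₜ[R] b₂)) ⊗ₜ[R] m) -
            b' ⊗ₜ[R] ((b₁ ⊗ₜ[R] ((1 : B) ⊗ₜ[R] b₂)) ⊗ₜ[R] m) +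
            b' ⊗ₜ[R] ((b₁ ⊗ₜ[R] (b₂ ⊗ₜ[R] (1 : B))) ⊗ₜ[R] m) :=
          (TensorProduct.tmul_add _ _ _).trans
            (congrArg (fun t => t + b' ⊗ₜ[R] ((b₁ ⊗ₜ[R] (b₂ ⊗ₜ[R] (1 : B))) ⊗ₜ[R] m))
              (TensorProduct.tmul_sub _ _ _))
        rw [e1, TensorProduct.tmul_sub, map_add,
          map_sub, amH1_tmul, amH1_tmul, amH1_tmul, mul_one]
        abel

/-- exactness of `B ⊗ M → (B ⊗ B) ⊗ M → (B ⊗ (B ⊗ B)) ⊗ M` for faithfully flat `B`. -/
theorem amitsur_exact1 [Module.FaithfullyFlat R B] :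
    Function.Exact (amD0 R B M) (amD1 R B M) := by
  refine Module.FaithfullyFlat.lTensor_reflects_exact R B (N1 := B ⊗[R] M)
    (N2 := (B ⊗[R] B) ⊗[R] M) (N3 := (B ⊗[R] (B ⊗[R] B)) ⊗[R] M) (amD0 R B M) (amD1 R B M)
    (fun z => ⟨fun hz => ?_, ?_⟩)
  · refine ⟨-(amH R B M z), ?_⟩
    have h := am_homotopy1 R B M z
    rw [hz, map_zero] at h
    rw [map_neg]
    exact (neg_eq_of_add_eq_zero_left h.symm)
  · rintro ⟨w, rfl⟩
    induction w using TensorProduct.induction_on with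
    | zero => simp
    | add x y hx hy => simp only [map_add, hx, hy, add_zero]
    | tmul b' w =>
      induction w using TensorProduct.induction_on with
      | zero => simp
      | add x y hx hy => simp only [TensorProduct.tmul_add, map_add, hx, hy, add_zero]
      | tmul b m =>
        rw [LinearMap.lTensor_tmul, LinearMap.lTensor_tmul, amD0_tmul, map_sub, amD1_tmul,
          amD1_tmul]
        have : ((1 : B) ⊗ₜ[R] (b ⊗ₜ[R] (1 : B))) ⊗ₜ[R] m - (b ⊗ₜ[R] ((1 : B) ⊗ₜ[R] (1 : B))) ⊗ₜ[R] m +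
            (b ⊗ₜ[R] ((1 : B) ⊗ₜ[R] (1 : B))) ⊗ₜ[R] m -
            (((1 : B) ⊗ₜ[R] ((1 : B) ⊗ₜ[R] b)) ⊗ₜ[R] m - ((1 : B) ⊗ₜ[R] ((1 : B) ⊗ₜ[R] b)) ⊗ₜ[R] m +
              ((1 : B) ⊗ₜ[R] (b ⊗ₜ[R] (1 : B))) ⊗ₜ[R] m) = 0 := by abel
        rw [this, TensorProduct.tmul_zero]

end Amitsur1

section H1

open Adeq

variable {A : Type u} [CommRing A]

variable (A) in
/-- the coface map `x ↦ 1 ⊗ x`. -/
noncomputable def D0 (B : Type u) [CommRing B] [Algebra A B] :
    algOf A (B ⊗[A] B) ⟶ algOf A (B ⊗[A] (B ⊗[A] B)) :=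
  CommAlgCat.ofHom (Algebra.TensorProduct.includeRight : B ⊗[A] B →ₐ[A] B ⊗[A] (B ⊗[A] B))

variable (A) in
/-- the coface map `b₁ ⊗ b₂ ↦ b₁ ⊗ (1 ⊗ b₂)`. -/
noncomputable def D1 (B : Type u) [CommRing B] [Algebra A B] :
    algOf A (B ⊗[A] B) ⟶ algOf A (B ⊗[A] (B ⊗[A] B)) :=
  CommAlgCat.ofHom (Algebra.TensorProduct.map (AlgHom.id A B)
    (Algebra.TensorProduct.includeRight : B →ₐ[A] B ⊗[A] B))

variable (A) in
/-- the coface map `b₁ ⊗ b₂ ↦ b₁ ⊗ (b₂ ⊗ 1)`. -/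
noncomputable def D2 (B : Type u) [CommRing B] [Algebra A B] :
    algOf A (B ⊗[A] B) ⟶ algOf A (B ⊗[A] (B ⊗[A] B)) :=
  CommAlgCat.ofHom (Algebra.TensorProduct.map (AlgHom.id A B)
    (Algebra.TensorProduct.includeLeft : B →ₐ[A] B ⊗[A] B))

variable (A) in
/-- the coface map `b ↦ b ⊗ 1`. -/
noncomputable def EL (B : Type u) [CommRing B] [Algebra A B] : algOf A B ⟶ algOf A (B ⊗[A] B) :=
  CommAlgCat.ofHom (Algebra.TensorProduct.includeLeft : B →ₐ[A] B ⊗[A] B)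

variable (A) in
/-- the coface map `b ↦ 1 ⊗ b`. -/
noncomputable def ER (B : Type u) [CommRing B] [Algebra A B] : algOf A B ⟶ algOf A (B ⊗[A] B) :=
  CommAlgCat.ofHom (Algebra.TensorProduct.includeRight : B →ₐ[A] B ⊗[A] B)

lemma D0_rTensor (B : Type u) [CommRing B] [Algebra A B] (M : Type v) [AddCommGroup M]
    [Module A M] (z : (B ⊗[A] B) ⊗[A] M) :
    ((D0 A B).hom.toLinearMap.rTensor M) z = (LinearMap.rTensor M (d0 A B)) z := by
  induction z using TensorProduct.induction_on with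
  | zero => simp
  | add x y hx hy => rw [map_add, map_add, hx, hy]
  | tmul x m => rfl

lemma D1_rTensor (B : Type u) [CommRing B] [Algebra A B] (M : Type v) [AddCommGroup M]
    [Module A M] (z : (B ⊗[A] B) ⊗[A] M) :
    ((D1 A B).hom.toLinearMap.rTensor M) z = (LinearMap.rTensor M (d1 A B)) z := by
  induction z using TensorProduct.induction_on with
  | zero => simp
  | add x y hx hy => rw [map_add, map_add, hx, hy]
  | tmul x m =>
    induction x using TensorProduct.induction_on with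
    | zero => simp
    | add x y hx hy => rw [TensorProduct.add_tmul, map_add, map_add, hx, hy]
    | tmul b₁ b₂ => rfl

lemma D2_rTensor (B : Type u) [CommRing B] [Algebra A B] (M : Type v) [AddCommGroup M]
    [Module A M] (z : (B ⊗[A] B) ⊗[A] M) :
    ((D2 A B).hom.toLinearMap.rTensor M) z = (LinearMap.rTensor M (d2 A B)) z := by
  induction z using TensorProduct.induction_on with
  | zero => simp
  | add x y hx hy => rw [map_add, map_add, hx, hy]
  | tmul x m =>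
    induction x using TensorProduct.induction_on with
    | zero => simp
    | add x y hx hy => rw [TensorProduct.add_tmul, map_add, map_add, hx, hy]
    | tmul b₁ b₂ => rfl

lemma EL_ER_rTensor (B : Type u) [CommRing B] [Algebra A B] (M : Type v) [AddCommGroup M]
    [Module A M] (z : B ⊗[A] M) :
    ((EL A B).hom.toLinearMap.rTensor M) z - ((ER A B).hom.toLinearMap.rTensor M) z =
      amD0 A B M z := by
  induction z using TensorProduct.induction_on with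
  | zero => simp
  | add x y hx hy => rw [map_add, map_add, map_add, ← hx, ← hy]; abel
  | tmul b m => rw [amD0_tmul]; rfl

lemma amD0_eq (B : Type u) [CommRing B] [Algebra A B] (M : Type v) [AddCommGroup M]
    [Module A M] (z : B ⊗[A] M) :
    amD0 A B M z = (LinearMap.rTensor M (Algebra.TensorProduct.includeLeftSubRight A B)) z := by
  induction z using TensorProduct.induction_on with
  | zero => simp
  | add x y hx hy => rw [map_add, map_add, hx, hy]
  | tmul b m =>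
    rw [amD0_tmul, LinearMap.rTensor_tmul, Algebra.TensorProduct.includeLeftSubRight_apply,
      TensorProduct.sub_tmul]

lemma amD0_baseChange (B : Type u) [CommRing B] [Algebra A B] {M N : Type v} [AddCommGroup M]
    [Module A M] [AddCommGroup N] [Module A N] (α : M →ₗ[A] N) (z : B ⊗[A] M) :
    amD0 A B N (α.baseChange B z) = α.baseChange (B ⊗[A] B) (amD0 A B M z) := by
  induction z using TensorProduct.induction_on with
  | zero => simp
  | add x y hx hy => rw [map_add, map_add, map_add, map_add, hx, hy]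
  | tmul b m =>
    rw [LinearMap.baseChange_tmul, amD0_tmul, amD0_tmul, map_sub, LinearMap.baseChange_tmul,
      LinearMap.baseChange_tmul]

/-- the transition maps of a module-valued functor as additive maps. -/
noncomputable def Fm (F : MVF A) {C C' : Alg A} (f : C ⟶ C') : F.obj (pt C) →+ F.obj (pt C') :=
  AddMonoidHom.mk' (fun x => (F.map (ptHom f)).hom x) (fun x y => map_add _ x y)

lemma Fm_apply (F : MVF A) {C C' : Alg A} (f : C ⟶ C') (x : F.obj (pt C)) :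
    Fm F f x = (F.map (ptHom f)).hom x := rfl

lemma appU_Fm {F : MVF A} {M : ModuleCat.{u + 1} A} (ι : F ⟶ (underline A).obj M)
    {C C' : Alg A} (f : C ⟶ C') (x : F.obj (pt C)) :
    appU ι C' (Fm F f x) = (f.hom.toLinearMap.rTensor M) (appU ι C x) :=
  appU_nat ι f x

/-- vanishing of the first Čech cohomology of an adequate functor for a faithfully flat ring
map. -/
theorem adequate_H1_vanish {F : MVF A} (hF : adequate A F) (B : Type u) [CommRing B]
    [Algebra A B] [Module.FaithfullyFlat A B] (c : F.obj (pt (algOf A (B ⊗[A] B))))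
    (hc : Fm F (D0 A B) c - Fm F (D1 A B) c + Fm F (D2 A B) c = 0) :
    ∃ e : F.obj (pt (algOf A B)), c = Fm F (EL A B) e - Fm F (ER A B) e := by
  obtain ⟨M, N, α, ι, hinj, hzero, hex⟩ := exists_exact_of_adequate hF
  -- the class of `c` in `(B ⊗ B) ⊗ M`
  set m₂ : (B ⊗[A] B) ⊗[A] M := appU ι (algOf A (B ⊗[A] B)) c with hm₂
  have h1 : amD1 A B M m₂ = 0 := by
    have h := congrArg (appU ι (algOf A (B ⊗[A] (B ⊗[A] B)))) hc
    rw [map_add, map_sub, map_zero, appU_Fm, appU_Fm, appU_Fm, D0_rTensor, D1_rTensor,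
      D2_rTensor] at h
    rw [amD1, LinearMap.rTensor_add, LinearMap.rTensor_sub]
    exact h
  obtain ⟨w, hw⟩ := (amitsur_exact1 A B M m₂).1 h1
  -- the obstruction in `B ⊗ N`
  have h2 : (LinearMap.rTensor N (Algebra.TensorProduct.includeLeftSubRight A B))
      (α.hom.baseChange B w) = 0 := by
    rw [← amD0_eq, amD0_baseChange, hw]
    exact hzero (algOf A (B ⊗[A] B)) c
  obtain ⟨n₀, hn₀⟩ := (amitsur_exact A B N _).1 h2
  have hn₀' : (1 : B) ⊗ₜ[A] n₀ = α.hom.baseChange B w := hn₀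
  -- `n₀` is in the image of `α`
  have h3 : n₀ ∈ LinearMap.range α.hom := by
    rw [← Submodule.Quotient.mk_eq_zero, ← Submodule.mkQ_apply]
    refine (Module.FaithfullyFlat.one_tmul_eq_zero_iff A _ (A := B) _).1 ?_
    have h4 : (LinearMap.lTensor B (LinearMap.range α.hom).mkQ) ((1 : B) ⊗ₜ[A] n₀) =
        (1 : B) ⊗ₜ[A] (LinearMap.range α.hom).mkQ n₀ := LinearMap.lTensor_tmul _ _ _ _
    rw [← h4, hn₀', LinearMap.baseChange_eq_ltensor, ← LinearMap.comp_apply,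
      ← LinearMap.lTensor_comp, LinearMap.range_mkQ_comp, LinearMap.lTensor_zero,
      LinearMap.zero_apply]
  obtain ⟨m₀, hm₀⟩ := h3
  -- corrected lift
  have h5 : α.hom.baseChange B (w - (1 : B) ⊗ₜ[A] m₀) = 0 := by
    rw [map_sub, LinearMap.baseChange_tmul, hm₀, hn₀', sub_self]
  obtain ⟨e, he⟩ := hex (algOf A B) _ h5
  have he' : appU ι (algOf A B) e = w - (1 : B) ⊗ₜ[A] m₀ := he
  refine ⟨e, ?_⟩
  apply hinj (algOf A (B ⊗[A] B))
  change appU ι (algOf A (B ⊗[A] B)) c = appU ι (algOf A (B ⊗[A] B)) _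
  rw [map_sub, appU_Fm, appU_Fm, EL_ER_rTensor, he', map_sub, hw, amD0_tmul, sub_self, sub_zero]

end H1

end Groth.Agent.Helper23.Adq
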