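import Mathlib
import Groth.Agent.Lib.Helper23.Adq39
set_option autoImplicit false
universe u
open CategoryTheory CategoryTheory.Limits TensorProduct Opposite AlgebraicGeometry

/-! Geometry for extensions of adequate modules: gluing over finite products of rings and
descent along a single arrow. -/

namespace Groth.Agent.Helper23.Adq

open Adeq

section Empty

variable {S : Scheme.{u}}

set_option backward.isDefEq.respectTransparency.types false in
/-- the empty sieve covers an object with empty underlying scheme. -/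
lemma bot_mem_J (Z : Over S) [IsEmpty Z.left] : (⊥ : Sieve Z) ∈ QuotSh.J Scheme.fppfPrecoverage S Z := by
  rw [GrothendieckTopology.mem_over_iff]
  have h : (⊥ : Presieve Z.left) ∈ Scheme.fppfPrecoverage.coverings Z.left := by
    change _ ∈ (Scheme.precoverage (@Flat ⊓ @LocallyOfFinitePresentation)).coverings _
    exact Scheme.bot_mem_precoverage _ _
  refine GrothendieckTopology.superset_covering _ ?_ (Precoverage.generate_mem_toGrothendieck h)
  rw [Sieve.generate_le_iff]
  rintro V k ⟨⟩

end Empty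

section Prod

variable {S : Scheme.{u}} {R : CommRingCat.{u}} (b : Spec R ⟶ S) {n : ℕ} (C : Fin n → Type u)
  [∀ j, CommRing (C j)] [∀ j, Algebra R (C j)]

/-- the inclusion `Spec (C j) → Spec (∏ C)` over `S`. -/
noncomputable abbrev prj (j : Fin n) : VC b (C j) ⟶ VC b (∀ j, C j) :=
  (specOver b).map
    (CommAlgCat.ofHom (Pi.evalAlgHom R C j) : algOf R (∀ j, C j) ⟶ algOf R (C j)).op

lemma prj_aId (j : Fin n) : prj b C j ≫ aId b (∀ j, C j) = aId b (C j) := by
  have h : (CommAlgCat.ofHom (Algebra.ofId R (∀ j, C j)) : algOf R R ⟶ algOf R (∀ j, C j)) ≫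
      (CommAlgCat.ofHom (Pi.evalAlgHom R C j) : algOf R (∀ j, C j) ⟶ algOf R (C j)) =
      (CommAlgCat.ofHom (Algebra.ofId R (C j)) : algOf R R ⟶ algOf R (C j)) := by
    refine CommAlgCat.hom_ext (AlgHom.ext fun r => ?_)
    rfl
  change (specOver b).map _ ≫ (specOver b).map _ = (specOver b).map _
  rw [← Functor.map_comp, ← op_comp, h]

lemma prj_left (j : Fin n) :
    (prj b C j).left = Spec.map (CommRingCat.ofHom (Pi.evalRingHom C j)) := rfl

instance prj_left_isOpenImmersion (j : Fin n) : IsOpenImmersion (prj b C j).left := by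
  rw [prj_left]
  exact inferInstanceAs (IsOpenImmersion (Spec.map (CommRingCat.ofHom
    (Pi.evalRingHom (fun j => ((fun j => CommRingCat.of (C j)) j : Type u)) j))))

instance prj_mono (j : Fin n) : Mono (prj b C j) :=
  (Over.forget S).mono_of_mono_map (inferInstanceAs (Mono (prj b C j).left))

lemma prj_surj (x : (VC b (∀ j, C j)).left) : ∃ j, x ∈ Set.range (prj b C j).left := by
  obtain ⟨⟨j, q⟩, hq⟩ := (PrimeSpectrum.sigmaToPi_bijective C).2 x
  exact ⟨j, q, hq⟩

set_option backward.isDefEq.respectTransparency.types false in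
lemma prj_cover_mem : Sieve.ofArrows (fun j => VC b (C j)) (prj b C) ∈
    QuotSh.J Scheme.fppfPrecoverage S (VC b (∀ j, C j)) := by
  rw [GrothendieckTopology.mem_over_iff, Sieve.overEquiv_ofArrows]
  refine Precoverage.generate_mem_toGrothendieck ?_
  change _ ∈ (Scheme.precoverage (@Flat ⊓ @LocallyOfFinitePresentation)).coverings _
  rw [Scheme.ofArrows_mem_precoverage_iff]
  exact ⟨fun x => prj_surj b C x, fun j => ⟨inferInstance, inferInstance⟩⟩

lemma prj_disjoint {j k : Fin n} (hjk : j ≠ k) (Z : Over S) (a : Z ⟶ VC b (C j))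
    (a' : Z ⟶ VC b (C k)) (h : a ≫ prj b C j = a' ≫ prj b C k) : IsEmpty Z.left := by
  refine ⟨fun z => hjk ?_⟩
  have h1 : a.left ≫ (prj b C j).left = a'.left ≫ (prj b C k).left :=
    congrArg (fun t => t.left) h
  have h2 : (prj b C j).left (a.left z) = (prj b C k).left (a'.left z) := by
    have := congr($(h1) z)
    simpa using this
  have h3 : PrimeSpectrum.sigmaToPi C ⟨j, a.left z⟩ = PrimeSpectrum.sigmaToPi C ⟨k, a'.left z⟩ :=
    h2
  exact congrArg Sigma.fst (PrimeSpectrum.sigmaToPi_injective C h3)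

/-- sections of a sheaf over the spectrum of a finite product of rings. -/
theorem prod_glue (P : (Over S)ᵒᵖ ⥤ AddCommGrpCat.{u + 1})
    (hP : Presheaf.IsSheaf (QuotSh.J Scheme.fppfPrecoverage S) P) :
    (∀ x x' : P.obj (op (VC b (∀ j, C j))),
      (∀ j, (P.map (prj b C j).op).hom x = (P.map (prj b C j).op).hom x') → x = x') ∧
    (∀ y : ∀ j, P.obj (op (VC b (C j))), ∃ x, ∀ j, (P.map (prj b C j).op).hom x = y j) := by
  have key := sheaf_inj_glue' (QuotSh.J Scheme.fppfPrecoverage S) P hP
    (fun j => VC b (C j)) (prj b C) (prj_cover_mem b C)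
    (κ := fun j k => PLift (j = k)) (fun j _ _ => VC b (C j)) (fun j _ _ => 𝟙 _)
    (fun j k h => eqToHom (congrArg (fun j => VC b (C j)) h.down)) ?_
  · refine ⟨key.1, fun y => key.2 y ?_⟩
    rintro j k ⟨rfl⟩
    rfl
  · intro j k Z a a' h
    by_cases hjk : j = k
    · subst hjk
      have haa : a = a' := (cancel_mono (prj b C j)).1 h
      refine ⟨⊤, GrothendieckTopology.top_mem _ _, fun Z' g _ => ⟨⟨rfl⟩, g ≫ a, ?_, ?_⟩⟩
      · exact Category.comp_id _
      · rw [haa]
        exact Category.comp_id _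
    · haveI := prj_disjoint b C hjk Z a a' h
      exact ⟨⊥, bot_mem_J Z, fun Z' g hg => hg.elim⟩

end Prod

section Single

variable {S : Scheme.{u}} {R : CommRingCat.{u}} (b : Spec R ⟶ S) (B : Type u) [CommRing B]
  [Algebra R B]

lemma isPullback_aL_aR :
    IsPullback (aL b B B).left (aR b B B).left (aId b B).left (aId b B).left :=
  isPullback_SpecMap_of_isPushout _ _ _ _ (CommRingCat.isPushout_tensorProduct R B B)

lemma weakPullback_aL_aR (Z : Over S) (a a' : Z ⟶ VC b B) (h : a ≫ aId b B = a' ≫ aId b B) :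
    ∃ c : Z ⟶ VC b (B ⊗[R] B), c ≫ aL b B B = a ∧ c ≫ aR b B B = a' := by
  have hp := isPullback_aL_aR b B
  have h' : a.left ≫ (aId b B).left = a'.left ≫ (aId b B).left := congrArg (fun t => t.left) h
  let l := hp.lift a.left a'.left h'
  have hl1 : l ≫ (aL b B B).left = a.left := hp.lift_fst _ _ _
  have hl2 : l ≫ (aR b B B).left = a'.left := hp.lift_snd _ _ _
  have hw : l ≫ (VC b (B ⊗[R] B)).hom = Z.hom := by
    rw [← Over.w (aL b B B), ← Category.assoc, hl1]
    exact Over.w a
  refine ⟨Over.homMk l hw, ?_, ?_⟩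
  · ext : 1
    exact hl1
  · ext : 1
    exact hl2

/-- descent of sections of a sheaf along a single covering arrow `Spec B → Spec R`. -/
theorem single_glue (P : (Over S)ᵒᵖ ⥤ AddCommGrpCat.{u + 1})
    (hP : Presheaf.IsSheaf (QuotSh.J Scheme.fppfPrecoverage S) P)
    (hcov : Sieve.ofArrows (fun _ : Unit => VC b B) (fun _ => aId b B) ∈
      QuotSh.J Scheme.fppfPrecoverage S (U0 b)) :
    (∀ x x' : P.obj (op (U0 b)),
      (P.map (aId b B).op).hom x = (P.map (aId b B).op).hom x' → x = x') ∧
    (∀ y : P.obj (op (VC b B)),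
      (P.map (aL b B B).op).hom y = (P.map (aR b B B).op).hom y →
      ∃ x, (P.map (aId b B).op).hom x = y) := by
  have key := sheaf_inj_glue (QuotSh.J Scheme.fppfPrecoverage S) P hP
    (fun _ : Unit => VC b B) (fun _ => aId b B) hcov
    (fun _ _ => VC b (B ⊗[R] B)) (fun _ _ => aL b B B) (fun _ _ => aR b B B)
    (fun _ _ Z a a' h => weakPullback_aL_aR b B Z a a' h)
  refine ⟨fun x x' h => key.1 x x' (fun _ => h), fun y hy => ?_⟩
  obtain ⟨x, hx⟩ := key.2 (fun _ => y) (fun _ _ => hy)
  exact ⟨x, hx ()⟩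

end Single

end Groth.Agent.Helper23.Adq

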