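import Mathlib
import Groth.Agent.Lib.Helper23.Adq40
set_option autoImplicit false
universe u
open CategoryTheory CategoryTheory.Limits TensorProduct Opposite AlgebraicGeometry

/-! Extensions of adequate modules are adequate. -/

namespace Groth.Agent.Helper23.Adq

open Adeq

section Maps

variable {S : Scheme.{u}} {K : Precoverage Scheme.{u}} [BigSite.OSh K]

/-- restriction of sections as an additive map. -/
noncomputable def rs (M : BigSite.Mod K S) {U V : Over S} (h : V ⟶ U) :
    M.val.obj (op U) →+ M.val.obj (op V) := (M.val.presheaf.map h.op).hom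

/-- a morphism of modules on sections as an additive map. -/
noncomputable def ap {M N : BigSite.Mod K S} (f : M ⟶ N) (U : Over S) :
    M.val.obj (op U) →+ N.val.obj (op U) :=
  (((PresheafOfModules.toPresheaf _).map f.val).app (op U)).hom

lemma rs_comp (M : BigSite.Mod K S) {U V W : Over S} (h : V ⟶ U) (h' : W ⟶ V)
    (x : M.val.obj (op U)) : rs M h' (rs M h x) = rs M (h' ≫ h) x := by
  have e : M.val.presheaf.map h.op ≫ M.val.presheaf.map h'.op =
      M.val.presheaf.map (h' ≫ h).op := by
    rw [← Functor.map_comp, ← op_comp]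
  exact congr(($e).hom x)

lemma ap_rs {M N : BigSite.Mod K S} (f : M ⟶ N) {U V : Over S} (h : V ⟶ U)
    (x : M.val.obj (op U)) : ap f V (rs M h x) = rs N h (ap f U x) :=
  NatTrans.naturality_apply ((PresheafOfModules.toPresheaf _).map f.val) h.op x

lemma ap_comp {M N L : BigSite.Mod K S} (f : M ⟶ N) (g : N ⟶ L) (U : Over S)
    (x : M.val.obj (op U)) : ap g U (ap f U x) = ap (f ≫ g) U x := rfl

lemma ap_zero {M N : BigSite.Mod K S} (U : Over S) (x : M.val.obj (op U)) :
    ap (0 : M ⟶ N) U x = 0 := rfl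

lemma Fm_toMVF (M : BigSite.Mod K S) {R : CommRingCat.{u}} (b : Spec R ⟶ S) {B B' : Alg R}
    (f : B ⟶ B') (x : ((toMVF K b).obj M).obj (pt B)) :
    Fm ((toMVF K b).obj M) f x = rs M ((specOver b).map f.op) x := rfl

variable {R : CommRingCat.{u}} (b : Spec R ⟶ S)

lemma prod_glue_rs (M : BigSite.Mod Scheme.fppfPrecoverage S) {n : ℕ} (C : Fin n → Type u)
    [∀ j, CommRing (C j)] [∀ j, Algebra R (C j)] :
    (∀ x x' : M.val.obj (op (VC b (∀ j, C j))),
      (∀ j, rs M (prj b C j) x = rs M (prj b C j) x') → x = x') ∧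
    (∀ y : ∀ j, M.val.obj (op (VC b (C j))),
      ∃ x : M.val.obj (op (VC b (∀ j, C j))), ∀ j, rs M (prj b C j) x = y j) :=
  prod_glue b C M.val.presheaf M.isSheaf

lemma single_glue_rs (M : BigSite.Mod Scheme.fppfPrecoverage S) (B : Type u) [CommRing B]
    [Algebra R B]
    (hcov : Sieve.ofArrows (fun _ : Unit => VC b B) (fun _ => aId b B) ∈
      QuotSh.J Scheme.fppfPrecoverage S (U0 b)) :
    (∀ x x' : M.val.obj (op (U0 b)), rs M (aId b B) x = rs M (aId b B) x' → x = x') ∧
    (∀ y : M.val.obj (op (VC b B)), rs M (aL b B B) y = rs M (aR b B B) y →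
      ∃ x : M.val.obj (op (U0 b)), rs M (aId b B) x = y) :=
  single_glue b B M.val.presheaf M.isSheaf hcov

end Maps

section Cocycle

variable {S : Scheme.{u}} {R : CommRingCat.{u}} (b : Spec R ⟶ S) (B : Type u) [CommRing B]
  [Algebra R B]

lemma EL_D0 : EL R B ≫ D0 R B = ER R B ≫ D2 R B :=
  CommAlgCat.hom_ext (AlgHom.ext fun _ => rfl)

lemma ER_D0 : ER R B ≫ D0 R B = ER R B ≫ D1 R B :=
  CommAlgCat.hom_ext (AlgHom.ext fun _ => rfl)

lemma EL_D1 : EL R B ≫ D1 R B = EL R B ≫ D2 R B :=
  CommAlgCat.hom_ext (AlgHom.ext fun _ => rfl)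

lemma specOver_comp {B₁ B₂ B₃ : Alg R} (f : B₁ ⟶ B₂) (g : B₂ ⟶ B₃) :
    (specOver b).map g.op ≫ (specOver b).map f.op = (specOver b).map (f ≫ g).op := by
  rw [← Functor.map_comp, ← op_comp]

lemma aL_eq : aL b B B = (specOver b).map (EL R B).op := rfl

lemma aR_eq : aR b B B = (specOver b).map (ER R B).op := rfl

lemma dd_e1 :
    (specOver b).map (D0 R B).op ≫ aL b B B = (specOver b).map (D2 R B).op ≫ aR b B B := by
  rw [aL_eq, aR_eq, specOver_comp, specOver_comp, EL_D0]

lemma dd_e2 :
    (specOver b).map (D0 R B).op ≫ aR b B B = (specOver b).map (D1 R B).op ≫ aR b B B := by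
  rw [aR_eq, specOver_comp, specOver_comp, ER_D0]

lemma dd_e3 :
    (specOver b).map (D1 R B).op ≫ aL b B B = (specOver b).map (D2 R B).op ≫ aL b B B := by
  rw [aL_eq, specOver_comp, specOver_comp, EL_D1]

end Cocycle

section Main

variable {S : Scheme.{u}}

set_option maxHeartbeats 800000 in
/-- `H¹`-vanishing: a short exact sequence of modules with adequate kernel is exact on sections
over affine objects. -/
theorem surj_base_of_exact {M₁ M₂ M₃ : BigSite.Mod Scheme.fppfPrecoverage S} (f : M₁ ⟶ M₂)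
    (g : M₂ ⟶ M₃) [Epi g] (w : f ≫ g = 0)
    (hinj : ∀ U : Over S, Function.Injective (ap f U))
    (hex : ∀ (U : Over S) (x : M₂.val.obj (op U)), ap g U x = 0 → ∃ ξ, ap f U ξ = x)
    (h₁ : ∀ (R : CommRingCat.{u}) (a : Spec R ⟶ S),
      adequate R ((toMVF Scheme.fppfPrecoverage a).obj M₁))
    {R : CommRingCat.{u}} (b : Spec R ⟶ S) : Function.Surjective (ap g (U0 b)) := by
  intro y
  haveI := locallySurjective_of_epi Scheme.fppfPrecoverage g
  have hT := Presheaf.imageSieve_mem (QuotSh.J Scheme.fppfPrecoverage S)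
    ((PresheafOfModules.toPresheaf _).map g.val) (U := op (U0 b)) y
  obtain ⟨n, C, q, hcov, hmem⟩ := exists_finite_family_of_mem (R := R) (U0 b) rfl _ hT
  let q' : ∀ j, R ⟶ C j := fun j => Spec.preimage (q j)
  have hq' : ∀ j, Spec.map (q' j) = q j := fun j => Spec.map_preimage _
  letI : ∀ j, Algebra R (C j) := fun j => (q' j).hom.toAlgebra
  have hcov' : Presieve.ofArrows (fun j => Spec (CommRingCat.of (C j)))
      (fun j => Spec.map (CommRingCat.ofHom (algebraMap R (C j)))) ∈
        Scheme.fppfPrecoverage.coverings (Spec R) := by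
    have : (fun j => Spec.map (CommRingCat.ofHom (algebraMap R (C j)))) = q :=
      funext fun j => hq' j
    rw [this]
    exact hcov
  have hj : ∀ j, Presheaf.imageSieve ((PresheafOfModules.toPresheaf _).map g.val) y
      (aId b (C j)) := by
    intro j
    refine family_mem b _ (C j) ?_
    have : Spec.map (CommRingCat.ofHom (algebraMap R (C j))) = q j := hq' j
    rw [this]
    exact hmem j
  have hj' : ∀ j, ∃ x : M₂.val.obj (op (VC b (C j))),
      ap g (VC b (C j)) x = rs M₃ (aId b (C j)) y := hj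
  choose xj hxj' using hj'
  -- the product ring
  haveI := faithfullyFlat_pi_of_cover (fun j => C j) hcov'
  obtain ⟨t, ht'⟩ := (prod_glue_rs b M₂ (fun j => C j)).2 xj
  have hgt : ap g (VC b (∀ j, C j)) t = rs M₃ (aId b (∀ j, C j)) y := by
    refine (prod_glue_rs b M₃ (fun j => C j)).1 _ _ (fun j => ?_)
    rw [← ap_rs, ht', hxj', rs_comp, prj_aId]
  -- the cocycle
  set B : Type u := ∀ j, C j with hB
  set c := rs M₂ (aL b B B) t - rs M₂ (aR b B B) t with hc
  have hgc : ap g _ c = 0 := by
    rw [hc, map_sub, ap_rs, ap_rs, hgt, rs_comp, rs_comp, aL_aId, sub_self]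
  obtain ⟨c₁, hc₁⟩ := hex _ c hgc
  have hcoc : rs M₁ ((specOver b).map (D0 R B).op) c₁ - rs M₁ ((specOver b).map (D1 R B).op) c₁ +
      rs M₁ ((specOver b).map (D2 R B).op) c₁ = 0 := by
    apply hinj (VC b (B ⊗[R] (B ⊗[R] B)))
    rw [map_add, map_sub, map_zero, ap_rs, ap_rs, ap_rs, hc₁, hc,
      map_sub, map_sub, map_sub, rs_comp, rs_comp, rs_comp, rs_comp, rs_comp, rs_comp]
    rw [dd_e1, dd_e2, dd_e3]
    abel
  obtain ⟨e, he'⟩ : ∃ e : M₁.val.obj (op (VC b B)),
      c₁ = rs M₁ (aL b B B) e - rs M₁ (aR b B B) e :=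
    adequate_H1_vanish (h₁ R b) B c₁ hcoc
  -- the corrected lift descends
  have h8 : rs M₂ (aL b B B) (t - ap f (VC b B) e) = rs M₂ (aR b B B) (t - ap f (VC b B) e) := by
    rw [map_sub, map_sub, ← ap_rs, ← ap_rs, sub_eq_sub_iff_sub_eq_sub, ← hc, ← map_sub, ← he', hc₁]
  have hcovB : Sieve.ofArrows (fun _ : Unit => VC b B) (fun _ => aId b B) ∈
      QuotSh.J Scheme.fppfPrecoverage S (U0 b) := by
    refine GrothendieckTopology.superset_covering _ ?_ (aId_cover_mem b (fun j => C j) hcov')
    rintro V k ⟨W, h, -, ⟨j⟩, rfl⟩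
    exact ⟨VC b B, h ≫ prj b (fun j => C j) j, aId b B, ⟨()⟩, by
      rw [Category.assoc, prj_aId]⟩
  obtain ⟨x, hx'⟩ := (single_glue_rs b M₂ B hcovB).2 _ h8
  refine ⟨x, ?_⟩
  refine (single_glue_rs b M₃ B hcovB).1 _ _ ?_
  rw [← ap_rs, hx', map_sub, hgt, ap_comp, w, ap_zero, sub_zero]

/-- sectionwise injectivity of a monomorphism of modules. -/
lemma ap_injective_of_mono {M N : BigSite.Mod Scheme.fppfPrecoverage S} (f : M ⟶ N) [Mono f]
    (U : Over S) : Function.Injective (ap f U) := by
  haveI : Mono ((SheafOfModules.forget _).map f) := inferInstance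
  exact PresheafOfModules.injective_of_mono ((SheafOfModules.forget _).map f) (op U)

/-- sectionwise exactness in the middle of a short exact sequence of modules. -/
lemma ap_exact_of_shortExact (C : ShortComplex (BigSite.Mod Scheme.fppfPrecoverage S))
    (hC : C.ShortExact) (U : Over S) (x : C.X₂.val.obj (op U)) (hx : ap C.g U x = 0) :
    ∃ ξ, ap C.f U ξ = x := by
  haveI : (SheafOfModules.evaluation (BigSite.ORing Scheme.fppfPrecoverage S)
      (op U)).PreservesZeroMorphisms := ⟨fun _ _ => rfl⟩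
  haveI := hC.mono_f
  have h2 := hC.exact.map_of_mono_of_preservesKernel (SheafOfModules.evaluation _ (op U))
    hC.mono_f inferInstance
  rw [ShortComplex.moduleCat_exact_iff] at h2
  exact h2 x hx

/-- `F_{M₂,R}` is adequate for the middle term of a short exact sequence with adequate ends. -/
theorem adequate_toMVF_of_shortExact (C : ShortComplex (BigSite.Mod Scheme.fppfPrecoverage S))
    (hC : C.ShortExact)
    (h₁ : ∀ (R : CommRingCat.{u}) (a : Spec R ⟶ S),
      adequate R ((toMVF Scheme.fppfPrecoverage a).obj C.X₁))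
    (h₃ : ∀ (R : CommRingCat.{u}) (a : Spec R ⟶ S),
      adequate R ((toMVF Scheme.fppfPrecoverage a).obj C.X₃))
    {R : CommRingCat.{u}} (b : Spec R ⟶ S) :
    adequate R ((toMVF Scheme.fppfPrecoverage b).obj C.X₂) := by
  haveI := hC.mono_f
  haveI := hC.epi_g
  let f' := (toMVF Scheme.fppfPrecoverage b).map C.f
  let g' := (toMVF Scheme.fppfPrecoverage b).map C.g
  have w' : f' ≫ g' = 0 := by
    rw [← Functor.map_comp, C.zero, Functor.map_zero]
  have hinj' : ∀ B : Alg R, Function.Injective (f'.app (pt B)).hom := fun B =>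
    ap_injective_of_mono C.f ((specOver b).obj (op B))
  have hex' : ∀ (B : Alg R) (x : ((toMVF Scheme.fppfPrecoverage b).obj C.X₂).obj (pt B)),
      (g'.app (pt B)).hom x = 0 → ∃ ξ, (f'.app (pt B)).hom ξ = x := fun B x hx =>
    ap_exact_of_shortExact C hC ((specOver b).obj (op B)) x hx
  have hsurj' : ∀ B : Alg R, Function.Surjective (g'.app (pt B)).hom := by
    intro B
    have h0 := surj_base_of_exact C.f C.g C.zero (fun U => ap_injective_of_mono C.f U)
      (fun U x hx => ap_exact_of_shortExact C hC U x hx) h₁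
      (Spec.map (CommRingCat.ofHom (algebraMap R B)) ≫ b)
    exact surj_of_iso ((PresheafOfModules.toPresheaf _).map C.g.val) (baseIso b B) h0
  haveI : Mono f' := PresheafOfModules.mono_of_injective (fun X => hinj' X.unop.unop)
  haveI : Epi g' := PresheafOfModules.epi_of_surjective (fun X => hsurj' X.unop.unop)
  let S' : ShortComplex (MVF R) := ShortComplex.mk f' g' w'
  have hS' : S'.ShortExact := by
    refine ShortComplex.ShortExact.mk' ?_ (inferInstanceAs (Mono f')) (inferInstanceAs (Epi g'))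
    rw [ShortComplex.exact_iff_epi_kernel_lift]
    haveI : IsIso (kernel.lift S'.g S'.f S'.zero) := by
      have hk : kernel.lift g' f' w' ≫ kernel.ι g' = f' := kernel.lift_ι _ _ _
      have hk' : ∀ (B : Alg R) (ξ : ((toMVF Scheme.fppfPrecoverage b).obj C.X₁).obj (pt B)),
          ((kernel.ι g').app (pt B)).hom (((kernel.lift g' f' w').app (pt B)).hom ξ) =
            (f'.app (pt B)).hom ξ := by
        intro B ξ
        exact congr((($hk).app (pt B)).hom ξ)
      refine isIso_of_bijective_app (kernel.lift g' f' w') (fun B => ⟨fun x y hxy => ?_, fun y => ?_⟩)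
      · apply hinj' B
        rw [← hk' B x, ← hk' B y, hxy]
      · have hy : (g'.app (pt B)).hom (((kernel.ι g').app (pt B)).hom y) = 0 := by
          have := kernel.condition g'
          exact congr((($this).app (pt B)).hom y)
        obtain ⟨ξ, hξ⟩ := hex' B _ hy
        refine ⟨ξ, kernel_ι_app_injective g' B ?_⟩
        rw [hk' B ξ, hξ]
    infer_instance
  exact adequate_ext S' hS' (h₁ R b) (h₃ R b)

/-- S8763: extensions of adequate modules on the big fppf site are adequate. -/
theorem adequateMod_of_shortExact (S : Scheme.{u})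
    (C : ShortComplex (BigSite.Mod Scheme.fppfPrecoverage S)) (hC : C.ShortExact)
    (h₁ : adequateMod Scheme.fppfPrecoverage S C.X₁)
    (h₃ : adequateMod Scheme.fppfPrecoverage S C.X₃) :
    adequateMod Scheme.fppfPrecoverage S C.X₂ :=
  adequateMod_of_forall _ (fun _ a => adequate_toMVF_of_shortExact C hC
    (fun R a => adequate_toMVF_of_adequateMod S C.X₁ h₁ R a)
    (fun R a => adequate_toMVF_of_adequateMod S C.X₃ h₃ R a) a)

end Main

end Groth.Agent.Helper23.Adq
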