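import Groth.Prelude.Def_W4c2arithlefschetzGraph
import Mathlib.LinearAlgebra.Matrix.NonsingularInverse
import Mathlib.LinearAlgebra.Matrix.ToLinearEquiv
import Mathlib.LinearAlgebra.Matrix.DotProduct
import Mathlib.Tactic

/-!
# Helper library for `ArLef.BlowupGraph` (S15327)

`mat = -(Pᵀ P)` with `P = 1 - Q` the proximity matrix, `tt = P⁻¹ᵀ`, hence `mult = -mat⁻¹`;
Schur complement computation for Mumford's pairing.
-/

set_option autoImplicit false

open ArLef ArLef.BlowupGraph

namespace Groth.Agent.Helper23.ArLefLib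

variable {n : ℕ} (G : ArLef.BlowupGraph n)

/-- proximity incidence matrix: `Q m p = 1` iff `p ∈ par m`. -/
def Q : Matrix (Fin n) (Fin n) ℚ := fun m p => if p ∈ G.par m then 1 else 0

/-- the proximity matrix -/
def P : Matrix (Fin n) (Fin n) ℚ := 1 - Q G

/-- total transforms -/
def T : Matrix (Fin n) (Fin n) ℚ := fun m k => (G.tt k m : ℚ)

theorem ttN_of_lt {k m : ℕ} (h : m < k) : G.ttN k m = 0 := by
  rw [ArLef.BlowupGraph.ttN]; simp [h]

theorem ttN_self (k : ℕ) : G.ttN k k = 1 := by
  rw [ArLef.BlowupGraph.ttN]; simp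

theorem ttN_of_gt {k m : ℕ} (h : k < m) (hm : m < n) :
    G.ttN k m = ∑ p ∈ G.par ⟨m, hm⟩, G.ttN k p.1 := by
  rw [ArLef.BlowupGraph.ttN]
  have h1 : ¬ m < k := by omega
  have h2 : ¬ m = k := by omega
  simp only [h1, h2, if_false]
  rw [Finset.sum_attach (G.parN m) (fun p => G.ttN k p)]
  unfold ArLef.BlowupGraph.parN
  rw [dif_pos hm, Finset.sum_map]
  rfl

theorem tt_recursion (k m : Fin n) :
    G.tt k m - ∑ p ∈ G.par m, G.tt k p = if m = k then 1 else 0 := by
  unfold ArLef.BlowupGraph.tt
  rcases lt_trichotomy m.1 k.1 with h | h | h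
  · have hne : m ≠ k := fun e => by rw [e] at h; exact lt_irrefl _ h
    rw [if_neg hne, ttN_of_lt G h, Finset.sum_eq_zero, sub_zero]
    intro p hp
    have := G.par_lt m p hp
    exact ttN_of_lt G (lt_trans (Fin.lt_def.mp this) h)
  · have he : m = k := Fin.ext h
    subst he
    rw [if_pos rfl, ttN_self, Finset.sum_eq_zero, sub_zero]
    intro p hp
    exact ttN_of_lt G (Fin.lt_def.mp (G.par_lt m p hp))
  · have hne : m ≠ k := fun e => by rw [e] at h; exact lt_irrefl _ h
    rw [if_neg hne, ttN_of_gt G h m.2, sub_self]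

theorem P_mul_T : P G * T G = 1 := by
  ext m k
  have := tt_recursion G k m
  simp only [P, Matrix.sub_apply, Matrix.mul_apply, Q, T, Matrix.one_apply]
  have h2 : (∑ p, (if p ∈ G.par m then (1:ℚ) else 0) * (G.tt k p : ℚ)) =
      ((∑ p ∈ G.par m, G.tt k p : ℤ) : ℚ) := by
    push_cast
    simp only [ite_mul, one_mul, zero_mul]
    rw [← Finset.sum_filter]
    congr 1
    ext p; simp
  simp only [sub_mul, Finset.sum_sub_distrib]
  rw [h2]
  simp only [ite_mul, one_mul, zero_mul, Finset.sum_ite_eq, Finset.mem_univ, if_true]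
  rw [← Int.cast_sub, this]
  split_ifs <;> simp

theorem T_mul_P : T G * P G = 1 := by
  rw [mul_eq_one_comm]; exact P_mul_T G

theorem not_mem_par_self (p : Fin n) : p ∉ G.par p := fun h => lt_irrefl _ (G.par_lt p p h)

theorem par_eq_pair {m p q : Fin n} (hp : p ∈ G.par m) (hq : q ∈ G.par m) (hpq : p ≠ q) :
    G.par m = {p, q} := by
  symm
  apply Finset.eq_of_subset_of_card_le
  · intro x hx
    simp only [Finset.mem_insert, Finset.mem_singleton] at hx
    rcases hx with rfl | rfl <;> assumption
  · rw [Finset.card_pair hpq]; exact G.card_le_two m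

/-- the set of `m` with both `p` and `q` in `par m` -/
def both (p q : Fin n) : Finset (Fin n) :=
  Finset.univ.filter fun m => p ∈ G.par m ∧ q ∈ G.par m

theorem both_comm (p q : Fin n) : both G p q = both G q p := by
  unfold both; congr 1; ext m; exact and_comm

theorem both_card_le_one {p q : Fin n} (hpq : p < q) : (both G p q).card ≤ 1 := by
  rw [Finset.card_le_one]
  intro m1 h1 m2 h2
  simp only [both, Finset.mem_filter, Finset.mem_univ, true_and] at h1 h2
  by_contra hne
  wlog hlt : m1 < m2 generalizing m1 m2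
  · exact this m2 m1 h2 h1 (Ne.symm hne) (lt_of_le_of_ne (not_lt.mp hlt) (Ne.symm hne))
  have := (G.meet_of_two m2 p q h2.1 h2.2 hpq).2 m1 (G.par_lt m1 q h1.2) hlt
  exact this (par_eq_pair G h1.1 h1.2 (ne_of_lt hpq))

theorem adj_comm (p q : Fin n) : G.Adj p q ↔ G.Adj q p := by
  unfold ArLef.BlowupGraph.Adj; exact Or.comm

theorem adj_ite_of_lt {p q : Fin n} (hpq : p < q) :
    (if G.Adj p q then (1:ℚ) else 0) =
      (if p ∈ G.par q then 1 else 0) - ((both G p q).card : ℚ) := by
  have hq : q ∉ G.par p := fun h => lt_asymm hpq (G.par_lt p q h)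
  have hle := both_card_le_one G hpq
  rcases Nat.eq_zero_or_pos (both G p q).card with h0 | hpos
  · rw [h0]
    have hno : ∀ m, G.par m ≠ {p, q} := by
      intro m hm
      have hmem : m ∈ both G p q := by simp [both, hm]
      rw [Finset.card_eq_zero] at h0
      rw [h0] at hmem; simp at hmem
    have : G.Adj p q ↔ p ∈ G.par q := by
      unfold ArLef.BlowupGraph.Adj
      constructor
      · rintro (⟨h, _⟩ | ⟨h, _⟩)
        · exact h
        · exact absurd h hq
      · intro h; exact Or.inl ⟨h, fun m _ => hno m⟩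
    simp [this]
  · have h1 : (both G p q).card = 1 := le_antisymm hle hpos
    obtain ⟨m, hm⟩ := Finset.card_pos.mp hpos
    simp only [both, Finset.mem_filter, Finset.mem_univ, true_and] at hm
    have hpar := par_eq_pair G hm.1 hm.2 (ne_of_lt hpq)
    have hpq' : p ∈ G.par q := (G.meet_of_two m p q hm.1 hm.2 hpq).1
    have : ¬ G.Adj p q := by
      unfold ArLef.BlowupGraph.Adj
      rintro (⟨_, h⟩ | ⟨h, _⟩)
      · exact h m (G.par_lt m q hm.2) hpar
      · exact hq h
    rw [h1]; simp [this, hpq']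

theorem ite_key (A B C D : Prop) [Decidable A] [Decidable B] [Decidable C] [Decidable D] :
    ((if A then (1:ℚ) else 0) - (if C then 1 else 0)) *
        ((if B then 1 else 0) - (if D then 1 else 0)) =
      (if A then (if B then (1:ℚ) else 0) else 0)
        - (if A then (if D then (1:ℚ) else 0) else 0)
        - (if B then (if C then (1:ℚ) else 0) else 0)
        + (if C ∧ D then 1 else 0) := by
  by_cases h1 : A <;> by_cases h2 : B <;> by_cases h3 : C <;> by_cases h4 : D <;>
    simp [h1, h2, h3, h4]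

theorem PtP_apply (p q : Fin n) :
    ((P G).transpose * P G) p q =
      (if p = q then 1 else 0) - (if q ∈ G.par p then 1 else 0) - (if p ∈ G.par q then 1 else 0)
        + ((both G p q).card : ℚ) := by
  simp only [Matrix.mul_apply, Matrix.transpose_apply, P, Q, Matrix.sub_apply, Matrix.one_apply]
  have key : ∀ m : Fin n,
      ((if m = p then (1:ℚ) else 0) - (if p ∈ G.par m then 1 else 0)) *
        ((if m = q then 1 else 0) - (if q ∈ G.par m then 1 else 0)) =
      (if m = p then (if m = q then (1:ℚ) else 0) else 0)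
        - (if m = p then (if q ∈ G.par m then (1:ℚ) else 0) else 0)
        - (if m = q then (if p ∈ G.par m then (1:ℚ) else 0) else 0)
        + (if p ∈ G.par m ∧ q ∈ G.par m then 1 else 0) := fun m => ite_key _ _ _ _
  simp only [key, Finset.sum_add_distrib, Finset.sum_sub_distrib, Finset.sum_ite_eq',
    Finset.mem_univ, if_true, Finset.sum_boole]
  rfl

theorem mat_eq : G.mat = -((P G).transpose * P G) := by
  ext p q
  rw [Matrix.neg_apply, PtP_apply]
  unfold ArLef.BlowupGraph.mat
  by_cases hpq : p = q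
  · subst hpq
    have hb : both G p p = Finset.univ.filter fun m => p ∈ G.par m := by
      unfold both; congr 1; ext m; simp
    simp only [if_true, if_neg (not_mem_par_self G p), hb, ArLef.BlowupGraph.selfInt]
    push_cast
    ring
  · rw [if_neg hpq, if_neg hpq]
    rcases lt_or_gt_of_ne hpq with h | h
    · have hq : q ∉ G.par p := fun h' => lt_asymm h (G.par_lt p q h')
      rw [adj_ite_of_lt G h, if_neg hq]; ring
    · have hq : p ∉ G.par q := fun h' => lt_asymm h (G.par_lt q p h')
      have := adj_ite_of_lt G h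
      rw [if_neg hq, both_comm G p q]
      simp only [adj_comm G p q]
      rw [this]
      ring

/-- `mult` as a rational matrix. -/
def N : Matrix (Fin n) (Fin n) ℚ := fun i j => (G.mult i j : ℚ)

theorem N_eq : N G = T G * (T G).transpose := by
  ext i j
  simp only [N, ArLef.BlowupGraph.mult, Matrix.mul_apply, Matrix.transpose_apply, T]
  push_cast; rfl

theorem N_symm (i j : Fin n) : N G i j = N G j i := by
  simp only [N, ArLef.BlowupGraph.mult]
  congr 1
  exact Finset.sum_congr rfl fun k _ => mul_comm _ _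

theorem mat_mul_N : G.mat * N G = -1 := by
  rw [mat_eq, N_eq, Matrix.neg_mul, Matrix.mul_assoc, ← Matrix.mul_assoc (P G), P_mul_T,
    Matrix.one_mul, ← Matrix.transpose_mul, T_mul_P, Matrix.transpose_one]

theorem mat_mul_N_apply (a i : Fin n) : ∑ j, G.mat a j * N G j i = if a = i then -1 else 0 := by
  have := congrFun (congrFun (mat_mul_N G) a) i
  rw [Matrix.mul_apply] at this
  rw [this, Matrix.neg_apply, Matrix.one_apply]
  split_ifs <;> simp

/-- quadratic form of `mat` is `-|P x|²`. -/
theorem dot_mat (x : Fin n → ℚ) :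
    x ⬝ᵥ (G.mat.mulVec x) = - ((P G).mulVec x ⬝ᵥ (P G).mulVec x) := by
  rw [mat_eq, Matrix.neg_mulVec, dotProduct_neg, ← Matrix.mulVec_mulVec,
    Matrix.dotProduct_mulVec, Matrix.vecMul_transpose]

theorem eq_zero_of_dot_mat_eq_zero (x : Fin n → ℚ) (h : x ⬝ᵥ (G.mat.mulVec x) = 0) : x = 0 := by
  rw [dot_mat, neg_eq_zero, dotProduct_self_eq_zero] at h
  have := congrArg (fun v => (T G).mulVec v) h
  simpa [Matrix.mulVec_mulVec, T_mul_P] using this

section Schur

variable (I : Finset (Fin n))

/-- principal submatrix on `I` -/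
abbrev A : Matrix I I ℚ := G.mat.submatrix (fun x : I => x.1) (fun x : I => x.1)

theorem sum_extend (f : Fin n → ℚ) (hf : ∀ i, i ∉ I → f i = 0) :
    ∑ i, f i = ∑ i : I, f i.1 := by
  rw [Finset.sum_coe_sort I f]
  exact (Finset.sum_subset (Finset.subset_univ I) (fun i _ hi => hf i hi)).symm

theorem det_A_ne_zero : (A G I).det ≠ 0 := by
  intro hdet
  obtain ⟨v, hv0, hv⟩ := Matrix.exists_mulVec_eq_zero_iff.mpr hdet
  let x : Fin n → ℚ := fun i => if h : i ∈ I then v ⟨i, h⟩ else 0
  have hxI : ∀ i : I, x i.1 = v i := fun i => by simp [x, i.2]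
  have hxn : ∀ i, i ∉ I → x i = 0 := fun i hi => by simp [x, hi]
  have hx : x ⬝ᵥ G.mat.mulVec x = v ⬝ᵥ (A G I).mulVec v := by
    unfold dotProduct Matrix.mulVec dotProduct
    rw [sum_extend I (fun i => x i * ∑ j, G.mat i j * x j) (fun i hi => by simp [hxn i hi])]
    apply Finset.sum_congr rfl
    intro i _
    rw [hxI i]
    congr 1
    rw [sum_extend I (fun j => G.mat i.1 j * x j) (fun j hj => by simp [hxn j hj])]
    apply Finset.sum_congr rfl
    intro j _
    rw [hxI j]
    rfl
  have hzero : x = 0 := eq_zero_of_dot_mat_eq_zero G x (by rw [hx, hv]; simp)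
  apply hv0
  ext i
  have := congrFun hzero i.1
  rw [hxI i] at this
  simpa using this

theorem Ainv_mul_A : (A G I)⁻¹ * A G I = 1 :=
  Matrix.nonsing_inv_mul _ (isUnit_iff_ne_zero.mpr (det_A_ne_zero G I))

theorem pairing_eq_zero (a : Fin n) {j : Fin n} (hj : j ∈ I) : G.pairing I a j = 0 := by
  unfold ArLef.BlowupGraph.pairing
  have h1 : ∀ a' : I, ∑ b : I, G.mat a a'.1 * (A G I)⁻¹ a' b * G.mat b.1 j =
      G.mat a a'.1 * (if a' = ⟨j, hj⟩ then 1 else 0) := by
    intro a'
    have := congrFun (congrFun (Ainv_mul_A G I) a') ⟨j, hj⟩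
    rw [Matrix.mul_apply, Matrix.one_apply] at this
    rw [← this, Finset.mul_sum]
    exact Finset.sum_congr rfl fun b _ => by rw [mul_assoc]; rfl
  simp only [h1]
  simp

theorem sum_pairing_mul_N (a : Fin n) {i : Fin n} (hi : i ∉ I) :
    ∑ j, G.pairing I a j * N G j i = if a = i then -1 else 0 := by
  unfold ArLef.BlowupGraph.pairing
  simp only [sub_mul, Finset.sum_sub_distrib, mat_mul_N_apply]
  have : ∑ j, (∑ a' : I, ∑ b : I, G.mat a a'.1 * (A G I)⁻¹ a' b * G.mat b.1 j) * N G j i = 0 := by
    simp only [Finset.sum_mul]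
    rw [Finset.sum_comm]
    apply Finset.sum_eq_zero; intro a' _
    rw [Finset.sum_comm]
    apply Finset.sum_eq_zero; intro b _
    have hb : (b.1 : Fin n) ≠ i := fun e => hi (e ▸ b.2)
    have h2 := mat_mul_N_apply G b.1 i
    rw [if_neg hb] at h2
    simp only [mul_assoc]
    rw [← Finset.mul_sum, ← Finset.mul_sum, h2, mul_zero, mul_zero]
  rw [this, sub_zero]

theorem lNum_eq_rNum (σ : Equiv.Perm (Fin n)) :
    G.lNum I σ = ArLef.BlowupGraph.rNum I σ := by
  unfold ArLef.BlowupGraph.lNum ArLef.BlowupGraph.rNum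
  have h1 : ∀ i ∈ Finset.univ.filter (fun i => i ∉ I),
      ∑ j ∈ Finset.univ.filter (fun j => j ∉ I), (G.mult i j : ℚ) * G.pairing I (σ i) j =
        if σ i = i then -1 else 0 := by
    intro i hi
    have hi' : i ∉ I := (Finset.mem_filter.mp hi).2
    rw [← sum_pairing_mul_N G I (σ i) hi', Finset.sum_filter]
    apply Finset.sum_congr rfl
    intro j _
    by_cases hj : j ∈ I
    · simp [hj, pairing_eq_zero G I _ hj]
    · simp only [hj, not_false_iff, if_true]
      rw [mul_comm]; congr 1; exact N_symm G i j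
  rw [Finset.sum_congr rfl h1, Finset.sum_ite, Finset.sum_const_zero, add_zero, Finset.sum_const,
    Finset.filter_filter]
  simp

end Schur

end Groth.Agent.Helper23.ArLefLib
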