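import Groth.Agent.Lib.Helper4.GrpAff

set_option autoImplicit false
set_option linter.style.haveILetI false
universe u
open CategoryTheory CategoryTheory.Limits AlgebraicGeometry MonoidalCategory CartesianMonoidalCategory
  MonObj GrpObj

namespace Groth.Agent.Helper23.GrpNeutral

open Groth.Agent.Helper4.GrpAff Groth.Agent.Helper4.GrpConn Groth.Agent.Helper4.Homog
  Groth.Agent.Helper16.GrpIrr
open scoped CategoryTheory.Obj

section Field

variable {k : Type u} [Field k] (G : Over (Spec (CommRingCat.of k))) [GrpObj G]

theorem cc_unit_eq : connectedComponent (ept G) = irreducibleComponent (ept G) := by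
  apply subset_antisymm
  · exact subset_of_unique_irreducibleComponent (ept G) (irreducibleComponent_unit_unique G) _
      (irreducibleComponent_mem_irreducibleComponents _) mem_irreducibleComponent _
      (connectedComponent_unit_irreducible_compact G).1 mem_connectedComponent
  · exact isIrreducible_irreducibleComponent.isConnected.isPreconnected.subset_connectedComponent
      mem_irreducibleComponent

theorem div_mem_field {T : Over (Spec (CommRingCat.of k))} (g h : T ⟶ G) (t : T.left)
    (hg : g.left t ∈ connectedComponent (ept G)) (hh : h.left t ∈ connectedComponent (ept G)) :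
    (g * h⁻¹).left t ∈ connectedComponent (ept G) := by
  rw [cc_unit_eq] at hg hh ⊢
  have h1 : g * h⁻¹ = lift g (h ≫ ι[G]) ≫ μ[G] := rfl
  rw [h1, Over.comp_left, Scheme.Hom.comp_apply]
  apply mul_mem_unit
  · rw [← Scheme.Hom.comp_apply, ← Over.comp_left, lift_fst]
    exact hg
  · rw [← Scheme.Hom.comp_apply, ← Over.comp_left, lift_snd, Over.comp_left, Scheme.Hom.comp_apply]
    exact inv_mem_unit G hh

/-- conjugation `(n, g) ↦ g n g⁻¹` -/
noncomputable def conj' : G ⊗ G ⟶ G := snd G G * fst G G * (snd G G)⁻¹

theorem lift_conj' {T : Over (Spec (CommRingCat.of k))} (n g : T ⟶ G) :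
    lift n g ≫ conj' G = g * n * g⁻¹ := by
  unfold conj'
  rw [MonObj.comp_mul, MonObj.comp_mul, GrpObj.comp_inv, lift_snd, lift_fst]

theorem conj'_mem (w : (G ⊗ G).left)
    (h1 : (fst G G).left w ∈ irreducibleComponent (ept G)) :
    (conj' G).left w ∈ irreducibleComponent (ept G) := by
  set C := irreducibleComponent ((snd G G).left w) with hC
  have hCmem : C ∈ irreducibleComponents G.left := irreducibleComponent_mem_irreducibleComponents _
  have hirr : IsIrreducible ((fst G G).left ⁻¹' irreducibleComponent (ept G) ∩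
      (snd G G).left ⁻¹' C) :=
    isIrreducible_unit_prod (G := G) (X := G) C hCmem.1 isClosed_irreducibleComponent
  have himg := hirr.image _ (conj' G).left.continuous.continuousOn
  refine subset_of_unique_irreducibleComponent (ept G) (irreducibleComponent_unit_unique G) _
    (irreducibleComponent_mem_irreducibleComponents _) mem_irreducibleComponent _ himg ?_
    ⟨w, ⟨h1, mem_irreducibleComponent⟩, rfl⟩
  -- the unit lies in the image
  refine ⟨(lift (toUnit G ≫ η[G]) (𝟙 G)).left ((snd G G).left w), ⟨?_, ?_⟩, ?_⟩
  · rw [Set.mem_preimage, ← Scheme.Hom.comp_apply, ← Over.comp_left, lift_fst, Over.comp_left,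
      Scheme.Hom.comp_apply]
    have : η[G].left ((toUnit G).left ((snd G G).left w)) = ept G :=
      congrArg _ (Subsingleton.elim (α := PrimeSpectrum k) _ _)
    rw [this]
    exact mem_irreducibleComponent
  · rw [Set.mem_preimage, ← Scheme.Hom.comp_apply, ← Over.comp_left, lift_snd]
    exact mem_irreducibleComponent
  · rw [← Scheme.Hom.comp_apply, ← Over.comp_left, lift_conj']
    have h2 : (𝟙 G : G ⟶ G) * (toUnit G ≫ η[G]) * (𝟙 G)⁻¹ = toUnit G ≫ η[G] := by
      have : (toUnit G ≫ η[G] : G ⟶ G) = 1 := rfl
      rw [this, _root_.mul_one, _root_.mul_inv_cancel]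
    rw [h2, Over.comp_left, Scheme.Hom.comp_apply]
    exact congrArg _ (Subsingleton.elim (α := PrimeSpectrum k) _ _)

theorem conj_mem_field {T : Over (Spec (CommRingCat.of k))} (g n : T ⟶ G) (t : T.left)
    (hn : n.left t ∈ connectedComponent (ept G)) :
    (g * n * g⁻¹).left t ∈ connectedComponent (ept G) := by
  rw [cc_unit_eq] at hn ⊢
  rw [← lift_conj', Over.comp_left, Scheme.Hom.comp_apply]
  apply conj'_mem
  rw [← Scheme.Hom.comp_apply, ← Over.comp_left, lift_fst]
  exact hn

end Field

section Artin

variable (A : Type u) [CommRing A] [IsArtinianRing A] [IsLocalRing A]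

/-- the closed point of the spectrum of a local artinian ring -/
noncomputable abbrev iA :
    Spec (CommRingCat.of (IsLocalRing.ResidueField A)) ⟶ Spec (CommRingCat.of A) :=
  Spec.map (CommRingCat.ofHom (IsLocalRing.residue A))

theorem subsingleton_spec : Subsingleton (PrimeSpectrum A) := by
  refine ⟨fun x y => PrimeSpectrum.ext ?_⟩
  rw [IsLocalRing.eq_maximalIdeal (Ideal.IsPrime.isMaximal' x.2),
    IsLocalRing.eq_maximalIdeal (Ideal.IsPrime.isMaximal' y.2)]

instance : IsClosedImmersion (iA A) :=
  IsClosedImmersion.spec_of_surjective _ IsLocalRing.residue_surjective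

instance : Surjective (iA A) :=
  haveI := subsingleton_spec A
  ⟨fun _ => ⟨IsLocalRing.closedPoint _, Subsingleton.elim (α := PrimeSpectrum A) _ _⟩⟩

variable {A}

/-- the projection from the special fibre is a homeomorphism -/
noncomputable def fstHomeo (T : Over (Spec (CommRingCat.of A))) :
    ↥(pullback T.hom (iA A)) ≃ₜ ↥T.left :=
  (pullback.fst T.hom (iA A)).isClosedEmbedding.isEmbedding.toHomeomorphOfSurjective
    (pullback.fst T.hom (iA A)).surjective

theorem fstHomeo_apply (T : Over (Spec (CommRingCat.of A))) (x : ↥(pullback T.hom (iA A))) :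
    fstHomeo T x = pullback.fst T.hom (iA A) x := rfl

theorem map_left_fst {T G : Over (Spec (CommRingCat.of A))} (g : T ⟶ G)
    (t0 : ↥(pullback T.hom (iA A))) :
    pullback.fst G.hom (iA A) (((Over.pullback (iA A)).map g).left t0) =
      g.left (pullback.fst T.hom (iA A) t0) := by
  have h : ((Over.pullback (iA A)).map g).left ≫ pullback.fst G.hom (iA A) =
      pullback.fst T.hom (iA A) ≫ g.left := pullback.lift_fst _ _ _
  have := congrArg (fun f => f.base t0) h
  simpa only [Scheme.Hom.comp_apply] using this

variable (G : Over (Spec (CommRingCat.of A))) [GrpObj G]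

theorem q_unit (pt : ↥(𝟙_ (Over (Spec (CommRingCat.of A)))).left) :
    pullback.fst G.hom (iA A) (ept ((Over.pullback (iA A)).obj G)) = η[G].left pt := by
  unfold ept
  rw [← Scheme.Hom.comp_apply, unit_baseChange_fst, Scheme.Hom.comp_apply]
  haveI := subsingleton_spec A
  exact congrArg _ (Subsingleton.elim (α := PrimeSpectrum A) _ _)

theorem q_image_cc (pt : ↥(𝟙_ (Over (Spec (CommRingCat.of A)))).left) :
    (pullback.fst G.hom (iA A)).base '' connectedComponent (ept ((Over.pullback (iA A)).obj G)) =
      connectedComponent (η[G].left pt) := by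
  have h1 := homeomorph_image_cc (fstHomeo G) (ept ((Over.pullback (iA A)).obj G))
  rw [fstHomeo_apply, q_unit G pt] at h1
  exact h1

theorem mem_cc_of_mem (pt : ↥(𝟙_ (Over (Spec (CommRingCat.of A)))).left)
    {T : Over (Spec (CommRingCat.of A))} (g : T ⟶ G) (t0 : ↥(pullback T.hom (iA A)))
    (hg : g.left (pullback.fst T.hom (iA A) t0) ∈ connectedComponent (η[G].left pt)) :
    ((Over.pullback (iA A)).map g).left t0 ∈
      connectedComponent (ept ((Over.pullback (iA A)).obj G)) := by
  rw [← q_image_cc G pt] at hg
  obtain ⟨y, hy, hyq⟩ := hg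
  rw [← map_left_fst] at hyq
  have := (fstHomeo G).injective hyq
  rw [← this]
  exact hy

theorem main [LocallyOfFiniteType G.hom] (pt : ↥(𝟙_ (Over (Spec (CommRingCat.of A)))).left) :
    IsOpen (connectedComponent (η[G].left.base pt)) ∧
    (∀ (T : Over (Spec (CommRingCat.of A))) (g h : T ⟶ G),
      Set.range g.left.base ⊆ connectedComponent (η[G].left.base pt) →
      Set.range h.left.base ⊆ connectedComponent (η[G].left.base pt) →
      Set.range (g * h⁻¹).left.base ⊆ connectedComponent (η[G].left.base pt)) ∧
    ∀ (T : Over (Spec (CommRingCat.of A))) (g n : T ⟶ G),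
      Set.range n.left.base ⊆ connectedComponent (η[G].left.base pt) →
      Set.range (g * n * g⁻¹).left.base ⊆ connectedComponent (η[G].left.base pt) := by
  refine ⟨?_, ?_, ?_⟩
  · haveI : IsLocallyNoetherian G.left := LocallyOfFiniteType.isLocallyNoetherian G.hom
    have hln : Groth.Agent.Helper23.LocConn.LocNoeth G.left := by
      intro x
      obtain ⟨_, ⟨W, hW, rfl⟩, hxW, -⟩ :=
        G.left.isBasis_affineOpens.exists_subset_of_mem_open (Set.mem_univ x) isOpen_univ
      refine ⟨W, W.isOpen, hxW, ?_⟩
      haveI : IsNoetherian (W : Scheme.{u}) :=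
        { toIsLocallyNoetherian := inferInstance
          toCompactSpace := isCompact_iff_compactSpace.mp hW.isCompact }
      exact inferInstanceAs (TopologicalSpace.NoetherianSpace (W : Scheme.{u}))
    exact Groth.Agent.Helper23.LocConn.isOpen_connectedComponent hln _
  · rintro T g h hg hh _ ⟨t, rfl⟩
    obtain ⟨t0, rfl⟩ := (pullback.fst T.hom (iA A)).surjective t
    have hg0 := mem_cc_of_mem G pt g t0 (hg ⟨_, rfl⟩)
    have hh0 := mem_cc_of_mem G pt h t0 (hh ⟨_, rfl⟩)
    have h1 := div_mem_field ((Over.pullback (iA A)).obj G) ((Over.pullback (iA A)).map g)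
      ((Over.pullback (iA A)).map h) t0 hg0 hh0
    rw [← Functor.map_inv', ← Functor.map_mul] at h1
    show (g * h⁻¹).left (pullback.fst T.hom (iA A) t0) ∈ connectedComponent (η[G].left pt)
    rw [← map_left_fst, ← q_image_cc G pt]
    exact ⟨_, h1, rfl⟩
  · rintro T g n hn _ ⟨t, rfl⟩
    obtain ⟨t0, rfl⟩ := (pullback.fst T.hom (iA A)).surjective t
    have hn0 := mem_cc_of_mem G pt n t0 (hn ⟨_, rfl⟩)
    have h1 := conj_mem_field ((Over.pullback (iA A)).obj G) ((Over.pullback (iA A)).map g)
      ((Over.pullback (iA A)).map n) t0 hn0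
    rw [← Functor.map_inv', ← Functor.map_mul, ← Functor.map_mul] at h1
    show (g * n * g⁻¹).left (pullback.fst T.hom (iA A) t0) ∈ connectedComponent (η[G].left pt)
    rw [← map_left_fst, ← q_image_cc G pt]
    exact ⟨_, h1, rfl⟩

end Artin

end Groth.Agent.Helper23.GrpNeutral
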