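import Mathlib
import Groth.Agent.Lib.Helper23.GrpNeutral
import Groth.Agent.Lib.Helper22.ArtFlat

set_option autoImplicit false
universe u
open CategoryTheory CategoryTheory.Limits AlgebraicGeometry TensorProduct IsLocalRing

namespace Groth.Agent.Helper23.ArtFibre

section Ring

/-- ring-hom Nakayama for a nilpotent ideal -/
theorem surjective_of_nilpotent {R S : Type*} [CommRing R] [CommRing S] (f : R →+* S)
    (I : Ideal R) (hI : IsNilpotent I) (h : ∀ s : S, ∃ r : R, s - f r ∈ I.map f) :
    Function.Surjective f := by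
  letI := f.toAlgebra
  have : LinearMap.range (Algebra.linearMap R S) = ⊤ := by
    apply Groth.Agent.Helper1.eq_top_of_sup_smul_eq_top_of_isNilpotent I hI
    rw [eq_top_iff]
    intro s _
    obtain ⟨r, hr⟩ := h s
    have : s = f r + (s - f r) := by ring
    rw [this]
    refine Submodule.add_mem_sup ⟨r, rfl⟩ ?_
    rw [Ideal.smul_top_eq_map]
    exact hr
  intro s
  have hs : s ∈ LinearMap.range (Algebra.linearMap R S) := this ▸ Submodule.mem_top
  obtain ⟨r, hr⟩ := hs
  exact ⟨r, hr⟩

theorem map_le_of_isNilpotent {A B : Type*} [CommRing A] [CommRing B] (m : Ideal A)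
    (hm : IsNilpotent m) (f : A →+* B) (P : Ideal B) [hP : P.IsPrime] : m.map f ≤ P := by
  rw [Ideal.map_le_iff_le_comap]
  intro a ha
  obtain ⟨n, hn⟩ := hm
  have h1 : a ^ n ∈ m ^ n := Ideal.pow_mem_pow ha n
  rw [hn] at h1
  have h0 : a ^ n = 0 := by simpa using h1
  rw [Ideal.mem_comap]
  apply hP.mem_of_pow_mem n
  rw [← map_pow, h0, map_zero]
  exact zero_mem _

/-- finite type descends from the special fibre -/
theorem finiteType_of_residue {A B B' : Type u} [CommRing A] [CommRing B] [CommRing B']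
    (m : Ideal A) (hm : IsNilpotent m) (φ : A →+* B) (β : B →+* B') (κ : A ⧸ m →+* B')
    (hβ : Function.Surjective β) (hker : RingHom.ker β ≤ m.map φ)
    (hκ : κ.comp (Ideal.Quotient.mk m) = β.comp φ) (h : κ.FiniteType) : φ.FiniteType := by
  have h1 : (β.comp φ).FiniteType := by
    rw [← hκ]
    exact h.comp (RingHom.FiniteType.of_surjective _ Ideal.Quotient.mk_surjective)
  letI i1 := φ.toAlgebra
  letI i2 := (β.comp φ).toAlgebra
  let βa : B →ₐ[A] B' := { β with commutes' := fun a => rfl }
  have h1' : Algebra.FiniteType A B' := h1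
  obtain ⟨s, hs⟩ := h1'.out
  classical
  let s' : Finset B := s.image (Function.surjInv hβ)
  have hs' : (βa '' (s' : Set B)) = (s : Set B') := by
    ext t
    simp only [s', Finset.coe_image, Set.mem_image, Finset.mem_coe]
    constructor
    · rintro ⟨_, ⟨t', ht', rfl⟩, rfl⟩
      have : βa (Function.surjInv hβ t') = t' := Function.surjInv_eq hβ t'
      rw [this]; exact ht'
    · intro ht
      exact ⟨_, ⟨t, ht, rfl⟩, Function.surjInv_eq hβ t⟩
  have hmap : (Algebra.adjoin A (s' : Set B)).map βa = ⊤ := by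
    rw [AlgHom.map_adjoin, hs', hs]
  have htop : Subalgebra.toSubmodule (Algebra.adjoin A (s' : Set B)) = ⊤ := by
    apply Groth.Agent.Helper1.eq_top_of_sup_smul_eq_top_of_isNilpotent m hm
    rw [eq_top_iff]
    intro b _
    have hb : βa b ∈ (Algebra.adjoin A (s' : Set B)).map βa := hmap ▸ Algebra.mem_top
    obtain ⟨b', hb', hbb⟩ := hb
    have : b = b' + (b - b') := by ring
    rw [this]
    refine Submodule.add_mem_sup hb' ?_
    rw [Ideal.smul_top_eq_map]
    apply hker
    rw [RingHom.mem_ker, map_sub]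
    exact sub_eq_zero.mpr hbb.symm
  refine ⟨⟨s', ?_⟩⟩
  exact Subalgebra.toSubmodule_injective (htop.trans Algebra.top_toSubmodule.symm)

/-- surjectivity on stalks descends from the special fibre -/
theorem surjectiveOnStalks_of_residue {A C B C' B' : Type u} [CommRing A] [CommRing C] [CommRing B]
    [CommRing C'] [CommRing B']
    (m : Ideal A) (hm : IsNilpotent m) (φ : A →+* C) (ψ : C →+* B) (γ : C →+* C') (β : B →+* B')
    (ψ' : C' →+* B')
    (hγ : Function.Surjective γ) (hβ : Function.Surjective β)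
    (hker : RingHom.ker β ≤ m.map (ψ.comp φ))
    (hsq : ψ'.comp γ = β.comp ψ) (h : ψ'.SurjectiveOnStalks) : ψ.SurjectiveOnStalks := by
  intro P hP
  have hJP : m.map (ψ.comp φ) ≤ P := map_le_of_isNilpotent m hm _ P
  have H : ∀ s : B, ∃ x r : C, ∃ c ∉ P, ψ r ∉ P ∧
      c * ψ r * s - c * ψ x ∈ m.map (ψ.comp φ) := by
    have hkP : RingHom.ker β ≤ P := hker.trans hJP
    have hP' : (P.map β).IsPrime := Ideal.map_isPrime_of_surjective hβ hkP
    have hcm : (P.map β).comap β = P := by
      rw [Ideal.comap_map_of_surjective' β hβ]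
      exact sup_eq_left.mpr hkP
    intro s
    obtain ⟨x', r', c', hc', hr', e⟩ :=
      (RingHom.surjectiveOnStalks_iff_forall_ideal.mp h) _ hP'.ne_top (β s)
    obtain ⟨x, rfl⟩ := hγ x'
    obtain ⟨r, rfl⟩ := hγ r'
    obtain ⟨c, rfl⟩ := hβ c'
    have e1 : ∀ y, ψ' (γ y) = β (ψ y) := fun y => RingHom.congr_fun hsq y
    refine ⟨x, r, c, ?_, ?_, ?_⟩
    · intro hc; exact hc' (Ideal.mem_map_of_mem β hc)
    · intro hr; apply hr'; rw [e1]; exact Ideal.mem_map_of_mem β hr
    · apply hker
      rw [RingHom.mem_ker, map_sub, map_mul, map_mul, map_mul, ← e1, ← e1, e, sub_self]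
  let q := P.comap ψ
  let Cq := Localization.AtPrime q
  let L := Localization.AtPrime P
  let uu : Cq →+* L := Localization.localRingHom q P ψ rfl
  set IL : Ideal L := (m.map (ψ.comp φ)).map (algebraMap B L) with hIL
  set Iq : Ideal Cq := (m.map φ).map (algebraMap C Cq) with hIq
  have hIqn : IsNilpotent Iq := by
    obtain ⟨n, hn⟩ := hm
    refine ⟨n, ?_⟩
    rw [hIq, ← Ideal.map_pow, ← Ideal.map_pow, hn]
    simp
  have hcomp : uu.comp (algebraMap C Cq) = (algebraMap B L).comp ψ := by
    ext c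
    exact Localization.localRingHom_to_map q P ψ rfl c
  have hmapI : Iq.map uu = IL := by
    rw [hIq, hIL, Ideal.map_map, Ideal.map_map, hcomp, ← Ideal.map_map, ← Ideal.map_map,
      Ideal.map_map φ ψ]
  have hILn : ∀ e ∈ IL, IsNilpotent e := by
    intro e he
    obtain ⟨n, hn⟩ := hIqn
    refine ⟨n, ?_⟩
    have h1 : e ^ n ∈ IL ^ n := Ideal.pow_mem_pow he n
    rw [← hmapI, ← Ideal.map_pow, hn] at h1
    simpa [Ideal.zero_eq_bot] using h1
  have step1 : ∀ s : B, ∃ w : Cq, algebraMap B L s - uu w ∈ IL := by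
    intro s
    obtain ⟨x, r, c, hc, hr, hmem⟩ := H s
    have hrq : r ∈ q.primeCompl := hr
    refine ⟨IsLocalization.mk' Cq x ⟨r, hrq⟩, ?_⟩
    have hu : IsUnit (algebraMap B L (c * ψ r)) :=
      IsLocalization.map_units L (⟨c * ψ r, P.primeCompl.mul_mem hc hr⟩ : P.primeCompl)
    have key : (algebraMap B L s - uu (IsLocalization.mk' Cq x ⟨r, hrq⟩)) *
        algebraMap B L (c * ψ r) = algebraMap B L (c * ψ r * s - c * ψ x) := by
      rw [Localization.localRingHom_mk']
      have h2 := IsLocalization.mk'_spec L (ψ x) (⟨ψ r, hr⟩ : P.primeCompl)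
      simp only [map_mul, map_sub] at h2 ⊢
      linear_combination (-(algebraMap B L c)) * h2
    have h3 : algebraMap B L (c * ψ r * s - c * ψ x) ∈ IL := Ideal.mem_map_of_mem _ hmem
    rw [← key] at h3
    exact (Ideal.mul_unit_mem_iff_mem IL hu).mp h3
  refine surjective_of_nilpotent uu Iq hIqn ?_
  rw [hmapI]
  intro z
  obtain ⟨b, t, rfl⟩ := IsLocalization.exists_mk'_eq P.primeCompl z
  obtain ⟨wb, hwb⟩ := step1 b
  obtain ⟨wt, hwt⟩ := step1 t
  have hut : IsUnit (uu wt) := by
    have h1 : IsUnit (algebraMap B L t) := IsLocalization.map_units L t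
    have h2 : uu wt = algebraMap B L t + -(algebraMap B L t - uu wt) := by ring
    rw [h2]
    exact (hILn _ hwt).neg.isUnit_add_left_of_commute h1 (Commute.all _ _)
  have hwtu : IsUnit wt := isUnit_of_map_unit uu wt hut
  refine ⟨wb * ↑(hwtu.unit⁻¹), ?_⟩
  rw [← Ideal.mul_unit_mem_iff_mem IL hut]
  have h4 : uu (↑(hwtu.unit⁻¹) : Cq) * uu wt = 1 := by
    rw [← map_mul, IsUnit.val_inv_mul, map_one]
  have h5 := IsLocalization.mk'_spec L b t
  have h6 : (IsLocalization.mk' L b t - uu (wb * ↑(hwtu.unit⁻¹))) * uu wt =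
      (algebraMap B L b - uu wb) - IsLocalization.mk' L b t * (algebraMap B L t - uu wt) := by
    rw [map_mul]
    linear_combination (-(uu wb)) * h4 + h5
  rw [h6]
  exact IL.sub_mem hwb (IL.mul_mem_left _ hwt)

end Ring

section Fib

open Groth.Agent.Helper23.GrpNeutral

variable {A : Type u} [CommRing A] [IsLocalRing A]

/-- the coordinate ring of the special fibre of `Spec B → Spec A` -/
noncomputable def fibRing {B : CommRingCat.{u}} (a : CommRingCat.of A ⟶ B) : CommRingCat.{u} :=
  letI := a.hom.toAlgebra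
  CommRingCat.of (B ⊗[A] ResidueField A)

noncomputable def fibInl {B : CommRingCat.{u}} (a : CommRingCat.of A ⟶ B) : B ⟶ fibRing a :=
  letI := a.hom.toAlgebra
  CommRingCat.ofHom (Algebra.TensorProduct.includeLeftRingHom : B →+* B ⊗[A] ResidueField A)

noncomputable def fibInr {B : CommRingCat.{u}} (a : CommRingCat.of A ⟶ B) :
    CommRingCat.of (ResidueField A) ⟶ fibRing a :=
  letI := a.hom.toAlgebra
  CommRingCat.ofHom (R := ResidueField A) (S := B ⊗[A] ResidueField A)
    (RingHomClass.toRingHom Algebra.TensorProduct.includeRight)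

theorem fibInl_surjective {B : CommRingCat.{u}} (a : CommRingCat.of A ⟶ B) :
    Function.Surjective (fibInl a).hom := by
  letI := a.hom.toAlgebra
  intro z
  obtain ⟨x, hx⟩ := Groth.Agent.Helper22.ArtFlat.exists_one_tmul_eq'
    (TensorProduct.comm A B (ResidueField A) z)
  refine ⟨x, ?_⟩
  apply (TensorProduct.comm A B (ResidueField A)).injective
  rw [← hx]
  rfl

theorem ker_fibInl_le {B : CommRingCat.{u}} (a : CommRingCat.of A ⟶ B) :
    RingHom.ker (fibInl a).hom ≤ (maximalIdeal A).map a.hom := by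
  letI := a.hom.toAlgebra
  intro b hb
  rw [RingHom.mem_ker] at hb
  have h1 : (1 : ResidueField A) ⊗ₜ[A] b = 0 := by
    have := congrArg (TensorProduct.comm A B (ResidueField A)) hb
    exact this.trans (map_zero _)
  rw [Groth.Agent.Helper22.ArtFlat.one_tmul_eq_zero_iff', Ideal.smul_top_eq_map] at h1
  exact h1

theorem fib_comm {B : CommRingCat.{u}} (a : CommRingCat.of A ⟶ B) :
    a ≫ fibInl a = CommRingCat.ofHom (residue A) ≫ fibInr a := by
  letI := a.hom.toAlgebra
  ext x
  show (a.hom x) ⊗ₜ[A] (1 : ResidueField A) = (1 : B) ⊗ₜ[A] (residue A x)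
  have h1 : a.hom x = x • (1 : B) := by rw [Algebra.smul_def, mul_one]; rfl
  have h2 : residue A x = x • (1 : ResidueField A) := by
    rw [Algebra.smul_def, mul_one]; rfl
  rw [h1, h2, TensorProduct.smul_tmul]

noncomputable def fibIso {B : CommRingCat.{u}} (a : CommRingCat.of A ⟶ B) :
    pullback (Spec.map a) (iA A) ≅ Spec (fibRing a) :=
  letI := a.hom.toAlgebra
  pullbackSpecIso A B (ResidueField A)

theorem fibIso_inv_fst {B : CommRingCat.{u}} (a : CommRingCat.of A ⟶ B) :
    (fibIso a).inv ≫ pullback.fst (Spec.map a) (iA A) = Spec.map (fibInl a) :=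
  letI := a.hom.toAlgebra
  pullbackSpecIso_inv_fst A B (ResidueField A)

theorem fibIso_inv_snd {B : CommRingCat.{u}} (a : CommRingCat.of A ⟶ B) :
    (fibIso a).inv ≫ pullback.snd (Spec.map a) (iA A) = Spec.map (fibInr a) :=
  letI := a.hom.toAlgebra
  pullbackSpecIso_inv_snd A B (ResidueField A)

theorem fibIso_hom_fst {B : CommRingCat.{u}} (a : CommRingCat.of A ⟶ B) :
    (fibIso a).hom ≫ Spec.map (fibInl a) = pullback.fst (Spec.map a) (iA A) := by
  rw [← fibIso_inv_fst, Iso.hom_inv_id_assoc]

theorem fibIso_hom_snd {B : CommRingCat.{u}} (a : CommRingCat.of A ⟶ B) :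
    (fibIso a).hom ≫ Spec.map (fibInr a) = pullback.snd (Spec.map a) (iA A) := by
  rw [← fibIso_inv_snd, Iso.hom_inv_id_assoc]

/-- the induced map on fibre rings -/
noncomputable def fibMap {B C : CommRingCat.{u}} (aB : CommRingCat.of A ⟶ B)
    (aC : CommRingCat.of A ⟶ C) (ψ : C ⟶ B) (hBC : aC ≫ ψ = aB) : fibRing aC ⟶ fibRing aB :=
  letI := aB.hom.toAlgebra
  letI := aC.hom.toAlgebra
  let ψa : C →ₐ[A] B := { ψ.hom with commutes' := fun x => congr($(hBC).hom x) }
  CommRingCat.ofHom (R := C ⊗[A] ResidueField A) (S := B ⊗[A] ResidueField A)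
    (RingHomClass.toRingHom (Algebra.TensorProduct.map ψa (AlgHom.id A (ResidueField A))))

theorem fibInl_fibMap {B C : CommRingCat.{u}} (aB : CommRingCat.of A ⟶ B)
    (aC : CommRingCat.of A ⟶ C) (ψ : C ⟶ B) (hBC : aC ≫ ψ = aB) :
    fibInl aC ≫ fibMap aB aC ψ hBC = ψ ≫ fibInl aB := by
  letI := aB.hom.toAlgebra
  letI := aC.hom.toAlgebra
  ext x
  exact Algebra.TensorProduct.map_tmul _ _ x (1 : ResidueField A)

theorem fibInr_fibMap {B C : CommRingCat.{u}} (aB : CommRingCat.of A ⟶ B)
    (aC : CommRingCat.of A ⟶ C) (ψ : C ⟶ B) (hBC : aC ≫ ψ = aB) :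
    fibInr aC ≫ fibMap aB aC ψ hBC = fibInr aB := by
  letI := aB.hom.toAlgebra
  letI := aC.hom.toAlgebra
  ext x
  refine (Algebra.TensorProduct.map_tmul _ _ (1 : C) x).trans ?_
  rw [map_one]
  rfl

end Fib

section Sch

open Groth.Agent.Helper23.GrpNeutral

variable {A : Type u} [CommRing A] [IsArtinianRing A] [IsLocalRing A]

theorem lft_affine {B : CommRingCat.{u}} (a : CommRingCat.of A ⟶ B)
    (h : LocallyOfFiniteType (pullback.snd (Spec.map a) (iA A))) :
    LocallyOfFiniteType (Spec.map a) := by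
  have h1 : LocallyOfFiniteType (Spec.map (fibInr a)) := by
    rw [← fibIso_inv_snd]
    infer_instance
  rw [HasRingHomProperty.Spec_iff (P := @LocallyOfFiniteType)] at h1 ⊢
  exact finiteType_of_residue (maximalIdeal A)
    (Groth.Agent.Helper22.ArtFlat.isNilpotent_maximalIdeal A) a.hom (fibInl a).hom (fibInr a).hom
    (fibInl_surjective a) (ker_fibInl_le a) (congrArg CommRingCat.Hom.hom (fib_comm a)).symm h1

omit [IsArtinianRing A] in
theorem lft_snd_of_isOpenImmersion (X : Over (Spec (CommRingCat.of A))) {U : Scheme.{u}}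
    (f : U ⟶ X.left) [IsOpenImmersion f]
    (h : LocallyOfFiniteType (pullback.snd X.hom (iA A))) :
    LocallyOfFiniteType (pullback.snd (f ≫ X.hom) (iA A)) := by
  have h2 : pullback.snd (f ≫ X.hom) (iA A) =
      (pullbackRightPullbackFstIso X.hom (iA A) f).inv ≫
        pullback.snd f (pullback.fst X.hom (iA A)) ≫ pullback.snd X.hom (iA A) := by
    rw [Iso.eq_inv_comp]
    exact pullbackRightPullbackFstIso_hom_snd X.hom (iA A) f
  rw [h2]
  infer_instance

theorem lft_of_fibre (X : Over (Spec (CommRingCat.of A)))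
    (h : LocallyOfFiniteType (pullback.snd X.hom (iA A))) : LocallyOfFiniteType X.hom := by
  rw [IsZariskiLocalAtSource.iff_of_openCover (P := @LocallyOfFiniteType)
    X.left.affineOpenCover.openCover]
  intro j
  obtain ⟨a, ha⟩ : ∃ a : CommRingCat.of A ⟶ X.left.affineOpenCover.X j,
      Spec.map a = X.left.affineOpenCover.openCover.f j ≫ X.hom :=
    ⟨Spec.preimage _, Spec.map_preimage _⟩
  have h3 : LocallyOfFiniteType (pullback.snd (Spec.map a) (iA A)) := by
    rw [ha]
    exact @lft_snd_of_isOpenImmersion A _ _ X _ (X.left.affineOpenCover.openCover.f j)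
      (X.left.affineOpenCover.openCover.map_prop j) h
  have h4 := lft_affine a h3
  rw [ha] at h4
  exact h4

theorem quasiCompact_of_fibre (X : Over (Spec (CommRingCat.of A)))
    (h : QuasiCompact (pullback.snd X.hom (iA A))) : QuasiCompact X.hom := by
  rw [quasiCompact_iff_compactSpace] at h ⊢
  exact (fstHomeo X).compactSpace

theorem sos_affine {B C : CommRingCat.{u}} (aB : CommRingCat.of A ⟶ B)
    (aC : CommRingCat.of A ⟶ C) (ψ : C ⟶ B) (hBC : aC ≫ ψ = aB)
    (g : pullback (Spec.map aB) (iA A) ⟶ pullback (Spec.map aC) (iA A))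
    (hg1 : g ≫ pullback.fst _ _ = pullback.fst _ _ ≫ Spec.map ψ)
    (hg2 : g ≫ pullback.snd _ _ = pullback.snd _ _)
    (hg : SurjectiveOnStalks g) : ψ.hom.SurjectiveOnStalks := by
  have hgeq : g = (fibIso aB).hom ≫ Spec.map (fibMap aB aC ψ hBC) ≫ (fibIso aC).inv := by
    apply pullback.hom_ext
    · rw [hg1, Category.assoc, Category.assoc, fibIso_inv_fst, ← Spec.map_comp, fibInl_fibMap,
        Spec.map_comp, ← Category.assoc, fibIso_hom_fst]
    · rw [hg2, Category.assoc, Category.assoc, fibIso_inv_snd, ← Spec.map_comp, fibInr_fibMap,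
        fibIso_hom_snd]
  have h2 : SurjectiveOnStalks (Spec.map (fibMap aB aC ψ hBC)) := by
    have : Spec.map (fibMap aB aC ψ hBC) = (fibIso aB).inv ≫ g ≫ (fibIso aC).hom := by
      rw [hgeq]; simp
    rw [this]; infer_instance
  rw [SurjectiveOnStalks.Spec_iff] at h2
  refine surjectiveOnStalks_of_residue (maximalIdeal A)
    (Groth.Agent.Helper22.ArtFlat.isNilpotent_maximalIdeal A) aC.hom ψ.hom (fibInl aC).hom
    (fibInl aB).hom (fibMap aB aC ψ hBC).hom (fibInl_surjective aC) (fibInl_surjective aB)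
    ?_ ?_ h2
  · have : ψ.hom.comp aC.hom = aB.hom := congrArg CommRingCat.Hom.hom hBC
    rw [this]; exact ker_fibInl_le aB
  · exact congrArg CommRingCat.Hom.hom (fibInl_fibMap aB aC ψ hBC)

theorem sos_of_fibre {X Y : Over (Spec (CommRingCat.of A))} (u : X ⟶ Y)
    (h : SurjectiveOnStalks ((Over.pullback (iA A)).map u).left) :
    SurjectiveOnStalks u.left := by
  rw [HasRingHomProperty.iff_appLE (P := @SurjectiveOnStalks)]
  intro V U e
  obtain ⟨aC, haC⟩ : ∃ aC : CommRingCat.of A ⟶ Γ(Y.left, V.1),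
      Spec.map aC = V.2.fromSpec ≫ Y.hom := ⟨Spec.preimage _, Spec.map_preimage _⟩
  obtain ⟨aB, haB⟩ : ∃ aB : CommRingCat.of A ⟶ Γ(X.left, U.1),
      Spec.map aB = U.2.fromSpec ≫ X.hom := ⟨Spec.preimage _, Spec.map_preimage _⟩
  have hBC : aC ≫ u.left.appLE V.1 U.1 e = aB := by
    apply Spec.map_injective
    rw [Spec.map_comp, haC, haB, ← Category.assoc, IsAffineOpen.SpecMap_appLE_fromSpec,
      Category.assoc, Over.w u]
  let U' : Over (Spec (CommRingCat.of A)) := Over.mk (Spec.map aB)
  let V' : Over (Spec (CommRingCat.of A)) := Over.mk (Spec.map aC)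
  let jU : U' ⟶ X := Over.homMk U.2.fromSpec haB.symm
  let jV : V' ⟶ Y := Over.homMk V.2.fromSpec haC.symm
  let w : U' ⟶ V' := Over.homMk (Spec.map (u.left.appLE V.1 U.1 e))
    (by simp only [U', V', Over.mk_hom]; rw [← Spec.map_comp, hBC])
  have sq : w ≫ jV = jU ≫ u := by
    ext
    exact IsAffineOpen.SpecMap_appLE_fromSpec u.left V.2 U.2 e
  have hF : (Over.pullback (iA A)).map w ≫ (Over.pullback (iA A)).map jV =
      (Over.pullback (iA A)).map jU ≫ (Over.pullback (iA A)).map u := by
    rw [← Functor.map_comp, ← Functor.map_comp, sq]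
  have h1 : SurjectiveOnStalks ((Over.pullback (iA A)).map jU).left := by
    have e1 : ((Over.pullback (iA A)).map jU).left ≫ pullback.fst X.hom (iA A) =
        pullback.fst U'.hom (iA A) ≫ jU.left := pullback.lift_fst _ _ _
    haveI : IsOpenImmersion jU.left := by
      show IsOpenImmersion U.2.fromSpec
      infer_instance
    haveI : SurjectiveOnStalks
        (((Over.pullback (iA A)).map jU).left ≫ pullback.fst X.hom (iA A)) := by
      rw [e1]; infer_instance
    exact SurjectiveOnStalks.of_comp _ (pullback.fst X.hom (iA A))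
  have h2 : SurjectiveOnStalks (((Over.pullback (iA A)).map w).left ≫
      ((Over.pullback (iA A)).map jV).left) := by
    have : ((Over.pullback (iA A)).map w).left ≫ ((Over.pullback (iA A)).map jV).left =
        ((Over.pullback (iA A)).map jU).left ≫ ((Over.pullback (iA A)).map u).left :=
      congrArg CommaMorphism.left hF
    rw [this]; infer_instance
  have h3 : SurjectiveOnStalks ((Over.pullback (iA A)).map w).left :=
    SurjectiveOnStalks.of_comp _ ((Over.pullback (iA A)).map jV).left
  exact sos_affine aB aC _ hBC ((Over.pullback (iA A)).map w).left (pullback.lift_fst _ _ _)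
    (pullback.lift_snd _ _ _) h3

theorem left_base_eq {X Y : Over (Spec (CommRingCat.of A))} (u : X ⟶ Y) :
    (u.left.base : X.left → Y.left) =
      (fstHomeo Y) ∘ ((Over.pullback (iA A)).map u).left.base ∘ (fstHomeo X).symm := by
  funext x
  obtain ⟨x0, rfl⟩ := (fstHomeo X).surjective x
  rw [Function.comp_apply, Function.comp_apply, Homeomorph.symm_apply_apply, fstHomeo_apply,
    fstHomeo_apply]
  exact (map_left_fst u x0).symm

theorem isEmbedding_of_fibre {X Y : Over (Spec (CommRingCat.of A))} (u : X ⟶ Y)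
    (hk : Topology.IsEmbedding ((Over.pullback (iA A)).map u).left.base) :
    Topology.IsEmbedding u.left.base := by
  rw [left_base_eq u]
  exact (fstHomeo Y).isEmbedding.comp (hk.comp (fstHomeo X).symm.isEmbedding)

theorem range_left_eq {X Y : Over (Spec (CommRingCat.of A))} (u : X ⟶ Y) :
    Set.range u.left.base = (fstHomeo Y) '' Set.range ((Over.pullback (iA A)).map u).left.base := by
  rw [left_base_eq u, Set.range_comp, Set.range_comp, (fstHomeo X).symm.surjective.range_eq,
    Set.image_univ]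

theorem main (X Y : Over (Spec (CommRingCat.of A))) (u : X ⟶ Y) :
    (LocallyOfFiniteType (pullback.snd X.hom (iA A)) → LocallyOfFiniteType X.hom) ∧
    (LocallyOfFiniteType (pullback.snd X.hom (iA A)) →
      QuasiCompact (pullback.snd X.hom (iA A)) → QuasiCompact X.hom) ∧
    (IsImmersion ((Over.pullback (iA A)).map u).left → IsImmersion u.left) ∧
    (IsClosedImmersion ((Over.pullback (iA A)).map u).left → IsClosedImmersion u.left) := by
  refine ⟨lft_of_fibre X, fun _ h => quasiCompact_of_fibre X h, ?_, ?_⟩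
  · intro hk
    haveI : IsPreimmersion u.left :=
      { toSurjectiveOnStalks := sos_of_fibre u inferInstance
        isEmbedding := isEmbedding_of_fibre u
          ((Over.pullback (iA A)).map u).left.isEmbedding }
    refine ⟨?_⟩
    rw [range_left_eq u]
    exact (((Over.pullback (iA A)).map u).left.isLocallyClosed_range).image
      (fstHomeo Y).isInducing (by
        rw [(fstHomeo Y).surjective.range_eq]; exact isOpen_univ.isLocallyClosed)
  · intro hk
    haveI : IsPreimmersion u.left :=
      { toSurjectiveOnStalks := sos_of_fibre u inferInstance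
        isEmbedding := isEmbedding_of_fibre u
          ((Over.pullback (iA A)).map u).left.isEmbedding }
    apply IsClosedImmersion.of_isPreimmersion
    rw [range_left_eq u]
    exact (fstHomeo Y).isClosedMap _
      ((Over.pullback (iA A)).map u).left.isClosedEmbedding.isClosed_range

end Sch

end Groth.Agent.Helper23.ArtFibre
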