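import Mathlib

/-!
# The Beauville–Laszlo fibre square of rings and sections of quasi-affine schemes (helper23)
-/

set_option autoImplicit false

universe u

open CategoryTheory AlgebraicGeometry

namespace Groth.Agent.Helper23.BLSq

section ring

variable {A A' : Type u} [CommRing A] [CommRing A'] (φ : A →+* A') (t : A)

/-- the hypothesis: `A/t^m → A'/t^m` bijective for all `m` -/
def QBij : Prop :=
  ∀ m : ℕ, Function.Bijective
    (Ideal.quotientMap (Ideal.map φ (Ideal.span {t} ^ m)) φ Ideal.le_comap_map)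

/-- the hypothesis: bijection on `t`-power torsion -/
def TorBij : Prop :=
  ∀ a' : A', (∃ m : ℕ, φ t ^ m * a' = 0) → ∃! a : A, (∃ m : ℕ, t ^ m * a = 0) ∧ φ a = a'

variable {φ t}

theorem map_span_pow (m : ℕ) :
    Ideal.map φ (Ideal.span {t} ^ m) = Ideal.span {φ t ^ m} := by
  rw [Ideal.span_singleton_pow, Ideal.map_span, Set.image_singleton, map_pow]

theorem q_surj (hq : QBij φ t) (m : ℕ) (a' : A') :
    ∃ (a : A) (c' : A'), a' = φ a + φ t ^ m * c' := by
  obtain ⟨x, hx⟩ := (hq m).2 (Ideal.Quotient.mk _ a')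
  obtain ⟨a, rfl⟩ := Ideal.Quotient.mk_surjective x
  rw [Ideal.quotientMap_mk, Ideal.Quotient.eq, map_span_pow, Ideal.mem_span_singleton'] at hx
  obtain ⟨c, hc⟩ := hx
  exact ⟨a, -c, by linear_combination hc⟩

theorem q_inj (hq : QBij φ t) (m : ℕ) (a : A) (c' : A') (h : φ a = φ t ^ m * c') :
    ∃ b : A, a = t ^ m * b := by
  have h0 : Ideal.quotientMap (Ideal.map φ (Ideal.span {t} ^ m)) φ Ideal.le_comap_map
      (Ideal.Quotient.mk _ a) = 0 := by
    rw [Ideal.quotientMap_mk, Ideal.Quotient.eq_zero_iff_mem, map_span_pow,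
      Ideal.mem_span_singleton']
    exact ⟨c', by rw [h, mul_comm]⟩
  have h1 := (hq m).1 (h0.trans (map_zero _).symm)
  rw [Ideal.Quotient.eq_zero_iff_mem, Ideal.span_singleton_pow, Ideal.mem_span_singleton'] at h1
  obtain ⟨b, hb⟩ := h1
  exact ⟨b, by rw [← hb, mul_comm]⟩

theorem eq_zero_of (ht : TorBij φ t) (a : A) (h1 : φ a = 0) (h2 : ∃ m : ℕ, t ^ m * a = 0) :
    a = 0 := by
  obtain ⟨x, -, hx⟩ := ht 0 ⟨0, by simp⟩
  rw [hx a ⟨h2, h1⟩, hx 0 ⟨⟨0, by simp⟩, map_zero _⟩]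

/-- injectivity of `A → A' × A_t` -/
theorem eq_of (ht : TorBij φ t) (a b : A) (h1 : φ a = φ b)
    (h2 : algebraMap A (Localization.Away t) a = algebraMap A (Localization.Away t) b) :
    a = b := by
  rw [← sub_eq_zero]
  refine eq_zero_of ht _ (by rw [map_sub, h1, sub_self]) ?_
  have h3 : algebraMap A (Localization.Away t) (a - b) = 0 := by rw [map_sub, h2, sub_self]
  rw [IsLocalization.map_eq_zero_iff (Submonoid.powers t)] at h3
  obtain ⟨⟨_, m, rfl⟩, hm⟩ := h3
  exact ⟨m, hm⟩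

/-- surjectivity onto the fibre product -/
theorem exists_of (hq : QBij φ t) (ht : TorBij φ t) (a' : A') (β : Localization.Away t)
    (h : algebraMap A' (Localization.Away (φ t)) a' = Localization.awayMap φ t β) :
    ∃ a : A, φ a = a' ∧ algebraMap A (Localization.Away t) a = β := by
  obtain ⟨⟨b, ⟨_, n, rfl⟩⟩, hb⟩ := IsLocalization.mk'_surjective (Submonoid.powers t) β
  -- `β = b / t^n`
  have hβ : β * algebraMap A (Localization.Away t) (t ^ n) = algebraMap A (Localization.Away t) b := by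
    rw [← hb]
    exact IsLocalization.mk'_spec _ _ _
  have h1 : algebraMap A' (Localization.Away (φ t)) (φ t ^ n * a' - φ b) = 0 := by
    have e1 := congrArg (Localization.awayMap φ t) hβ
    rw [map_mul, ← h] at e1
    have e2 : ∀ x : A, Localization.awayMap φ t (algebraMap A (Localization.Away t) x) =
        algebraMap A' (Localization.Away (φ t)) (φ x) := by
      intro x
      simp [Localization.awayMap, IsLocalization.Away.map, IsLocalization.map_eq]
    rw [e2, e2, ← map_mul] at e1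
    rw [map_sub, ← e1, map_pow, mul_comm, sub_self]
  rw [IsLocalization.map_eq_zero_iff (Submonoid.powers (φ t))] at h1
  obtain ⟨⟨_, k, rfl⟩, hk⟩ := h1
  -- `φ t ^ k * (φ t ^ n * a' - φ b) = 0`
  obtain ⟨a₀, c', hc'⟩ := q_surj hq (n + k) a'
  have hd : φ (t ^ k * (t ^ n * a₀ - b)) = φ t ^ (k + (n + k) + n) * (-c') := by
    simp only [map_mul, map_sub, map_pow]
    have : φ t ^ k * (φ t ^ n * (φ a₀ + φ t ^ (n + k) * c') - φ b) = 0 := by rw [← hc']; exact hk
    linear_combination this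
  obtain ⟨e, he⟩ := q_inj hq _ _ _ hd
  -- `u` is torsion
  have hu : t ^ k * (t ^ n * a₀ - b - t ^ ((n + k) + n) * e) = 0 := by
    linear_combination he
  have hw : φ t ^ (k + (n + k) + n) * (φ e + c') = 0 := by
    have h3 := congrArg φ hu
    simp only [map_mul, map_sub, map_pow, map_zero] at h3
    have : φ t ^ k * (φ t ^ n * (φ a₀ + φ t ^ (n + k) * c') - φ b) = 0 := by rw [← hc']; exact hk
    linear_combination this - h3
  obtain ⟨w, ⟨⟨j, hj⟩, hwφ⟩, -⟩ := ht (φ e + c') ⟨_, hw⟩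
  refine ⟨a₀ + t ^ (n + k) * (w - e), ?_, ?_⟩
  · rw [hc']
    simp only [map_add, map_mul, map_sub, map_pow, hwφ]
    ring
  · -- in `A_t`
    have hunit : IsUnit (algebraMap A (Localization.Away t) (t ^ n)) := by
      rw [map_pow]
      exact (IsLocalization.Away.algebraMap_isUnit t).pow n
    apply hunit.mul_left_injective
    show algebraMap A (Localization.Away t) (a₀ + t ^ (n + k) * (w - e)) *
      algebraMap A (Localization.Away t) (t ^ n) = β * algebraMap A (Localization.Away t) (t ^ n)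
    rw [hβ, ← map_mul, IsLocalization.eq_iff_exists (Submonoid.powers t)]
    refine ⟨⟨t ^ (k + j), k + j, rfl⟩, ?_⟩
    show t ^ (k + j) * ((a₀ + t ^ (n + k) * (w - e)) * t ^ n) = t ^ (k + j) * b
    have hj' : t ^ (k + j) * (t ^ (n + k + n) * w) = 0 := by
      rw [pow_add]
      linear_combination t ^ k * t ^ (n + k + n) * hj
    have hu' : t ^ (k + j) * (t ^ n * a₀ - b - t ^ ((n + k) + n) * e) = 0 := by
      rw [pow_add]
      linear_combination t ^ j * hu
    linear_combination hj' + hu'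

end ring

section scheme

variable {A A' : Type u} [CommRing A] [CommRing A'] {φ : A →+* A'} {t : A}

theorem hom_ext_of (ht : TorBij φ t) (X : Scheme.{u}) [X.IsQuasiAffine]
    (s₁ s₂ : Spec (CommRingCat.of A) ⟶ X)
    (h1 : Spec.map (CommRingCat.ofHom φ) ≫ s₁ = Spec.map (CommRingCat.ofHom φ) ≫ s₂)
    (h2 : Spec.map (CommRingCat.ofHom (algebraMap A (Localization.Away t))) ≫ s₁ =
      Spec.map (CommRingCat.ofHom (algebraMap A (Localization.Away t))) ≫ s₂) : s₁ = s₂ := by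
  rw [← cancel_mono X.toSpecΓ]
  obtain ⟨ψ₁, hψ₁⟩ : ∃ ψ : Γ(X, ⊤) ⟶ CommRingCat.of A, Spec.map ψ = s₁ ≫ X.toSpecΓ :=
    ⟨Spec.preimage _, Spec.map_preimage _⟩
  obtain ⟨ψ₂, hψ₂⟩ : ∃ ψ : Γ(X, ⊤) ⟶ CommRingCat.of A, Spec.map ψ = s₂ ≫ X.toSpecΓ :=
    ⟨Spec.preimage _, Spec.map_preimage _⟩
  rw [← hψ₁, ← hψ₂]
  congr 1
  have e1 : ψ₁ ≫ CommRingCat.ofHom φ = ψ₂ ≫ CommRingCat.ofHom φ := by
    apply Spec.map_injective
    rw [Spec.map_comp, Spec.map_comp, hψ₁, hψ₂, reassoc_of% h1]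
  have e2 : ψ₁ ≫ CommRingCat.ofHom (algebraMap A (Localization.Away t)) =
      ψ₂ ≫ CommRingCat.ofHom (algebraMap A (Localization.Away t)) := by
    apply Spec.map_injective
    rw [Spec.map_comp, Spec.map_comp, hψ₁, hψ₂, reassoc_of% h2]
  ext γ
  exact eq_of ht _ _ (congrArg (fun f => f.hom γ) e1) (congrArg (fun f => f.hom γ) e2)

/-- every prime containing `t` comes from `A'` -/
theorem exists_prime_of_mem (hq : QBij φ t) (P : PrimeSpectrum A) (hP : t ∈ P.asIdeal) :
    ∃ P' : PrimeSpectrum A', PrimeSpectrum.comap φ P' = P := by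
  have hle : Ideal.span {t} ^ 1 ≤ P.asIdeal := by
    rw [pow_one, Ideal.span_singleton_le_iff_mem]; exact hP
  let f := Ideal.quotientMap (Ideal.map φ (Ideal.span {t} ^ 1)) φ Ideal.le_comap_map
  let e : (A ⧸ Ideal.span {t} ^ 1) ≃+* (A' ⧸ Ideal.map φ (Ideal.span {t} ^ 1)) :=
    RingEquiv.ofBijective f (hq 1)
  haveI hQ : (Ideal.map (Ideal.Quotient.mk (Ideal.span {t} ^ 1)) P.asIdeal).IsPrime :=
    Ideal.map_isPrime_of_surjective Ideal.Quotient.mk_surjective (by rwa [Ideal.mk_ker])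
  let Q' : Ideal (A' ⧸ Ideal.map φ (Ideal.span {t} ^ 1)) :=
    Ideal.comap (e.symm : _ →+* _) (Ideal.map (Ideal.Quotient.mk (Ideal.span {t} ^ 1)) P.asIdeal)
  haveI : Q'.IsPrime := Ideal.comap_isPrime _ _
  let P' : Ideal A' := Ideal.comap (Ideal.Quotient.mk _) Q'
  haveI : P'.IsPrime := Ideal.comap_isPrime _ _
  refine ⟨⟨P', inferInstance⟩, ?_⟩
  ext a
  show φ a ∈ P' ↔ a ∈ P.asIdeal
  show e.symm (Ideal.Quotient.mk _ (φ a)) ∈
    (Ideal.map (Ideal.Quotient.mk (Ideal.span {t} ^ 1)) P.asIdeal) ↔ _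
  have : Ideal.Quotient.mk _ (φ a) = e (Ideal.Quotient.mk _ a) := rfl
  rw [this, RingEquiv.symm_apply_apply, Ideal.mem_quotient_iff_mem hle]

theorem exists_of_pair (hq : QBij φ t) (ht : TorBij φ t) (X : Scheme.{u}) [X.IsQuasiAffine]
    (x' : Spec (CommRingCat.of A') ⟶ X)
    (xt : Spec (CommRingCat.of (Localization.Away t)) ⟶ X)
    (hcomp : Spec.map (CommRingCat.ofHom (algebraMap A' (Localization.Away (φ t)))) ≫ x' =
      Spec.map (CommRingCat.ofHom (Localization.awayMap φ t)) ≫ xt) :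
    ∃ s : Spec (CommRingCat.of A) ⟶ X, Spec.map (CommRingCat.ofHom φ) ≫ s = x' ∧
      Spec.map (CommRingCat.ofHom (algebraMap A (Localization.Away t))) ≫ s = xt := by
  obtain ⟨ψ', hψ'⟩ : ∃ ψ : Γ(X, ⊤) ⟶ CommRingCat.of A', Spec.map ψ = x' ≫ X.toSpecΓ :=
    ⟨Spec.preimage _, Spec.map_preimage _⟩
  obtain ⟨ψt, hψt⟩ : ∃ ψ : Γ(X, ⊤) ⟶ CommRingCat.of (Localization.Away t),
      Spec.map ψ = xt ≫ X.toSpecΓ := ⟨Spec.preimage _, Spec.map_preimage _⟩
  have ec : ψ' ≫ CommRingCat.ofHom (algebraMap A' (Localization.Away (φ t))) =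
      ψt ≫ CommRingCat.ofHom (Localization.awayMap φ t) := by
    apply Spec.map_injective
    rw [Spec.map_comp, Spec.map_comp, hψ', hψt, reassoc_of% hcomp]
  have hex : ∀ γ : Γ(X, ⊤), ∃ a : A, φ a = ψ'.hom γ ∧
      algebraMap A (Localization.Away t) a = ψt.hom γ :=
    fun γ => exists_of hq ht _ _ (congrArg (fun f => f.hom γ) ec)
  choose ψf hψf1 hψf2 using hex
  let ψ : Γ(X, ⊤) →+* A :=
    { toFun := ψf
      map_one' := eq_of ht _ _ (by rw [hψf1, map_one, map_one]) (by rw [hψf2, map_one, map_one])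
      map_mul' := fun a b => eq_of ht _ _ (by rw [hψf1, map_mul, map_mul, hψf1, hψf1])
        (by rw [hψf2, map_mul, map_mul, hψf2, hψf2])
      map_zero' := eq_of ht _ _ (by rw [hψf1, map_zero, map_zero]) (by rw [hψf2, map_zero, map_zero])
      map_add' := fun a b => eq_of ht _ _ (by rw [hψf1, map_add, map_add, hψf1, hψf1])
        (by rw [hψf2, map_add, map_add, hψf2, hψf2]) }
  have e1 : CommRingCat.ofHom ψ ≫ CommRingCat.ofHom φ = ψ' := by
    ext γ; exact hψf1 γ
  have e2 : CommRingCat.ofHom ψ ≫ CommRingCat.ofHom (algebraMap A (Localization.Away t)) = ψt := by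
    ext γ; exact hψf2 γ
  let σ : Spec (CommRingCat.of A) ⟶ Spec Γ(X, ⊤) := Spec.map (CommRingCat.ofHom ψ)
  have hσ1 : Spec.map (CommRingCat.ofHom φ) ≫ σ = x' ≫ X.toSpecΓ := by
    rw [← hψ', ← e1, Spec.map_comp]
  have hσ2 : Spec.map (CommRingCat.ofHom (algebraMap A (Localization.Away t))) ≫ σ =
      xt ≫ X.toSpecΓ := by
    rw [← hψt, ← e2, Spec.map_comp]
  have hr : Set.range σ ⊆ Set.range X.toSpecΓ := by
    rintro _ ⟨P, rfl⟩
    by_cases hP : t ∈ P.asIdeal
    · obtain ⟨P', rfl⟩ := exists_prime_of_mem hq P hP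
      have : σ (PrimeSpectrum.comap φ P') = (Spec.map (CommRingCat.ofHom φ) ≫ σ) P' := rfl
      rw [this, hσ1]
      exact ⟨x' P', rfl⟩
    · have hP' : P ∈ Set.range (PrimeSpectrum.comap (algebraMap A (Localization.Away t))) := by
        rw [PrimeSpectrum.localization_away_comap_range (Localization.Away t) t]
        exact hP
      obtain ⟨P', rfl⟩ := hP'
      have : σ (PrimeSpectrum.comap (algebraMap A (Localization.Away t)) P') =
          (Spec.map (CommRingCat.ofHom (algebraMap A (Localization.Away t))) ≫ σ) P' := rfl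
      rw [this, hσ2]
      exact ⟨xt P', rfl⟩
  refine ⟨IsOpenImmersion.lift X.toSpecΓ σ hr, ?_, ?_⟩
  · rw [← cancel_mono X.toSpecΓ, Category.assoc, IsOpenImmersion.lift_fac, hσ1]
  · rw [← cancel_mono X.toSpecΓ, Category.assoc, IsOpenImmersion.lift_fac, hσ2]

end scheme

end Groth.Agent.Helper23.BLSq
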