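import Groth.Prelude.Def_BMCoh2
import Mathlib

/-! helper23: library for twisted Borel–Moore theories (BMCoh): topology/dimension lemmas, empty
object, decomposition attached to an open, Gysin bijectivity criterion. -/

set_option autoImplicit false
universe u
open AlgebraicGeometry CategoryTheory CategoryTheory.Limits Opposite BMCoh TopologicalSpace
open Topology Order Set

namespace Groth.Agent.Helper23.BMLib1


section topo
variable {P Y : Type u} [TopologicalSpace P] [TopologicalSpace Y]

theorem isPreirreducible_preimage_of_isInducing {f : P → Y} (hf : IsInducing f) {s : Set Y}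
    (hs : IsPreirreducible s) (hsub : s ⊆ Set.range f) : IsPreirreducible (f ⁻¹' s) := by
  intro u v hu hv ⟨x, hxs, hxu⟩ ⟨y, hys, hyv⟩
  obtain ⟨u', hu', rfl⟩ := hf.isOpen_iff.1 hu
  obtain ⟨v', hv', rfl⟩ := hf.isOpen_iff.1 hv
  obtain ⟨z, hzs, hzu, hzv⟩ : (s ∩ (u' ∩ v')).Nonempty :=
    hs u' v' hu' hv' ⟨f x, hxs, hxu⟩ ⟨f y, hys, hyv⟩
  obtain ⟨w, rfl⟩ := hsub hzs
  exact ⟨w, hzs, hzu, hzv⟩

theorem isIrreducible_preimage_of_isInducing {f : P → Y} (hf : IsInducing f) {s : Set Y}
    (hs : IsIrreducible s) (hsub : s ⊆ Set.range f) : IsIrreducible (f ⁻¹' s) := by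
  refine ⟨?_, isPreirreducible_preimage_of_isInducing hf hs.isPreirreducible hsub⟩
  obtain ⟨y, hy⟩ := hs.nonempty
  obtain ⟨x, rfl⟩ := hsub hy
  exact ⟨x, hy⟩

/-- dimension of the source of an inducing map whose range contains a chain of length n -/
theorem le_topologicalKrullDim_of_chain {f : P → Y} (hf : IsInducing f)
    (l : LTSeries (IrreducibleCloseds Y)) (hl : ∀ i, (l i : Set Y) ⊆ Set.range f) :
    (l.length : WithBot ℕ∞) ≤ topologicalKrullDim P := by
  unfold topologicalKrullDim
  rw [Order.le_krullDim_iff]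
  let g : Fin (l.length + 1) → IrreducibleCloseds P := fun i => ⟨f ⁻¹' (l i),
    isIrreducible_preimage_of_isInducing hf (l i).isIrreducible (hl i),
    (l i).isClosed.preimage hf.continuous⟩
  have hg : ∀ i, (g i : Set P) = f ⁻¹' (l i : Set Y) := fun i => rfl
  refine ⟨⟨l.length, g, ?_⟩, rfl⟩
  intro i
  have hlt : l i.castSucc < l i.succ := l.step i
  have hle : (l i.castSucc : Set Y) ⊆ (l i.succ : Set Y) := SetLike.coe_subset_coe.2 (le_of_lt hlt)
  have hle' : g i.castSucc ≤ g i.succ := by
    rw [← SetLike.coe_subset_coe, hg, hg]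
    exact Set.preimage_mono hle
  refine lt_of_le_of_ne hle' ?_
  intro heq
  apply ne_of_lt hlt
  apply SetLike.coe_injective
  have h1 : f ⁻¹' (l i.castSucc : Set Y) = f ⁻¹' (l i.succ : Set Y) := by
    rw [← hg, ← hg, heq]
  apply subset_antisymm hle
  intro y hy
  obtain ⟨x, rfl⟩ := hl _ hy
  have : x ∈ f ⁻¹' (l i.succ : Set Y) := hy
  rw [← h1] at this
  exact this


theorem exists_generic_top (T : Type u) [TopologicalSpace T] [NoetherianSpace T] [QuasiSober T]
    [Nonempty T] (hfin : topologicalKrullDim T < ⊤) :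
    ∃ (η : T) (o : Set T), IsOpen o ∧ η ∈ o ∧ o ⊆ closure {η} ∧
      topologicalKrullDim ↥(closure ({η} : Set T)) = topologicalKrullDim T := by
  have hne : Nonempty (IrreducibleCloseds T) := by
    obtain ⟨x⟩ := ‹Nonempty T›
    exact ⟨⟨closure {x}, isIrreducible_singleton.closure, isClosed_closure⟩⟩
  have h0 : (0 : WithBot ℕ∞) ≤ topologicalKrullDim T := Order.krullDim_nonneg
  obtain ⟨n, hn⟩ : ∃ n : ℕ, topologicalKrullDim T = n := by
    obtain ⟨m, hm⟩ := WithBot.ne_bot_iff_exists.1 (ne_of_gt (lt_of_lt_of_le (WithBot.bot_lt_coe 0) h0))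
    rw [← hm] at hfin
    have hm' : m ≠ ⊤ := by
      rintro rfl
      exact lt_irrefl _ hfin
    obtain ⟨k, hk⟩ := ENat.ne_top_iff_exists.1 hm'
    exact ⟨k, by rw [← hm, ← hk]; rfl⟩
  obtain ⟨l, hl⟩ := Order.le_krullDim_iff.1 (le_of_eq hn.symm : (n : WithBot ℕ∞) ≤ krullDim (IrreducibleCloseds T))
  obtain ⟨C, hC, hZC⟩ := exists_mem_irreducibleComponents_subset_of_isIrreducible
    (l.last : Set T) l.last.isIrreducible
  have hCirr : IsIrreducible C := hC.1
  have hCcl : IsClosed C := isClosed_of_mem_irreducibleComponents C hC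
  have hη : closure ({hCirr.genericPoint} : Set T) = C := hCirr.closure_genericPoint hCcl
  obtain ⟨o, ho, hone, hoC⟩ := NoetherianSpace.exists_isOpen_nonempty_subset_irreducibleComponent C hC
  refine ⟨hCirr.genericPoint, o, ho, ?_, by rw [hη]; exact hoC, ?_⟩
  · obtain ⟨x, hx⟩ := hone
    have hx' : x ∈ closure ({hCirr.genericPoint} : Set T) := by rw [hη]; exact hoC hx
    obtain ⟨y, hy, hy'⟩ := mem_closure_iff.1 hx' o ho hx
    rw [Set.mem_singleton_iff.1 hy'] at hy
    exact hy
  · rw [hη]
    apply le_antisymm (topologicalKrullDim_subspace_le T C)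
    rw [hn, ← hl]
    apply le_topologicalKrullDim_of_chain (f := (Subtype.val : ↥C → T)) IsInducing.subtypeVal l
    intro i
    rw [Subtype.range_coe]
    exact subset_trans (SetLike.coe_subset_coe.2 (l.strictMono.monotone (Fin.le_last i))) hZC

end topo



section basics
variable {V : ObjectProperty Scheme.{u}} [IsConstructible V] {R : Type u} [CommRing R]
  {A : Coefs R}

theorem relCodim_self (X : Scheme.{u}) : relCodim X X = 0 := by simp [relCodim]

theorem isZero_of_isEmpty (T : PreTheory V R A) (E : Obj V) [IsEmpty E.scheme] (M : A.Cat)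
    (i n : ℤ) : IsZero (T.gp E M i n) := by
  let D : Decomp E := ⟨E, E, 𝟙 _, inferInstance, 𝟙 E, by ext x; exact isEmptyElim x⟩
  have key : ∀ k : ℤ, IsZero (T.gp E M (k + 1) n) := by
    intro k
    have hi : k + 1 = (k + 1) + 2 * relCodim D.Z.scheme E.scheme := by
      change k + 1 = (k + 1) + 2 * relCodim E.scheme E.scheme
      rw [relCodim_self]; ring
    have hn : n = n + relCodim D.Z.scheme E.scheme := by
      change n = n + relCodim E.scheme E.scheme
      rw [relCodim_self]; ring
    have hex := T.exact_push_pull D M k n (k + 1) n hi hn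
    have h1 : T.push D.i M (k + 1) n (k + 1) n hi hn = 𝟙 _ := T.push_id E M (k + 1) n hi hn
    have h2 : ((T.H (k + 1) n).map D.j.op).app M = 𝟙 _ := by
      change ((T.H (k + 1) n).map (𝟙 (op E))).app M = 𝟙 _
      rw [CategoryTheory.Functor.map_id]; rfl
    rw [h1, h2] at hex
    rw [ModuleCat.isZero_iff_subsingleton]
    constructor
    have h0 : ∀ a : T.gp E M (k + 1) n, a = 0 := fun a => (hex a).2 ⟨a, rfl⟩
    intro a b
    rw [h0 a, h0 b]
  have := key (i - 1)
  rwa [sub_add_cancel] at this


/-- reduced induced structure is reduced (proof pattern as in S2285, helper credit) -/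
theorem isReduced_subscheme_vanishingIdeal {X : Scheme.{u}} (W : Closeds X) :
    IsReduced (Scheme.IdealSheafData.vanishingIdeal W).subscheme := by
  have : ∀ i, IsReduced
      ((Scheme.IdealSheafData.vanishingIdeal W).subschemeCover.openCover.X i) := by
    intro U
    show IsReduced (Spec (CommRingCat.of
      (Γ(X, U.1) ⧸ (Scheme.IdealSheafData.vanishingIdeal W).ideal U)))
    rw [affine_isReduced_iff]
    show _root_.IsReduced (Γ(X, U.1) ⧸ (Scheme.IdealSheafData.vanishingIdeal W).ideal U)
    rw [Scheme.IdealSheafData.vanishingIdeal_ideal]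
    exact (Ideal.isRadical_iff_quotient_reduced _).mp (PrimeSpectrum.isRadical_vanishingIdeal _)
  exact IsReduced.of_openCover _ (Scheme.IdealSheafData.vanishingIdeal W).subschemeCover.openCover

/-- the reduced closed complement of an open -/
noncomputable abbrev complIdeal (X : Scheme.{u}) (U : X.Opens) : X.IdealSheafData :=
  Scheme.IdealSheafData.vanishingIdeal ⟨(U : Set X)ᶜ, U.isOpen.isClosed_compl⟩

noncomputable abbrev complObj (X : Obj V) (U : X.scheme.Opens) : Obj V :=
  ⟨(complIdeal X.scheme U).subscheme,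
    IsConstructible.of_isClosedImmersion (complIdeal X.scheme U).subschemeι
      (h := (inferInstance : IsClosedImmersion (complIdeal X.scheme U).subschemeι)) X.mem⟩

theorem range_complι (X : Scheme.{u}) (U : X.Opens) :
    Set.range (complIdeal X U).subschemeι = (U : Set X)ᶜ := by
  rw [Scheme.IdealSheafData.range_subschemeι]
  rfl

instance (X : Obj V) (U : X.scheme.Opens) : IsReduced (complObj X U).scheme :=
  isReduced_subscheme_vanishingIdeal _

noncomputable def decompOfOpen (X : Obj V) (U : X.scheme.Opens)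
    (hd : WeilCoh.dim (U : Scheme.{u}) = WeilCoh.dim X.scheme) : Decomp X where
  Z := complObj X U
  U := X.res U
  i := (complIdeal X.scheme U).subschemeι
  closedImm := inferInstance
  j := X.resι U hd
  range_eq := by
    change Set.range U.ι = (Set.range (complIdeal X.scheme U).subschemeι)ᶜ
    rw [range_complι, compl_compl, Scheme.Opens.range_ι]

theorem pull_bijective (T : PreTheory V R A) {X : Obj V} (D : Decomp X) (M : A.Cat)
    (i n i' n' i'' : ℤ) (hi' : i + 1 = i' + 2 * relCodim D.Z.scheme X.scheme)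
    (hn' : n = n' + relCodim D.Z.scheme X.scheme)
    (h1 : IsZero (T.gp D.Z M i' n'))
    (hi'' : i'' = (i + 1) + 1 - 2 * D.codim) (hn'' : n' = n - D.codim)
    (h2 : IsZero (T.gp D.Z M i'' n')) :
    Function.Bijective (T.pull D.j M (i + 1) n).hom := by
  haveI := ModuleCat.subsingleton_of_isZero h1
  haveI := ModuleCat.subsingleton_of_isZero h2
  constructor
  · rw [injective_iff_map_eq_zero]
    intro a ha
    obtain ⟨b, hb⟩ := (T.exact_push_pull D M i n i' n' hi' hn' a).1 ha
    rw [← hb, Subsingleton.elim b 0, map_zero]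
  · intro y
    exact (T.exact_pull_res D M (i + 1) n i'' n' hi'' hn'' y).1 (Subsingleton.elim _ _)

end basics


end Groth.Agent.Helper23.BMLib1
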