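import Groth.Agent.Lib.Helper23.BMLib1
import Mathlib

set_option autoImplicit false
universe u
open AlgebraicGeometry CategoryTheory CategoryTheory.Limits Opposite BMCoh TopologicalSpace

/-! helper23: twisted Borel–Moore theories, part 2: closure of a point, generic vanishing,
vanishing in negative degrees for reduced objects, bijectivity of restriction to big opens. -/

namespace Groth.Agent.Helper23.BMLib2
open Groth.Agent.Helper23.BMLib1

section dims

theorem natDim_mono {S T : Type u} [TopologicalSpace S] [TopologicalSpace T]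
    (h : topologicalKrullDim S ≤ topologicalKrullDim T) (hT : topologicalKrullDim T < ⊤) :
    WeilCoh.natDim S ≤ WeilCoh.natDim T := by
  unfold WeilCoh.natDim
  induction hS : topologicalKrullDim S using WithBot.recBotCoe with
  | bot => simp
  | coe a =>
    induction hT' : topologicalKrullDim T using WithBot.recBotCoe with
    | bot =>
      rw [hS, hT'] at h
      exact absurd h (by simp)
    | coe b =>
      rw [hS, hT'] at h
      rw [hT'] at hT
      have hab : a ≤ b := WithBot.coe_le_coe.1 h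
      have hb : b ≠ ⊤ := by
        rintro rfl
        exact lt_irrefl _ hT
      exact ENat.toNat_le_toNat hab hb

theorem natDim_congr {S T : Type u} [TopologicalSpace S] [TopologicalSpace T]
    (h : topologicalKrullDim S = topologicalKrullDim T) :
    WeilCoh.natDim S = WeilCoh.natDim T := by
  unfold WeilCoh.natDim
  rw [h]

theorem finDim_of_isInducing {S T : Type u} [TopologicalSpace S] [TopologicalSpace T] {f : S → T}
    (hf : Topology.IsInducing f) (hT : topologicalKrullDim T < ⊤) : topologicalKrullDim S < ⊤ :=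
  lt_of_le_of_lt hf.topologicalKrullDim_le hT

end dims

section ptsub
variable {V : ObjectProperty Scheme.{u}} [IsConstructible V] {R : Type u} [CommRing R]
  {A : Coefs R}

theorem range_ptSubι (Y : Obj V) (η : Y.scheme) :
    Set.range (Y.ptSubι η) = closure ({η} : Set Y.scheme) := by
  rw [Scheme.IdealSheafData.range_subschemeι]
  rfl

/-- the generic point of the reduced closure -/
noncomputable def ptGen (Y : Obj V) (η : Y.scheme) : (Y.ptSub η).scheme :=
  ((range_ptSubι Y η).symm ▸ subset_closure (Set.mem_singleton η) :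
    η ∈ Set.range (Y.ptSubι η)).choose

theorem ptSubι_ptGen (Y : Obj V) (η : Y.scheme) : (Y.ptSubι η) (ptGen Y η) = η :=
  ((range_ptSubι Y η).symm ▸ subset_closure (Set.mem_singleton η) :
    η ∈ Set.range (Y.ptSubι η)).choose_spec

theorem ptGen_mem_of_nonempty (Y : Obj V) (η : Y.scheme) (U : (Y.ptSub η).scheme.Opens)
    (hU : (U : Set (Y.ptSub η).scheme).Nonempty) : ptGen Y η ∈ U := by
  obtain ⟨x, hx⟩ := hU
  obtain ⟨U₀, hU₀, hU₀'⟩ := (Y.ptSubι η).isEmbedding.isInducing.isOpen_iff.1 U.isOpen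
  have hx' : (Y.ptSubι η) x ∈ U₀ := by
    have : x ∈ (Y.ptSubι η) ⁻¹' U₀ := by rw [hU₀']; exact hx
    exact this
  have hcl : (Y.ptSubι η) x ∈ closure ({η} : Set Y.scheme) := by
    rw [← range_ptSubι]; exact ⟨x, rfl⟩
  obtain ⟨y, hy, hy'⟩ := mem_closure_iff.1 hcl U₀ hU₀ hx'
  rw [Set.mem_singleton_iff.1 hy'] at hy
  have : ptGen Y η ∈ (Y.ptSubι η) ⁻¹' U₀ := by
    change (Y.ptSubι η) (ptGen Y η) ∈ U₀
    rw [ptSubι_ptGen]; exact hy
  rw [hU₀'] at this
  exact this

instance irreducibleSpace_ptSub (Y : Obj V) (η : Y.scheme) :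
    IrreducibleSpace (Y.ptSub η).scheme := by
  haveI : Nonempty (Y.ptSub η).scheme := ⟨ptGen Y η⟩
  haveI : PreirreducibleSpace (Y.ptSub η).scheme := by
    apply PreirreducibleSpace.of_forall_nonempty_inter
    intro U U' hU hU' hne hne'
    exact ⟨ptGen Y η, ptGen_mem_of_nonempty Y η ⟨U, hU⟩ hne, ptGen_mem_of_nonempty Y η ⟨U', hU'⟩ hne'⟩
  exact ⟨inferInstance⟩

instance isReduced_ptSub (Y : Obj V) (η : Y.scheme) : IsReduced (Y.ptSub η).scheme :=
  isReduced_subscheme_vanishingIdeal _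

section restr
variable (Y : Obj V) [IsReduced Y.scheme] (η : Y.scheme)

theorem surjective_restrict (W : Y.scheme.Opens)
    (hW : (W : Set Y.scheme) ⊆ closure ({η} : Set Y.scheme)) :
    Surjective ((Y.ptSubι η) ∣_ W) := by
  constructor
  intro w
  have : w.1 ∈ Set.range (Y.ptSubι η) := by rw [range_ptSubι]; exact hW w.2
  obtain ⟨p, hp⟩ := this
  refine ⟨⟨p, by change (Y.ptSubι η) p ∈ W; rw [hp]; exact w.2⟩, ?_⟩
  apply Subtype.ext
  rw [morphismRestrict_base_coe]
  exact hp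

theorem isIso_restrict (W : Y.scheme.Opens)
    (hW : (W : Set Y.scheme) ⊆ closure ({η} : Set Y.scheme)) :
    IsIso ((Y.ptSubι η) ∣_ W) := by
  haveI := surjective_restrict Y η W hW
  haveI : IsReduced (W : Scheme.{u}) := isReduced_of_isOpenImmersion W.ι
  exact isIso_of_isClosedImmersion_of_surjective _

/-- the comparison morphism of objects -/
noncomputable def eW (W : Y.scheme.Opens)
    (hW : (W : Set Y.scheme) ⊆ closure ({η} : Set Y.scheme)) :
    (Y.ptSub η).res ((Y.ptSubι η) ⁻¹ᵁ W) ⟶ Y.res W :=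
  haveI := isIso_restrict Y η W hW
  ⟨(Y.ptSubι η) ∣_ W, inferInstance, dim_eq_of_iso (asIso ((Y.ptSubι η) ∣_ W))⟩

noncomputable def eWinv (W : Y.scheme.Opens)
    (hW : (W : Set Y.scheme) ⊆ closure ({η} : Set Y.scheme)) :
    Y.res W ⟶ (Y.ptSub η).res ((Y.ptSubι η) ⁻¹ᵁ W) :=
  haveI := isIso_restrict Y η W hW
  ⟨inv ((Y.ptSubι η) ∣_ W), inferInstance, (dim_eq_of_iso (asIso ((Y.ptSubι η) ∣_ W))).symm⟩

theorem eWinv_eW (W : Y.scheme.Opens)
    (hW : (W : Set Y.scheme) ⊆ closure ({η} : Set Y.scheme)) :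
    eWinv Y η W hW ≫ eW Y η W hW = 𝟙 _ := by
  haveI := isIso_restrict Y η W hW
  apply BMCoh.Hom.ext
  change inv ((Y.ptSubι η) ∣_ W) ≫ ((Y.ptSubι η) ∣_ W) = 𝟙 _
  simp

theorem eW_natural (W W' : Y.scheme.Opens) (hle : W' ≤ W)
    (hW : (W : Set Y.scheme) ⊆ closure ({η} : Set Y.scheme))
    (hd : WeilCoh.dim (W' : Scheme.{u}) = WeilCoh.dim (W : Scheme.{u}))
    (hd' : WeilCoh.dim (((Y.ptSubι η) ⁻¹ᵁ W' : (Y.ptSub η).scheme.Opens) : Scheme.{u}) =
      WeilCoh.dim (((Y.ptSubι η) ⁻¹ᵁ W : (Y.ptSub η).scheme.Opens) : Scheme.{u})) :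
    (Y.ptSub η).resLE (show (Y.ptSubι η) ⁻¹ᵁ W' ≤ (Y.ptSubι η) ⁻¹ᵁ W from fun _ hx => hle hx) hd' ≫
      eW Y η W hW =
    eW Y η W' (subset_trans (fun _ hx => hle hx) hW) ≫ Y.resLE hle hd := by
  apply BMCoh.Hom.ext
  change (Y.ptSub η).scheme.homOfLE
      (show (Y.ptSubι η) ⁻¹ᵁ W' ≤ (Y.ptSubι η) ⁻¹ᵁ W from fun _ hx => hle hx) ≫
      ((Y.ptSubι η) ∣_ W) = ((Y.ptSubι η) ∣_ W') ≫ Y.scheme.homOfLE hle
  rw [← cancel_mono W.ι, Category.assoc, Category.assoc, morphismRestrict_ι,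
    Scheme.homOfLE_ι, ← Category.assoc, Scheme.homOfLE_ι, morphismRestrict_ι]

end restr


section dimpt

theorem dim_ptSub (Y : Obj V) (η : Y.scheme) :
    WeilCoh.dim (Y.ptSub η).scheme = WeilCoh.pdim Y.scheme η := by
  unfold WeilCoh.dim WeilCoh.pdim
  apply natDim_congr
  have h1 := IsHomeomorph.topologicalKrullDim_eq _
    ((Y.ptSubι η).isEmbedding.toHomeomorph).isHomeomorph
  rw [h1, range_ptSubι]

theorem finDim_obj (Y : Obj V) : topologicalKrullDim Y.scheme < ⊤ :=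
  IsConstructible.finiteDim Y.mem

instance noeth_obj (Y : Obj V) : IsNoetherian Y.scheme := IsConstructible.isNoetherian Y.mem

/-- an open contained in the closure of one of its points has the dimension of that closure -/
theorem dim_open_of_subset_closure (Y : Obj V) [IsReduced Y.scheme] (η : Y.scheme)
    (W : Y.scheme.Opens) (hη : η ∈ W)
    (hW : (W : Set Y.scheme) ⊆ closure ({η} : Set Y.scheme)) :
    WeilCoh.dim (W : Scheme.{u}) = WeilCoh.pdim Y.scheme η := by
  rw [← (eW Y η W hW).dim_eq, ← dim_ptSub]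
  apply IsConstructible.dim_open (Y.ptSub η).mem inferInstance
  refine ⟨ptGen Y η, ?_⟩
  change (Y.ptSubι η) (ptGen Y η) ∈ W
  rw [ptSubι_ptGen]
  exact hη

end dimpt

section colim

theorem exists_pull_eq_zero (T : PreTheory V R A) (X : Obj V) (P : X.scheme.Opens → Prop)
    (hdir : ∀ U U' : Idx X P, ∃ U'' : Idx X P, U''.1 ≤ U.1 ∧ U''.1 ≤ U'.1)
    (i n : ℤ) (M : A.Cat) (hz : IsZero ((T.ocolim X P i n).obj M))
    (U : Idx X P) (x : T.gp (X.res U.1) M i n) :
    ∃ (U' : Idx X P) (hle : U'.1 ≤ U.1),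
      (T.pull (X.resLE hle (U'.2.2.trans U.2.2.symm)) M i n).hom x = 0 := by
  haveI : Nonempty (Idx X P) := ⟨U⟩
  haveI : IsDirected (Idx X P) (· ≥ ·) := ⟨fun a b => by
    obtain ⟨c, h1, h2⟩ := hdir a b
    exact ⟨c, h1, h2⟩⟩
  let F := (idxDiag X P).op ⋙ T.H i n
  let G := F ⋙ (evaluation _ _).obj M
  let D : Cocone G := ((evaluation _ _).obj M).mapCocone (colimit.cocone F)
  have hD : IsColimit D := isColimitOfPreserves ((evaluation _ _).obj M) (colimit.isColimit F)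
  haveI := ModuleCat.subsingleton_of_isZero hz
  have h : D.ι.app (op U) x = D.ι.app (op U) (0 : T.gp (X.res U.1) M i n) :=
    Subsingleton.elim (α := ((T.ocolim X P i n).obj M)) _ _
  obtain ⟨k, f, g, hfg⟩ := Concrete.isColimit_exists_of_rep_eq G hD x 0 h
  refine ⟨k.unop, f.unop.le, ?_⟩
  exact hfg.trans (map_zero _)

end colim

section gv

theorem pull_comp (T : PreTheory V R A) {X Y Z : Obj V} (f : X ⟶ Y) (g : Y ⟶ Z) (M : A.Cat)
    (i n : ℤ) : T.pull (f ≫ g) M i n = T.pull g M i n ≫ T.pull f M i n := by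
  change ((T.H i n).map (f ≫ g).op).app M = _
  rw [op_comp, CategoryTheory.Functor.map_comp, NatTrans.comp_app]

theorem pull_id (T : PreTheory V R A) (X : Obj V) (M : A.Cat) (i n : ℤ) :
    T.pull (𝟙 X) M i n = 𝟙 _ := by
  change ((T.H i n).map (𝟙 X).op).app M = _
  rw [op_id, CategoryTheory.Functor.map_id, NatTrans.id_app]

theorem pull_comp_apply (T : PreTheory V R A) {X Y Z : Obj V} (f : X ⟶ Y) (g : Y ⟶ Z) (M : A.Cat)
    (i n : ℤ) (x : T.gp Z M i n) :
    (T.pull (f ≫ g) M i n).hom x = (T.pull f M i n).hom ((T.pull g M i n).hom x) := by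
  rw [pull_comp]; rfl

theorem idx_directed (Y : Obj V) (η : Y.scheme) :
    ∀ U U' : Idx (Y.ptSub η) (fun U => (U : Set (Y.ptSub η).scheme).Nonempty),
      ∃ U'' : Idx (Y.ptSub η) (fun U => (U : Set (Y.ptSub η).scheme).Nonempty),
        U''.1 ≤ U.1 ∧ U''.1 ≤ U'.1 := by
  intro U U'
  have hne : ((U.1 ⊓ U'.1 : (Y.ptSub η).scheme.Opens) : Set (Y.ptSub η).scheme).Nonempty :=
    ⟨ptGen Y η, ptGen_mem_of_nonempty Y η U.1 U.2.1, ptGen_mem_of_nonempty Y η U'.1 U'.2.1⟩
  exact ⟨⟨U.1 ⊓ U'.1, hne, IsConstructible.dim_open (Y.ptSub η).mem inferInstance _ hne⟩,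
    inf_le_left, inf_le_right⟩

theorem generic_vanishing (T : TheoryOn V R A) (Y : Obj V) [IsReduced Y.scheme] (η : Y.scheme)
    (W : Y.scheme.Opens) (hη : η ∈ W)
    (hW : (W : Set Y.scheme) ⊆ closure ({η} : Set Y.scheme)) (M : A.Cat) (m n : ℤ) (hm : m < 0)
    (α : T.gp (Y.res W) M m n) :
    ∃ (W' : Y.scheme.Opens) (hle : W' ≤ W)
      (hd : WeilCoh.dim (W' : Scheme.{u}) = WeilCoh.dim (W : Scheme.{u})),
      η ∈ W' ∧ (T.pull (Y.resLE hle hd) M m n).hom α = 0 := by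
  have hgen : ptGen Y η ∈ (Y.ptSubι η) ⁻¹ᵁ W := by
    change (Y.ptSubι η) (ptGen Y η) ∈ W
    rw [ptSubι_ptGen]; exact hη
  let j₀ : Idx (Y.ptSub η) (fun U => (U : Set (Y.ptSub η).scheme).Nonempty) :=
    ⟨(Y.ptSubι η) ⁻¹ᵁ W, ⟨ptGen Y η, hgen⟩,
      IsConstructible.dim_open (Y.ptSub η).mem inferInstance _ ⟨ptGen Y η, hgen⟩⟩
  let β : T.gp ((Y.ptSub η).res j₀.1) M m n := (T.pull (eW Y η W hW) M m n).hom α
  obtain ⟨k, hk, hk0⟩ := exists_pull_eq_zero T.toPreTheory (Y.ptSub η) _ (idx_directed Y η) m n M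
    (T.pt_vanish Y η M m n hm) j₀ β
  obtain ⟨W₀, hW₀, hW₀'⟩ := (Y.ptSubι η).isEmbedding.isInducing.isOpen_iff.1 k.1.isOpen
  let W' : Y.scheme.Opens := ⟨W₀, hW₀⟩ ⊓ W
  have hgen' : ptGen Y η ∈ k.1 := ptGen_mem_of_nonempty Y η k.1 k.2.1
  have hηW' : η ∈ W' := by
    refine ⟨?_, hη⟩
    have : ptGen Y η ∈ (Y.ptSubι η) ⁻¹' W₀ := by rw [hW₀']; exact hgen'
    have h2 : (Y.ptSubι η) (ptGen Y η) ∈ W₀ := this
    rwa [ptSubι_ptGen] at h2
  have hle : W' ≤ W := inf_le_right
  have hW'cl : (W' : Set Y.scheme) ⊆ closure {η} := subset_trans (fun _ hx => hle hx) hW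
  have hd : WeilCoh.dim (W' : Scheme.{u}) = WeilCoh.dim (W : Scheme.{u}) := by
    rw [dim_open_of_subset_closure Y η W' hηW' hW'cl, dim_open_of_subset_closure Y η W hη hW]
  have hlek : (Y.ptSubι η) ⁻¹ᵁ W' ≤ k.1 := by
    intro x hx
    have : x ∈ (Y.ptSubι η) ⁻¹' W₀ := hx.1
    rw [hW₀'] at this
    exact this
  refine ⟨W', hle, hd, hηW', ?_⟩
  have hinj : Function.Injective (T.pull (eW Y η W' hW'cl) M m n).hom := by
    apply Function.LeftInverse.injective (g := (T.pull (eWinv Y η W' hW'cl) M m n).hom)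
    intro x
    rw [← pull_comp_apply, eWinv_eW, pull_id]
    rfl
  apply hinj
  rw [map_zero, ← pull_comp_apply]
  have hd' : WeilCoh.dim (((Y.ptSubι η) ⁻¹ᵁ W' : (Y.ptSub η).scheme.Opens) : Scheme.{u}) =
      WeilCoh.dim (((Y.ptSubι η) ⁻¹ᵁ W : (Y.ptSub η).scheme.Opens) : Scheme.{u}) := by
    rw [(eW Y η W' hW'cl).dim_eq, (eW Y η W hW).dim_eq]
    exact hd
  rw [← eW_natural Y η W W' hle hW hd hd', pull_comp_apply]
  have hdk : WeilCoh.dim (((Y.ptSubι η) ⁻¹ᵁ W' : (Y.ptSub η).scheme.Opens) : Scheme.{u}) =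
      WeilCoh.dim ((k.1 : (Y.ptSub η).scheme.Opens) : Scheme.{u}) :=
    hd'.trans (j₀.2.2.trans k.2.2.symm)
  have hfac : (Y.ptSub η).resLE (show (Y.ptSubι η) ⁻¹ᵁ W' ≤ (Y.ptSubι η) ⁻¹ᵁ W from
        fun _ hx => hle hx) hd' =
      (Y.ptSub η).resLE hlek hdk ≫ (Y.ptSub η).resLE hk (k.2.2.trans j₀.2.2.symm) := by
    apply BMCoh.Hom.ext
    exact (Scheme.homOfLE_homOfLE _ hlek hk).symm
  rw [hfac, pull_comp_apply]
  change (T.pull ((Y.ptSub η).resLE hlek hdk) M m n).hom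
    ((T.pull ((Y.ptSub η).resLE hk (k.2.2.trans j₀.2.2.symm)) M m n).hom β) = 0
  rw [hk0, map_zero]

end gv

section lemA

theorem dim_le_of_closedImmersion {Z Y : Scheme.{u}} (f : Z ⟶ Y) [IsClosedImmersion f]
    (hY : topologicalKrullDim Y < ⊤) : WeilCoh.dim Z ≤ WeilCoh.dim Y :=
  natDim_mono f.isEmbedding.isInducing.topologicalKrullDim_le hY

theorem resLE_resι (Y : Obj V) {U U' : Y.scheme.Opens} (h : U ≤ U')
    (hd : WeilCoh.dim (U : Scheme.{u}) = WeilCoh.dim (U' : Scheme.{u}))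
    (hd' : WeilCoh.dim (U' : Scheme.{u}) = WeilCoh.dim Y.scheme)
    (hd'' : WeilCoh.dim (U : Scheme.{u}) = WeilCoh.dim Y.scheme) :
    Y.resLE h hd ≫ Y.resι U' hd' = Y.resι U hd'' := BMCoh.Hom.ext (Scheme.homOfLE_ι _ h)

theorem neg_vanish_aux (T : TheoryOn V R A) (Y₀ : Obj V) (C : Closeds Y₀.scheme) :
    ∀ (Z : Obj V) [IsReduced Z.scheme] (ι : Z.scheme ⟶ Y₀.scheme) [IsClosedImmersion ι],
      Set.range ι = (C : Set Y₀.scheme) → ∀ (M : A.Cat) (m n : ℤ), m < 0 →
        IsZero (T.gp Z M m n) := by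
  haveI : NoetherianSpace Y₀.scheme := inferInstance
  induction C using WellFoundedLT.induction with
  | ind C ih =>
  intro Z _ ι _ hr M m n hm
  by_cases hemp : IsEmpty Z.scheme
  · exact isZero_of_isEmpty T.toPreTheory Z M m n
  rw [not_isEmpty_iff] at hemp
  obtain ⟨η, o, ho, hηo, hocl, hdim⟩ := exists_generic_top Z.scheme (finDim_obj Z)
  let W : Z.scheme.Opens := ⟨o, ho⟩
  have hdW : WeilCoh.dim (W : Scheme.{u}) = WeilCoh.dim Z.scheme := by
    rw [dim_open_of_subset_closure Z η W hηo hocl]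
    exact natDim_congr hdim
  rw [ModuleCat.isZero_iff_subsingleton]
  suffices h0 : ∀ α : T.gp Z M m n, α = 0 from ⟨fun a b => by rw [h0 a, h0 b]⟩
  intro α
  obtain ⟨W', hle, hd, hηW', hz⟩ := generic_vanishing T Z η W hηo hocl M m n hm
    ((T.pull (Z.resι W hdW) M m n).hom α)
  have hdW' : WeilCoh.dim (W' : Scheme.{u}) = WeilCoh.dim Z.scheme := hd.trans hdW
  rw [← pull_comp_apply, resLE_resι Z hle hd hdW hdW'] at hz
  obtain ⟨k, rfl⟩ : ∃ k, m = k + 1 := ⟨m - 1, by ring⟩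
  let D := decompOfOpen Z W' hdW'
  have hc : 0 ≤ relCodim D.Z.scheme Z.scheme := by
    have : WeilCoh.dim D.Z.scheme ≤ WeilCoh.dim Z.scheme :=
      dim_le_of_closedImmersion D.i (finDim_obj Z)
    simp only [relCodim]; omega
  have hex := T.exact_push_pull D M k n (k + 1 - 2 * relCodim D.Z.scheme Z.scheme)
    (n - relCodim D.Z.scheme Z.scheme) (by ring) (by ring)
  obtain ⟨b, hb⟩ := (hex α).1 hz
  have hzero : IsZero (T.gp D.Z M (k + 1 - 2 * relCodim D.Z.scheme Z.scheme)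
      (n - relCodim D.Z.scheme Z.scheme)) := by
    haveI : IsReduced D.Z.scheme := (inferInstance : IsReduced (complObj Z W').scheme)
    refine ih ⟨Set.range (D.i ≫ ι), (D.i ≫ ι).isClosedEmbedding.isClosed_range⟩ ?_ D.Z (D.i ≫ ι)
      rfl M _ _ (by omega)
    rw [← SetLike.coe_ssubset_coe]
    change Set.range (D.i ≫ ι) ⊂ (C : Set Y₀.scheme)
    rw [← hr]
    constructor
    · rintro _ ⟨x, rfl⟩
      exact ⟨D.i x, by simp⟩
    · intro hsub
      obtain ⟨z, hz'⟩ := hsub ⟨η, rfl⟩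
      have h1 : ι (D.i z) = ι η := by rw [← hz']; simp
      have h2 : D.i z = η := ι.isEmbedding.injective h1
      have h3 : η ∈ Set.range (complIdeal Z.scheme W').subschemeι := ⟨z, h2⟩
      rw [range_complι] at h3
      exact h3 hηW'
  haveI := ModuleCat.subsingleton_of_isZero hzero
  rw [← hb, Subsingleton.elim b 0, map_zero]

theorem neg_vanish (T : TheoryOn V R A) (Y : Obj V) [IsReduced Y.scheme] (M : A.Cat) (m n : ℤ)
    (hm : m < 0) : IsZero (T.gp Y M m n) :=
  neg_vanish_aux T Y ⊤ Y (𝟙 _) (by simp) M m n hm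

end lemA

section codimsec

theorem pdim_le_dim (X : Obj V) (x : X.scheme) : WeilCoh.pdim X.scheme x ≤ WeilCoh.dim X.scheme :=
  natDim_mono (topologicalKrullDim_subspace_le _ _) (finDim_obj X)

theorem dim_compl_add_le (X : Obj V) (Uo : X.scheme.Opens) (j : ℕ)
    (hbig : ∀ x : X.scheme, x ∉ Uo → j ≤ WeilCoh.codim X.scheme x)
    [hne : Nonempty (complObj X Uo).scheme] :
    WeilCoh.dim (complObj X Uo).scheme + j ≤ WeilCoh.dim X.scheme := by
  haveI : IsNoetherian (complObj X Uo).scheme := IsConstructible.isNoetherian (complObj X Uo).mem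
  obtain ⟨ζ, o, -, -, -, hdim⟩ := exists_generic_top (complObj X Uo).scheme (finDim_obj _)
  let ι := (complIdeal X.scheme Uo).subschemeι
  have hx : ι ζ ∉ Uo := by
    have : ι ζ ∈ Set.range ι := ⟨ζ, rfl⟩
    rw [range_complι] at this
    exact this
  have h1 := hbig _ hx
  have h2 := pdim_le_dim X (ι ζ)
  have hmaps : ∀ z : ↥(closure ({ζ} : Set (complObj X Uo).scheme)),
      ι z.1 ∈ closure ({ι ζ} : Set X.scheme) := by
    intro z
    have := image_closure_subset_closure_image ι.continuous (s := {ζ}) ⟨z.1, z.2, rfl⟩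
    rwa [Set.image_singleton] at this
  have hind : Topology.IsInducing (Set.codRestrict (fun z : ↥(closure ({ζ} : Set (complObj X Uo).scheme)) => ι z.1)
      (closure ({ι ζ} : Set X.scheme)) hmaps) :=
    (ι.isEmbedding.isInducing.comp Topology.IsInducing.subtypeVal).codRestrict hmaps
  have h3 : WeilCoh.dim (complObj X Uo).scheme ≤ WeilCoh.pdim X.scheme (ι ζ) := by
    unfold WeilCoh.dim WeilCoh.pdim
    rw [← natDim_congr hdim]
    exact natDim_mono hind.topologicalKrullDim_le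
      (lt_of_le_of_lt (topologicalKrullDim_subspace_le _ _) (finDim_obj X))
  unfold WeilCoh.codim at h1
  omega

theorem pull_bijective_of_codim (T : TheoryOn V R A) {U X : Obj V} (f : U ⟶ X) (j : ℕ)
    (hbig : ∀ x : X.scheme, x ∉ Set.range f.hom → j ≤ WeilCoh.codim X.scheme x) (M : A.Cat)
    (i n : ℤ) (hi : i + 2 < 2 * (j : ℤ)) :
    Function.Bijective (T.pull f M (i + 1) n).hom := by
  let Uo : X.scheme.Opens := f.hom.opensRange
  let D : Decomp X := ⟨complObj X Uo, U, (complIdeal X.scheme Uo).subschemeι, inferInstance, f, by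
    rw [range_complι, compl_compl]; rfl⟩
  have hvan : ∀ (m n' : ℤ), (Nonempty (complObj X Uo).scheme → m < 0) →
      IsZero (T.gp D.Z M m n') := by
    intro m n' hm
    by_cases hemp : IsEmpty (complObj X Uo).scheme
    · exact isZero_of_isEmpty T.toPreTheory (complObj X Uo) M m n'
    · rw [not_isEmpty_iff] at hemp
      exact neg_vanish T (complObj X Uo) M m n' (hm hemp)
  have hc : Nonempty (complObj X Uo).scheme → (j : ℤ) ≤ relCodim D.Z.scheme X.scheme := by
    intro hne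
    have := dim_compl_add_le X Uo j (fun x hx => hbig x hx)
    simp only [relCodim]
    change (j : ℤ) ≤ (WeilCoh.dim X.scheme : ℤ) - (WeilCoh.dim (complObj X Uo).scheme : ℤ)
    omega
  exact pull_bijective T.toPreTheory D M i n (i + 1 - 2 * relCodim D.Z.scheme X.scheme)
    (n - relCodim D.Z.scheme X.scheme) (i + 1 + 1 - 2 * D.codim) (by ring) (by ring)
    (hvan _ _ (fun h => by have := hc h; omega)) rfl rfl
    (hvan _ _ (fun h => by have := hc h; change i + 1 + 1 - 2 * relCodim D.Z.scheme X.scheme < 0; omega))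

end codimsec

end ptsub

end Groth.Agent.Helper23.BMLib2
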