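import Groth.Agent.Lib.Helper13.Ample
import Groth.Agent.Lib.Helper13.GenLocusQcqs

set_option autoImplicit false
set_option linter.style.haveILetI false

open CategoryTheory AlgebraicGeometry Opposite TopologicalSpace

universe u

namespace Groth.Agent.Helper23.BaseLoc

open Groth.Agent.Helper13.Tensor Groth.Agent.Helper13.Inv Groth.Agent.Helper13.GenLoc
open Groth.Agent.Helper13.Ample

variable {X : Scheme.{u}} (L : X.Modules)

/-- the base locus of `L^{⊗ m}` -/
def Bs (m : ℕ) : Set X :=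
  {x : X | ∀ s : Coh.structureModule X ⟶ CohB1.tensorPow L m,
    x ∉ CohB1.genLocus (CohB1.tensorPow L m) s}

/-- the stable base locus of `L` -/
def B : Set X :=
  {x : X | ∀ m : ℕ, 0 < m → ∀ s : Coh.structureModule X ⟶ CohB1.tensorPow L m,
    x ∉ CohB1.genLocus (CohB1.tensorPow L m) s}

theorem B_subset_Bs (m : ℕ) (hm : 0 < m) : B L ⊆ Bs L m := fun _ hx => hx m hm

theorem mem_B_iff (x : X) : x ∈ B L ↔ ∀ m : ℕ, 0 < m → x ∈ Bs L m := Iff.rfl

theorem isClosed_Bs (m : ℕ) : IsClosed (Bs L m) := by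
  have : Bs L m = (⋃ s : Coh.structureModule X ⟶ CohB1.tensorPow L m,
      (CohB1.genLocus (CohB1.tensorPow L m) s : Set X))ᶜ := by
    ext x
    simp only [Bs, Set.mem_ofPred_eq, Set.mem_compl_iff, Set.mem_iUnion, not_exists]
    rfl
  rw [this]
  exact (isOpen_iUnion fun s => (CohB1.genLocus (CohB1.tensorPow L m) s).2).isClosed_compl

variable {L}

theorem Bs_mul_subset (hL : PicF.IsInvertible L) (m k : ℕ) (hk : 0 < k) :
    Bs L (m * k) ⊆ Bs L m := by
  intro x hx s hxs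
  obtain ⟨k', rfl⟩ : ∃ k', k = k' + 1 := ⟨k - 1, by omega⟩
  apply hx (SecTwist.powHom s (k' + 1) ≫ (powMul L m (k' + 1)).hom)
  rw [genLocus_comp_iso, genLocus_powHom _ (isInvertible_tensorPow L hL m)]
  exact hxs

theorem Bs_mul_subset' (hL : PicF.IsInvertible L) (m k : ℕ) (hk : 0 < k) :
    Bs L (k * m) ⊆ Bs L m := by
  rw [mul_comm]
  exact Bs_mul_subset hL m k hk

/-- a minimal base locus is the stable base locus -/
theorem Bs_eq_B_of_minimal (hL : PicF.IsInvertible L) (m : ℕ) (hm : 0 < m)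
    (hmin : ∀ m' : ℕ, 0 < m' → Bs L m' ⊆ Bs L m → Bs L m' = Bs L m) : Bs L m = B L := by
  apply Set.Subset.antisymm _ (B_subset_Bs L m hm)
  intro x hx m' hm'
  have h1 : Bs L (m * m') = Bs L m :=
    hmin (m * m') (Nat.mul_pos hm hm') (Bs_mul_subset hL m m' hm')
  rw [← h1] at hx
  exact Bs_mul_subset' hL m' m hm hx

theorem exists_Bs_eq_B [NoetherianSpace X] (hL : PicF.IsInvertible L) :
    ∃ n₀ : ℕ, 0 < n₀ ∧ ∀ k : ℕ, 0 < k → B L = Bs L (k * n₀) := by
  let T : Set (Closeds X) := {Z | ∃ m : ℕ, 0 < m ∧ (Z : Set X) = Bs L m}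
  have hT : T.Nonempty := ⟨⟨Bs L 1, isClosed_Bs L 1⟩, 1, Nat.one_pos, rfl⟩
  obtain ⟨Z, ⟨n₀, hn₀, hZ⟩, hZmin⟩ := (wellFounded_lt (α := Closeds X)).has_min T hT
  have hmin : ∀ m' : ℕ, 0 < m' → Bs L m' ⊆ Bs L n₀ → Bs L m' = Bs L n₀ := by
    intro m' hm' hsub
    by_contra hne
    apply hZmin ⟨Bs L m', isClosed_Bs L m'⟩ ⟨m', hm', rfl⟩
    refine lt_of_le_of_ne ?_ ?_
    · intro x hx
      have : x ∈ Bs L n₀ := hsub hx
      rw [← hZ] at this
      exact this
    · intro heq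
      apply hne
      have h2 : ((⟨Bs L m', isClosed_Bs L m'⟩ : Closeds X) : Set X) = (Z : Set X) :=
        congrArg (fun Z : Closeds X => (Z : Set X)) heq
      rw [hZ] at h2
      exact h2
  have hB : Bs L n₀ = B L := Bs_eq_B_of_minimal hL n₀ hn₀ hmin
  refine ⟨n₀, hn₀, fun k hk => ?_⟩
  apply Set.Subset.antisymm (B_subset_Bs L _ (Nat.mul_pos hk hn₀))
  rw [← hB]
  exact Bs_mul_subset' hL n₀ k hk

theorem B_tensorPow (hL : PicF.IsInvertible L) (p : ℕ) (hp : 0 < p) :
    B (CohB1.tensorPow L p) = B L := by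
  apply Set.Subset.antisymm
  · intro x hx m hm s hxs
    obtain ⟨p', rfl⟩ : ∃ p', p = p' + 1 := ⟨p - 1, by omega⟩
    let e : CohB1.tensorPow (CohB1.tensorPow L m) (p' + 1) ≅
        CohB1.tensorPow (CohB1.tensorPow L (p' + 1)) m :=
      powMul L m (p' + 1) ≪≫ powCast L (Nat.mul_comm _ _) ≪≫ (powMul L (p' + 1) m).symm
    apply hx m hm (SecTwist.powHom s (p' + 1) ≫ e.hom)
    rw [genLocus_comp_iso, genLocus_powHom _ (isInvertible_tensorPow L hL m)]
    exact hxs
  · intro x hx m hm s hxs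
    apply hx (p * m) (Nat.mul_pos hp hm) (s ≫ (powMul L p m).hom)
    rw [genLocus_comp_iso]
    exact hxs

/-- a scheme proper over a field is a Noetherian topological space -/
theorem noetherianSpace_of_proper (k : Type u) [Field k] (X : Scheme.{u})
    (f : X ⟶ Spec (CommRingCat.of k)) [IsProper f] : NoetherianSpace X := by
  haveI : IsLocallyNoetherian X := LocallyOfFiniteType.isLocallyNoetherian f
  haveI : CompactSpace X := QuasiCompact.compactSpace_of_compactSpace f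
  haveI : IsNoetherian X := {}
  infer_instance

end Groth.Agent.Helper23.BaseLoc
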