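import Mathlib
import Groth.Prelude
import Groth.Agent.Lib.Helper8.Canon14

/-!
# Rees' isomorphism without the vanishing hypothesis (helper23)

For an `M`-weakly-regular sequence `rs` all of whose members kill `N`:
`Ext^i(N, M) = 0` for `i < |rs|` and `Ext^{|rs|}(N, M) ≃ Hom(N, M/(rs)M)`.
-/

set_option autoImplicit false
set_option linter.unusedSectionVars false
set_option linter.unusedVariables false
set_option linter.style.haveILetI false

namespace Groth.Agent.Helper23.BassA

open CategoryTheory Abelian Groth.Agent.Helper8 Groth.Agent.Helper8.Canon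

universe u

variable {R : Type u} [CommRing R]

theorem hom_subsingleton_of_regular (M : Type u) [AddCommGroup M] [Module R M]
    (N : Type u) [AddCommGroup N] [Module R N] (x : R) (hx : IsSMulRegular M x)
    (hN : ∀ y : N, x • y = 0) :
    Subsingleton (Ext (ModuleCat.of R N) (ModuleCat.of R M) 0) := by
  have h : Subsingleton (N →ₗ[R] M) := by
    constructor
    intro f g
    refine LinearMap.ext fun y => ?_
    apply hx
    show x • f y = x • g y
    rw [← map_smul, ← map_smul, hN y, map_zero, map_zero]
  exact (hom0 N M).symm.toEquiv.subsingleton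

theorem ext_vanish_of_regular : ∀ (rs : List R) (M : Type u) [AddCommGroup M] [Module R M]
    (N : Type u) [AddCommGroup N] [Module R N],
    RingTheory.Sequence.IsWeaklyRegular M rs → (∀ r ∈ rs, ∀ y : N, r • y = 0) →
    ∀ i < rs.length, Subsingleton (Ext (ModuleCat.of R N) (ModuleCat.of R M) i) := by
  intro rs
  induction rs with
  | nil =>
    intro M _ _ N _ _ _ _ i hi
    simp at hi
  | cons x rs ih =>
    intro M _ _ N _ _ hreg hN
    rw [RingTheory.Sequence.isWeaklyRegular_cons_iff] at hreg
    have hxN : ∀ y : N, x • y = 0 := hN x List.mem_cons_self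
    intro i
    induction i with
    | zero =>
      intro _
      exact hom_subsingleton_of_regular M N x hreg.1 hxN
    | succ j ihj =>
      intro hj
      rw [List.length_cons] at hj
      have h0 := ihj (by rw [List.length_cons]; omega)
      obtain ⟨e⟩ := rees_step M x hreg.1 N hxN j h0
      have := ih (QuotSMulTop x M) N hreg.2 (fun r hr => hN r (List.mem_cons_of_mem _ hr)) j
        (by omega)
      exact e.symm.toEquiv.subsingleton

/-- **Rees** without the vanishing hypothesis -/
theorem rees' (rs : List R) (M : Type u) [AddCommGroup M] [Module R M]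
    (N : Type u) [AddCommGroup N] [Module R N]
    (hreg : RingTheory.Sequence.IsWeaklyRegular M rs) (hN : ∀ r ∈ rs, ∀ y : N, r • y = 0) :
    Nonempty (Ext (ModuleCat.of R N) (ModuleCat.of R M) rs.length ≃ₗ[R]
      (N →ₗ[R] M ⧸ (Ideal.ofList rs • ⊤ : Submodule R M))) :=
  rees rs M N hreg hN (ext_vanish_of_regular rs M N hreg hN)

end Groth.Agent.Helper23.BassA
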