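import Mathlib
import Groth.Prelude
import Groth.Agent.Lib.Helper23.BassA1
import Groth.Agent.Lib.Helper8.ExtBC2

/-!
# Bass numbers at a maximal ideal via `Ext` over the ring itself (helper23)

`bassNum m X n = length_R Ext^n_R(R/m, X)` for a maximal ideal `m` of a Noetherian ring.
-/

set_option autoImplicit false
set_option linter.unusedSectionVars false
set_option linter.unusedVariables false
set_option linter.style.haveILetI false

namespace Groth.Agent.Helper23.BassA

open CategoryTheory Abelian Groth.Agent.Helper8 Groth.Agent.Helper8.Canon TensorProduct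

universe u

section Congr

variable {R : Type u} [CommRing R]

/-- postcomposition, as a linear map -/
noncomputable def extPost (X : ModuleCat.{u} R) {Y Y' : ModuleCat.{u} R} (g : Y ⟶ Y') (n : ℕ) :
    Ext X Y n →ₗ[R] Ext X Y' n where
  toFun a := a.comp (Ext.mk₀ g) (add_zero n)
  map_add' a b := Ext.add_comp _ _ _ _
  map_smul' r a := by
    simp only [RingHom.id_apply]
    rw [Ext.smul_comp]

theorem extPost_apply (X : ModuleCat.{u} R) {Y Y' : ModuleCat.{u} R} (g : Y ⟶ Y') (n : ℕ)
    (a : Ext X Y n) : extPost X g n a = a.comp (Ext.mk₀ g) (add_zero n) := rfl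

theorem extPost_comp (X : ModuleCat.{u} R) {Y Y' Y'' : ModuleCat.{u} R} (g : Y ⟶ Y')
    (g' : Y' ⟶ Y'') (n : ℕ) (a : Ext X Y n) :
    extPost X g' n (extPost X g n a) = extPost X (g ≫ g') n a := by
  rw [extPost_apply, extPost_apply, extPost_apply, Ext.comp_assoc_of_third_deg_zero,
    Ext.mk₀_comp_mk₀]

theorem extPost_id (X : ModuleCat.{u} R) (Y : ModuleCat.{u} R) (n : ℕ) (a : Ext X Y n) :
    extPost X (𝟙 Y) n a = a := by
  rw [extPost_apply, Ext.comp_mk₀_id]

/-- `Ext` is invariant under isomorphisms in the second variable -/
noncomputable def extCongrRight (X : ModuleCat.{u} R) {A B : Type u} [AddCommGroup A] [Module R A]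
    [AddCommGroup B] [Module R B] (e : A ≃ₗ[R] B) (n : ℕ) :
    Ext X (ModuleCat.of R A) n ≃ₗ[R] Ext X (ModuleCat.of R B) n :=
  LinearEquiv.ofLinear (extPost X (ModuleCat.ofHom e.toLinearMap) n)
    (extPost X (ModuleCat.ofHom e.symm.toLinearMap) n)
    (by
      refine LinearMap.ext fun a => ?_
      rw [LinearMap.comp_apply, extPost_comp, LinearMap.id_apply]
      have : ModuleCat.ofHom e.symm.toLinearMap ≫ ModuleCat.ofHom e.toLinearMap =
          𝟙 (ModuleCat.of R B) := by
        ext x
        exact e.apply_symm_apply x
      rw [this, extPost_id])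
    (by
      refine LinearMap.ext fun a => ?_
      rw [LinearMap.comp_apply, extPost_comp, LinearMap.id_apply]
      have : ModuleCat.ofHom e.toLinearMap ≫ ModuleCat.ofHom e.symm.toLinearMap =
          𝟙 (ModuleCat.of R A) := by
        ext x
        exact e.symm_apply_apply x
      rw [this, extPost_id])

end Congr

section Length

/-- the length does not change along a ring map through which every scalar acts like a scalar
of the base -/
theorem length_eq_of_forall_exists_smul {A B Y : Type*} [CommRing A] [CommRing B] [Algebra A B]
    [AddCommGroup Y] [Module A Y] [Module B Y] [IsScalarTower A B Y]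
    (h : ∀ (b : B) (y : Y), ∃ a : A, b • y = a • y) :
    Module.length B Y = Module.length A Y := by
  let e : Submodule B Y ≃o Submodule A Y :=
    { toFun := fun P => P.restrictScalars A
      invFun := fun P =>
        { carrier := P
          add_mem' := P.add_mem
          zero_mem' := P.zero_mem
          smul_mem' := by
            intro b y hy
            obtain ⟨a, ha⟩ := h b y
            rw [ha]
            exact P.smul_mem a hy }
      left_inv := fun P => by
        ext y
        rfl
      right_inv := fun P => by
        ext y
        rfl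
      map_rel_iff' := by
        intro P Q
        rfl }
  apply WithBot.coe_injective
  rw [Module.coe_length, Module.coe_length, Order.krullDim_eq_of_orderIso e]

end Length

end Groth.Agent.Helper23.BassA
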