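import Mathlib
import Groth.Prelude
import Groth.Agent.Lib.Helper23.BassA2

/-!
# Bass numbers at a maximal ideal via `Ext` over the ring itself, part 2 (helper23)
-/

set_option autoImplicit false
set_option linter.unusedSectionVars false
set_option linter.unusedVariables false
set_option linter.style.haveILetI false

namespace Groth.Agent.Helper23.BassA

open CategoryTheory Abelian Groth.Agent.Helper8 Groth.Agent.Helper8.Canon Groth.Agent.Helper8.ExtBC TensorProduct

universe u

variable {R : Type u} [CommRing R] (m : Ideal R) [hm : m.IsMaximal]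

/-- on a module killed by a maximal ideal `m`, the identity is a localization map at `m` -/
theorem isLocalizedModule_id_of_killed (E : Type u) [AddCommGroup E] [Module R E]
    (hE : ∀ r ∈ m, ∀ e : E, r • e = 0) :
    IsLocalizedModule m.primeCompl (LinearMap.id : E →ₗ[R] E) where
  map_units s := by
    obtain ⟨t, i, hi, hti⟩ := hm.exists_inv s.2
    have h1 : ∀ e : E, (s : R) • t • e = e := by
      intro e
      have : ((t * (s : R) + i) : R) • e = e := by rw [hti, one_smul]
      rw [add_smul, hE i hi e, add_zero, mul_comm, mul_smul] at this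
      exact this
    have h2 : ∀ e : E, t • (s : R) • e = e := by
      intro e
      rw [smul_comm]
      exact h1 e
    refine ⟨⟨algebraMap R (Module.End R E) s, algebraMap R (Module.End R E) t, ?_, ?_⟩, rfl⟩
    · refine LinearMap.ext fun e => ?_
      simp only [Module.End.mul_apply, Module.algebraMap_end_apply, Module.End.one_apply]
      exact h1 e
    · refine LinearMap.ext fun e => ?_
      simp only [Module.End.mul_apply, Module.algebraMap_end_apply, Module.End.one_apply]
      exact h2 e
  surj y := ⟨(y, 1), by simp⟩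
  exists_of_eq h := ⟨1, by simpa using h⟩

/-- for a module over `R_m` killed by `m`, the scalars of `R_m` act like scalars of `R` -/
theorem exists_smul_eq_of_killed (Y : Type u) [AddCommGroup Y] [Module R Y]
    [Module (Localization.AtPrime m) Y] [IsScalarTower R (Localization.AtPrime m) Y]
    (hY : ∀ r ∈ m, ∀ y : Y, r • y = 0) (b : Localization.AtPrime m) (y : Y) :
    ∃ a : R, b • y = a • y := by
  obtain ⟨⟨a, s⟩, rfl⟩ := IsLocalization.mk'_surjective m.primeCompl b
  obtain ⟨t, i, hi, hti⟩ := hm.exists_inv s.2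
  refine ⟨a * t, ?_⟩
  have h1 : y = ((s : R) * t) • y := by
    have : ((t * (s : R) + i) : R) • y = y := by rw [hti, one_smul]
    rw [add_smul, hY i hi y, add_zero, mul_comm] at this
    exact this.symm
  conv_lhs => rw [h1]
  rw [← algebraMap_smul (Localization.AtPrime m) ((s : R) * t) y, smul_smul, map_mul, ← mul_assoc,
    IsLocalization.mk'_spec, ← map_mul, algebraMap_smul]

variable [IsNoetherianRing R]

/-- **Bass numbers at a maximal ideal**, computed over the ring itself -/
theorem bassNum_eq_length (X : Type u) [AddCommGroup X] [Module R X] (n : ℕ) :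
    GrLC.bassNum m X n =
      Module.length R (Ext (ModuleCat.of R (R ⧸ m)) (ModuleCat.of R X) n) := by
  let A := Localization.AtPrime m
  let E := Ext (ModuleCat.of R (R ⧸ m)) (ModuleCat.of R X) n
  obtain ⟨e1⟩ := ext_baseChange (A := R) (B := A) X n (R ⧸ m)
  -- the residue field
  let l1 : (A ⧸ m.map (algebraMap R A)) ≃ₗ[A] A ⊗[R] (R ⧸ m) :=
    (Algebra.TensorProduct.quotIdealMapEquivTensorQuot A m).toLinearEquiv
  let l2 : (A ⧸ m.map (algebraMap R A)) ≃ₗ[A] IsLocalRing.ResidueField A :=
    Submodule.quotEquivOfEq _ _ (IsLocalization.AtPrime.map_eq_maximalIdeal m A)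
  let l : A ⊗[R] (R ⧸ m) ≃ₗ[A] IsLocalRing.ResidueField A := l1.symm ≪≫ₗ l2
  -- the module
  let k : A ⊗[R] X ≃ₗ[A] LocalizedModule m.primeCompl X :=
    (LocalizedModule.isBaseChange m.primeCompl X).equiv
  -- transport
  let e2 : Ext (ModuleCat.of A (A ⊗[R] (R ⧸ m))) (ModuleCat.of A (A ⊗[R] X)) n ≃ₗ[A]
      Ext (ModuleCat.of A (IsLocalRing.ResidueField A))
        (ModuleCat.of A (LocalizedModule m.primeCompl X)) n :=
    (extCongrRight _ k n) ≪≫ₗ (extCongrLeft l _ n).symm
  have h1 : GrLC.bassNum m X n = Module.length A (A ⊗[R] E) := by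
    unfold GrLC.bassNum GrLC.bassNumLocal
    exact ((e1 ≪≫ₗ e2).length_eq).symm
  rw [h1]
  -- `A ⊗ E` is killed by `m`
  have hE : ∀ r ∈ m, ∀ e : E, r • e = 0 := by
    intro r hr e
    apply ext_smul_eq_zero
    intro y
    obtain ⟨z, rfl⟩ := Ideal.Quotient.mk_surjective y
    show r • Ideal.Quotient.mk m z = 0
    rw [← Ideal.Quotient.mk_eq_mk, ← Submodule.Quotient.mk_smul]
    rw [Submodule.Quotient.mk_eq_zero]
    exact Ideal.mul_mem_right _ _ hr
  have hAE : ∀ r ∈ m, ∀ y : A ⊗[R] E, r • y = 0 := by
    intro r hr y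
    induction y using TensorProduct.induction_on with
    | zero => rw [smul_zero]
    | tmul a e =>
      rw [TensorProduct.smul_tmul', TensorProduct.smul_tmul, hE r hr e, TensorProduct.tmul_zero]
    | add y z hy hz => rw [smul_add, hy, hz, add_zero]
  rw [length_eq_of_forall_exists_smul (A := R) (B := A) (Y := A ⊗[R] E)
    (exists_smul_eq_of_killed m (A ⊗[R] E) hAE)]
  -- `A ⊗ E ≃ E` over `R`
  haveI := isLocalizedModule_id_of_killed m E hE
  let e3 : LocalizedModule m.primeCompl E ≃ₗ[R] E :=
    IsLocalizedModule.iso m.primeCompl (LinearMap.id : E →ₗ[R] E)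
  let e4 : A ⊗[R] E ≃ₗ[R] LocalizedModule m.primeCompl E :=
    ((LocalizedModule.isBaseChange m.primeCompl E).equiv).restrictScalars R
  exact (e4 ≪≫ₗ e3).length_eq

end Groth.Agent.Helper23.BassA
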