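import Mathlib
import Groth.Prelude
import Groth.Agent.Lib.Helper23.BassA3

/-!
# Bass numbers at a maximal ideal via socles modulo a regular sequence (helper23)
-/

set_option autoImplicit false
set_option linter.unusedSectionVars false
set_option linter.unusedVariables false
set_option linter.style.haveILetI false

namespace Groth.Agent.Helper23.BassA

open CategoryTheory Abelian Groth.Agent.Helper8 Groth.Agent.Helper8.Canon TensorProduct

universe u

variable {R : Type u} [CommRing R]

/-- the socle of `Y` with respect to the ideal `m` -/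
def soc (m : Ideal R) (Y : Type u) [AddCommGroup Y] [Module R Y] : Submodule R Y where
  carrier := {y | ∀ r ∈ m, r • y = 0}
  add_mem' := by
    intro a b ha hb r hr
    rw [smul_add, ha r hr, hb r hr, add_zero]
  zero_mem' := fun r _ => smul_zero r
  smul_mem' := by
    intro c y hy r hr
    rw [smul_comm, hy r hr, smul_zero]

theorem mem_soc {m : Ideal R} {Y : Type u} [AddCommGroup Y] [Module R Y] {y : Y} :
    y ∈ soc m Y ↔ ∀ r ∈ m, r • y = 0 := Iff.rfl

/-- `Hom_R(R/m, Y)` is the socle of `Y` -/
noncomputable def homEquivSoc (m : Ideal R) (Y : Type u) [AddCommGroup Y] [Module R Y] :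
    ((R ⧸ m) →ₗ[R] Y) ≃ₗ[R] soc m Y where
  toFun f := ⟨f 1, by
    intro r hr
    rw [← map_smul]
    have : r • (1 : R ⧸ m) = 0 := by
      show r • Ideal.Quotient.mk m 1 = 0
      rw [← Ideal.Quotient.mk_eq_mk, ← Submodule.Quotient.mk_smul, Submodule.Quotient.mk_eq_zero,
        smul_eq_mul, mul_one]
      exact hr
    rw [this, map_zero]⟩
  map_add' f g := rfl
  map_smul' r f := rfl
  invFun y := Submodule.liftQ m (LinearMap.toSpanSingleton R Y y.1) (by
    intro r hr
    rw [LinearMap.mem_ker, LinearMap.toSpanSingleton_apply]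
    exact y.2 r hr)
  left_inv f := by
    refine LinearMap.ext fun z => ?_
    obtain ⟨r, rfl⟩ := Ideal.Quotient.mk_surjective z
    show Submodule.liftQ m _ _ (Submodule.Quotient.mk r) = _
    rw [Submodule.liftQ_apply, LinearMap.toSpanSingleton_apply]
    show r • f 1 = f (Ideal.Quotient.mk m r)
    rw [← map_smul]
    congr 1
    show r • Ideal.Quotient.mk m 1 = _
    rw [← Ideal.Quotient.mk_eq_mk, ← Submodule.Quotient.mk_smul, smul_eq_mul, mul_one]
    rfl
  right_inv y := by
    apply Subtype.ext
    show Submodule.liftQ m _ _ (Submodule.Quotient.mk 1) = _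
    rw [Submodule.liftQ_apply, LinearMap.toSpanSingleton_apply, one_smul]

variable [IsNoetherianRing R] (m : Ideal R) [hm : m.IsMaximal]

/-- **Bass numbers via a regular sequence**: `μ^n(m, X)` is the length of the socle of
`X/(rs)X` for an `X`-regular sequence `rs` of length `n` inside the maximal ideal `m` -/
theorem bassNum_eq_length_soc (X : Type u) [AddCommGroup X] [Module R X] (rs : List R)
    (hreg : RingTheory.Sequence.IsWeaklyRegular X rs) (hrs : ∀ r ∈ rs, r ∈ m) :
    GrLC.bassNum m X rs.length =
      Module.length R (soc m (X ⧸ (Ideal.ofList rs • ⊤ : Submodule R X))) := by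
  rw [bassNum_eq_length]
  have hN : ∀ r ∈ rs, ∀ y : R ⧸ m, r • y = 0 := by
    intro r hr y
    obtain ⟨z, rfl⟩ := Ideal.Quotient.mk_surjective y
    show r • Ideal.Quotient.mk m z = 0
    rw [← Ideal.Quotient.mk_eq_mk, ← Submodule.Quotient.mk_smul, Submodule.Quotient.mk_eq_zero]
    exact Ideal.mul_mem_right _ _ (hrs r hr)
  obtain ⟨e⟩ := rees' rs X (R ⧸ m) hreg hN
  exact (e ≪≫ₗ homEquivSoc m _).length_eq

end Groth.Agent.Helper23.BassA
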