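import Mathlib
import Groth.Prelude
import Groth.Agent.Lib.Helper23.BassB1

/-!
# The chain: a homogeneous regular sequence that is coregular on the top local cohomology
(helper23)
-/

set_option autoImplicit false
set_option linter.unusedSectionVars false
set_option linter.unusedVariables false
set_option linter.style.haveILetI false

open DirectSum Groth.Agent.Helper20.GrInj Groth.Agent.Helper23.AInv Groth.Agent.Helper23.KDim
  Pointwise

namespace Groth.Agent.Helper23.BassB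

universe u

variable {R : Type u} [CommRing R]
variable {𝒜 : ℤ → AddSubgroup R} [GradedRing 𝒜]

/-- `Γ_a(M) → H⁰_a(M)` is bijective -/
theorem gamToH_bijective {M : Type u} [AddCommGroup M] [Module R M] {ℳ : ℤ → AddSubgroup M}
    [DirectSum.Decomposition ℳ] [SetLike.GradedSMul 𝒜 ℳ] (E : GrLC.StarInjRes 𝒜 ℳ)
    (a : HomogeneousIdeal 𝒜) : Function.Bijective (gamToH E a) := by
  classical
  refine ⟨gamToH_injective E a, ?_⟩
  intro w
  letI := (Hgr_isInternal E a 0).chooseDecomposition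
  have hw : w ∈ LinearMap.range (gamToH E a) := by
    rw [← DirectSum.sum_support_decompose (E.Hgr a 0) w]
    refine Submodule.sum_mem _ (fun j _ => ?_)
    obtain ⟨y, _, hy⟩ := exists_gamToH_eq E a j _ (decompose (E.Hgr a 0) w j).2
    exact ⟨y, hy⟩
  exact hw

/-- the base case: a torsion module is its own `H⁰` -/
theorem nonempty_equiv_H_zero {M : Type u} [AddCommGroup M] [Module R M] {ℳ : ℤ → AddSubgroup M}
    [DirectSum.Decomposition ℳ] [SetLike.GradedSMul 𝒜 ℳ] (E : GrLC.StarInjRes 𝒜 ℳ)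
    (a : HomogeneousIdeal 𝒜) (h : GrLC.gam a.toIdeal M = ⊤) :
    Nonempty (M ≃ₗ[R] E.H a 0) := by
  let e1 : ↥(GrLC.gam a.toIdeal M) ≃ₗ[R] E.H a 0 :=
    LinearEquiv.ofBijective (gamToH E a) (gamToH_bijective E a)
  let e2 : ↥(GrLC.gam a.toIdeal M) ≃ₗ[R] M :=
    (LinearEquiv.ofEq _ _ h) ≪≫ₗ Submodule.topEquiv
  exact ⟨e2.symm ≪≫ₗ e1⟩

/-- **the chain** -/
theorem chain [IsNoetherianRing R] (hpos' : ∀ k : ℤ, k < 0 → ∀ z ∈ 𝒜 k, z = 0)
    (m : HomogeneousIdeal 𝒜) (hm : GrLC.IsStarLocal 𝒜 m) [hmax : m.toIdeal.IsMaximal]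
    (ha : ∀ k : ℤ, 0 < k → ∀ z ∈ 𝒜 k, z ∈ m.toIdeal)
    (hagen : ∀ q : Ideal R, (∀ k : ℤ, 0 < k → ∀ z ∈ 𝒜 k, z ∈ q) → m.toIdeal ≤ q) :
    ∀ (d : ℕ) (X : GrLC.GMod.{u} 𝒜) [Module.Finite R X.carrier],
      Module.supportDim R X.carrier ≤ (d : WithBot ℕ∞) →
      (∀ i < d, ∀ E : GrLC.StarInjRes 𝒜 X.gr, ∀ w : E.H m i, w = 0) →
      ∀ E : GrLC.StarInjRes 𝒜 X.gr,
      ∃ xs : List R, xs.length = d ∧ (∀ x ∈ xs, ∃ g : ℤ, 0 < g ∧ x ∈ 𝒜 g) ∧
        RingTheory.Sequence.IsWeaklyRegular X.carrier xs ∧ CoReg (E.H m d) xs ∧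
        Nonempty ((X.carrier ⧸ (Ideal.ofList xs • ⊤ : Submodule R X.carrier)) ≃ₗ[R]
          ↥(ann (E.H m d) xs)) := by
  intro d
  induction d with
  | zero =>
    intro X _ hdim _ E
    refine ⟨[], rfl, fun x hx => absurd hx (by simp), RingTheory.Sequence.IsWeaklyRegular.nil R _,
      coReg_nil _, ?_⟩
    have hgam : GrLC.gam m.toIdeal X.carrier = ⊤ :=
      gam_eq_top_of_supportDim_le_zero m hm X (by simpa using hdim)
    obtain ⟨e⟩ := nonempty_equiv_H_zero E m hgam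
    have h0 : (Ideal.ofList ([] : List R) • ⊤ : Submodule R X.carrier) = ⊥ := by
      rw [Ideal.ofList_nil, Submodule.bot_smul]
    have h1 : ann (E.H m 0) ([] : List R) = ⊤ := by
      rw [eq_top_iff]
      intro w _ x hx
      simp at hx
    exact ⟨Submodule.quotEquivOfEqBot _ h0 ≪≫ₗ e ≪≫ₗ
      (Submodule.topEquiv.symm ≪≫ₗ (LinearEquiv.ofEq _ _ h1.symm))⟩
  | succ d ih =>
    intro X _ hdim hvan E
    -- a regular element
    have hΓ : ∀ z ∈ GrLC.gam m.toIdeal X.carrier, z = 0 :=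
      gam_eq_zero_of_H_zero E m (hvan 0 (by omega) E)
    obtain ⟨g, x, hg, hx, hxm, hxreg⟩ := exists_homog_regular 𝒜 X.gr hpos' m ha hagen hΓ
    let P : Submodule R X.carrier := x • (⊤ : Submodule R X.carrier)
    have hP : P.IsHomogeneous X.gr := smul_top_isHomogeneous X.gr hx
    let X₁ : GrLC.GMod.{u} 𝒜 := quotGMod X.gr 𝒜 P hP
    let q : X.carrier →ₗ[R] X₁.carrier := quotMk 𝒜 X.gr P hP
    have hqg : GrLC.IsGrHom X.gr X₁.gr q := quotMk_grHom 𝒜 X.gr P hP
    have hqs : Function.Surjective q := quotMk_surjective 𝒜 X.gr P hP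
    have hqk : LinearMap.ker q = LinearMap.range (LinearMap.lsmul R X.carrier x) := by
      rw [quotMk_ker]
      exact smul_top_eq_range x
    let E₁ := starInjRes 𝒜 X₁.gr
    haveI hfin1 : Module.Finite R X₁.carrier := Module.Finite.of_surjective q hqs
    have hvan₁ : ∀ i < d, ∀ E' : GrLC.StarInjRes 𝒜 X₁.gr, ∀ w : E'.H m i, w = 0 := by
      intro i hi E'
      exact H_eq_zero_of_regular m hx hxreg q hqs hqg hqk E E' i
        (hvan i (by omega) E) (hvan (i + 1) (by omega) E)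
    have hdim1 : Module.supportDim R X₁.carrier ≤ ((d : ℕ) : WithBot ℕ∞) :=
      supportDim_quot_le X hx hxreg d hdim
    obtain ⟨xs', hlen, hhom, hreg', hco', ⟨e'⟩⟩ := ih X₁ hdim1 hvan₁ E₁
    have hF1 : ∀ v : E₁.H m (d + 1), v = 0 :=
      H_eq_zero_of_supportDim_le X₁ m d hdim1 E₁ (d + 1) (by omega)
    obtain ⟨hsurj1, δ, hδinj, hδker⟩ := les_regular m hx hxreg q hqs hqg hqk E E₁
    have hδi : Function.Injective (δ d) := hδinj d (hvan d (by omega) E)
    refine ⟨x :: xs', by rw [List.length_cons, hlen], ?_, ?_, ?_, ?_⟩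
    · intro y hy
      rcases List.mem_cons.1 hy with rfl | hy
      · exact ⟨g, hg, hx⟩
      · exact hhom y hy
    · rw [RingTheory.Sequence.isWeaklyRegular_cons_iff]
      refine ⟨?_, hreg'⟩
      intro z z' hzz
      have h1 : x • (z - z') = 0 := by
        rw [smul_sub]
        exact sub_eq_zero.2 hzz
      exact sub_eq_zero.1 (hxreg _ h1)
    · exact coReg_cons x xs' (δ d) hδi (hδker d) (hsurj1 (d + 1) hF1) hco'
    · exact ⟨Submodule.quotOfListConsSMulTopEquivQuotSMulTopInner X.carrier x xs' ≪≫ₗ e' ≪≫ₗ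
        annConsEquiv x xs' (δ d) hδi (hδker d)⟩

end Groth.Agent.Helper23.BassB
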