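import Mathlib
import Groth.Prelude
import Groth.Agent.Lib.Helper20.GrMat5

/-!
# Linear algebra of a graded duality pairing (helper23)

For a `GrPairing 𝒜 𝒞 ℋ` (helper20) over a graded ring whose degree-zero part is a field:
right non-degeneracy, and the transfer of surjectivity statements on `ℋ` to injectivity statements
on `𝒞` (a homogeneous element acting surjectively on `H` acts injectively on `C`; a second element
acting surjectively on the kernel of the first acts injectively on `C / xC`).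
-/

set_option autoImplicit false
set_option linter.unusedVariables false
set_option linter.unusedSectionVars false
set_option linter.style.haveILetI false

open DirectSum

namespace Groth.Agent.Helper23.KDim

open Groth.Agent.Helper20.GrInj

universe u

variable {R : Type u} [CommRing R] {𝒜 : ℤ → AddSubgroup R} [GradedRing 𝒜]
variable {C : Type u} [AddCommGroup C] [Module R C] {𝒞 : ℤ → AddSubgroup C}
variable {H : Type u} [AddCommGroup H] [Module R H] {ℋ : ℤ → AddSubgroup H}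

section Basic

variable (P : GrPairing 𝒜 𝒞 ℋ)

theorem β_zero_left (h : H) : P.β 0 h = 0 := by
  have := P.add_left 0 0 h
  rw [add_zero] at this
  exact left_eq_add.1 this

theorem β_zero_right (c : C) : P.β c 0 = 0 := by
  have := P.add_right c 0 0
  rw [add_zero] at this
  exact left_eq_add.1 this

theorem β_neg_left (c : C) (h : H) : P.β (-c) h = - P.β c h := by
  have := P.add_left c (-c) h
  rw [add_neg_cancel, β_zero_left] at this
  exact (neg_eq_of_add_eq_zero_right this.symm).symm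

theorem β_sub_left (c c' : C) (h : H) : P.β (c - c') h = P.β c h - P.β c' h := by
  rw [sub_eq_add_neg, P.add_left, β_neg_left, sub_eq_add_neg]

/-- two elements of `𝒞 j` pairing equally with `ℋ (-j)` are equal -/
theorem eq_of_forall_β {j : ℤ} {c c' : C} (hc : c ∈ 𝒞 j) (hc' : c' ∈ 𝒞 j)
    (h : ∀ w ∈ ℋ (-j), P.β c w = P.β c' w) : c = c' := by
  have := P.nondeg j (c - c') (sub_mem hc hc') (fun w hw => by
    rw [β_sub_left, h w hw, sub_self])
  exact sub_eq_zero.1 this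

end Basic

section Field

variable [SetLike.GradedSMul 𝒜 ℋ]
variable (P : GrPairing 𝒜 𝒞 ℋ) (h0 : IsField (GrLC.deg0 𝒜))

/-- every `R₀`-linear functional on `ℋ i`, `i = -j`, is represented by an element of `𝒞 j` -/
theorem exists_of_dual (j i : ℤ) (hij : i = -j)
    (f : ↥(GrLC.comp 𝒜 ℋ i) →ₗ[GrLC.deg0 𝒜] GrLC.deg0 𝒜) :
    ∃ c ∈ 𝒞 j, ∀ (w : H) (hw : w ∈ ℋ i), P.β c w = ((f ⟨w, hw⟩ : GrLC.deg0 𝒜) : R) := by
  classical
  subst hij
  let ℓ : H → R := fun w => if hw : w ∈ ℋ (-j) then ((f ⟨w, hw⟩ : GrLC.deg0 𝒜) : R) else 0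
  have hℓ : ∀ (w : H) (hw : w ∈ ℋ (-j)), ℓ w = ((f ⟨w, hw⟩ : GrLC.deg0 𝒜) : R) := by
    intro w hw
    simp only [ℓ, dif_pos hw]
  obtain ⟨c, hc, hcβ⟩ := P.repr j ℓ
    (fun w hw => by rw [hℓ w hw]; exact (f ⟨w, hw⟩).2)
    (fun w hw w' hw' => by
      rw [hℓ w hw, hℓ w' hw', hℓ (w + w') (add_mem hw hw')]
      have : (⟨w + w', add_mem hw hw'⟩ : ↥(GrLC.comp 𝒜 ℋ (-j))) =
          (⟨w, hw⟩ : ↥(GrLC.comp 𝒜 ℋ (-j))) + ⟨w', hw'⟩ := rfl
      rw [this, map_add]
      rfl)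
    (fun s hs w hw => by
      have hsw : s • w ∈ ℋ (-j) := (GrLC.comp 𝒜 ℋ (-j)).smul_mem (⟨s, hs⟩ : GrLC.deg0 𝒜) hw
      rw [hℓ w hw, hℓ (s • w) hsw]
      have : (⟨s • w, hsw⟩ : ↥(GrLC.comp 𝒜 ℋ (-j))) =
          (⟨s, hs⟩ : GrLC.deg0 𝒜) • (⟨w, hw⟩ : ↥(GrLC.comp 𝒜 ℋ (-j))) := rfl
      rw [this, map_smul]
      rfl)
  exact ⟨c, hc, fun w hw => by rw [hcβ w hw, hℓ w hw]⟩

include h0 in
/-- right non-degeneracy -/
theorem exists_β_ne_zero {j : ℤ} {w : H} (hw : w ∈ ℋ (-j)) (hw0 : w ≠ 0) :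
    ∃ c ∈ 𝒞 j, P.β c w ≠ 0 := by
  letI : Field (GrLC.deg0 𝒜) := h0.toField
  have hv : (⟨w, hw⟩ : ↥(GrLC.comp 𝒜 ℋ (-j))) ∉ (⊥ : Submodule (GrLC.deg0 𝒜) _) := by
    rw [Submodule.mem_bot]
    intro h
    exact hw0 (congrArg Subtype.val h)
  obtain ⟨f, hf, -⟩ := Submodule.exists_le_ker_of_notMem hv
  obtain ⟨c, hc, hcβ⟩ := exists_of_dual P j (-j) rfl f
  refine ⟨c, hc, ?_⟩
  rw [hcβ w hw]
  intro h
  exact hf (Subtype.ext h)

end Field

section Transfer

variable [DirectSum.Decomposition 𝒞] [SetLike.GradedSMul 𝒜 𝒞]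
variable (P : GrPairing 𝒜 𝒞 ℋ)

include P in
/-- a homogeneous element acting surjectively on `H` acts injectively on `C` -/
theorem smul_injective_of_surjective {d : ℤ} {x : R} (hx : x ∈ 𝒜 d)
    (hsurj : ∀ w : H, ∃ w' : H, x • w' = w) : ∀ c : C, x • c = 0 → c = 0 := by
  classical
  intro c hc
  have hcomp : ∀ j : ℤ, (decompose 𝒞 c j : C) = 0 := by
    intro j
    apply P.nondeg j _ (decompose 𝒞 c j).2
    intro w _
    obtain ⟨w', rfl⟩ := hsurj w
    rw [← P.smul_left, ← decompose_smul_of_mem (𝒜 := 𝒜) 𝒞 hx c j, hc, decompose_zero,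
      DirectSum.zero_apply, ZeroMemClass.coe_zero, β_zero_left]
  rw [← DirectSum.sum_support_decompose 𝒞 c]
  exact Finset.sum_eq_zero (fun j _ => hcomp j)

end Transfer

section Quot

variable [DirectSum.Decomposition 𝒞] [SetLike.GradedSMul 𝒜 𝒞] [SetLike.GradedSMul 𝒜 ℋ]
variable (P : GrPairing 𝒜 𝒞 ℋ) (h0 : IsField (GrLC.deg0 𝒜))

include h0 P in
/-- homogeneous form of `smul_quot_injective` -/
theorem smul_quot_injective_homog {d e : ℤ} {x y : R} (hx : x ∈ 𝒜 d) (hy : y ∈ 𝒜 e)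
    (hker : ∀ w : H, x • w = 0 → ∃ w' : H, x • w' = 0 ∧ y • w' = w)
    {p : ℤ} {u : C} (hu : u ∈ 𝒞 p) (u'' : C) (huu : y • u = x • u'') :
    ∃ v ∈ 𝒞 (p - d), u = x • v := by
  classical
  letI : Field (GrLC.deg0 𝒜) := h0.toField
  have hxmem : ∀ w ∈ ℋ (-p), x • w ∈ ℋ (-(p - d)) := by
    intro w hw
    have := SetLike.GradedSMul.smul_mem (A := 𝒜) (B := ℋ) hx hw
    rw [vadd_eq_add] at this
    have e : d + -p = -(p - d) := by ring
    rwa [e] at this
  -- multiplication by `x` on pieces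
  let X : ↥(GrLC.comp 𝒜 ℋ (-p)) →ₗ[GrLC.deg0 𝒜] ↥(GrLC.comp 𝒜 ℋ (-(p - d))) :=
    { toFun := fun w => ⟨x • w.1, hxmem w.1 w.2⟩
      map_add' := fun w w' => Subtype.ext (smul_add x w.1 w'.1)
      map_smul' := fun s w => Subtype.ext (by
        show x • ((s : R) • w.1) = (s : R) • (x • w.1)
        rw [smul_comm]) }
  -- the functional `β u ·`
  let ℓ : ↥(GrLC.comp 𝒜 ℋ (-p)) →ₗ[GrLC.deg0 𝒜] GrLC.deg0 𝒜 :=
    { toFun := fun w => ⟨P.β u w.1, P.mem u w.1⟩
      map_add' := fun w w' => Subtype.ext (P.add_right u w.1 w'.1)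
      map_smul' := fun s w => Subtype.ext (P.smul_right s.1 s.2 u w.1) }
  have hle : LinearMap.ker X ≤ LinearMap.ker ℓ := by
    intro w hw
    rw [LinearMap.mem_ker] at hw ⊢
    have hw' : x • w.1 = 0 := congrArg Subtype.val hw
    obtain ⟨w', hw'0, hw'y⟩ := hker w.1 hw'
    apply Subtype.ext
    show P.β u w.1 = 0
    rw [← hw'y, ← P.smul_left, huu, P.smul_left, hw'0, β_zero_right]
  -- factor `ℓ` through `X`
  let g₀ : ↥(LinearMap.range X) →ₗ[GrLC.deg0 𝒜] GrLC.deg0 𝒜 :=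
    ((LinearMap.ker X).liftQ ℓ hle) ∘ₗ (LinearMap.quotKerEquivRange X).symm.toLinearMap
  obtain ⟨ℓ', hℓ'⟩ := LinearMap.exists_extend g₀
  have hfac : ∀ w, ℓ' (X w) = ℓ w := by
    intro w
    have h1 : ℓ' (X w) = g₀ ⟨X w, LinearMap.mem_range_self X w⟩ := by
      rw [← hℓ']
      rfl
    rw [h1]
    show ((LinearMap.ker X).liftQ ℓ hle) ((LinearMap.quotKerEquivRange X).symm
      ⟨X w, LinearMap.mem_range_self X w⟩) = ℓ w
    have h2 : (LinearMap.quotKerEquivRange X).symm ⟨X w, LinearMap.mem_range_self X w⟩ =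
        (LinearMap.ker X).mkQ w := by
      rw [LinearEquiv.symm_apply_eq]
      apply Subtype.ext
      rfl
    rw [h2, Submodule.mkQ_apply, Submodule.liftQ_apply]
  obtain ⟨v, hv, hvβ⟩ := exists_of_dual P (p - d) (-(p - d)) rfl ℓ'
  refine ⟨v, hv, ?_⟩
  have hxv : x • v ∈ 𝒞 p := by
    have := SetLike.GradedSMul.smul_mem (A := 𝒜) (B := 𝒞) hx hv
    rw [vadd_eq_add] at this
    have e : d + (p - d) = p := by ring
    rwa [e] at this
  apply eq_of_forall_β P hu hxv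
  intro w hw
  rw [P.smul_left, hvβ (x • w) (hxmem w hw)]
  have := hfac ⟨w, hw⟩
  exact (congrArg Subtype.val this).symm

include h0 P in
/-- if `y` acts surjectively on the kernel of `x` on `H`, then `y` acts injectively on `C / xC` -/
theorem smul_quot_injective {d e : ℤ} {x y : R} (hx : x ∈ 𝒜 d) (hy : y ∈ 𝒜 e)
    (hker : ∀ w : H, x • w = 0 → ∃ w' : H, x • w' = 0 ∧ y • w' = w)
    (u u'' : C) (huu : y • u = x • u'') : ∃ v : C, u = x • v := by
  classical
  have hcomp : ∀ p : ℤ, ∃ v : C, (decompose 𝒞 u p : C) = x • v := by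
    intro p
    have h1 : y • (decompose 𝒞 u p : C) = x • (decompose 𝒞 u'' (e + p - d) : C) := by
      rw [← decompose_smul_of_mem (𝒜 := 𝒜) 𝒞 hy u p, huu]
      have h2 := decompose_smul_of_mem (𝒜 := 𝒜) 𝒞 hx u'' (e + p - d)
      have e1 : d + (e + p - d) = e + p := by ring
      rw [e1] at h2
      exact h2
    obtain ⟨v, -, hv⟩ := smul_quot_injective_homog P h0 hx hy hker (decompose 𝒞 u p).2 _ h1
    exact ⟨v, hv⟩
  choose v hv using hcomp
  refine ⟨∑ p ∈ (decompose 𝒞 u).support, v p, ?_⟩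
  rw [Finset.smul_sum]
  conv_lhs => rw [← DirectSum.sum_support_decompose 𝒞 u]
  exact Finset.sum_congr rfl (fun p _ => hv p)

end Quot

end Groth.Agent.Helper23.KDim
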