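import Mathlib
import Groth.Prelude
import Groth.Agent.Lib.Helper23.KDim1
import Groth.Agent.Lib.Helper23.BassB1

/-!
# Graded duality along a coregular sequence (helper23)

For a graded duality pairing between `C` and `H` and a sequence `xs` of homogeneous elements which
is coregular on `H`, the sequence is regular on `C` and `(xs)C` is the exact annihilator of the
elements of `H` killed by `xs`.
-/

set_option autoImplicit false
set_option linter.unusedVariables false
set_option linter.unusedSectionVars false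
set_option linter.style.haveILetI false

open DirectSum

namespace Groth.Agent.Helper23.BassC

open Groth.Agent.Helper20.GrInj Groth.Agent.Helper23.KDim Groth.Agent.Helper23.BassB

universe u

variable {R : Type u} [CommRing R] {𝒜 : ℤ → AddSubgroup R} [GradedRing 𝒜]
variable {C : Type u} [AddCommGroup C] [Module R C] {𝒞 : ℤ → AddSubgroup C}
variable {H : Type u} [AddCommGroup H] [Module R H] {ℋ : ℤ → AddSubgroup H}
variable [DirectSum.Decomposition 𝒞] [SetLike.GradedSMul 𝒜 𝒞]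
variable [DirectSum.Decomposition ℋ] [SetLike.GradedSMul 𝒜 ℋ]
variable (P : GrPairing 𝒜 𝒞 ℋ) (h0 : IsField (GrLC.deg0 𝒜))

/-- `N` is the exact annihilator of `S` under the pairing, degree by degree -/
def Perf (S : Submodule R H) (N : Submodule R C) : Prop :=
  (∀ c ∈ N, ∀ h ∈ S, P.β c h = 0) ∧
    (∀ (j : ℤ), ∀ c ∈ 𝒞 j, (∀ h ∈ S, h ∈ ℋ (-j) → P.β c h = 0) → c ∈ N)

theorem perf_top_bot : Perf P (⊤ : Submodule R H) (⊥ : Submodule R C) := by
  constructor
  · intro c hc h _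
    rw [(Submodule.mem_bot R).1 hc, β_zero_left]
  · intro j c hc hh
    rw [Submodule.mem_bot]
    exact P.nondeg j c hc (fun h hhj => hh h Submodule.mem_top hhj)

omit [DirectSum.Decomposition 𝒞] [SetLike.GradedSMul 𝒜 𝒞] in
/-- homogeneous preimages under a homogeneous element acting surjectively on a homogeneous
submodule -/
theorem exists_homog_preimage {S : Submodule R H} (hS : S.IsHomogeneous ℋ) {g : ℤ} {x : R}
    (hx : x ∈ 𝒜 g) (hsurj : ∀ w ∈ S, ∃ w' ∈ S, x • w' = w) {i : ℤ} {w : H} (hw : w ∈ S)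
    (hwi : w ∈ ℋ i) : ∃ w' ∈ S, w' ∈ ℋ (i - g) ∧ x • w' = w := by
  obtain ⟨w'', hw'', hxw⟩ := hsurj w hw
  refine ⟨(decompose ℋ w'' (i - g) : H), hS (i - g) hw'', (decompose ℋ w'' (i - g)).2, ?_⟩
  have h := decompose_smul_of_mem 𝒜 ℋ hx w'' (i - g)
  rw [add_sub_cancel] at h
  rw [← h, hxw, decompose_of_mem_same ℋ hwi]

include h0 in
/-- **the step**: if `x` acts surjectively on `S` then it acts injectively on `C/N` and the
duality passes to `S ∩ ker x` and `N + xC` -/
theorem perf_step {S : Submodule R H} {N : Submodule R C} (hS : S.IsHomogeneous ℋ)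
    (hN : N.IsHomogeneous 𝒞) (hP : Perf P S N) {g : ℤ} {x : R} (hx : x ∈ 𝒜 g)
    (hsurj : ∀ w ∈ S, ∃ w' ∈ S, x • w' = w) :
    (∀ c : C, x • c ∈ N → c ∈ N) ∧
      Perf P (S ⊓ LinearMap.ker (LinearMap.lsmul R H x))
        (N ⊔ LinearMap.range (LinearMap.lsmul R C x)) := by
  classical
  have hreg_homog : ∀ (j : ℤ), ∀ c ∈ 𝒞 j, x • c ∈ N → c ∈ N := by
    intro j c hc hxc
    apply hP.2 j c hc
    intro h hh hhj
    obtain ⟨h', hh', rfl⟩ := hsurj h hh
    rw [← P.smul_left]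
    exact hP.1 _ hxc h' hh'
  refine ⟨?_, ?_, ?_⟩
  · intro c hxc
    rw [← sum_support_decompose 𝒞 c]
    refine Submodule.sum_mem _ (fun j _ => ?_)
    apply hreg_homog j _ (decompose 𝒞 c j).2
    have h := decompose_smul_of_mem 𝒜 𝒞 hx c j
    rw [← h]
    exact hN _ hxc
  · intro c hc h hh
    obtain ⟨hhS, hhk'⟩ := Submodule.mem_inf.1 hh
    have hhk : x • h = 0 := LinearMap.mem_ker.1 hhk'
    obtain ⟨n, hn, z, ⟨c', rfl⟩, rfl⟩ := Submodule.mem_sup.1 hc
    rw [P.add_left, hP.1 n hn h hhS, LinearMap.lsmul_apply, P.smul_left, hhk, β_zero_right,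
      add_zero]
  · intro j c hc hh
    -- the pieces of `S`
    let T' : Submodule (GrLC.deg0 𝒜) H :=
      (GrLC.comp 𝒜 ℋ (-j)) ⊓ S.restrictScalars (GrLC.deg0 𝒜)
    have hT'1 : ∀ w : ↥T', w.1 ∈ ℋ (-j) := fun w => (Submodule.mem_inf.1 w.2).1
    have hT'2 : ∀ w : ↥T', w.1 ∈ S := fun w => (Submodule.mem_inf.1 w.2).2
    have hxmem : ∀ w ∈ ℋ (-j), x • w ∈ ℋ (-(j - g)) := by
      intro w hw
      have := SetLike.GradedSMul.smul_mem (A := 𝒜) (B := ℋ) hx hw
      rw [vadd_eq_add] at this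
      have e : g + -j = -(j - g) := by ring
      rwa [e] at this
    let X : ↥T' →ₗ[GrLC.deg0 𝒜] ↥(GrLC.comp 𝒜 ℋ (-(j - g))) :=
      { toFun := fun w => ⟨x • w.1, hxmem w.1 (hT'1 w)⟩
        map_add' := fun w w' => Subtype.ext (smul_add x w.1 w'.1)
        map_smul' := fun s w => Subtype.ext (by
          show x • ((s : R) • w.1) = (s : R) • (x • w.1)
          rw [smul_comm]) }
    let ℓ : ↥T' →ₗ[GrLC.deg0 𝒜] GrLC.deg0 𝒜 :=
      { toFun := fun w => ⟨P.β c w.1, P.mem c w.1⟩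
        map_add' := fun w w' => Subtype.ext (P.add_right c w.1 w'.1)
        map_smul' := fun s w => Subtype.ext (P.smul_right s.1 s.2 c w.1) }
    have hle : LinearMap.ker X ≤ LinearMap.ker ℓ := by
      intro w hw
      rw [LinearMap.mem_ker] at hw ⊢
      have hw' : x • w.1 = 0 := congrArg Subtype.val hw
      apply Subtype.ext
      show P.β c w.1 = 0
      apply hh w.1 _ (hT'1 w)
      exact Submodule.mem_inf.2 ⟨hT'2 w, LinearMap.mem_ker.2 hw'⟩
    let e₀ : ↥(LinearMap.range X) ≃ₗ[GrLC.deg0 𝒜] (↥T' ⧸ LinearMap.ker X) :=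
      (LinearMap.quotKerEquivRange X).symm
    let g₀ : ↥(LinearMap.range X) →ₗ[GrLC.deg0 𝒜] GrLC.deg0 𝒜 :=
      ((LinearMap.ker X).liftQ ℓ hle) ∘ₗ e₀.toLinearMap
    obtain ⟨ℓ', hℓ'⟩ : ∃ ℓ' : ↥(GrLC.comp 𝒜 ℋ (-(j - g))) →ₗ[GrLC.deg0 𝒜] GrLC.deg0 𝒜,
        ℓ' ∘ₗ (LinearMap.range X).subtype = g₀ := by
      letI : Field (GrLC.deg0 𝒜) := h0.toField
      exact LinearMap.exists_extend g₀
    have hfac : ∀ w, ℓ' (X w) = ℓ w := by
      intro w
      have h1 : ℓ' (X w) = g₀ ⟨X w, LinearMap.mem_range_self X w⟩ := by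
        rw [← hℓ']
        rfl
      rw [h1]
      show ((LinearMap.ker X).liftQ ℓ hle) (e₀
        ⟨X w, LinearMap.mem_range_self X w⟩) = ℓ w
      have h2 : e₀ ⟨X w, LinearMap.mem_range_self X w⟩ =
          (LinearMap.ker X).mkQ w := by
        show (LinearMap.quotKerEquivRange X).symm _ = _
        rw [LinearEquiv.symm_apply_eq]
        apply Subtype.ext
        rfl
      rw [h2, Submodule.mkQ_apply, Submodule.liftQ_apply]
    obtain ⟨v, hv, hvβ⟩ := exists_of_dual P (j - g) (-(j - g)) rfl ℓ'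
    have hxv : x • v ∈ 𝒞 j := by
      have := SetLike.GradedSMul.smul_mem (A := 𝒜) (B := 𝒞) hx hv
      rw [vadd_eq_add] at this
      have e : g + (j - g) = j := by ring
      rwa [e] at this
    have hmem : c - x • v ∈ N := by
      apply hP.2 j _ (sub_mem hc hxv)
      intro h hhS hhj
      rw [β_sub_left, P.smul_left, hvβ (x • h) (hxmem h hhj)]
      have hhT : h ∈ T' := Submodule.mem_inf.2 ⟨hhj, hhS⟩
      have := hfac ⟨h, hhT⟩
      have h3 : ((ℓ' (X ⟨h, hhT⟩) : GrLC.deg0 𝒜) : R) = P.β c h :=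
        congrArg Subtype.val this
      rw [sub_eq_zero]
      exact h3.symm
    have : c = (c - x • v) + x • v := by abel
    rw [this]
    exact Submodule.add_mem _ (Submodule.mem_sup_left hmem)
      (Submodule.mem_sup_right ⟨v, rfl⟩)

end Groth.Agent.Helper23.BassC
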