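import Mathlib
import Groth.Prelude
import Groth.Agent.Lib.Helper23.BassC1
import Groth.Agent.Lib.Helper20.GrCx15

/-!
# Graded duality along a coregular sequence, part 2 (helper23)
-/

set_option autoImplicit false
set_option linter.unusedVariables false
set_option linter.unusedSectionVars false
set_option linter.style.haveILetI false

open DirectSum

namespace Groth.Agent.Helper23.BassC

open Groth.Agent.Helper20.GrInj Groth.Agent.Helper23.KDim Groth.Agent.Helper23.BassB

universe u

variable {R : Type u} [CommRing R] {𝒜 : ℤ → AddSubgroup R} [GradedRing 𝒜]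

section Homog

variable {H : Type u} [AddCommGroup H] [Module R H] {ℋ : ℤ → AddSubgroup H}
variable [DirectSum.Decomposition ℋ] [SetLike.GradedSMul 𝒜 ℋ]

theorem ann_isHomogeneous (l : List R) (hl : ∀ x ∈ l, ∃ g : ℤ, x ∈ 𝒜 g) :
    (ann H l).IsHomogeneous ℋ := by
  intro i w hw x hx
  obtain ⟨g, hg⟩ := hl x hx
  have h := decompose_smul_of_mem 𝒜 ℋ hg w i
  rw [← h, hw x hx, decompose_zero]
  rfl

theorem ofList_smul_top_isHomogeneous (l : List R) (hl : ∀ x ∈ l, ∃ g : ℤ, x ∈ 𝒜 g) :
    (Ideal.ofList l • (⊤ : Submodule R H)).IsHomogeneous ℋ := by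
  apply smul_isHomogeneous 𝒜 ℋ
  · apply Ideal.homogeneous_span
    intro x hx
    exact hl x hx
  · intro i w _
    exact Submodule.mem_top

omit [DirectSum.Decomposition ℋ] [SetLike.GradedSMul 𝒜 ℋ] [GradedRing 𝒜] in
theorem ann_append_singleton (l : List R) (x : R) :
    ann H (l ++ [x]) = ann H l ⊓ LinearMap.ker (LinearMap.lsmul R H x) := by
  ext w
  rw [Submodule.mem_inf, mem_ann, mem_ann, LinearMap.mem_ker, LinearMap.lsmul_apply]
  constructor
  · intro h
    exact ⟨fun y hy => h y (List.mem_append_left _ hy),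
      h x (List.mem_append_right _ List.mem_cons_self)⟩
  · rintro ⟨h1, h2⟩ y hy
    rcases List.mem_append.1 hy with hy | hy
    · exact h1 y hy
    · rw [List.mem_singleton] at hy
      rw [hy]
      exact h2

omit [DirectSum.Decomposition ℋ] [SetLike.GradedSMul 𝒜 ℋ] [GradedRing 𝒜] in
theorem ofList_append_singleton_smul (l : List R) (x : R) :
    (Ideal.ofList (l ++ [x]) • (⊤ : Submodule R H)) =
      Ideal.ofList l • (⊤ : Submodule R H) ⊔ LinearMap.range (LinearMap.lsmul R H x) := by
  rw [Ideal.ofList_append, Submodule.sup_smul, Ideal.ofList_singleton,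
    Submodule.ideal_span_singleton_smul]
  congr 1
  ext y
  rw [Submodule.mem_smul_pointwise_iff_exists, LinearMap.mem_range]
  constructor
  · rintro ⟨z, _, rfl⟩
    exact ⟨z, rfl⟩
  · rintro ⟨z, rfl⟩
    exact ⟨z, Submodule.mem_top, rfl⟩

end Homog

variable {C : Type u} [AddCommGroup C] [Module R C] {𝒞 : ℤ → AddSubgroup C}
variable {H : Type u} [AddCommGroup H] [Module R H] {ℋ : ℤ → AddSubgroup H}
variable [DirectSum.Decomposition 𝒞] [SetLike.GradedSMul 𝒜 𝒞]
variable [DirectSum.Decomposition ℋ] [SetLike.GradedSMul 𝒜 ℋ]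
variable (P : GrPairing 𝒜 𝒞 ℋ) (h0 : IsField (GrLC.deg0 𝒜))

include h0 in
/-- the duality along the whole sequence, together with regularity on `C` -/
theorem perf_chain (xs : List R) (hhom : ∀ x ∈ xs, ∃ g : ℤ, x ∈ 𝒜 g) (hco : CoReg H xs) :
    ∀ t : ℕ, t ≤ xs.length →
      Perf P (ann H (xs.take t)) (Ideal.ofList (xs.take t) • (⊤ : Submodule R C)) := by
  intro t
  induction t with
  | zero =>
    intro _
    have h1 : ann H (xs.take 0) = ⊤ := by
      rw [eq_top_iff]
      intro w _ x hx
      simp at hx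
    have h2 : (Ideal.ofList (xs.take 0) • (⊤ : Submodule R C)) = ⊥ := by
      rw [List.take_zero, Ideal.ofList_nil, Submodule.bot_smul]
    rw [h1, h2]
    exact perf_top_bot P
  | succ t ih =>
    intro ht
    have ht' : t < xs.length := by omega
    have hP := ih (by omega)
    have hhomt : ∀ x ∈ xs.take t, ∃ g : ℤ, x ∈ 𝒜 g :=
      fun x hx => hhom x (List.mem_of_mem_take hx)
    obtain ⟨g, hg⟩ := hhom xs[t] (List.getElem_mem ht')
    have hstep := (perf_step P h0 (ann_isHomogeneous (xs.take t) hhomt)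
      (ofList_smul_top_isHomogeneous (xs.take t) hhomt) hP hg (hco t ht')).2
    rw [List.take_succ_eq_append_getElem ht', ann_append_singleton, ofList_append_singleton_smul]
    exact hstep

include h0 P in
theorem isWeaklyRegular_of_coReg (xs : List R) (hhom : ∀ x ∈ xs, ∃ g : ℤ, x ∈ 𝒜 g)
    (hco : CoReg H xs) : RingTheory.Sequence.IsWeaklyRegular C xs := by
  constructor
  intro t ht
  rw [isSMulRegular_quotient_iff_mem_of_smul_mem]
  have hP := perf_chain P h0 xs hhom hco t ht.le
  have hhomt : ∀ x ∈ xs.take t, ∃ g : ℤ, x ∈ 𝒜 g :=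
    fun x hx => hhom x (List.mem_of_mem_take hx)
  obtain ⟨g, hg⟩ := hhom xs[t] (List.getElem_mem ht)
  exact (perf_step P h0 (ann_isHomogeneous (xs.take t) hhomt)
    (ofList_smul_top_isHomogeneous (xs.take t) hhomt) hP hg (hco t ht)).1

end Groth.Agent.Helper23.BassC
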