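import Mathlib
import Groth.Prelude
import Groth.Agent.Lib.Helper20.GrMat5

/-!
# The duality pairing of a *canonical module, with orthogonality across degrees (helper23)

A restatement of helper20's `exists_grPairing_of_isStarCanonical` which also records that
`β c h = 0` when the degrees of `c` and `h` do not add up to zero.
-/

set_option autoImplicit false
set_option linter.unusedVariables false
set_option linter.unusedSectionVars false
set_option linter.style.haveILetI false

open DirectSum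

namespace Groth.Agent.Helper23.BassC

open Groth.Agent.Helper20.GrInj

universe u

variable {R : Type u} [CommRing R] [IsNoetherianRing R] {𝒜 : ℤ → AddSubgroup R} [GradedRing 𝒜]
variable (hpos : ∀ n : ℤ, n < 0 → 𝒜 n = ⊥) (h0 : IsField (GrLC.deg0 𝒜)) (m : HomogeneousIdeal 𝒜)
  (hmsp : m.toIdeal = Ideal.span (⋃ n ∈ Set.Ioi (0 : ℤ), (𝒜 n : Set R)))
variable {E' : Type u} [AddCommGroup E'] [Module R E'] {𝓔 : ℤ → AddSubgroup E'}
  [DirectSum.Decomposition 𝓔] [SetLike.GradedSMul 𝒜 𝓔]
  (e : (R ⧸ m.toIdeal) →ₗ[R] E') (he : GrLC.IsStarInjHull 𝒜 (GrLC.quotGr 𝒜 m) 𝓔 e)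
variable {C : Type u} [AddCommGroup C] [Module R C] {𝒞 : ℤ → AddSubgroup C}
  [DirectSum.Decomposition 𝒞] [SetLike.GradedSMul 𝒜 𝒞]

include hpos h0 hmsp he in
/-- **the duality pairing of a *canonical module**, orthogonal across degrees -/
theorem exists_grPairing_orth (n : ℕ) (I : GrLC.StarInjRes 𝒜 𝒜)
    (hC : GrLC.IsStarCanonical 𝒜 𝒞 𝓔 m n I) :
    ∃ P : GrPairing 𝒜 𝒞 (I.Hgr m n), ∀ (i j : ℤ) (c : C) (h : I.H m n), c ∈ 𝒞 j →
      h ∈ I.Hgr m n i → i + j ≠ 0 → P.β c h = 0 := by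
  obtain ⟨hfin, φC, hφC⟩ := hC
  haveI : IsNoetherian R C := isNoetherian_of_isNoetherianRing_of_finite R C
  letI := HgrDec I m n
  have hsymm : ∀ {j : ℤ} {h : I.H m n}, h ∈ I.Hgr m n j → GrLC.IsGrHomDeg 𝒞 𝓔 (φC.symm h) j :=
    fun hh => symm_isGrHomDeg (I.Hgr m n) φC hφC hh
  refine ⟨{
    β := fun c h => hullCoord hpos h0 m hmsp e he (φC.symm h c)
    mem := fun c h => hullCoord_mem hpos h0 m hmsp e he _
    add_left := fun c c' h => by rw [map_add, hullCoord_add]
    add_right := fun c h h' => by rw [map_add, LinearMap.add_apply, hullCoord_add]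
    smul_left := fun r c h => by rw [map_smul, map_smul, LinearMap.smul_apply]
    smul_right := fun s hs c h => by
      rw [map_smul, LinearMap.smul_apply, hullCoord_smul hpos h0 m hmsp e he hs]
    nondeg := ?_
    repr := ?_ }, ?_⟩
  · intro j c hc hall
    by_contra hc0
    obtain ⟨f, hf, hfc⟩ := exists_homDeg_apply_eq_hullGen hpos h0 m hmsp e he hc hc0
    have h1 := hall (φC f) (hφC (-j) f hf)
    rw [LinearEquiv.symm_apply_apply, hfc, hullCoord_hullGen] at h1
    exact one_ne_zero_of_isField h0 h1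
  · intro j ℓ hmem hadd hsmul
    let ℓ' : ↥(GrLC.homDeg 𝒜 𝒞 𝓔 (-j)) →ₗ[GrLC.deg0 𝒜] GrLC.deg0 𝒜 :=
      { toFun := fun f => ⟨ℓ (φC f.1), hmem _ (hφC (-j) f.1 f.2)⟩
        map_add' := by
          intro f g
          apply Subtype.ext
          show ℓ (φC ((f : C →ₗ[R] E') + (g : C →ₗ[R] E'))) = ℓ (φC f.1) + ℓ (φC g.1)
          rw [map_add]
          exact hadd _ (hφC (-j) f.1 f.2) _ (hφC (-j) g.1 g.2)
        map_smul' := by
          intro s f
          apply Subtype.ext
          show ℓ (φC ((s : R) • (f : C →ₗ[R] E'))) = (s : R) * ℓ (φC f.1)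
          rw [map_smul]
          exact hsmul s.1 s.2 _ (hφC (-j) f.1 f.2) }
    obtain ⟨x, hx⟩ := exists_matPair_eq hpos h0 m hmsp e he j ℓ'
    refine ⟨x.1, x.2, fun h hh => ?_⟩
    have h1 := matPair_apply hpos h0 m hmsp e he j x ⟨φC.symm h, hsymm hh⟩
    rw [hx] at h1
    rw [← h1]
    show ℓ (φC (φC.symm h)) = ℓ h
    rw [LinearEquiv.apply_symm_apply]
  · intro i j c h hc hh hij
    show hullCoord hpos h0 m hmsp e he (φC.symm h c) = 0
    apply hullCoord_unique hpos h0 m hmsp e he _ (zero_mem _)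
    rw [zero_smul]
    have hmem : φC.symm h c ∈ 𝓔 (j + i) := hsymm hh j c hc
    have hne : j + i ≠ 0 := by omega
    rw [decompose_of_mem_ne 𝓔 hmem hne]

end Groth.Agent.Helper23.BassC
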