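import Mathlib

/-!
# Socles and cosocles under vector space duality (helper23)

Pure linear algebra: `V` finite-dimensional over a field `K`, `W ≃ Dual V`, and a family of
operators acting compatibly on `V` and `W` (`Φ (a_W w) v = Φ w (a_V v)`).  Then the common kernel
of the operators on `W` is dual to `V / Σ im a_V`, and `W / Σ im a_W` is dual to the common kernel of
the operators on `V`.
-/

set_option autoImplicit false

namespace Groth.Agent.Helper23.BassC

open Module

variable {K : Type*} [Field K] {V W : Type*} [AddCommGroup V] [Module K V] [FiniteDimensional K V]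
  [AddCommGroup W] [Module K W] (Φ : W ≃ₗ[K] Dual K V)
  {ι : Type*} (aV : ι → V →ₗ[K] V) (aW : ι → W →ₗ[K] W)
  (hcompat : ∀ (i : ι) (w : W) (v : V), Φ (aW i w) v = Φ w (aV i v))

/-- common kernel -/
def comKer {M : Type*} [AddCommGroup M] [Module K M] (a : ι → M →ₗ[K] M) : Submodule K M :=
  ⨅ i, LinearMap.ker (a i)

/-- sum of the images -/
def sumIm {M : Type*} [AddCommGroup M] [Module K M] (a : ι → M →ₗ[K] M) : Submodule K M :=
  ⨆ i, LinearMap.range (a i)

theorem mem_comKer {M : Type*} [AddCommGroup M] [Module K M] (a : ι → M →ₗ[K] M) (x : M) :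
    x ∈ comKer a ↔ ∀ i, a i x = 0 := by
  unfold comKer
  rw [Submodule.mem_iInf]
  exact forall_congr' (fun i => LinearMap.mem_ker)

include hcompat in
theorem map_comKer_eq : (comKer aW).map Φ.toLinearMap = (sumIm aV).dualAnnihilator := by
  ext f
  rw [Submodule.mem_map, Submodule.mem_dualAnnihilator]
  constructor
  · rintro ⟨w, hw, rfl⟩ v hv
    rw [mem_comKer] at hw
    unfold sumIm at hv
    induction hv using Submodule.iSup_induction' with
    | mem i x hx =>
      obtain ⟨y, rfl⟩ := hx
      show Φ w (aV i y) = 0
      rw [← hcompat, hw i, map_zero, LinearMap.zero_apply]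
    | zero => exact map_zero _
    | add x y _ _ hx hy => rw [map_add, hx, hy, add_zero]
  · intro hf
    refine ⟨Φ.symm f, ?_, by simp⟩
    rw [mem_comKer]
    intro i
    apply Φ.injective
    rw [map_zero]
    refine LinearMap.ext fun v => ?_
    rw [hcompat, LinearEquiv.apply_symm_apply, LinearMap.zero_apply]
    apply hf
    unfold sumIm
    exact Submodule.mem_iSup_of_mem i ⟨v, rfl⟩

include hcompat in
/-- the socle of `W` is dual to the cosocle of `V` -/
theorem finrank_comKer_add : finrank K (comKer aW) + finrank K (sumIm aV) = finrank K V := by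
  have h1 : finrank K (comKer aW) = finrank K ((comKer aW).map Φ.toLinearMap) :=
    (LinearEquiv.finrank_eq (Φ.submoduleMap (comKer aW)))
  rw [h1, map_comKer_eq Φ aV aW hcompat, add_comm]
  exact Subspace.finrank_add_finrank_dualAnnihilator_eq _

include hcompat in
theorem dualCoannihilator_map_sumIm :
    ((sumIm aW).map Φ.toLinearMap).dualCoannihilator = comKer aV := by
  ext v
  rw [Submodule.mem_dualCoannihilator, mem_comKer]
  constructor
  · intro h i
    by_contra hne
    obtain ⟨f, hf⟩ : ∃ f : Dual K V, f (aV i v) ≠ 0 := by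
      by_contra hall
      push Not at hall
      exact hne ((Module.forall_dual_apply_eq_zero_iff K (aV i v)).1 hall)
    apply hf
    have := h (Φ (aW i (Φ.symm f))) (Submodule.mem_map_of_mem
      (Submodule.mem_iSup_of_mem i ⟨Φ.symm f, rfl⟩))
    rw [hcompat, LinearEquiv.apply_symm_apply] at this
    exact this
  · intro h f hf
    obtain ⟨w, hw, rfl⟩ := hf
    unfold sumIm at hw
    induction hw using Submodule.iSup_induction' with
    | mem i x hx =>
      obtain ⟨y, rfl⟩ := hx
      show Φ (aW i y) v = 0
      rw [hcompat, h i, map_zero]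
    | zero => rw [map_zero, LinearMap.zero_apply]
    | add x y _ _ hx hy => rw [map_add, LinearMap.add_apply, hx, hy, add_zero]

include hcompat in
/-- the cosocle of `W` is dual to the socle of `V` -/
theorem finrank_sumIm_add : finrank K (sumIm aW) + finrank K (comKer aV) = finrank K V := by
  have h1 : finrank K (sumIm aW) = finrank K ((sumIm aW).map Φ.toLinearMap) :=
    (LinearEquiv.finrank_eq (Φ.submoduleMap (sumIm aW)))
  rw [h1, ← dualCoannihilator_map_sumIm Φ aV aW hcompat]
  exact Subspace.finrank_add_finrank_dualCoannihilator_eq _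

end Groth.Agent.Helper23.BassC
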