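import Mathlib
import Groth.Prelude
import Groth.Agent.Lib.Helper23.BassC2

/-!
# The duality isomorphism `C / N ≃ (S)^*` of a perfect pair (helper23)
-/

set_option autoImplicit false
set_option linter.unusedVariables false
set_option linter.unusedSectionVars false
set_option linter.style.haveILetI false

open DirectSum

namespace Groth.Agent.Helper23.BassC

open Groth.Agent.Helper20.GrInj Groth.Agent.Helper23.KDim Groth.Agent.Helper23.BassB

universe u

variable {R : Type u} [CommRing R] {𝒜 : ℤ → AddSubgroup R} [GradedRing 𝒜]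
variable {C : Type u} [AddCommGroup C] [Module R C] {𝒞 : ℤ → AddSubgroup C}
variable {H : Type u} [AddCommGroup H] [Module R H] {ℋ : ℤ → AddSubgroup H}
variable [DirectSum.Decomposition 𝒞] [SetLike.GradedSMul 𝒜 𝒞]
variable [DirectSum.Decomposition ℋ] [SetLike.GradedSMul 𝒜 ℋ]
variable (P : GrPairing 𝒜 𝒞 ℋ) (h0 : IsField (GrLC.deg0 𝒜))
variable (horth : ∀ (i j : ℤ) (c : C) (h : H), c ∈ 𝒞 j → h ∈ ℋ i → i + j ≠ 0 → P.β c h = 0)

/-- the pairing as a map into the dual of a submodule of `H` -/
noncomputable def psi (S : Submodule R H) : C →ₗ[GrLC.deg0 𝒜] Module.Dual (GrLC.deg0 𝒜) ↥S where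
  toFun c :=
    { toFun := fun v => ⟨P.β c v.1, P.mem c v.1⟩
      map_add' := fun v v' => Subtype.ext (P.add_right c v.1 v'.1)
      map_smul' := fun s v => Subtype.ext (P.smul_right s.1 s.2 c v.1) }
  map_add' c c' := by
    refine LinearMap.ext fun v => Subtype.ext ?_
    exact P.add_left c c' v.1
  map_smul' s c := by
    refine LinearMap.ext fun v => Subtype.ext ?_
    show P.β ((s : R) • c) v.1 = (s : R) * P.β c v.1
    rw [P.smul_left, P.smul_right s.1 s.2]

theorem psi_apply (S : Submodule R H) (c : C) (v : ↥S) :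
    ((psi P S c v : GrLC.deg0 𝒜) : R) = P.β c v.1 := rfl

theorem β_sum_left {ι : Type*} (s : Finset ι) (f : ι → C) (h : H) :
    P.β (∑ i ∈ s, f i) h = ∑ i ∈ s, P.β (f i) h := by
  classical
  induction s using Finset.induction_on with
  | empty => rw [Finset.sum_empty, Finset.sum_empty, β_zero_left]
  | insert a s ha ih => rw [Finset.sum_insert ha, Finset.sum_insert ha, P.add_left, ih]

theorem β_sum_right {ι : Type*} (s : Finset ι) (c : C) (f : ι → H) :
    P.β c (∑ i ∈ s, f i) = ∑ i ∈ s, P.β c (f i) := by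
  classical
  induction s using Finset.induction_on with
  | empty => rw [Finset.sum_empty, Finset.sum_empty, β_zero_right]
  | insert a s ha ih => rw [Finset.sum_insert ha, Finset.sum_insert ha, P.add_right, ih]

include horth in
theorem β_eq_decompose_left {i : ℤ} {h : H} (hh : h ∈ ℋ i) (c : C) :
    P.β c h = P.β (decompose 𝒞 c (-i) : C) h := by
  classical
  conv_lhs => rw [← sum_support_decompose 𝒞 c]
  rw [β_sum_left]
  by_cases hi : -i ∈ (decompose 𝒞 c).support
  · rw [Finset.sum_eq_single (-i)]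
    · intro j _ hj
      exact horth i j _ h (decompose 𝒞 c j).2 hh (by omega)
    · intro hn
      exact absurd hi hn
  · rw [DFinsupp.notMem_support_iff] at hi
    rw [hi, ZeroMemClass.coe_zero, β_zero_left]
    apply Finset.sum_eq_zero
    intro j hj
    have : j ≠ -i := by
      rintro rfl
      rw [DFinsupp.mem_support_iff] at hj
      exact hj hi
    exact horth i j _ h (decompose 𝒞 c j).2 hh (by omega)

include horth in
theorem β_eq_decompose_right {j : ℤ} {c : C} (hc : c ∈ 𝒞 j) (h : H) :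
    P.β c h = P.β c (decompose ℋ h (-j) : H) := by
  classical
  conv_lhs => rw [← sum_support_decompose ℋ h]
  rw [β_sum_right]
  by_cases hi : -j ∈ (decompose ℋ h).support
  · rw [Finset.sum_eq_single (-j)]
    · intro i _ hij
      exact horth i j c _ hc (decompose ℋ h i).2 (by omega)
    · intro hn
      exact absurd hi hn
  · rw [DFinsupp.notMem_support_iff] at hi
    rw [hi, ZeroMemClass.coe_zero, β_zero_right]
    apply Finset.sum_eq_zero
    intro i hi'
    have : i ≠ -j := by
      rintro rfl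
      rw [DFinsupp.mem_support_iff] at hi'
      exact hi' hi
    exact horth i j c _ hc (decompose ℋ h i).2 (by omega)

include horth in
/-- the kernel of `psi` is `N` -/
theorem psi_eq_zero_iff {S : Submodule R H} {N : Submodule R C} (hN : N.IsHomogeneous 𝒞)
    (hP : Perf P S N) (c : C) : psi P S c = 0 ↔ c ∈ N := by
  classical
  constructor
  · intro hc
    rw [← sum_support_decompose 𝒞 c]
    refine Submodule.sum_mem _ (fun j _ => ?_)
    apply hP.2 j _ (decompose 𝒞 c j).2
    intro h hhS hhj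
    have h1 := β_eq_decompose_left P horth hhj c
    rw [neg_neg] at h1
    rw [← h1]
    have h2 : psi P S c ⟨h, hhS⟩ = 0 := by rw [hc]; rfl
    exact congrArg Subtype.val h2
  · intro hc
    refine LinearMap.ext fun v => Subtype.ext ?_
    exact hP.1 c hc v.1 v.2

end Groth.Agent.Helper23.BassC

namespace Groth.Agent.Helper23.BassC

open Groth.Agent.Helper20.GrInj Groth.Agent.Helper23.KDim Groth.Agent.Helper23.BassB

universe u

variable {R : Type u} [CommRing R] {𝒜 : ℤ → AddSubgroup R} [GradedRing 𝒜]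
variable {C : Type u} [AddCommGroup C] [Module R C] {𝒞 : ℤ → AddSubgroup C}
variable {H : Type u} [AddCommGroup H] [Module R H] {ℋ : ℤ → AddSubgroup H}
variable [DirectSum.Decomposition 𝒞] [SetLike.GradedSMul 𝒜 𝒞]
variable [DirectSum.Decomposition ℋ] [SetLike.GradedSMul 𝒜 ℋ]
variable (P : GrPairing 𝒜 𝒞 ℋ) (h0 : IsField (GrLC.deg0 𝒜))
variable (horth : ∀ (i j : ℤ) (c : C) (h : H), c ∈ 𝒞 j → h ∈ ℋ i → i + j ≠ 0 → P.β c h = 0)

include h0 horth in
/-- `psi` is onto the dual when `S` lives in finitely many degrees -/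
theorem psi_surjective {S : Submodule R H} (hS : S.IsHomogeneous ℋ) (I₀ : Finset ℤ)
    (hI₀ : ∀ v ∈ S, ∀ i ∉ I₀, (decompose ℋ v i : H) = 0) : Function.Surjective (psi P S) := by
  classical
  intro f
  -- the functionals on the pieces
  have hex : ∀ i : ℤ, ∃ c ∈ 𝒞 (-i), ∀ (w : H) (hw : w ∈ ℋ i) (hwS : w ∈ S),
      P.β c w = ((f ⟨w, hwS⟩ : GrLC.deg0 𝒜) : R) := by
    intro i
    let p : Submodule (GrLC.deg0 𝒜) ↥(GrLC.comp 𝒜 ℋ i) :=
      { carrier := {w | w.1 ∈ S}
        add_mem' := fun {a b} ha hb => S.add_mem ha hb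
        zero_mem' := S.zero_mem
        smul_mem' := fun s w hw => S.smul_mem (s : R) hw }
    let fi : ↥p →ₗ[GrLC.deg0 𝒜] GrLC.deg0 𝒜 :=
      { toFun := fun w => f ⟨w.1.1, w.2⟩
        map_add' := fun w w' => by
          rw [← map_add]
          rfl
        map_smul' := fun s w => by
          rw [RingHom.id_apply, ← map_smul]
          rfl }
    obtain ⟨ℓ, hℓ⟩ : ∃ ℓ : ↥(GrLC.comp 𝒜 ℋ i) →ₗ[GrLC.deg0 𝒜] GrLC.deg0 𝒜,
        ℓ ∘ₗ p.subtype = fi := by
      letI : Field (GrLC.deg0 𝒜) := h0.toField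
      exact LinearMap.exists_extend fi
    obtain ⟨c, hc, hcβ⟩ := exists_of_dual P (-i) i (by ring) ℓ
    refine ⟨c, hc, fun w hw hwS => ?_⟩
    rw [hcβ w hw]
    have : ℓ ⟨w, hw⟩ = fi ⟨⟨w, hw⟩, hwS⟩ := by
      rw [← hℓ]
      rfl
    rw [this]
    rfl
  choose c hc hcβ using hex
  refine ⟨∑ i ∈ I₀, c i, ?_⟩
  refine LinearMap.ext fun v => ?_
  -- the components of `v`
  let π : ℤ → ↥S := fun i => ⟨(decompose ℋ v.1 i : H), hS i v.2⟩
  have hv : v = ∑ i ∈ I₀, π i := by
    apply Subtype.ext
    rw [Submodule.coe_sum]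
    show v.1 = ∑ i ∈ I₀, (decompose ℋ v.1 i : H)
    conv_lhs => rw [← sum_support_decompose ℋ v.1]
    apply Finset.sum_subset
    · intro i hi
      by_contra hn
      rw [DFinsupp.mem_support_iff] at hi
      apply hi
      apply Subtype.ext
      rw [hI₀ v.1 v.2 i hn]
      rfl
    · intro i _ hi
      rw [DFinsupp.notMem_support_iff] at hi
      rw [hi]
      rfl
  have hterm : ∀ i, psi P S (c i) v = f (π i) := by
    intro i
    apply Subtype.ext
    rw [psi_apply]
    have h1 := β_eq_decompose_right P horth (hc i) v.1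
    rw [neg_neg] at h1
    rw [h1]
    exact hcβ i _ (decompose ℋ v.1 i).2 (hS i v.2)
  rw [map_sum, LinearMap.sum_apply, Finset.sum_congr rfl (fun i _ => hterm i), ← map_sum, ← hv]

end Groth.Agent.Helper23.BassC
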