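import Mathlib
import Groth.Prelude
import Groth.Agent.Lib.Helper23.BassA4
import Groth.Agent.Lib.Helper23.BassC4

/-!
# Lengths over `R` versus dimensions over a coefficient field `k ⊆ R` with `R = k + m`
(helper23)
-/

set_option autoImplicit false
set_option linter.unusedVariables false
set_option linter.unusedSectionVars false
set_option linter.style.haveILetI false

namespace Groth.Agent.Helper23.BassC

open Groth.Agent.Helper23.BassA Module

universe u

variable {R : Type u} [CommRing R] (k : Subring R) (hk : IsField k) (m : Ideal R)
  (hdec : ∀ r : R, ∃ s ∈ k, r - s ∈ m)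

section Bridge

variable {M : Type u} [AddCommGroup M] [Module R M]

include hdec in
/-- on a module killed by `m` the scalars of `R` act like scalars of `k` -/
theorem exists_smul_eq_of_killed' (hM : ∀ r ∈ m, ∀ y : M, r • y = 0) (b : R) (y : M) :
    ∃ a : k, b • y = a • y := by
  obtain ⟨s, hs, hbs⟩ := hdec b
  refine ⟨⟨s, hs⟩, ?_⟩
  have : (b - s) • y = 0 := hM _ hbs y
  rw [sub_smul, sub_eq_zero] at this
  exact this

include hdec hk in
/-- length over `R` is dimension over `k` for a module killed by `m` -/
theorem length_eq_finrank_of_killed (hM : ∀ r ∈ m, ∀ y : M, r • y = 0)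
    (hfin : letI : Field k := hk.toField; Module.Finite k M) :
    letI : Field k := hk.toField
    Module.length R M = (finrank k M : ℕ∞) := by
  letI : Field k := hk.toField
  rw [length_eq_of_forall_exists_smul (A := k) (B := R) (Y := M)
    (exists_smul_eq_of_killed' k m hdec hM)]
  haveI := hfin
  exact Module.length_eq_finrank k M

/-- multiplication by `r` as a `k`-linear map -/
noncomputable def mulOp (M : Type u) [AddCommGroup M] [Module R M] (r : ↥m) : M →ₗ[k] M :=
  (LinearMap.lsmul R M (r : R)).restrictScalars k

theorem mulOp_apply (r : ↥m) (y : M) : mulOp k m M r y = (r : R) • y := rfl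

theorem soc_restrictScalars :
    letI : Field k := hk.toField
    (soc m M).restrictScalars k = comKer (mulOp k m M) := by
  letI : Field k := hk.toField
  ext y
  rw [Submodule.restrictScalars_mem, mem_soc, mem_comKer]
  constructor
  · intro h r
    exact h r.1 r.2
  · intro h r hr
    exact h ⟨r, hr⟩

theorem smul_top_restrictScalars :
    letI : Field k := hk.toField
    (m • (⊤ : Submodule R M)).restrictScalars k = sumIm (mulOp k m M) := by
  letI : Field k := hk.toField
  apply le_antisymm
  · intro y hy
    rw [Submodule.restrictScalars_mem] at hy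
    refine Submodule.smul_induction_on hy ?_ ?_
    · intro r hr z _
      unfold sumIm
      exact Submodule.mem_iSup_of_mem ⟨r, hr⟩ ⟨z, rfl⟩
    · intro x y hx hy
      exact Submodule.add_mem _ hx hy
  · unfold sumIm
    apply iSup_le
    rintro r y ⟨z, rfl⟩
    rw [Submodule.restrictScalars_mem]
    exact Submodule.smul_mem_smul r.2 Submodule.mem_top

end Bridge

end Groth.Agent.Helper23.BassC

namespace Groth.Agent.Helper23.BassC

open Groth.Agent.Helper23.BassA Module

universe u

variable {R : Type u} [CommRing R] (k : Subring R) (hk : IsField k) (m : Ideal R)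
  (hdec : ∀ r : R, ∃ s ∈ k, r - s ∈ m)

section Duality

variable {V W : Type u} [AddCommGroup V] [Module R V] [AddCommGroup W] [Module R W]

include hdec hk in
/-- length of a submodule killed by `m` -/
theorem length_submodule_eq_finrank (A : Submodule R W)
    (hfin : letI : Field k := hk.toField; Module.Finite k W)
    (hA : ∀ r ∈ m, ∀ y ∈ A, r • y = 0) :
    letI : Field k := hk.toField
    Module.length R ↥A = (finrank k ↥(A.restrictScalars k) : ℕ∞) := by
  letI : Field k := hk.toField
  haveI := hfin
  have h1 := length_eq_finrank_of_killed k hk m hdec (M := ↥A)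
    (fun r hr y => Subtype.ext (hA r hr y.1 y.2))
    (by
      letI : Field k := hk.toField
      exact (inferInstance : Module.Finite k ↥(A.restrictScalars k)))
  rw [h1]
  rfl

include hdec hk in
/-- length of a quotient killed by `m` -/
theorem length_quotient_eq_finrank (T : Submodule R W)
    (hfin : letI : Field k := hk.toField; Module.Finite k W)
    (hT : m • (⊤ : Submodule R W) ≤ T) :
    letI : Field k := hk.toField
    Module.length R (W ⧸ T) = (finrank k (W ⧸ T.restrictScalars k) : ℕ∞) := by
  letI : Field k := hk.toField
  haveI := hfin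
  have hkill : ∀ r ∈ m, ∀ y : W ⧸ T, r • y = 0 := by
    intro r hr y
    obtain ⟨z, rfl⟩ := Submodule.Quotient.mk_surjective T y
    rw [← Submodule.Quotient.mk_smul, Submodule.Quotient.mk_eq_zero]
    exact hT (Submodule.smul_mem_smul hr Submodule.mem_top)
  have e : (W ⧸ T.restrictScalars k) ≃ₗ[k] (W ⧸ T) :=
    Submodule.Quotient.restrictScalarsEquiv k T
  have h1 := length_eq_finrank_of_killed k hk m hdec (M := W ⧸ T) hkill
    (by
      letI : Field k := hk.toField
      exact Module.Finite.equiv e)
  rw [h1, LinearEquiv.finrank_eq e]

variable (Φ : W ≃ₗ[k] Module.Dual k V)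
  (hcompat : ∀ (r : R) (w : W) (v : V), Φ (r • w) v = Φ w (r • v))

include hdec hk hcompat in
/-- **the socle of `W ≃ V^*` is dual to the cosocle of `V`** -/
theorem length_soc_eq_length_cosoc
    (hfin : letI : Field k := hk.toField; Module.Finite k V) :
    Module.length R ↥(soc m W) = Module.length R (V ⧸ (m • ⊤ : Submodule R V)) := by
  letI : Field k := hk.toField
  haveI : Module.Finite k V := hfin
  haveI : Module.Finite k (Module.Dual k V) := inferInstance
  have hfinW : Module.Finite k W := Module.Finite.equiv Φ.symm
  rw [length_submodule_eq_finrank k hk m hdec (soc m W) hfinW (fun r hr y hy => hy r hr),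
    length_quotient_eq_finrank k hk m hdec (m • ⊤ : Submodule R V) hfin le_rfl]
  have h1 := finrank_comKer_add Φ (mulOp k m V) (mulOp k m W)
    (fun r w v => hcompat (r : R) w v)
  have h2 := Submodule.finrank_quotient_add_finrank
    ((m • ⊤ : Submodule R V).restrictScalars k)
  rw [soc_restrictScalars k hk m, smul_top_restrictScalars k hk m]
  rw [smul_top_restrictScalars k hk m] at h2
  congr 1
  omega

include hdec hk hcompat in
/-- **the cosocle of `W ≃ V^*` is dual to the socle of `V`** -/
theorem length_cosoc_eq_length_soc
    (hfin : letI : Field k := hk.toField; Module.Finite k V) :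
    Module.length R (W ⧸ (m • ⊤ : Submodule R W)) = Module.length R ↥(soc m V) := by
  letI : Field k := hk.toField
  haveI : Module.Finite k V := hfin
  haveI : Module.Finite k (Module.Dual k V) := inferInstance
  have hfinW : Module.Finite k W := Module.Finite.equiv Φ.symm
  rw [length_submodule_eq_finrank k hk m hdec (soc m V) hfin (fun r hr y hy => hy r hr),
    length_quotient_eq_finrank k hk m hdec (m • ⊤ : Submodule R W) hfinW le_rfl]
  have h1 := finrank_sumIm_add Φ (mulOp k m V) (mulOp k m W)
    (fun r w v => hcompat (r : R) w v)
  have h2 := Submodule.finrank_quotient_add_finrank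
    ((m • ⊤ : Submodule R W).restrictScalars k)
  have h3 : finrank k W = finrank k V := by
    rw [LinearEquiv.finrank_eq Φ, Subspace.dual_finrank_eq]
  rw [soc_restrictScalars k hk m, smul_top_restrictScalars k hk m]
  rw [smul_top_restrictScalars k hk m] at h2
  congr 1
  omega

end Duality

end Groth.Agent.Helper23.BassC
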