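import Mathlib
import Groth.Prelude
import Groth.Agent.Lib.Helper23.BassC6

/-!
# Finiteness over the coefficient field of modules killed by a power of `m` (helper23)
-/

set_option autoImplicit false
set_option linter.unusedVariables false
set_option linter.unusedSectionVars false
set_option linter.style.haveILetI false

namespace Groth.Agent.Helper23.BassC

open Groth.Agent.Helper23.BassA Module

universe u

variable {R : Type u} [CommRing R] (k : Subring R) (m : Ideal R)
  (hdec : ∀ r : R, ∃ s ∈ k, r - s ∈ m)

include hdec in
/-- a finitely generated module killed by `m` is finitely generated over `k` -/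
theorem finite_of_killed (U : Type u) [AddCommGroup U] [Module R U] [Module.Finite R U]
    (hU : ∀ r ∈ m, ∀ y : U, r • y = 0) : Module.Finite k U := by
  obtain ⟨s, hs⟩ := (Module.finite_def.1 ‹Module.Finite R U› : (⊤ : Submodule R U).FG)
  refine ⟨⟨s, ?_⟩⟩
  rw [eq_top_iff]
  intro y _
  have hy : y ∈ Submodule.span R (s : Set U) := by rw [hs]; exact Submodule.mem_top
  induction hy using Submodule.span_induction with
  | mem x hx => exact Submodule.subset_span hx
  | zero => exact Submodule.zero_mem _
  | add x y _ _ hx hy => exact Submodule.add_mem _ (hx Submodule.mem_top) (hy Submodule.mem_top)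
  | smul r x _ hx =>
    obtain ⟨a, ha⟩ := exists_smul_eq_of_killed' k m hdec hU r x
    rw [ha]
    exact Submodule.smul_mem _ a (hx Submodule.mem_top)

include hdec in
/-- a finitely generated module killed by a power of `m` is finitely generated over `k` -/
theorem finite_of_pow_smul_eq_zero [IsNoetherianRing R] : ∀ (t : ℕ) (U : Type u) [AddCommGroup U]
    [Module R U] [Module.Finite R U], (∀ r ∈ m ^ t, ∀ y : U, r • y = 0) → Module.Finite k U := by
  intro t
  induction t with
  | zero =>
    intro U _ _ _ hU
    haveI : Subsingleton U := by
      constructor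
      intro a b
      have h1 : ∀ y : U, y = 0 := fun y => by
        have := hU 1 (by rw [pow_zero, Ideal.one_eq_top]; exact Submodule.mem_top) y
        rwa [one_smul] at this
      rw [h1 a, h1 b]
    exact Module.Finite.of_finite
  | succ t ih =>
    intro U _ _ _ hU
    haveI : IsNoetherian R U := isNoetherian_of_isNoetherianRing_of_finite R U
    let T : Submodule R U := m • ⊤
    haveI : Module.Finite R ↥T := Module.Finite.of_fg (IsNoetherian.noetherian T)
    have hT : ∀ r ∈ m ^ t, ∀ y : ↥T, r • y = 0 := by
      intro r hr y
      apply Subtype.ext
      show r • y.1 = 0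
      refine Submodule.smul_induction_on y.2 ?_ ?_
      · intro a ha u _
        rw [smul_smul]
        apply hU
        rw [pow_succ]
        exact Ideal.mul_mem_mul hr ha
      · intro x y hx hy
        rw [smul_add, hx, hy, add_zero]
    haveI h1 : Module.Finite k ↥T := ih ↥T hT
    have hQ : ∀ r ∈ m, ∀ y : U ⧸ T, r • y = 0 := by
      intro r hr y
      obtain ⟨z, rfl⟩ := Submodule.Quotient.mk_surjective T y
      rw [← Submodule.Quotient.mk_smul, Submodule.Quotient.mk_eq_zero]
      exact Submodule.smul_mem_smul hr Submodule.mem_top
    haveI h2 : Module.Finite k (U ⧸ T) := finite_of_killed k m hdec (U ⧸ T) hQ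
    haveI h1' : Module.Finite k ↥(T.restrictScalars k) := h1
    haveI h2' : Module.Finite k (U ⧸ T.restrictScalars k) :=
      Module.Finite.equiv (Submodule.Quotient.restrictScalarsEquiv k T).symm
    exact Module.Finite.of_submodule_quotient (T.restrictScalars k)

end Groth.Agent.Helper23.BassC
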