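import Mathlib
import Groth.Prelude
import Groth.Agent.Lib.Helper23.BassC6
import Groth.Agent.Lib.Helper23.BassC7
import Groth.Agent.Lib.Helper23.BassB2

/-!
# Socles, cosocles and finiteness of the top local cohomology socle chain (helper23)
-/

set_option autoImplicit false
set_option linter.unusedSectionVars false
set_option linter.unusedVariables false
set_option linter.style.haveILetI false

open DirectSum

namespace Groth.Agent.Helper23.BassC

open Groth.Agent.Helper23.BassA Groth.Agent.Helper23.BassB Groth.Agent.Helper20.GrInj Module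

universe u

section Generic

variable {R : Type u} [CommRing R] (m : Ideal R)
variable {Q S : Type u} [AddCommGroup Q] [Module R Q] [AddCommGroup S] [Module R S]

/-- an isomorphism restricts to socles -/
theorem length_soc_congr (θ : Q ≃ₗ[R] S) :
    Module.length R ↥(soc m Q) = Module.length R ↥(soc m S) := by
  refine (LinearEquiv.ofSubmodules θ (soc m Q) (soc m S) ?_).length_eq
  ext y
  rw [Submodule.mem_map]
  constructor
  · rintro ⟨x, hx, rfl⟩ r hr
    show r • θ x = 0
    rw [← map_smul, hx r hr, map_zero]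
  · intro hy
    refine ⟨θ.symm y, ?_, θ.apply_symm_apply y⟩
    intro r hr
    rw [← map_smul, hy r hr, map_zero]

/-- an isomorphism induces an isomorphism of cosocles -/
theorem length_cosoc_congr (θ : Q ≃ₗ[R] S) :
    Module.length R (Q ⧸ (m • ⊤ : Submodule R Q)) =
      Module.length R (S ⧸ (m • ⊤ : Submodule R S)) := by
  refine (Submodule.Quotient.equiv _ _ θ ?_).length_eq
  rw [Submodule.map_smul'', Submodule.map_top, LinearEquiv.range]

/-- the cosocle of a quotient by a submodule inside `m • ⊤` -/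
theorem length_cosoc_quotient (N : Submodule R Q) (hN : N ≤ (m • ⊤ : Submodule R Q)) :
    Module.length R ((Q ⧸ N) ⧸ (m • ⊤ : Submodule R (Q ⧸ N))) =
      Module.length R (Q ⧸ (m • ⊤ : Submodule R Q)) := by
  have h : (m • ⊤ : Submodule R (Q ⧸ N)) = (m • ⊤ : Submodule R Q).map N.mkQ := by
    rw [Submodule.map_smul'', Submodule.map_top, Submodule.range_mkQ]
  exact (Submodule.quotEquivOfEq _ _ h ≪≫ₗ
    Submodule.quotientQuotientEquivQuotient N (m • ⊤) hN).length_eq

/-- the cosocle of the ring itself -/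
theorem length_cosoc_self [hm : m.IsMaximal] :
    Module.length R (R ⧸ (m • ⊤ : Submodule R R)) = 1 := by
  have h : (m • ⊤ : Submodule R R) = m := by
    show m • (⊤ : Ideal R) = m
    rw [smul_eq_mul, Ideal.mul_top]
  rw [h, Module.length_eq_one_iff, isSimpleModule_iff_isCoatom, ← Ideal.isMaximal_def]
  exact hm

/-- pointwise power torsion of a finitely generated module is uniform -/
theorem exists_pow_smul_eq_zero_of_finite [Module.Finite R Q]
    (h : ∀ y : Q, ∃ t : ℕ, ∀ r ∈ m ^ t, r • y = 0) :
    ∃ t : ℕ, ∀ r ∈ m ^ t, ∀ y : Q, r • y = 0 := by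
  classical
  obtain ⟨s, hs⟩ := (Module.finite_def.1 ‹Module.Finite R Q› : (⊤ : Submodule R Q).FG)
  choose f hf using h
  refine ⟨s.sup f, fun r hr y => ?_⟩
  have hy : y ∈ Submodule.span R (s : Set Q) := by rw [hs]; exact Submodule.mem_top
  induction hy using Submodule.span_induction with
  | mem x hx =>
    exact hf x r (Ideal.pow_le_pow_right (Finset.le_sup (f := f) hx) hr)
  | zero => exact smul_zero r
  | add x y _ _ hx hy => rw [smul_add, hx, hy, add_zero]
  | smul a x _ hx => rw [smul_comm, hx, smul_zero]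

end Generic

section Graded

variable {R : Type u} [CommRing R] {𝒜 : ℤ → AddSubgroup R} [GradedRing 𝒜]

/-- every class of `*H^i_a` is killed by a power of `a` -/
theorem H_torsion {M : Type u} [AddCommGroup M] [Module R M] {ℳ : ℤ → AddSubgroup M}
    [DirectSum.Decomposition ℳ] [SetLike.GradedSMul 𝒜 ℳ] (E : GrLC.StarInjRes 𝒜 ℳ)
    (a : HomogeneousIdeal 𝒜) (i : ℕ) (w : E.H a i) :
    ∃ t : ℕ, ∀ r ∈ a.toIdeal ^ t, r • w = 0 := by
  obtain ⟨z, rfl⟩ := Submodule.mkQ_surjective _ w
  obtain ⟨t, ht⟩ := z.2.1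
  refine ⟨t, fun r hr => ?_⟩
  rw [← map_smul]
  have : r • z = 0 := Subtype.ext (ht r hr)
  rw [this, map_zero]

variable {H : Type u} [AddCommGroup H] [Module R H] {ℋ : ℤ → AddSubgroup H}
variable [DirectSum.Decomposition ℋ] [SetLike.GradedSMul 𝒜 ℋ]

/-- a submodule finite over the degree-zero ring lives in finitely many degrees -/
theorem exists_finset_support (S : Submodule R H) [hfin : Module.Finite (GrLC.deg0 𝒜) ↥S] :
    ∃ I₀ : Finset ℤ, ∀ v ∈ S, ∀ i ∉ I₀, (decompose ℋ v i : H) = 0 := by
  classical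
  obtain ⟨s, hs⟩ := (Module.finite_def.1 hfin : (⊤ : Submodule (GrLC.deg0 𝒜) ↥S).FG)
  refine ⟨s.biUnion (fun v => (decompose ℋ (v : H)).support), ?_⟩
  intro v hv i hi
  have hmem : (⟨v, hv⟩ : ↥S) ∈ Submodule.span (GrLC.deg0 𝒜) (s : Set ↥S) := by
    rw [hs]; exact Submodule.mem_top
  have key : ∀ w : ↥S, w ∈ Submodule.span (GrLC.deg0 𝒜) (s : Set ↥S) →
      (decompose ℋ (w : H) i : H) = 0 := by
    intro w hw
    induction hw using Submodule.span_induction with
    | mem x hx =>
      by_contra hne
      apply hi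
      rw [Finset.mem_biUnion]
      refine ⟨x, hx, ?_⟩
      rw [DFinsupp.mem_support_toFun]
      intro h0
      apply hne
      rw [h0]
      rfl
    | zero =>
      rw [Submodule.coe_zero, decompose_zero]
      rfl
    | add x y _ _ hx hy =>
      rw [Submodule.coe_add, decompose_add, DirectSum.add_apply, AddMemClass.coe_add, hx, hy,
        add_zero]
    | smul a x _ hx =>
      have h1 := decompose_smul_of_mem 𝒜 ℋ (show (a : R) ∈ 𝒜 0 from a.2) (x : H) i
      rw [zero_add] at h1
      have h2 : ((a • x : ↥S) : H) = (a : R) • (x : H) := rfl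
      rw [h2, h1, hx, smul_zero]
  exact key ⟨v, hv⟩ hmem

end Graded

end Groth.Agent.Helper23.BassC
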