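import Mathlib
import Groth.Prelude
import Groth.Agent.Lib.Helper23.BassA4
import Groth.Agent.Lib.Helper23.BassC2
import Groth.Agent.Lib.Helper23.BassC3
import Groth.Agent.Lib.Helper23.BassC5
import Groth.Agent.Lib.Helper23.BassC8
import Groth.Agent.Lib.Helper23.KDim4

/-!
# Bass numbers of a *canonical module and the type of the ring (helper23)
-/

set_option autoImplicit false
set_option linter.unusedSectionVars false
set_option linter.unusedVariables false
set_option linter.style.haveILetI false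

open DirectSum
open scoped TensorProduct

namespace Groth.Agent.Helper23.BassC

open Groth.Agent.Helper23.BassA Groth.Agent.Helper23.BassB Groth.Agent.Helper20.GrInj
  Groth.Agent.Helper23.KDim Groth.Agent.Helper23.AInv Module

universe u

/-- the cosocle of a finite module as the dimension of the fibre -/
theorem length_cosoc_eq_finrank {R : Type u} [CommRing R] (m : Ideal R) [hm : m.IsMaximal]
    (C : Type u) [AddCommGroup C] [Module R C] [Module.Finite R C] :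
    Module.length R (C ⧸ (m • ⊤ : Submodule R C)) =
      (Module.finrank (R ⧸ m) ((R ⧸ m) ⊗[R] C) : ℕ∞) := by
  letI : Field (R ⧸ m) := Ideal.Quotient.field m
  rw [← (TensorProduct.quotTensorEquivQuotSMul C m).length_eq,
    ← length_eq_of_forall_exists_smul (A := R) (B := R ⧸ m) (Y := (R ⧸ m) ⊗[R] C)]
  · exact Module.length_eq_finrank (R ⧸ m) _
  · intro b y
    obtain ⟨a, rfl⟩ := Ideal.Quotient.mk_surjective b
    refine ⟨a, ?_⟩
    rw [← Ideal.Quotient.algebraMap_eq, algebraMap_smul]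

/-- **Bass numbers of the *canonical module and of the ring** -/
theorem bass_main {R : Type u} [CommRing R] [LocCoh.IsCohenMacaulayRing R]
    {𝒜 : ℤ → AddSubgroup R} [GradedRing 𝒜] (hpos : ∀ n : ℤ, n < 0 → 𝒜 n = ⊥)
    (h0 : IsField (GrLC.deg0 𝒜)) (m : HomogeneousIdeal 𝒜) (hm : GrLC.IsStarLocal 𝒜 m)
    (hmsp : m.toIdeal = Ideal.span (⋃ n ∈ Set.Ioi (0 : ℤ), (𝒜 n : Set R)))
    [hmax : m.toIdeal.IsMaximal] (n : ℕ) (hn : ringKrullDim R = n) (I : GrLC.StarInjRes 𝒜 𝒜)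
    {E' : Type u} [AddCommGroup E'] [Module R E'] {𝓔 : ℤ → AddSubgroup E'}
    [DirectSum.Decomposition 𝓔] [SetLike.GradedSMul 𝒜 𝓔] (e : (R ⧸ m.toIdeal) →ₗ[R] E')
    (he : GrLC.IsStarInjHull 𝒜 (GrLC.quotGr 𝒜 m) 𝓔 e) {C : Type u} [AddCommGroup C] [Module R C]
    {𝒞 : ℤ → AddSubgroup C} [DirectSum.Decomposition 𝒞] [SetLike.GradedSMul 𝒜 𝒞]
    (hC : GrLC.IsStarCanonical 𝒜 𝒞 𝓔 m n I) :
    GrLC.bassNum m.toIdeal C n = 1 ∧
      GrLC.bassNum m.toIdeal R n =
        (Module.finrank (R ⧸ m.toIdeal) ((R ⧸ m.toIdeal) ⊗[R] C) : ℕ∞) := by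
  classical
  haveI : IsNoetherianRing R := inferInstance
  haveI hCfin : Module.Finite R C := hC.1
  let X : GrLC.GMod.{u} 𝒜 := GrLC.GMod.of 𝒜 R 𝒜
  have hvan : ∀ i < n, ∀ E : GrLC.StarInjRes 𝒜 X.gr, ∀ w : E.H m i, w = 0 :=
    fun i hi E => H_eq_zero_of_CM hpos m hm n hn E i hi
  have hpos' : ∀ k : ℤ, k < 0 → ∀ z ∈ 𝒜 k, z = 0 := by
    intro k hk z hz
    have : z ∈ (⊥ : AddSubgroup R) := (hpos k hk) ▸ hz
    exact AddSubgroup.mem_bot.1 this
  have ha : ∀ k : ℤ, 0 < k → ∀ z ∈ 𝒜 k, z ∈ m.toIdeal := by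
    intro k hk z hz
    rw [hmsp]
    apply Ideal.subset_span
    simp only [Set.mem_iUnion]
    exact ⟨k, hk, hz⟩
  have hagen : ∀ q : Ideal R, (∀ k : ℤ, 0 < k → ∀ z ∈ 𝒜 k, z ∈ q) → m.toIdeal ≤ q := by
    intro q hq
    rw [hmsp, Ideal.span_le]
    intro z hz
    simp only [Set.mem_iUnion] at hz
    obtain ⟨k, hk, hz⟩ := hz
    exact hq k hk z hz
  haveI hfin0 : Module.Finite R X.carrier := Module.Finite.self R
  have hdim : Module.supportDim R X.carrier ≤ ((n : ℕ) : WithBot ℕ∞) := by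
    have h1 : Module.supportDim R X.carrier = ringKrullDim R :=
      Module.supportDim_self_eq_ringKrullDim R
    rw [h1, hn]
  obtain ⟨xs, hlen, hhom, hregR, hco, ⟨θ⟩⟩ := chain hpos' m hm ha hagen n X hdim hvan I
  have hregR' : RingTheory.Sequence.IsWeaklyRegular R xs := hregR
  have hco' : CoReg (I.H m n) xs := hco
  have θ' : (R ⧸ (Ideal.ofList xs • ⊤ : Submodule R R)) ≃ₗ[R] ↥(ann (I.H m n) xs) := θ
  obtain ⟨P, horth⟩ := exists_grPairing_orth hpos h0 m hmsp e he n I hC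
  letI := HgrDec I m n
  letI := Hgr_gradedSMul I m n
  have hhom' : ∀ x ∈ xs, ∃ g : ℤ, x ∈ 𝒜 g := fun x hx => (hhom x hx).imp (fun g h => h.2)
  have hperf := perf_chain P h0 xs hhom' hco' xs.length le_rfl
  rw [List.take_length] at hperf
  have hS : (ann (I.H m n) xs).IsHomogeneous (I.Hgr m n) := ann_isHomogeneous xs hhom'
  have hN : (Ideal.ofList xs • (⊤ : Submodule R C)).IsHomogeneous 𝒞 :=
    ofList_smul_top_isHomogeneous xs hhom'
  have hdec : ∀ r : R, ∃ s ∈ GrLC.deg0 𝒜, r - s ∈ m.toIdeal := fun r =>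
    ⟨(decompose 𝒜 r 0 : R), (decompose 𝒜 r 0).2, sub_decompose_zero_mem hpos m hmsp r⟩
  haveI hfinS : Module.Finite R ↥(ann (I.H m n) xs) := Module.Finite.equiv θ'
  obtain ⟨t, ht⟩ := exists_pow_smul_eq_zero_of_finite m.toIdeal (Q := ↥(ann (I.H m n) xs))
    (fun y => by
      obtain ⟨t, ht⟩ := H_torsion I m n y.1
      exact ⟨t, fun r hr => Subtype.ext (ht r hr)⟩)
  haveI hfink : Module.Finite (GrLC.deg0 𝒜) ↥(ann (I.H m n) xs) :=
    finite_of_pow_smul_eq_zero (GrLC.deg0 𝒜) m.toIdeal hdec t ↥(ann (I.H m n) xs) ht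
  obtain ⟨I₀, hI₀⟩ := exists_finset_support (𝒜 := 𝒜) (ℋ := I.Hgr m n) (ann (I.H m n) xs)
  have hxsm : ∀ x ∈ xs, x ∈ m.toIdeal := fun x hx => by
    obtain ⟨g, hg, hxg⟩ := hhom x hx
    exact ha g hg x hxg
  have hregC : RingTheory.Sequence.IsWeaklyRegular C xs :=
    isWeaklyRegular_of_coReg P h0 xs hhom' hco'
  have hker : LinearMap.ker (psi P (ann (I.H m n) xs)) =
      (Ideal.ofList xs • (⊤ : Submodule R C)).restrictScalars (GrLC.deg0 𝒜) := by
    ext c
    rw [LinearMap.mem_ker, psi_eq_zero_iff P horth hN hperf c]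
    rfl
  let Φ : (C ⧸ (Ideal.ofList xs • ⊤ : Submodule R C)) ≃ₗ[GrLC.deg0 𝒜]
      Module.Dual (GrLC.deg0 𝒜) ↥(ann (I.H m n) xs) :=
    (Submodule.Quotient.restrictScalarsEquiv (GrLC.deg0 𝒜) _).symm ≪≫ₗ
      (Submodule.quotEquivOfEq _ _ hker.symm) ≪≫ₗ
      (psi P (ann (I.H m n) xs)).quotKerEquivOfSurjective (psi_surjective P h0 horth hS I₀ hI₀)
  have hΦ : ∀ c : C, Φ (Submodule.Quotient.mk c) = psi P (ann (I.H m n) xs) c := fun c => rfl
  have hcompat : ∀ (r : R) (w : C ⧸ (Ideal.ofList xs • ⊤ : Submodule R C))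
      (v : ↥(ann (I.H m n) xs)), Φ (r • w) v = Φ w (r • v) := by
    intro r w v
    obtain ⟨c, rfl⟩ := Submodule.Quotient.mk_surjective _ w
    rw [← Submodule.Quotient.mk_smul, hΦ, hΦ]
    apply Subtype.ext
    rw [psi_apply, psi_apply]
    exact P.smul_left r c v.1
  have hle : Ideal.ofList xs ≤ m.toIdeal := by
    rw [Ideal.ofList, Ideal.span_le]
    exact fun x hx => hxsm x hx
  constructor
  · rw [← hlen, bassNum_eq_length_soc m.toIdeal C xs hregC hxsm,
      length_soc_eq_length_cosoc (GrLC.deg0 𝒜) h0 m.toIdeal hdec Φ hcompat hfink,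
      ← length_cosoc_congr m.toIdeal θ',
      length_cosoc_quotient m.toIdeal _ (Submodule.smul_mono_left hle), length_cosoc_self]
  · rw [← hlen, bassNum_eq_length_soc m.toIdeal R xs hregR' hxsm, length_soc_congr m.toIdeal θ',
      ← length_cosoc_eq_length_soc (GrLC.deg0 𝒜) h0 m.toIdeal hdec Φ hcompat hfink,
      length_cosoc_quotient m.toIdeal _ (Submodule.smul_mono_left hle),
      length_cosoc_eq_finrank]

end Groth.Agent.Helper23.BassC
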