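import Groth.Agent.Lib.Helper23.DepthExt12

set_option autoImplicit false
set_option linter.style.haveILetI false

open IsLocalRing

universe u

namespace Groth.Agent.Helper23.CDivDepth

open Groth.Agent.Helper23.DepthExt

/-- algebraic Hartogs: in a noetherian local ring with a regular pair, an element of an overfield
lying in every localization at non-maximal primes lies in the ring. -/
theorem mem_range_of_hasRegPair {A K : Type u} [CommRing A] [IsLocalRing A] [IsNoetherianRing A]
    [Field K] [Algebra A K] (hinj : Function.Injective (algebraMap A K)) (hreg : HasRegPair A)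
    (f : K)
    (H : ∀ q : Ideal A, q.IsPrime → q ≠ maximalIdeal A →
      ∃ s : A, s ∉ q ∧ s • f ∈ Set.range (algebraMap A K)) :
    f ∈ Set.range (algebraMap A K) := by
  set I : Ideal A := Submodule.comap (LinearMap.toSpanSingleton A K f)
    (LinearMap.range (Algebra.linearMap A K)) with hI
  have hmemI : ∀ r, r ∈ I ↔ ∃ c, algebraMap A K c = r • f := by
    intro r
    rw [hI, Submodule.mem_comap, LinearMap.mem_range, LinearMap.toSpanSingleton_apply]
    rfl
  by_cases htop : I = ⊤
  · have : (1 : A) ∈ I := by rw [htop]; trivial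
    obtain ⟨c, hc⟩ := (hmemI 1).1 this
    exact ⟨c, by rw [hc, one_smul]⟩
  have hrad : maximalIdeal A ≤ I.radical := by
    rw [Ideal.radical_eq_sInf]
    refine le_sInf ?_
    rintro q ⟨hIq, hq⟩
    by_cases hqm : q = maximalIdeal A
    · rw [hqm]
    · exfalso
      obtain ⟨s, hs, c, hc⟩ := H q hq hqm
      exact hs (hIq ((hmemI s).2 ⟨c, hc⟩))
  obtain ⟨n, hn⟩ := Ideal.exists_pow_le_of_le_radical_of_fg hrad
    (IsNoetherian.noetherian (maximalIdeal A))
  obtain ⟨t₁, t₂, hu1, hu2, h1, h2⟩ := hreg
  have ht1 : t₁ ^ n ∈ I := hn (Ideal.pow_mem_pow ((mem_maximalIdeal _).2 hu1) n)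
  have ht2 : t₂ ^ n ∈ I := hn (Ideal.pow_mem_pow ((mem_maximalIdeal _).2 hu2) n)
  obtain ⟨u, hu⟩ := (hmemI _).1 ht1
  obtain ⟨v, hv⟩ := (hmemI _).1 ht2
  have huv : t₂ ^ n * u = t₁ ^ n * v := by
    apply hinj
    rw [map_mul, map_mul, hu, hv, Algebra.smul_def, Algebra.smul_def]
    ring
  obtain ⟨w, hw⟩ := regpair_pow3 t₁ t₂ h1 h2 n n u v huv
  have hne : algebraMap A K (t₁ ^ n) ≠ 0 := by
    intro h0
    rw [← map_zero (algebraMap A K)] at h0
    have h00 := hinj h0
    have := regpair_pow1 t₁ h1 n 1 (by rw [mul_one, h00])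
    exact one_ne_zero this
  refine ⟨w, ?_⟩
  have : algebraMap A K (t₁ ^ n) * algebraMap A K w = algebraMap A K (t₁ ^ n) * f := by
    rw [← map_mul, ← hw, hu, Algebra.smul_def]
  exact mul_left_cancel₀ hne this

/-- membership in the image of a localization at a prime, in terms of the base ring -/
theorem mem_range_iff {R A K : Type u} [CommRing R] [CommRing A] [Algebra R A] (p : Ideal R)
    [p.IsPrime] [IsLocalization.AtPrime A p] [Field K] [Algebra R K] [Algebra A K]
    [IsScalarTower R A K] (f : K) :
    f ∈ Set.range (algebraMap A K) ↔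
      ∃ a s : R, s ∉ p ∧ s • f = algebraMap R K a := by
  constructor
  · rintro ⟨x, rfl⟩
    obtain ⟨a, ⟨s, hs⟩, rfl⟩ := IsLocalization.exists_mk'_eq p.primeCompl x
    refine ⟨a, s, hs, ?_⟩
    rw [← algebraMap_smul A s, Algebra.smul_def, ← map_mul,
      IsLocalization.mk'_spec'_mk, IsScalarTower.algebraMap_apply R A K]
  · rintro ⟨a, s, hs, h⟩
    refine ⟨IsLocalization.mk' A a (⟨s, hs⟩ : p.primeCompl), ?_⟩
    have hunit : IsUnit (algebraMap R A s) := IsLocalization.map_units A (⟨s, hs⟩ : p.primeCompl)
    have hne : algebraMap A K (algebraMap R A s) ≠ 0 := by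
      intro h0
      have : IsUnit (algebraMap A K (algebraMap R A s)) := hunit.map _
      rw [h0] at this
      exact not_isUnit_zero this
    apply mul_left_cancel₀ hne
    rw [← map_mul, mul_comm, IsLocalization.mk'_spec, ← IsScalarTower.algebraMap_apply R A K,
      ← h, ← algebraMap_smul A s, Algebra.smul_def]

/-- Hartogs at a prime `p` of a noetherian ring, in terms of the base ring. -/
theorem mem_range_of_hasRegPair_of_lt {R A K : Type u} [CommRing R] [IsNoetherianRing R]
    [CommRing A] [Algebra R A] (p : Ideal R)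
    [p.IsPrime] [IsLocalization.AtPrime A p] [Field K] [Algebra R K] [Algebra A K]
    [IsScalarTower R A K] (hinj : Function.Injective (algebraMap A K)) (hreg : HasRegPair A)
    (f : K)
    (H : ∀ q : Ideal R, q.IsPrime → q < p → ∃ a s : R, s ∉ q ∧ s • f = algebraMap R K a) :
    f ∈ Set.range (algebraMap A K) := by
  haveI : IsLocalRing A := IsLocalization.AtPrime.isLocalRing A p
  haveI : IsNoetherianRing A := IsLocalization.isNoetherianRing p.primeCompl A inferInstance
  refine mem_range_of_hasRegPair hinj hreg f ?_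
  intro Q hQ hQm
  have hqp : Q.comap (algebraMap R A) ≤ p := by
    intro r hr
    by_contra hrp
    have hunit : IsUnit (algebraMap R A r) :=
      IsLocalization.map_units A (⟨r, hrp⟩ : p.primeCompl)
    exact hQ.ne_top (Ideal.eq_top_of_isUnit_mem _ hr hunit)
  have hne : Q.comap (algebraMap R A) ≠ p := by
    intro h
    apply hQm
    have h' : Q.under R = p := h
    rw [← IsLocalization.map_under p.primeCompl A Q, h',
      IsLocalization.AtPrime.map_eq_maximalIdeal p A]
  obtain ⟨a, s, hs, h⟩ := H _ (Ideal.comap_isPrime _ Q) (lt_of_le_of_ne hqp hne)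
  refine ⟨algebraMap R A s, hs, algebraMap R A a, ?_⟩
  rw [algebraMap_smul, h, IsScalarTower.algebraMap_apply R A K]

end Groth.Agent.Helper23.CDivDepth
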