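import Groth.Agent.Lib.Helper23.CDiv1

set_option autoImplicit false
set_option linter.style.haveILetI false

open CategoryTheory AlgebraicGeometry Opposite TopologicalSpace IsLocalRing

universe u

namespace Groth.Agent.Helper23.CDivDepth

open Groth.Agent.Helper23.DepthExt

variable {X : Scheme.{u}} [IsIntegral X]

theorem mem_range_stalk_iff' (V : X.Opens) (hV : IsAffineOpen V) [Nonempty V]
    (y : PrimeSpectrum Γ(X, V)) (f : X.functionField) :
    f ∈ Set.range (algebraMap (X.presheaf.stalk (hV.fromSpec y)) X.functionField) ↔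
      ∃ a s : Γ(X, V), s ∉ y.asIdeal ∧ s • f = algebraMap Γ(X, V) X.functionField a := by
  have hy : hV.fromSpec y ∈ V := (hV.isoSpec.inv _).2
  letI : Algebra Γ(X, V) (X.presheaf.stalk (hV.fromSpec y)) :=
    TopCat.Presheaf.algebra_section_stalk X.presheaf ⟨_, hy⟩
  haveI : IsLocalization.AtPrime (X.presheaf.stalk (hV.fromSpec y)) y.asIdeal :=
    hV.isLocalization_stalk' y hy
  haveI := functionField_isScalarTower X V ⟨_, hy⟩
  exact mem_range_iff y.asIdeal f

/-- Hartogs for rational functions at a point of depth ≥ 2 -/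
theorem mem_range_of_generizations [IsLocallyNoetherian X] (z : X)
    (hreg : HasRegPair (X.presheaf.stalk z)) (f : X.functionField)
    (H : ∀ w : X, w ⤳ z → w ≠ z →
      f ∈ Set.range (algebraMap (X.presheaf.stalk w) X.functionField)) :
    f ∈ Set.range (algebraMap (X.presheaf.stalk z) X.functionField) := by
  obtain ⟨V, hV, hzV, -⟩ := exists_isAffineOpen_mem_and_subset (TopologicalSpace.Opens.mem_top z)
  haveI : Nonempty V := ⟨⟨z, hzV⟩⟩
  haveI : IsNoetherianRing Γ(X, V) := IsLocallyNoetherian.component_noetherian ⟨V, hV⟩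
  set p := hV.primeIdealOf ⟨z, hzV⟩ with hp
  letI : Algebra Γ(X, V) (X.presheaf.stalk z) :=
    TopCat.Presheaf.algebra_section_stalk X.presheaf ⟨z, hzV⟩
  haveI : IsLocalization.AtPrime (X.presheaf.stalk z) p.asIdeal :=
    hV.isLocalization_stalk ⟨z, hzV⟩
  haveI := functionField_isScalarTower X V ⟨z, hzV⟩
  refine mem_range_of_hasRegPair_of_lt p.asIdeal (IsFractionRing.injective _ _) hreg f ?_
  intro q hq hqp
  have hspec : hV.fromSpec ⟨q, hq⟩ ⤳ z := by
    have h1 : (⟨q, hq⟩ : PrimeSpectrum Γ(X, V)) ⤳ p :=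
      (PrimeSpectrum.le_iff_specializes _ _).1 hqp.le
    have h2 := h1.map hV.fromSpec.continuous
    rwa [hV.fromSpec_primeIdealOf ⟨z, hzV⟩] at h2
  have hne : hV.fromSpec ⟨q, hq⟩ ≠ z := by
    intro h
    have h3 : hV.fromSpec ⟨q, hq⟩ = hV.fromSpec p := by
      rw [hV.fromSpec_primeIdealOf ⟨z, hzV⟩]; exact h
    have h4 := hV.fromSpec.isOpenEmbedding.injective h3
    exact hqp.ne (congrArg PrimeSpectrum.asIdeal h4)
  exact (mem_range_stalk_iff' V hV ⟨q, hq⟩ f).1 (H _ hspec hne)

/-- a local domain without regular non-unit is its own fraction field -/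
theorem surjective_of_not_hasReg1 {A K : Type*} [CommRing A] [IsDomain A] [Field K] [Algebra A K]
    [IsFractionRing A K] (h : ¬ HasReg1 A) : Function.Surjective (algebraMap A K) := by
  intro f
  obtain ⟨a, b, hb, rfl⟩ := IsFractionRing.div_surjective (A := A) f
  have hb0 : b ≠ 0 := nonZeroDivisors.ne_zero hb
  have hunit : IsUnit b := by
    by_contra hu
    exact h ⟨b, hu, fun x hx => (mul_eq_zero.1 hx).resolve_left hb0⟩
  obtain ⟨u, rfl⟩ := hunit
  refine ⟨a * (u⁻¹ : Aˣ), ?_⟩
  rw [map_mul, eq_div_iff (by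
    intro h0
    exact hb0 ((injective_iff_map_eq_zero (algebraMap A K)).1 (IsFractionRing.injective A K) _ h0)),
    mul_assoc, ← map_mul, Units.inv_mul, map_one, mul_one]

end Groth.Agent.Helper23.CDivDepth
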