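import Groth.Agent.Lib.Helper23.CDiv2

set_option autoImplicit false
set_option linter.style.haveILetI false

open CategoryTheory AlgebraicGeometry Opposite TopologicalSpace IsLocalRing

universe u

namespace Groth.Agent.Helper23.CDivDepth

open Groth.Agent.Helper23.DepthExt

variable {X : Scheme.{u}} [IsIntegral X]

theorem depth_cases (S : Type u) [CommRing S] [IsLocalRing S] :
    ¬ HasReg1 S ∨ LocCoh.depth S S = 1 ∨ HasRegPair S := by
  by_cases h1 : HasReg1 S
  · right
    by_cases h2 : (2 : ℕ∞) ≤ LocCoh.depth S S
    · exact Or.inr (hasRegPair_of_depth S h2)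
    · left
      have h1' := (hasReg1_iff_depth S).1 h1
      refine le_antisymm ?_ h1'
      by_contra h
      push Not at h
      apply h2
      have := Order.add_one_le_of_lt h
      rwa [one_add_one_eq_two] at this
  · exact Or.inl h1

/-- a rational function lying in the local rings of all depth-one generizations of `x` lies in
the local ring of `x` -/
theorem mem_range_of_depth_one [IsLocallyNoetherian X] (x : X) (f : X.functionField)
    (H : ∀ z : X, z ⤳ x → LocCoh.depth (X.presheaf.stalk z) (X.presheaf.stalk z) = 1 →
      f ∈ Set.range (algebraMap (X.presheaf.stalk z) X.functionField)) :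
    f ∈ Set.range (algebraMap (X.presheaf.stalk x) X.functionField) := by
  obtain ⟨V, hV, hxV, -⟩ := exists_isAffineOpen_mem_and_subset (TopologicalSpace.Opens.mem_top x)
  haveI : Nonempty V := ⟨⟨x, hxV⟩⟩
  haveI : IsNoetherianRing Γ(X, V) := IsLocallyNoetherian.component_noetherian ⟨V, hV⟩
  set p := hV.primeIdealOf ⟨x, hxV⟩ with hp
  have key : ∀ n : ℕ∞, ∀ q : PrimeSpectrum Γ(X, V), q.asIdeal.height = n → q ≤ p →
      ∃ a s : Γ(X, V), s ∉ q.asIdeal ∧ s • f = algebraMap Γ(X, V) X.functionField a := by
    intro n
    induction n using WellFoundedLT.induction with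
    | ind n ih =>
      intro q hqn hqp
      have hspec : hV.fromSpec q ⤳ x := by
        have h1 : q ⤳ p := (PrimeSpectrum.le_iff_specializes _ _).1 hqp
        have h2 := h1.map hV.fromSpec.continuous
        rwa [hV.fromSpec_primeIdealOf ⟨x, hxV⟩] at h2
      have hy : hV.fromSpec q ∈ V := (hV.isoSpec.inv _).2
      rw [← mem_range_stalk_iff' V hV q f]
      rcases depth_cases (X.presheaf.stalk (hV.fromSpec q)) with h0 | h1 | h2
      · exact Set.mem_range.2 (surjective_of_not_hasReg1 h0 f)
      · exact H _ hspec h1
      · letI : Algebra Γ(X, V) (X.presheaf.stalk (hV.fromSpec q)) :=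
          TopCat.Presheaf.algebra_section_stalk X.presheaf ⟨_, hy⟩
        haveI : IsLocalization.AtPrime (X.presheaf.stalk (hV.fromSpec q)) q.asIdeal :=
          hV.isLocalization_stalk' q hy
        haveI := functionField_isScalarTower X V ⟨_, hy⟩
        refine mem_range_of_hasRegPair_of_lt q.asIdeal (IsFractionRing.injective _ _) h2 f ?_
        intro q' hq' hlt
        haveI := hq'
        have hht : q'.height < n := by
          rw [← hqn]
          exact Ideal.height_strict_mono_of_isPrime hlt
        exact ih _ hht ⟨q', hq'⟩ rfl (le_trans hlt.le hqp)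
  have := (mem_range_stalk_iff' V hV p f).2 (key _ p rfl le_rfl)
  have hx : hV.fromSpec p = x := hV.fromSpec_primeIdealOf ⟨x, hxV⟩
  rw [hx] at this
  exact this

end Groth.Agent.Helper23.CDivDepth
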