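import Mathlib

/-!
# Finite coproducts of finite morphisms are finite (helper23)
-/

set_option autoImplicit false
universe u
open CategoryTheory CategoryTheory.Limits AlgebraicGeometry

namespace Groth.Agent.Helper23.SigmaFinite

/-- the comparison `Y none ⨿ ∐ (Y ∘ some) ⟶ ∐ Y` -/
noncomputable def optionComp {α : Type u} (Y : Option α → Scheme.{u}) :
    (Y none ⨿ ∐ fun a : α => Y (some a)) ⟶ ∐ Y :=
  coprod.desc (Sigma.ι Y none) (Sigma.desc fun a => Sigma.ι Y (some a))

/-- the inverse comparison -/
noncomputable def optionCompInv {α : Type u} (Y : Option α → Scheme.{u}) :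
    (∐ Y) ⟶ (Y none ⨿ ∐ fun a : α => Y (some a)) :=
  Sigma.desc fun o => match o with
    | none => coprod.inl
    | some a => Sigma.ι (fun a : α => Y (some a)) a ≫ coprod.inr

instance {α : Type u} (Y : Option α → Scheme.{u}) : IsIso (optionComp Y) := by
  refine ⟨optionCompInv Y, ?_, ?_⟩
  · apply coprod.hom_ext
    · simp only [optionComp, optionCompInv, Category.assoc, coprod.inl_desc_assoc,
        coprod.inr_desc_assoc, coprod.inl_desc, coprod.inr_desc, Sigma.ι_desc,
        Sigma.ι_desc_assoc, Category.comp_id]
    · apply Sigma.hom_ext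
      intro a
      simp only [optionComp, optionCompInv, Category.assoc, coprod.inl_desc_assoc,
        coprod.inr_desc_assoc, coprod.inl_desc, coprod.inr_desc, Sigma.ι_desc,
        Sigma.ι_desc_assoc, Category.comp_id]
  · apply Sigma.hom_ext
    rintro (_ | a)
    · simp only [optionComp, optionCompInv, Category.assoc, coprod.inl_desc_assoc,
        coprod.inr_desc_assoc, coprod.inl_desc, coprod.inr_desc, Sigma.ι_desc,
        Sigma.ι_desc_assoc, Category.comp_id]
    · simp only [optionComp, optionCompInv, Category.assoc, coprod.inl_desc_assoc,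
        coprod.inr_desc_assoc, coprod.inl_desc, coprod.inr_desc, Sigma.ι_desc,
        Sigma.ι_desc_assoc, Category.comp_id]

theorem isFinite_sigmaDesc_aux (ι : Type u) [Finite ι] :
    ∀ (X : Scheme.{u}) (Y : ι → Scheme.{u}) (f : ∀ i, Y i ⟶ X), (∀ i, IsFinite (f i)) →
      IsFinite (Sigma.desc f) := by
  refine Finite.induction_empty_option (P := fun ι : Type u =>
    ∀ (X : Scheme.{u}) (Y : ι → Scheme.{u}) (f : ∀ i, Y i ⟶ X), (∀ i, IsFinite (f i)) →
      IsFinite (Sigma.desc f)) ?_ ?_ ?_ ι
  · intro α β e h X Y f hf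
    have h1 := h X (Y ∘ e) (fun a => f (e a)) (fun a => hf (e a))
    have h2 : (Sigma.reindex e Y).hom ≫ Sigma.desc f = Sigma.desc (fun a => f (e a)) := by
      apply Sigma.hom_ext
      intro a
      rw [← Category.assoc, Sigma.ι_reindex_hom, Sigma.ι_desc, Sigma.ι_desc]
    have h1' : IsFinite ((Sigma.reindex e Y).hom ≫ Sigma.desc f) := h2 ▸ h1
    exact (MorphismProperty.cancel_left_of_respectsIso @IsFinite _ _).1 h1'
  · intro X Y f _
    haveI : IsEmpty ↑(∐ Y) := Function.isEmpty (sigmaMk Y).symm
    infer_instance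
  · intro α _ h X Y f hf
    haveI := h X (fun a => Y (some a)) (fun a => f (some a)) (fun a => hf (some a))
    haveI := hf none
    have h2 : optionComp Y ≫ Sigma.desc f =
        coprod.desc (f none) (Sigma.desc fun a => f (some a)) := by
      apply coprod.hom_ext
      · simp only [optionComp, Category.assoc, coprod.inl_desc_assoc,
          coprod.inr_desc_assoc, coprod.inl_desc, coprod.inr_desc, Sigma.ι_desc,
          Sigma.ι_desc_assoc]
      · apply Sigma.hom_ext
        intro a
        simp only [optionComp, Category.assoc, coprod.inl_desc_assoc,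
          coprod.inr_desc_assoc, coprod.inl_desc, coprod.inr_desc, Sigma.ι_desc,
          Sigma.ι_desc_assoc]
    have h3 : IsFinite (optionComp Y ≫ Sigma.desc f) := by
      rw [h2]; infer_instance
    exact (MorphismProperty.cancel_left_of_respectsIso @IsFinite _ _).1 h3

/-- a finite coproduct of finite morphisms is finite -/
theorem isFinite_sigmaDesc {ι : Type u} [Finite ι] {X : Scheme.{u}} (Y : ι → Scheme.{u})
    (f : ∀ i, Y i ⟶ X) [∀ i, IsFinite (f i)] : IsFinite (Sigma.desc f) :=
  isFinite_sigmaDesc_aux ι X Y f inferInstance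

end Groth.Agent.Helper23.SigmaFinite
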