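import Mathlib
import Groth.Prelude.Def_FEt
import Groth.Agent.Lib.Helper28.FinrankKey
import Groth.Agent.Lib.Helper23.FibIso
import Groth.Agent.Lib.Helper23.FibColim2
import Groth.Agent.Lib.Helper23.SigmaFinite

/-!
# Counting `Y`-morphisms from a connected scheme into a finite étale cover
-/

set_option autoImplicit false
universe u
open CategoryTheory CategoryTheory.Limits AlgebraicGeometry

set_option linter.style.haveILetI false
set_option linter.unusedVariables false

namespace Groth.Agent.Helper23.CardHom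
open Groth.Agent.Helper23.FibCard

variable {X Y X' : Scheme.{u}} (f : X ⟶ Y) (φ : X' ⟶ Y)

/-- the section attached to a `Y`-morphism -/
noncomputable def secOf (g : Over.mk φ ⟶ Over.mk f) : X' ⟶ pullback f φ :=
  pullback.lift g.left (𝟙 X') ((Over.w g).trans (Category.id_comp φ).symm)

@[simp] theorem secOf_fst (g : Over.mk φ ⟶ Over.mk f) :
    secOf f φ g ≫ pullback.fst f φ = g.left := pullback.lift_fst _ _ _

@[simp] theorem secOf_snd (g : Over.mk φ ⟶ Over.mk f) :
    secOf f φ g ≫ pullback.snd f φ = 𝟙 X' := pullback.lift_snd _ _ _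

variable [IsFinite f] [Etale f]

/-- the base change of the cover, as a finite étale cover of `X'` -/
noncomputable def W : FEt.Cat X' :=
  MorphismProperty.Over.mk ⊤ (pullback.snd f φ) ⟨inferInstance, inferInstance⟩

variable (X') in
/-- the trivial cover -/
noncomputable def T : FEt.Cat X' :=
  MorphismProperty.Over.mk ⊤ (𝟙 X') ⟨inferInstance, inferInstance⟩

theorem left_snd (s : T X' ⟶ W f φ) :
    (show X' ⟶ pullback f φ from s.left) ≫ pullback.snd f φ = 𝟙 X' := by
  exact MorphismProperty.Over.w s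

/-- `Y`-morphisms `X' ⟶ X` are the sections of the base change -/
noncomputable def homEquiv : (Over.mk φ ⟶ Over.mk f) ≃ (T X' ⟶ W f φ) where
  toFun g := MorphismProperty.Over.homMk (secOf f φ g) (secOf_snd f φ g) trivial
  invFun s := Over.homMk ((show X' ⟶ pullback f φ from s.left) ≫ pullback.fst f φ) (by
    change ((show X' ⟶ pullback f φ from s.left) ≫ pullback.fst f φ) ≫ f = φ
    rw [Category.assoc, pullback.condition, ← Category.assoc, left_snd, Category.id_comp])
  left_inv g := by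
    apply Over.OverMorphism.ext
    exact secOf_fst f φ g
  right_inv s := by
    apply MorphismProperty.Over.Hom.ext
    change secOf f φ _ = (show X' ⟶ pullback f φ from s.left)
    apply pullback.hom_ext
    · rw [secOf_fst]; rfl
    · rw [secOf_snd, left_snd]

section count

variable {Ω : Type u} [Field Ω] (ω : Spec (CommRingCat.of Ω) ⟶ X')

/-- the base point of the trivial cover -/
def basePt : FEt.fiberObj ω (T X') := ⟨ω, Category.comp_id ω⟩

/-- evaluation of a section at the geometric point -/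
noncomputable def eval (s : T X' ⟶ W f φ) : FEt.fiberObj ω (W f φ) :=
  (FEt.fiber ω).map s (basePt ω)

theorem eval_val (s : T X' ⟶ W f φ) : (eval f φ ω s).1 = ω ≫ s.left := rfl

theorem eval_injective [ConnectedSpace X'] : Function.Injective (eval f φ ω) := by
  intro u v h
  haveI : PreconnectedSpace (T X').left := inferInstanceAs (PreconnectedSpace X')
  refine Groth.Agent.Helper23.FibIso.eq_of_fiber_eq ω u v (basePt ω) ?_
  exact congrArg Subtype.val h

theorem card_fiber [IsAlgClosed Ω] (n : ℕ) (hn : ∀ y, f.finrank y = n) :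
    Finite (FEt.fiberObj ω (W f φ)) ∧ Nat.card (FEt.fiberObj ω (W f φ)) = n := by
  obtain ⟨h1, h2⟩ := card_fiberObj ω (W f φ) default
  refine ⟨h1, ?_⟩
  rw [h2]
  change (pullback.snd f φ).finrank _ = n
  rw [Scheme.Hom.finrank_pullback_snd, hn]

include ω in
theorem finite_hom [IsAlgClosed Ω] [ConnectedSpace X'] (n : ℕ) (hn : ∀ y, f.finrank y = n) :
    Finite (T X' ⟶ W f φ) ∧ Nat.card (T X' ⟶ W f φ) ≤ n := by
  obtain ⟨h1, h2⟩ := card_fiber f φ ω n hn
  haveI := h1
  refine ⟨Finite.of_injective _ (eval_injective f φ ω), ?_⟩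
  rw [← h2]
  exact Nat.card_le_card_of_injective _ (eval_injective f φ ω)

theorem eval_bijective [IsAlgClosed Ω] [ConnectedSpace X'] (n : ℕ) (hn : ∀ y, f.finrank y = n)
    (hc : Nat.card (T X' ⟶ W f φ) = n) : Function.Bijective (eval f φ ω) := by
  obtain ⟨h1, h2⟩ := card_fiber f φ ω n hn
  haveI := h1
  haveI := (finite_hom f φ ω n hn).1
  rw [Nat.bijective_iff_injective_and_card]
  exact ⟨eval_injective f φ ω, hc.trans h2.symm⟩

end count

section split

variable (X') (n : ℕ)

theorem isFinite_desc_id : IsFinite (Sigma.desc (fun _ : Fin n => 𝟙 X')) := by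
  let e : ULift.{u} (Fin n) ≃ Fin n := Equiv.ulift
  have h : (Sigma.reindex e (fun _ : Fin n => X')).hom ≫ Sigma.desc (fun _ : Fin n => 𝟙 X') =
      Sigma.desc (fun _ : ULift.{u} (Fin n) => 𝟙 X') := by
    apply Sigma.hom_ext
    intro i
    rw [Sigma.ι_reindex_hom_assoc, Sigma.ι_desc, Sigma.ι_desc]
  haveI : IsFinite (Sigma.desc (fun _ : ULift.{u} (Fin n) => 𝟙 X')) :=
    Groth.Agent.Helper23.SigmaFinite.isFinite_sigmaDesc _ _
  have h3 : IsFinite ((Sigma.reindex e (fun _ : Fin n => X')).hom ≫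
      Sigma.desc (fun _ : Fin n => 𝟙 X')) := by
    rw [h]; infer_instance
  exact (MorphismProperty.cancel_left_of_respectsIso @IsFinite _ _).1 h3

theorem etale_desc_id : Etale (Sigma.desc (fun _ : Fin n => 𝟙 X')) :=
  IsZariskiLocalAtSource.sigmaDesc (fun _ => inferInstance)

/-- the split cover of degree `n` -/
noncomputable def T' : FEt.Cat X' :=
  MorphismProperty.Over.mk ⊤ (Sigma.desc (fun _ : Fin n => 𝟙 X'))
    ⟨isFinite_desc_id X' n, etale_desc_id X' n⟩

variable {X' n}

/-- a trivialization gives `n` distinct sections -/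
theorem exists_injective_of_split [Nonempty X'] (e : pullback f φ ≅ ∐ fun _ : Fin n => X')
    (he : e.hom ≫ Sigma.desc (fun _ : Fin n => 𝟙 X') = pullback.snd f φ) :
    ∃ σ : Fin n → (T X' ⟶ W f φ), Function.Injective σ := by
  have he' : e.inv ≫ pullback.snd f φ = Sigma.desc (fun _ : Fin n => 𝟙 X') := by
    rw [← he, Iso.inv_hom_id_assoc]
  have hsec : ∀ i : Fin n, (Sigma.ι (fun _ : Fin n => X') i ≫ e.inv) ≫ pullback.snd f φ = 𝟙 X' := by
    intro i
    rw [Category.assoc, he', Sigma.ι_desc]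
  refine ⟨fun i => MorphismProperty.Over.homMk (Sigma.ι (fun _ : Fin n => X') i ≫ e.inv)
    (hsec i) trivial, ?_⟩
  intro i j hij
  by_contra hne
  have h1 : Sigma.ι (fun _ : Fin n => X') i ≫ e.inv = Sigma.ι (fun _ : Fin n => X') j ≫ e.inv :=
    congrArg (fun s => CommaMorphism.left (MorphismProperty.Comma.Hom.hom s)) hij
  have h2 : Sigma.ι (fun _ : Fin n => X') i = Sigma.ι (fun _ : Fin n => X') j :=
    (cancel_mono e.inv).1 h1
  have hsq : CommSq (𝟙 X') (𝟙 X') (Sigma.ι (fun _ : Fin n => X') i)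
      (Sigma.ι (fun _ : Fin n => X') j) := ⟨by rw [Category.id_comp, Category.id_comp, h2]⟩
  have hemp : IsEmpty X' := isEmpty_of_commSq_sigmaι_of_ne (g := fun _ : Fin n => X') hsq hne
  exact hemp.false (Classical.arbitrary X')

variable {Ω : Type u} [Field Ω] (ω : Spec (CommRingCat.of Ω) ⟶ X')

/-- the `n` obvious points of the fibre of the split cover -/
noncomputable def pt (i : Fin n) : FEt.fiberObj ω (T' X' n) :=
  ⟨ω ≫ Sigma.ι (fun _ : Fin n => X') i, by
    change (ω ≫ Sigma.ι (fun _ : Fin n => X') i) ≫ Sigma.desc (fun _ : Fin n => 𝟙 X') = ω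
    rw [Category.assoc, Sigma.ι_desc, Category.comp_id]⟩

theorem pt_surjective : Function.Surjective (pt (n := n) ω) := by
  intro t
  let t1 : Spec (CommRingCat.of Ω) ⟶ ∐ fun _ : Fin n => X' := t.1
  have ht1 : t1 ≫ Sigma.desc (fun _ : Fin n => 𝟙 X') = ω := t.2
  obtain ⟨i, x, hx⟩ := (sigmaOpenCover (fun _ : Fin n => X')).exists_eq (t1.base default)
  have hx' : (Sigma.ι (fun _ : Fin n => X') i).base x = t1.base default := hx
  have hrange : Set.range t1.base ⊆ Set.range (Sigma.ι (fun _ : Fin n => X') i).base := by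
    rintro _ ⟨z, rfl⟩
    rw [Unique.eq_default z, ← hx']
    exact ⟨x, rfl⟩
  let t' : Spec (CommRingCat.of Ω) ⟶ X' :=
    IsOpenImmersion.lift (Sigma.ι (fun _ : Fin n => X') i) t1 hrange
  have ht' : t' ≫ Sigma.ι (fun _ : Fin n => X') i = t1 := IsOpenImmersion.lift_fac _ _ _
  have hω : t' = ω := by
    rw [← ht1, ← ht', Category.assoc, Sigma.ι_desc, Category.comp_id]
  refine ⟨i, Subtype.ext ?_⟩
  change ω ≫ Sigma.ι (fun _ : Fin n => X') i = t1
  rw [← hω, ht']

include ω in
theorem exists_split [IsAlgClosed Ω] [ConnectedSpace X'] (hn : ∀ y, f.finrank y = n)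
    (hc : Nat.card (T X' ⟶ W f φ) = n) :
    ∃ e : pullback f φ ≅ ∐ fun _ : Fin n => X',
      e.hom ≫ Sigma.desc (fun _ : Fin n => 𝟙 X') = pullback.snd f φ := by
  haveI := (finite_hom f φ ω n hn).1
  have σ : Fin n ≃ (T X' ⟶ W f φ) := (Finite.equivFinOfCardEq hc).symm
  let ψl : (∐ fun _ : Fin n => X') ⟶ pullback f φ :=
    Sigma.desc (fun i => (show X' ⟶ pullback f φ from (σ i).left))
  have hψ : ψl ≫ pullback.snd f φ = Sigma.desc (fun _ : Fin n => 𝟙 X') := by
    apply Sigma.hom_ext
    intro i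
    rw [Sigma.ι_desc_assoc, Sigma.ι_desc, left_snd]
  let ψ : T' X' n ⟶ W f φ := MorphismProperty.Over.homMk ψl hψ trivial
  have hcomp : ∀ i, (FEt.fiber ω).map ψ (pt ω i) = eval f φ ω (σ i) := by
    intro i
    apply Subtype.ext
    change (ω ≫ Sigma.ι (fun _ : Fin n => X') i) ≫ ψl = ω ≫ (σ i).left
    rw [Category.assoc, Sigma.ι_desc]
    rfl
  have hev := eval_bijective f φ ω n hn hc
  have hbij : Function.Bijective ((FEt.fiber ω).map ψ) := by
    constructor
    · intro a b hab
      obtain ⟨i, rfl⟩ := pt_surjective ω a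
      obtain ⟨j, rfl⟩ := pt_surjective ω b
      rw [hcomp, hcomp] at hab
      rw [σ.injective (hev.1 hab)]
    · intro w
      obtain ⟨s, rfl⟩ := hev.2 w
      obtain ⟨i, rfl⟩ := σ.surjective s
      exact ⟨pt ω i, hcomp i⟩
  haveI : IsIso ψ := Groth.Agent.Helper23.FibColim.isIso_of_fiber_bijective_of_connected ψ ω hbij
  haveI : IsIso ψl :=
    inferInstanceAs (IsIso ((MorphismProperty.Over.forget FEt.prop.{u} ⊤ X' ⋙ Over.forget X').map ψ))
  refine ⟨(asIso ψl).symm, ?_⟩
  change inv ψl ≫ _ = _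
  rw [IsIso.inv_comp_eq, hψ]

end split

end Groth.Agent.Helper23.CardHom
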