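import Groth.Agent.Lib.Helper23.DivInv2
import Groth.Agent.Lib.Helper23.AbsCurve4
import Groth.Agent.Lib.Helper13.GenLocus

set_option autoImplicit false
set_option linter.style.haveILetI false

open CategoryTheory AlgebraicGeometry Opposite TopologicalSpace IsLocalRing

universe u

namespace Groth.Agent.Helper23.CartEq

open Groth.Agent.Helper23.CDivDepth Groth.Agent.Helper13.Inv Groth.Agent.Helper23.DivInv
open Groth.Agent.Helper23.AbsCurve Groth.Agent.Helper13.MeroLib Groth.Agent.Helper13.GenLoc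

variable {X : Scheme.{u}}

/-- if `t * γ₀` is a regular function for one representative `γ₀` of `D_y`, then `t` satisfies the
condition cutting out `O_X(D)` at `y` -/
theorem divCond_of_mul_mem (D : Mero.Divisor X) (y : X) (γ₀ : (Mero.KStalk X y)ˣ)
    (h₀ : D.1 y = QuotientGroup.mk γ₀) (t : Mero.KStalk X y)
    (ht : t * γ₀ ∈ (algebraMap (X.presheaf.stalk y) (Mero.KStalk X y)).range) :
    Mero.DivCond D y t := by
  intro g' hg'
  have h1 : γ₀⁻¹ * g' ∈ Mero.stalkUnits X y := QuotientGroup.eq.1 (h₀.symm.trans hg')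
  obtain ⟨u, hu⟩ := h1
  have h3 : (g' : Mero.KStalk X y) = γ₀ * ((γ₀⁻¹ * g' : (Mero.KStalk X y)ˣ) : Mero.KStalk X y) := by
    rw [← Units.val_mul, mul_inv_cancel_left]
  rw [h3, ← mul_assoc, ← hu]
  obtain ⟨r, hr⟩ := ht
  exact ⟨r * (u : X.presheaf.stalk y), by rw [map_mul, hr]; rfl⟩

/-- local equations of an effective Cartier divisor -/
structure Data (X : Scheme.{u}) where
  ι : Type u
  W : ι → X.Opens
  τ : ∀ i, Γ(X, W i)
  reg : ∀ i, τ i ∈ Mero.regSub X (W i)
  cover : ∀ y : X, ∃ i, y ∈ W i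
  compat : ∀ (i j : ι) (z : X) (hi : z ∈ W i) (hj : z ∈ W j), ∃ u : (X.presheaf.stalk z)ˣ,
    X.presheaf.germ (W i) z hi (τ i) = u * X.presheaf.germ (W j) z hj (τ j)

namespace Data

variable (E : Data X)

noncomputable def idx (z : X) : E.ι := (E.cover z).choose

theorem idx_mem (z : X) : z ∈ E.W (E.idx z) := (E.cover z).choose_spec

/-- the germ at `z` of the chosen local equation -/
noncomputable def ρ (z : X) : Mero.regStalk X z :=
  Mero.regGerm ⟨z, E.idx_mem z⟩ ⟨E.τ (E.idx z), E.reg _⟩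

noncomputable def germFun (z : X) : Mero.Germ X z := QuotientGroup.mk (regUnit z (E.ρ z))

theorem germFun_eq (i : E.ι) (z : X) (hz : z ∈ E.W i) :
    E.germFun z = Mero.germOf (fracUnit (E.τ i) 1 (E.reg i) (one_mem _)) ⟨z, hz⟩ := by
  obtain ⟨u, hu⟩ := E.compat i (E.idx z) z hz (E.idx_mem z)
  unfold germFun
  rw [Mero.germOf, QuotientGroup.eq]
  refine ⟨u, ?_⟩
  rw [eq_inv_mul_iff_mul_eq]
  apply Units.ext
  rw [Units.val_mul, fracUnit_apply]
  change algebraMap _ _ ((E.ρ z : Mero.regStalk X z) : X.presheaf.stalk z) *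
    algebraMap _ _ (u : X.presheaf.stalk z) = _
  symm
  rw [← map_mul, mk_eq_algebraMap_iff _ (Mero.regStalk_le_nonZeroDivisors z)]
  change _ = X.presheaf.germ (E.W i) z hz 1 * _
  rw [map_one, one_mul, hu, mul_comm]
  rfl

/-- the divisor with the given local equations -/
noncomputable def divisor : Mero.Divisor X :=
  ⟨E.germFun, fun y => ⟨E.W (E.idx y), E.idx_mem y, fracUnit (E.τ _) 1 (E.reg _) (one_mem _),
    fun z => E.germFun_eq _ z.1 z.2⟩⟩

theorem divisor_apply (z : X) : E.divisor.1 z = QuotientGroup.mk (regUnit z (E.ρ z)) := rfl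

theorem isRep (i : E.ι) : IsRep E.divisor (E.W i) (E.τ i) 1 (one_mem _) := by
  intro z hz
  exact ⟨_, E.germFun_eq i z hz, fracUnit_apply (E.τ i) 1 (E.reg i) (one_mem _) ⟨z, hz⟩⟩

theorem isEffective : Mero.IsEffective E.divisor := fun z => ⟨E.ρ z, rfl⟩

/-- numerators of a section of `O_X(D)` -/
structure Num where
  h : ∀ i, Γ(X, E.W i)
  compat : ∀ (i j : E.ι) (z : X) (hi : z ∈ E.W i) (hj : z ∈ E.W j),
    X.presheaf.germ (E.W i) z hi (h i) * X.presheaf.germ (E.W j) z hj (E.τ j) =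
      X.presheaf.germ (E.W j) z hj (h j) * X.presheaf.germ (E.W i) z hi (E.τ i)

variable {E}

/-- the value at `z` of the section with the given numerators -/
noncomputable def Num.val (N : E.Num) (z : X) : Mero.KStalk X z :=
  LocalizedModule.mk (X.presheaf.germ (E.W (E.idx z)) z (E.idx_mem z) (N.h (E.idx z))) (E.ρ z)

theorem Num.val_eq (N : E.Num) (i : E.ι) (z : X) (hz : z ∈ E.W i) :
    N.val z = LocalizedModule.mk (X.presheaf.germ (E.W i) z hz (N.h i))
      (Mero.regGerm ⟨z, hz⟩ ⟨E.τ i, E.reg i⟩) := by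
  unfold Num.val
  rw [kmk_eq_iff]
  have := N.compat (E.idx z) i z (E.idx_mem z) hz
  exact (mul_comm _ _).trans (this.trans (mul_comm _ _))

/-- the global section of `O_X(D)` with the given numerators -/
noncomputable def Num.sec (N : E.Num) : Γ(Mero.divMod E.divisor, ⊤) :=
  ⟨fun z => N.val z.1, by
    refine ⟨fun z => ⟨E.W (E.idx z.1), E.idx_mem z.1, homOfLE le_top, N.h _, ⟨E.τ _, E.reg _⟩,
      fun w => N.val_eq _ w.1 w.2⟩, fun z => ?_⟩
    apply divCond_of_mul_mem E.divisor z.1 (regUnit z.1 (E.ρ z.1)) rfl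
    refine ⟨X.presheaf.germ (E.W (E.idx z.1)) z.1 (E.idx_mem z.1) (N.h (E.idx z.1)), ?_⟩
    symm
    change (LocalizedModule.mk _ _ : Mero.KStalk X z.1) *
      algebraMap _ _ ((E.ρ z.1 : Mero.regStalk X z.1) : X.presheaf.stalk z.1) = _
    rw [← Localization.mk_one_eq_algebraMap]
    refine LocalizedModule.mk_mul_mk.trans ?_
    change LocalizedModule.mk _ _ = LocalizedModule.mk _ 1
    rw [kmk_eq_iff]
    simp only [OneMemClass.coe_one, one_mul, mul_one, Algebra.algebraMap_self, RingHom.id_apply]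
    exact mul_comm _ _⟩

theorem Num.sec_apply (N : E.Num) (z : X) : N.sec.1 ⟨z, trivial⟩ = N.val z := rfl

theorem Num.isGen_sec_iff (N : E.Num) (i : E.ι) (y : X) (hy : y ∈ E.W i) :
    IsGen (Mero.divMod E.divisor) N.sec y trivial ↔
      IsUnit (X.presheaf.germ (E.W i) y hy (N.h i)) := by
  let e := genSec E.divisor (E.W i) (E.τ i) 1 (E.reg i) (one_mem _) (E.isRep i)
  have he : ∀ (z : X) (hz : z ∈ E.W i), IsGen (Mero.divMod E.divisor) e z hz :=
    isGen_of_rep E.divisor (E.W i) (E.τ i) 1 (E.reg i) (one_mem _) (E.isRep i) e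
      (fun z hz => rfl)
  have key : (Mero.divMod E.divisor).presheaf.map (homOfLE (le_top : E.W i ≤ ⊤)).op N.sec =
      N.h i • e := by
    apply Subtype.ext
    funext z
    change N.val z.1 = X.presheaf.germ (E.W i) z.1 z.2 (N.h i) •
      (LocalizedModule.mk (X.presheaf.germ (E.W i) z.1 z.2 1) (Mero.regGerm z ⟨E.τ i, E.reg i⟩) :
        Mero.KStalk X z.1)
    rw [N.val_eq i z.1 z.2, LocalizedModule.smul'_mk, map_one, smul_eq_mul, mul_one]
  rw [← isGen_res _ (homOfLE (le_top : E.W i ≤ ⊤)) N.sec y hy, key,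
    isGen_smul_iff _ e _ y hy (he y hy), Scheme.mem_basicOpen _ _ y hy]

variable (E)

/-- the canonical section `1` of `O_X(D)`, `D` effective -/
noncomputable def one : E.Num := ⟨E.τ, fun _ _ _ _ _ => mul_comm _ _⟩

end Data

end Groth.Agent.Helper23.CartEq
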