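import Mathlib
set_option autoImplicit false
universe u
open CategoryTheory AlgebraicGeometry Limits

namespace Groth.Agent.Helper23.ClAdj

/-- pushforward of modules along a topological embedding is faithful -/
theorem faithful_pushforward {S T : Scheme.{u}} (f : S ⟶ T) (hf : Topology.IsInducing f) :
    (Scheme.Modules.pushforward f).Faithful := by
  constructor
  intro M N φ ψ h
  apply Scheme.Modules.hom_ext
  intro V
  obtain ⟨U, hU⟩ : ∃ U : T.Opens, f ⁻¹ᵁ U = V := by
    obtain ⟨U, hU, hUV⟩ := hf.isOpen_iff.1 V.2
    exact ⟨⟨U, hU⟩, TopologicalSpace.Opens.ext hUV⟩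
  subst hU
  have := congrArg (fun m => Scheme.Modules.Hom.app m U) h
  simpa using this

theorem epi_adj {S T : Scheme.{u}} (f : S ⟶ T) (hf : Topology.IsInducing f)
    (G : T.Modules) (E : S.Modules)
    (ψ : G ⟶ (Scheme.Modules.pushforward f).obj E) [Epi ψ] :
    Epi (((Scheme.Modules.pullbackPushforwardAdjunction f).homEquiv G E).symm ψ) := by
  have := faithful_pushforward f hf
  rw [Adjunction.homEquiv_counit]
  have : Epi ((Scheme.Modules.pullback f).map ψ) := inferInstance
  exact epi_comp _ _

theorem epi_kernelComparison {C D : Type*} [Category C] [Category D] [Abelian C] [Abelian D]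
    (F : C ⥤ D) [F.Additive] [PreservesFiniteColimits F] {X Y : C} (ψ : X ⟶ Y) [Epi ψ] :
    Epi (kernelComparison ψ F) := by
  let S : ShortComplex C := ShortComplex.mk (kernel.ι ψ) ψ (kernel.condition ψ)
  have hS : S.ShortExact :=
    { exact := ShortComplex.exact_kernel ψ
      mono_f := inferInstanceAs (Mono (kernel.ι ψ))
      epi_g := inferInstanceAs (Epi ψ) }
  have h0 : ∀ (S : ShortComplex C), S.ShortExact → (S.map F).Exact ∧ Epi (F.map S.g) :=
    ((Functor.preservesFiniteColimits_tfae F).out 3 0).1 ‹PreservesFiniteColimits F›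
  have h := h0 S hS
  have := (ShortComplex.exact_iff_epi_kernel_lift (S.map F)).1 h.1
  exact this

end Groth.Agent.Helper23.ClAdj
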