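import Mathlib
set_option autoImplicit false
universe u
open CategoryTheory AlgebraicGeometry TopologicalSpace Opposite Limits

namespace Groth.Agent.Helper23.ConnBC

/-- gluing `1` on `Z` and `0` on `Z'` -/
theorem exists_idem {X : Scheme.{u}} (U Z Z' : X.Opens) (hsup : Z ⊔ Z' = U) (hinf : Z ⊓ Z' = ⊥) :
    ∃ e : Γ(X, U), X.basicOpen e = Z ∧ X.basicOpen (1 - e) = Z' := by
  have hZU : Z ≤ U := hsup ▸ le_sup_left
  have hZ'U : Z' ≤ U := hsup ▸ le_sup_right
  let V : ULift.{u} Bool → X.Opens := fun b => if b.down then Z else Z'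
  let sf : ∀ b : ULift.{u} Bool, Γ(X, V b) := fun b => if b.down then 1 else 0
  have hV : ∀ b, V b ≤ U := by
    rintro ⟨b⟩; cases b
    · exact hZ'U
    · exact hZU
  have hcov : U ≤ iSup V := by
    rw [← hsup]
    apply sup_le
    · exact le_iSup V ⟨true⟩
    · exact le_iSup V ⟨false⟩
  have hcompat : TopCat.Presheaf.IsCompatible X.presheaf V sf := by
    rintro ⟨b⟩ ⟨b'⟩
    cases b <;> cases b'
    · rfl
    · have hbot : V ⟨false⟩ ⊓ V ⟨true⟩ = ⊥ := by
        change Z' ⊓ Z = ⊥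
        rw [inf_comm]; exact hinf
      apply (X.sheaf.eq_of_locally_eq' (fun i : PEmpty.{u + 1} => i.elim) _ (fun i => i.elim)
        (by rw [hbot]; exact bot_le) _ _ (fun i => i.elim))
    · have hbot : V ⟨true⟩ ⊓ V ⟨false⟩ = ⊥ := hinf
      apply (X.sheaf.eq_of_locally_eq' (fun i : PEmpty.{u + 1} => i.elim) _ (fun i => i.elim)
        (by rw [hbot]; exact bot_le) _ _ (fun i => i.elim))
    · rfl
  obtain ⟨e', he, -⟩ := X.sheaf.existsUnique_gluing' V U (fun b => homOfLE (hV b)) hcov sf hcompat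
  obtain ⟨e, he1, he0⟩ : ∃ e : Γ(X, U), X.presheaf.map (homOfLE hZU).op e = 1 ∧
      X.presheaf.map (homOfLE hZ'U).op e = 0 := ⟨e', he ⟨true⟩, he ⟨false⟩⟩
  have hgerm1 : ∀ x (hx : x ∈ Z), X.presheaf.germ U x (hZU hx) e = 1 := by
    intro x hx
    rw [← TopCat.Presheaf.germ_res_apply X.presheaf (homOfLE hZU) x hx, he1, map_one]
  have hgerm0 : ∀ x (hx : x ∈ Z'), X.presheaf.germ U x (hZ'U hx) e = 0 := by
    intro x hx
    rw [← TopCat.Presheaf.germ_res_apply X.presheaf (homOfLE hZ'U) x hx, he0, map_zero]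
  have hdisj : ∀ x, x ∈ Z → x ∈ Z' → False := by
    intro x h1 h2
    have : x ∈ Z ⊓ Z' := ⟨h1, h2⟩
    rw [hinf] at this
    exact this
  have hmemU : ∀ x, x ∈ U → x ∈ Z ∨ x ∈ Z' := by
    intro x hx
    rw [← hsup] at hx
    exact hx
  refine ⟨e, ?_, ?_⟩
  · refine TopologicalSpace.Opens.ext (Set.ext fun x => ?_)
    change x ∈ X.basicOpen e ↔ x ∈ Z
    constructor
    · intro hx
      have hxU : x ∈ U := X.basicOpen_le e hx
      rcases hmemU x hxU with h | h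
      · exact h
      · exfalso
        have hu := (X.mem_basicOpen e x hxU).1 hx
        rw [hgerm0 x h] at hu
        exact not_isUnit_zero hu
    · intro hx
      rw [X.mem_basicOpen e x (hZU hx), hgerm1 x hx]
      exact isUnit_one
  · refine TopologicalSpace.Opens.ext (Set.ext fun x => ?_)
    change x ∈ X.basicOpen (1 - e) ↔ x ∈ Z'
    constructor
    · intro hx
      have hxU : x ∈ U := X.basicOpen_le (1 - e) hx
      rcases hmemU x hxU with h | h
      · exfalso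
        have hu := (X.mem_basicOpen (1 - e) x hxU).1 hx
        rw [map_sub, map_one, hgerm1 x h, sub_self] at hu
        exact not_isUnit_zero hu
      · exact h
    · intro hx
      rw [X.mem_basicOpen (1 - e) x (hZ'U hx), map_sub, map_one, hgerm0 x hx, sub_zero]
      exact isUnit_one

/-- closed map with `O_Y → f_* O_X` injective is surjective. -/
theorem surjective_of_injective_app {X Y : Scheme.{u}} (f : X ⟶ Y) [UniversallyClosed f]
    (hf : ∀ U : Y.Opens, Function.Injective (f.app U)) : Function.Surjective f := by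
  have hcl : IsClosed (Set.range f) := f.isClosedMap.isClosed_range
  let U : Y.Opens := ⟨(Set.range f)ᶜ, hcl.isOpen_compl⟩
  have hpre : f ⁻¹ᵁ U = ⊥ := by
    refine TopologicalSpace.Opens.ext (Set.ext fun x => ?_)
    change f x ∈ (Set.range f)ᶜ ↔ x ∈ (∅ : Set X)
    simp
  have hsub : Subsingleton Γ(Y, U) := by
    have : Subsingleton Γ(X, f ⁻¹ᵁ U) := by rw [hpre]; infer_instance
    exact (hf U).subsingleton
  have hU : U = ⊥ := by
    have h1 : Y.basicOpen (1 : Γ(Y, U)) = U := Y.basicOpen_of_isUnit isUnit_one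
    have h0 : Y.basicOpen (0 : Γ(Y, U)) = ⊥ := Y.basicOpen_zero U
    rw [← h1, Subsingleton.elim (1 : Γ(Y, U)) 0, h0]
  intro y
  by_contra hy
  have hyU : y ∈ U := hy
  rw [hU] at hyU
  exact hyU

/-- flat base change of `O_Y ≅ f_* O_X` on an affine open (for `X` Noetherian). -/
theorem app_snd_bijective {X Y Y' : Scheme.{u}} (f : X ⟶ Y) [IsNoetherian X] (g : Y' ⟶ Y)
    [Flat g] [IsAffineHom g]
    (US : Y.Opens) (hUS : IsAffineOpen US) (hf : Function.Bijective (f.app US)) :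
    Function.Bijective ((pullback.snd f g).app (g ⁻¹ᵁ US)) := by
  have H : IsPullback (pullback.fst f g) (pullback.snd f g) f g := IsPullback.of_hasPullback f g
  have hUT : IsAffineOpen (g ⁻¹ᵁ US) := hUS.preimage g
  have hUX : IsCompact (X := X) (f ⁻¹ᵁ US) := NoetherianSpace.isCompact _
  have hUX' : IsQuasiSeparated (α := X) (f ⁻¹ᵁ US) := IsQuasiSeparated.of_quasiSeparatedSpace _
  have hUY : (pullback.snd f g) ⁻¹ᵁ (g ⁻¹ᵁ US) =
      (pullback.fst f g) ⁻¹ᵁ (f ⁻¹ᵁ US) ⊓ (pullback.snd f g) ⁻¹ᵁ (g ⁻¹ᵁ US) := by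
    rw [← Scheme.Hom.comp_preimage, ← Scheme.Hom.comp_preimage, pullback.condition, inf_idem]
  have hiso := isIso_pushoutSection_of_isQuasiSeparated_of_flat_right H (US := US)
    (UT := g ⁻¹ᵁ US) (UX := f ⁻¹ᵁ US) le_rfl le_rfl hUY hUS hUT hUX hUX'
  haveI : IsIso (f.appLE US (f ⁻¹ᵁ US) le_rfl) := by
    rw [← Scheme.Hom.app_eq_appLE]
    exact (ConcreteCategory.isIso_iff_bijective _).2 hf
  have h2 : pushout.inr (f.appLE US (f ⁻¹ᵁ US) le_rfl) (g.appLE US (g ⁻¹ᵁ US) le_rfl) ≫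
      pushoutSection H (US := US) (UT := g ⁻¹ᵁ US) (UX := f ⁻¹ᵁ US) le_rfl le_rfl hUY =
      (pullback.snd f g).appLE (g ⁻¹ᵁ US) ((pullback.snd f g) ⁻¹ᵁ (g ⁻¹ᵁ US)) le_rfl := by
    exact pushout.inr_desc _ _ _
  have h3 : IsIso ((pullback.snd f g).app (g ⁻¹ᵁ US)) := by
    rw [Scheme.Hom.app_eq_appLE, ← h2]
    infer_instance
  exact (ConcreteCategory.isIso_iff_bijective _).1 h3

/-- descending a clopen decomposition of `p⁻¹ W` when `p♯` is surjective on `W`. -/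
theorem exists_descent {P Y' : Scheme.{u}} (p : P ⟶ Y') (W : Y'.Opens)
    (hp : Function.Surjective (p.app W))
    (Z Z' : P.Opens) (hsup : Z ⊔ Z' = p ⁻¹ᵁ W) (hinf : Z ⊓ Z' = ⊥) :
    ∃ W₁ W₂ : Y'.Opens, W₁ ⊔ W₂ = W ∧ p ⁻¹ᵁ W₁ = Z ∧ p ⁻¹ᵁ W₂ = Z' := by
  obtain ⟨e, he, he'⟩ := exists_idem (p ⁻¹ᵁ W) Z Z' hsup hinf
  obtain ⟨e', rfl⟩ := hp e
  refine ⟨Y'.basicOpen e', Y'.basicOpen (1 - e'), ?_, ?_, ?_⟩
  · apply le_antisymm
    · exact sup_le (Y'.basicOpen_le _) (Y'.basicOpen_le _)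
    · intro x hx
      rcases IsLocalRing.isUnit_or_isUnit_one_sub_self (Y'.presheaf.germ W x hx e') with h | h
      · exact Or.inl ((Y'.mem_basicOpen e' x hx).2 h)
      · refine Or.inr ((Y'.mem_basicOpen (1 - e') x hx).2 ?_)
        rwa [map_sub, map_one]
  · rw [Scheme.preimage_basicOpen]; exact he
  · rw [Scheme.preimage_basicOpen, map_sub, map_one]; exact he'

/-- connectedness of the source from local surjectivity of `p♯` and surjectivity of `p`. -/
theorem connected_of_local {P Y' : Scheme.{u}} (p : P ⟶ Y') [ConnectedSpace Y']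
    (hsurj : Function.Surjective p)
    (hloc : ∀ y : Y', ∃ W : Y'.Opens, y ∈ W ∧ Function.Surjective (p.app W)) :
    ConnectedSpace P := by
  rw [connectedSpace_iff_clopen]
  refine ⟨?_, ?_⟩
  · obtain ⟨y⟩ := (inferInstance : Nonempty Y')
    obtain ⟨x, _⟩ := hsurj y
    exact ⟨x⟩
  · intro s hs
    let Z : P.Opens := ⟨s, hs.isOpen⟩
    let Z' : P.Opens := ⟨sᶜ, hs.compl.isOpen⟩
    have key : ∀ y : Y', ∃ W₁ W₂ : Y'.Opens, (y ∈ W₁ ∨ y ∈ W₂) ∧
        (∀ z, p z ∈ W₁ → z ∈ s) ∧ (∀ z, p z ∈ W₂ → z ∉ s) := by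
      intro y
      obtain ⟨W, hyW, hW⟩ := hloc y
      have hsup : (Z ⊓ p ⁻¹ᵁ W) ⊔ (Z' ⊓ p ⁻¹ᵁ W) = p ⁻¹ᵁ W := by
        refine TopologicalSpace.Opens.ext (Set.ext fun x => ?_)
        change (x ∈ s ∧ x ∈ p ⁻¹ᵁ W) ∨ (x ∉ s ∧ x ∈ p ⁻¹ᵁ W) ↔ x ∈ p ⁻¹ᵁ W
        tauto
      have hinf : (Z ⊓ p ⁻¹ᵁ W) ⊓ (Z' ⊓ p ⁻¹ᵁ W) = ⊥ := by
        refine TopologicalSpace.Opens.ext (Set.ext fun x => ?_)
        change ((x ∈ s ∧ x ∈ p ⁻¹ᵁ W) ∧ (x ∉ s ∧ x ∈ p ⁻¹ᵁ W)) ↔ x ∈ (∅ : Set P)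
        simp only [Set.mem_empty_iff_false, iff_false]
        tauto
      obtain ⟨W₁, W₂, hW12, h1, h2⟩ := exists_descent p W hW _ _ hsup hinf
      refine ⟨W₁, W₂, ?_, ?_, ?_⟩
      · rw [← hW12] at hyW
        exact hyW
      · intro z hz
        have : z ∈ p ⁻¹ᵁ W₁ := hz
        rw [h1] at this
        exact this.1
      · intro z hz
        have : z ∈ p ⁻¹ᵁ W₂ := hz
        rw [h2] at this
        exact this.1
    -- the image of `s`
    have hAopen : IsOpen (p '' s) := by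
      rw [isOpen_iff_forall_mem_open]
      rintro y ⟨z, hz, rfl⟩
      obtain ⟨W₁, W₂, hy, h1, h2⟩ := key (p z)
      rcases hy with hy | hy
      · refine ⟨W₁, ?_, W₁.2, hy⟩
        intro y' hy'
        obtain ⟨z', rfl⟩ := hsurj y'
        exact ⟨z', h1 z' hy', rfl⟩
      · exact absurd hz (h2 z hy)
    have hA'open : IsOpen (p '' sᶜ) := by
      rw [isOpen_iff_forall_mem_open]
      rintro y ⟨z, hz, rfl⟩
      obtain ⟨W₁, W₂, hy, h1, h2⟩ := key (p z)
      rcases hy with hy | hy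
      · exact absurd (h1 z hy) hz
      · refine ⟨W₂, ?_, W₂.2, hy⟩
        intro y' hy'
        obtain ⟨z', rfl⟩ := hsurj y'
        exact ⟨z', h2 z' hy', rfl⟩
    have hcompl : (p '' s)ᶜ = p '' sᶜ := by
      ext y
      constructor
      · intro hy
        obtain ⟨z, rfl⟩ := hsurj y
        exact ⟨z, fun hz => hy ⟨z, hz, rfl⟩, rfl⟩
      · rintro ⟨z, hz, rfl⟩ ⟨z', hz', hzz'⟩
        obtain ⟨W₁, W₂, hy, h1, h2⟩ := key (p z)
        rcases hy with hy | hy
        · exact hz (h1 z hy)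
        · exact h2 z' (hzz' ▸ hy) hz'
    have hclopen : IsClopen (p '' s) := ⟨by rw [← isOpen_compl_iff, hcompl]; exact hA'open, hAopen⟩
    rcases isClopen_iff.1 hclopen with h | h
    · left
      exact Set.image_eq_empty.1 h
    · right
      have h' : p '' sᶜ = ∅ := by rw [← hcompl, h, Set.compl_univ]
      have := Set.image_eq_empty.1 h'
      exact Set.compl_empty_iff.1 this

/-- `O_Y ≅ f_* O_X`, `f` proper, `X` Noetherian, `Y' → Y` finite flat with `Y'` connected: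
`X ×_Y Y'` is connected. -/
theorem pullback_connected {X Y Y' : Scheme.{u}} (f : X ⟶ Y) [IsProper f] [IsNoetherian X]
    (hf : ∀ U : Y.Opens, Function.Bijective (f.app U)) (g : Y' ⟶ Y) [IsFinite g] [Flat g]
    [ConnectedSpace Y'] : ConnectedSpace ↥(pullback f g) := by
  haveI hfs : Surjective f := ⟨surjective_of_injective_app f (fun U => (hf U).1)⟩
  have hps : Function.Surjective (pullback.snd f g) :=
    (inferInstance : Surjective (pullback.snd f g)).surj
  apply connected_of_local (pullback.snd f g) hps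
  intro y
  obtain ⟨US, hUS, hy, -⟩ := (Opens.isBasis_iff_nbhd.mp Y.isBasis_affineOpens)
    (show g y ∈ (⊤ : Y.Opens) from trivial)
  exact ⟨g ⁻¹ᵁ US, hy, (app_snd_bijective f g US hUS (hf US)).2⟩

end Groth.Agent.Helper23.ConnBC
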