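import Mathlib

set_option autoImplicit false

open TopologicalSpace Set

namespace Groth.Agent.Helper23.CountDense

universe u

variable {X : Type u} [TopologicalSpace X]

/-- Every member of a set of irreducible closeds lies below a maximal member (ACC). -/
theorem exists_le_maximal_mem [WellFoundedGT (IrreducibleCloseds X)]
    (𝒮 : Set (IrreducibleCloseds X)) {Y : IrreducibleCloseds X} (hY : Y ∈ 𝒮) :
    ∃ m ∈ 𝒮, Y ≤ m ∧ ∀ Y' ∈ 𝒮, m ≤ Y' → Y' = m := by
  obtain ⟨m, ⟨hm𝒮, hYm⟩, hmin⟩ :=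
    (wellFounded_gt (α := IrreducibleCloseds X)).has_min {Y' | Y' ∈ 𝒮 ∧ Y ≤ Y'} ⟨Y, hY, le_rfl⟩
  refine ⟨m, hm𝒮, hYm, fun Y' hY' hmY' => ?_⟩
  by_contra hne
  exact hmin Y' ⟨hY', hYm.trans hmY'⟩ (lt_of_le_of_ne hmY' (Ne.symm hne))

/-- An irreducible set contained in a finite union of closed sets is contained in one of them. -/
theorem exists_subset_of_subset_biUnion {ι : Type*} {Z : Set X} (hZ : IsIrreducible Z)
    (S : Set ι) (hS : S.Finite) (F : ι → Set X) (hF : ∀ i ∈ S, IsClosed (F i))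
    (h : Z ⊆ ⋃ i ∈ S, F i) : ∃ i ∈ S, Z ⊆ F i := by
  classical
  have := (isIrreducible_iff_sUnion_isClosed.1 hZ) (hS.toFinset.image F) (by
    intro z hz
    simp only [Finset.mem_image, Finite.mem_toFinset] at hz
    obtain ⟨i, hi, rfl⟩ := hz
    exact hF i hi) (by
    intro x hx
    obtain ⟨i, hi, hxi⟩ := mem_iUnion₂.1 (h hx)
    refine mem_sUnion.2 ⟨F i, ?_, hxi⟩
    simp only [Finset.coe_image, Finite.coe_toFinset]
    exact ⟨i, hi, rfl⟩)
  obtain ⟨z, hz, hZz⟩ := this
  simp only [Finset.mem_image, Finite.mem_toFinset] at hz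
  obtain ⟨i, hi, rfl⟩ := hz
  exact ⟨i, hi, hZz⟩


/-- The reducible step: a nonempty non-irreducible closed set splits. -/
theorem exists_split_of_not_irreducible {Z : Set X} (hne : Z.Nonempty) (hirr : ¬ IsIrreducible Z) :
    ∃ u v : Set X, IsOpen u ∧ IsOpen v ∧ (Z ∩ u).Nonempty ∧ (Z ∩ v).Nonempty ∧ Z ∩ (u ∩ v) = ∅ := by
  have h1 : ¬ IsPreirreducible Z := fun h => hirr ⟨hne, h⟩
  unfold IsPreirreducible at h1
  push Not at h1
  obtain ⟨u, v, hu, hv, hzu, hzv, hzuv⟩ := h1
  exact ⟨u, v, hu, hv, hzu, hzv, hzuv⟩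

theorem exists_countable_closure_le [NoetherianSpace X] [WellFoundedGT (IrreducibleCloseds X)]
    (T : Set X) : ∃ E ⊆ T, E.Countable ∧ closure T ⊆ closure E := by
  classical
  suffices H : ∀ Z : Closeds X, ∀ T : Set X, closure T = (Z : Set X) →
      ∃ E ⊆ T, E.Countable ∧ closure T ⊆ closure E from H ⟨closure T, isClosed_closure⟩ T rfl
  intro Z
  induction Z using WellFoundedLT.induction with
  | ind Z ih =>
  intro T hT
  have hTZ : T ⊆ (Z : Set X) := hT ▸ subset_closure
  -- helper: apply the induction hypothesis to a subset with smaller closure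
  have ih' : ∀ T' : Set X, closure T' ⊆ (Z : Set X) → closure T' ≠ (Z : Set X) →
      ∃ E ⊆ T', E.Countable ∧ closure T' ⊆ closure E := by
    intro T' h1 h2
    refine ih ⟨closure T', isClosed_closure⟩ ?_ T' rfl
    refine lt_of_le_of_ne (by exact h1) ?_
    intro h
    exact h2 (congrArg (fun W : Closeds X => (W : Set X)) h)
  by_cases hne : (Z : Set X).Nonempty
  swap
  · refine ⟨∅, empty_subset _, countable_empty, ?_⟩
    rw [hT, Set.not_nonempty_iff_eq_empty.1 hne]
    exact empty_subset _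
  by_cases hirr : IsIrreducible (Z : Set X)
  swap
  · obtain ⟨u, v, hu, hv, hzu, hzv, hzuv⟩ := exists_split_of_not_irreducible hne hirr
    have key : ∀ w : Set X, IsOpen w → ((Z : Set X) ∩ w).Nonempty →
        ∃ E ⊆ T \ w, E.Countable ∧ closure (T \ w) ⊆ closure E := by
      intro w hw hzw
      have hcl : closure (T \ w) ⊆ (Z : Set X) \ w :=
        closure_minimal (sdiff_subset_sdiff_left hTZ) (Z.isClosed.sdiff hw)
      refine ih' (T \ w) (hcl.trans sdiff_subset) ?_
      intro h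
      obtain ⟨x, hxZ, hxw⟩ := hzw
      exact (hcl (h ▸ hxZ)).2 hxw
    obtain ⟨E1, hE1, hE1c, hE1d⟩ := key u hu hzu
    obtain ⟨E2, hE2, hE2c, hE2d⟩ := key v hv hzv
    refine ⟨E1 ∪ E2, union_subset (hE1.trans sdiff_subset) (hE2.trans sdiff_subset),
      hE1c.union hE2c, ?_⟩
    have hTsub : T ⊆ (T \ u) ∪ (T \ v) := by
      intro t ht
      by_cases htu : t ∈ u
      · right
        refine ⟨ht, fun htv => ?_⟩
        have : t ∈ (Z : Set X) ∩ (u ∩ v) := ⟨hTZ ht, htu, htv⟩
        rw [hzuv] at this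
        exact this
      · left
        exact ⟨ht, htu⟩
    calc closure T ⊆ closure ((T \ u) ∪ (T \ v)) := closure_mono hTsub
      _ = closure (T \ u) ∪ closure (T \ v) := closure_union
      _ ⊆ closure E1 ∪ closure E2 := union_subset_union hE1d hE2d
      _ = closure (E1 ∪ E2) := closure_union.symm
  -- irreducible case
  by_cases hgen : ∃ t ∈ T, closure {t} = (Z : Set X)
  · obtain ⟨t, ht, htZ⟩ := hgen
    exact ⟨{t}, singleton_subset_iff.2 ht, countable_singleton t, by rw [hT, htZ]⟩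
  push Not at hgen
  let 𝒮 : Set (IrreducibleCloseds X) :=
    {Y | (Y : Set X) ⊆ (Z : Set X) ∧ (Y : Set X) ≠ (Z : Set X) ∧ closure (T ∩ (Y : Set X)) = (Y : Set X)}
  let M : Set (IrreducibleCloseds X) := {m | m ∈ 𝒮 ∧ ∀ Y' ∈ 𝒮, m ≤ Y' → Y' = m}
  have hTM : ∀ t ∈ T, ∃ m ∈ M, t ∈ (m : Set X) := by
    intro t ht
    let Yt : IrreducibleCloseds X := ⟨closure {t}, isIrreducible_singleton.closure, isClosed_closure⟩
    have hYt : Yt ∈ 𝒮 := by
      refine ⟨closure_minimal (singleton_subset_iff.2 (hTZ ht)) Z.isClosed, hgen t ht, ?_⟩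
      refine subset_antisymm (closure_minimal inter_subset_right isClosed_closure) ?_
      exact closure_mono (singleton_subset_iff.2 ⟨ht, subset_closure (mem_singleton t)⟩)
    obtain ⟨m, hm𝒮, hYm, hmax⟩ := exists_le_maximal_mem 𝒮 hYt
    exact ⟨m, ⟨hm𝒮, hmax⟩, hYm (subset_closure (mem_singleton t))⟩
  by_cases hMfin : M.Finite
  · exfalso
    have hsub : (Z : Set X) ⊆ ⋃ m ∈ M, (m : Set X) := by
      rw [← hT]
      refine closure_minimal ?_ (hMfin.isClosed_biUnion fun m _ => m.isClosed)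
      intro t ht
      obtain ⟨m, hm, htm⟩ := hTM t ht
      exact mem_iUnion₂.2 ⟨m, hm, htm⟩
    obtain ⟨m, hm, hZm⟩ := exists_subset_of_subset_biUnion hirr M hMfin (fun m => (m : Set X))
      (fun m _ => m.isClosed) hsub
    exact hm.1.2.1 (subset_antisymm hm.1.1 hZm)
  -- M infinite
  have hMinf : M.Infinite := hMfin
  let f : ℕ ↪ M := hMinf.natEmbedding M
  have hfn : ∀ n : ℕ, ∃ E ⊆ T ∩ ((f n).1 : Set X), E.Countable ∧
      ((f n).1 : Set X) ⊆ closure E := by
    intro n
    have hmem := (f n).2.1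
    obtain ⟨E, hE, hEc, hEd⟩ := ih' (T ∩ ((f n).1 : Set X)) (by rw [hmem.2.2]; exact hmem.1)
      (by rw [hmem.2.2]; exact hmem.2.1)
    exact ⟨E, hE, hEc, by rw [hmem.2.2] at hEd; exact hEd⟩
  choose En hEn hEnc hEnd using hfn
  refine ⟨⋃ n, En n, iUnion_subset fun n => (hEn n).trans inter_subset_left,
    countable_iUnion hEnc, ?_⟩
  by_contra hcon
  set E := ⋃ n, En n with hE
  have hET : E ⊆ T := iUnion_subset fun n => (hEn n).trans inter_subset_left
  have hWZ : closure E ⊆ (Z : Set X) := closure_minimal (hET.trans hTZ) Z.isClosed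
  have hWne : closure E ≠ (Z : Set X) := fun h => hcon (by rw [hT, h])
  obtain ⟨S, hSfin, hScl, hSirr, hWS'⟩ :=
    NoetherianSpace.exists_finite_set_isClosed_irreducible (isClosed_closure (s := E))
  have hWS : closure E = ⋃ V ∈ S, V := by rw [hWS', sUnion_eq_biUnion]
  -- maximal elements of S are in 𝒮
  have hmaxS : ∀ V (hV : V ∈ S), (∀ V' ∈ S, V ⊆ V' → V' ⊆ V) →
      (⟨V, hSirr V hV, hScl V hV⟩ : IrreducibleCloseds X) ∈ 𝒮 := by
    intro V hV hmax
    have hVW : V ⊆ closure E := by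
      rw [hWS]; exact subset_biUnion_of_mem (u := fun V : Set X => V) hV
    refine ⟨hVW.trans hWZ, fun h => hWne (subset_antisymm hWZ (h ▸ hVW)), ?_⟩
    refine subset_antisymm (closure_minimal inter_subset_right (hScl V hV)) ?_
    have hEsub : E ⊆ ⋃ V' ∈ S, (E ∩ V') := by
      intro e he
      have : e ∈ ⋃ V ∈ S, V := hWS ▸ subset_closure he
      obtain ⟨V', hV', heV'⟩ := mem_iUnion₂.1 this
      exact mem_iUnion₂.2 ⟨V', hV', he, heV'⟩
    have h2 : V ⊆ ⋃ V' ∈ S, closure (E ∩ V') := by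
      refine hVW.trans ?_
      refine closure_minimal (hEsub.trans ?_) (hSfin.isClosed_biUnion fun _ _ => isClosed_closure)
      exact iUnion₂_mono fun V' _ => subset_closure
    obtain ⟨V', hV', hVV'⟩ := exists_subset_of_subset_biUnion (hSirr V hV) S hSfin
      (fun V' => closure (E ∩ V')) (fun _ _ => isClosed_closure) h2
    have hV'V : V ⊆ V' :=
      hVV'.trans (closure_minimal inter_subset_right (hScl V' hV'))
    have hEq : V' = V := subset_antisymm (hmax V' hV' hV'V) hV'V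
    rw [hEq] at hVV'
    exact hVV'.trans (closure_mono (inter_subset_inter_left _ hET))
  -- each `f n` equals a member of `S`
  have hfS : ∀ n : ℕ, ((f n).1 : Set X) ∈ S := by
    intro n
    have hYW : ((f n).1 : Set X) ⊆ ⋃ V ∈ S, V := by
      rw [← hWS]
      exact (hEnd n).trans (closure_mono (subset_iUnion En n))
    obtain ⟨V0, hV0, hYV0⟩ := exists_subset_of_subset_biUnion (f n).1.isIrreducible S hSfin
      (fun V => V) (fun V hV => hScl V hV) hYW
    obtain ⟨V, hV0V, hVmax⟩ := hSfin.exists_le_maximal hV0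
    have hV𝒮 := hmaxS V hVmax.prop (fun V' hV' hVV' => hVmax.le_of_ge hV' hVV')
    have := (f n).2.2 _ hV𝒮 (show ((f n).1 : Set X) ⊆ V from hYV0.trans hV0V)
    have h3 : V = ((f n).1 : Set X) := congrArg (fun Y : IrreducibleCloseds X => (Y : Set X)) this
    rw [← h3]
    exact hVmax.prop
  have hginj : Function.Injective (fun n : ℕ => ((f n).1 : Set X)) := by
    intro a b hab
    exact f.injective (Subtype.ext (IrreducibleCloseds.ext hab))
  exact (Set.infinite_of_injective_forall_mem hginj hfS) hSfin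

end Groth.Agent.Helper23.CountDense
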