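import Mathlib
import Groth.Prelude
import Groth.Agent.Lib.Helper4.Homog6
import Groth.Agent.Lib.Helper14.FibreDimBC
import Groth.Agent.Lib.Helper16.Sch.FTDim1
import Groth.Agent.Lib.Helper23.GrpNeutral

set_option autoImplicit false
set_option linter.style.haveILetI false
set_option linter.unusedSectionVars false
universe u
open CategoryTheory CategoryTheory.Limits AlgebraicGeometry MonoidalCategory CartesianMonoidalCategory
  MonObj GrpObj

noncomputable section

namespace Groth.Agent.Helper23.HomogDim

open Groth.Agent.Helper28.AlgGrpShear Groth.Agent.Helper4.Homog Groth.Agent.Helper14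
  Groth.Agent.Helper16.FTDim

section Top

variable {T : Type*} [TopologicalSpace T]

/-- the generic point of an irreducible component is a maximal point -/
theorem eq_of_specializes_genericPoint [T0Space T] {Z : Set T} (hZ : Z ∈ irreducibleComponents T)
    {ξ ζ : T} (hξ : IsGenericPoint ξ Z) (h : ζ ⤳ ξ) : ζ = ξ := by
  have h1 : Z ⊆ closure {ζ} := by
    rw [← hξ.def]
    exact h.closure_subset
  have h2 : IsIrreducible (closure ({ζ} : Set T)) := isIrreducible_singleton.closure
  have h3 : closure ({ζ} : Set T) ⊆ Z := hZ.2 h2 h1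
  have h4 : closure ({ζ} : Set T) = closure {ξ} := by
    rw [hξ.def]
    exact le_antisymm h3 h1
  exact ((specializes_iff_closure_subset.mpr h4.ge).antisymm
    (specializes_iff_closure_subset.mpr h4.le)).eq

/-- every point has a maximal generization, in a quasi-sober space -/
theorem exists_maximal_generization [QuasiSober T] [T0Space T] (w : T) :
    ∃ ζ : T, ζ ⤳ w ∧ ∀ ζ' : T, ζ' ⤳ ζ → ζ' = ζ := by
  have hZ : irreducibleComponent w ∈ irreducibleComponents T :=
    irreducibleComponent_mem_irreducibleComponents w
  obtain ⟨ζ, hζ⟩ := QuasiSober.sober (isIrreducible_irreducibleComponent (x := w))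
    isClosed_irreducibleComponent
  refine ⟨ζ, ?_, fun ζ' h => eq_of_specializes_genericPoint hZ hζ h⟩
  rw [specializes_iff_mem_closure, hζ.def]
  exact mem_irreducibleComponent

end Top

section Field

variable {k : Type u} [Field k] {G X : Over (Spec (CommRingCat.of k))} [GrpObj G]
  (a : AlgGrp.Action G X)

theorem isPullback_fst_snd :
    IsPullback (fst G X).left (snd G X).left G.hom X.hom :=
  IsPullback.of_hasPullback G.hom X.hom

theorem isPullback_fst_act :
    IsPullback (fst G X).left a.act.left G.hom X.hom := by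
  have h := isPullback_fst_snd (G := G) (X := X)
  refine IsPullback.of_iso h ((Over.forget _).mapIso (shear a)).symm (Iso.refl _) (Iso.refl _)
    (Iso.refl _) ?_ ?_ ?_ ?_
  · simp only [Iso.symm_hom, Functor.mapIso_inv, Over.forget_map, Iso.refl_hom, Category.comp_id]
    rw [← Over.comp_left]
    congr 1
    rw [Iso.eq_inv_comp, shear_hom_fst]
  · simp only [Iso.symm_hom, Functor.mapIso_inv, Over.forget_map, Iso.refl_hom, Category.comp_id]
    rw [← Over.comp_left]
    congr 1
    rw [Iso.eq_inv_comp, shear_hom_snd]
  · simp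
  · simp

theorem td_eq_of_pullback {X S X' S' : Scheme.{u}} {f : X ⟶ S} {g : S' ⟶ S} {g' : X' ⟶ X}
    {f' : X' ⟶ S'} (hsq : IsPullback g' f' f g) (z' : X') (hmax : ∀ w' : X', w' ⤳ z' → w' = z') :
    td f' z' = td f (g' z') := by
  unfold td
  rw [FibreDimBC.trdeg_eq_of_maximal hsq z' (fun w' _ hw => hmax w' hw)]

theorem td_generic_eq [LocallyOfFiniteType G.hom] [LocallyOfFiniteType X.hom]
    (hΦ : Surjective (lift a.act (snd G X)).left)
    {Zx Zy : Set X.left} (hZx : Zx ∈ irreducibleComponents X.left)
    (hZy : Zy ∈ irreducibleComponents X.left) {ξx ξy : X.left}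
    (hξx : IsGenericPoint ξx Zx) (hξy : IsGenericPoint ξy Zy) :
    td X.hom ξx = td X.hom ξy := by
  obtain ⟨w, hw1, hw2⟩ := exists_act_eq a hΦ ξy ξx
  obtain ⟨ζ, hζw, hζmax⟩ := exists_maximal_generization w
  have h1 : a.act.left ζ = ξy :=
    eq_of_specializes_genericPoint hZy hξy (hw1 ▸ hζw.map a.act.left.continuous)
  have h2 : (snd G X).left ζ = ξx :=
    eq_of_specializes_genericPoint hZx hξx (hw2 ▸ hζw.map (snd G X).left.continuous)
  have P1 := isPullback_fst_snd (G := G) (X := X)
  have P2 := isPullback_fst_act a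
  haveI : LocallyOfFiniteType (snd G X).left :=
    FibreDimBC.locallyOfFiniteType_of_isPullback (f := G.hom) P1
  haveI : LocallyOfFiniteType a.act.left :=
    FibreDimBC.locallyOfFiniteType_of_isPullback (f := G.hom) P2
  have t1 := td_comp (snd G X).left X.hom ζ
  have t2 := td_comp a.act.left X.hom ζ
  have e : (snd G X).left ≫ X.hom = a.act.left ≫ X.hom := by
    rw [Over.w, Over.w]
  rw [e] at t1
  rw [t1, h1, h2, td_eq_of_pullback P1 ζ hζmax, td_eq_of_pullback P2 ζ hζmax] at t2
  omega

theorem dim_cc_eq_field [LocallyOfFiniteType G.hom] [LocallyOfFiniteType X.hom]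
    (hΦ : Surjective (lift a.act (snd G X)).left) (x y : X.left) :
    topologicalKrullDim ↥(connectedComponent x) = topologicalKrullDim ↥(connectedComponent y) := by
  haveI : IsLocallyNoetherian X.left := LocallyOfFiniteType.isLocallyNoetherian X.hom
  rw [connectedComponent_eq_irreducibleComponent a hΦ x,
    connectedComponent_eq_irreducibleComponent a hΦ y]
  obtain ⟨ξx, hξx⟩ := QuasiSober.sober (isIrreducible_irreducibleComponent (x := x))
    isClosed_irreducibleComponent
  obtain ⟨ξy, hξy⟩ := QuasiSober.sober (isIrreducible_irreducibleComponent (x := y))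
    isClosed_irreducibleComponent
  rw [← hξx.def, ← hξy.def, dim_closure k X.hom, dim_closure k X.hom,
    td_generic_eq a hΦ (irreducibleComponent_mem_irreducibleComponents x)
      (irreducibleComponent_mem_irreducibleComponents y) hξx hξy]

end Field

section Artin

open Groth.Agent.Helper23.GrpNeutral

theorem dim_image {S T : Type*} [TopologicalSpace S] [TopologicalSpace T] (h : S ≃ₜ T) (s : Set S) :
    topologicalKrullDim ↥(h '' s) = topologicalKrullDim ↥s :=
  ((h.image s).isHomeomorph.topologicalKrullDim_eq).symm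

theorem image_cc {S T : Type*} [TopologicalSpace S] [TopologicalSpace T] (h : S ≃ₜ T)
    (x : S) : h '' connectedComponent x = connectedComponent (h x) := by
  apply subset_antisymm (h.continuous.image_connectedComponent_subset x)
  intro y hy
  have h1 := h.symm.continuous.image_connectedComponent_subset (h x) ⟨y, hy, rfl⟩
  rw [h.symm_apply_apply] at h1
  exact ⟨h.symm y, h1, h.apply_symm_apply y⟩

theorem main3033 (A : Type u) [CommRing A] [IsArtinianRing A] [IsLocalRing A]
    (G X : Over (Spec (CommRingCat.of A))) [GrpObj G] [LocallyOfFiniteType G.hom]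
    [LocallyOfFiniteType X.hom]
    (a : AlgGrp.Action G X) (hΦ : Surjective (lift a.act (snd G X)).left) (x y : X.left) :
    topologicalKrullDim ↥(connectedComponent x) = topologicalKrullDim ↥(connectedComponent y) := by
  have hΦ' := surjective_bc (iA A) a hΦ
  haveI : LocallyOfFiniteType (Red.bc (iA A) G).hom :=
    inferInstanceAs (LocallyOfFiniteType (pullback.snd G.hom (iA A)))
  haveI : LocallyOfFiniteType (Red.bc (iA A) X).hom :=
    inferInstanceAs (LocallyOfFiniteType (pullback.snd X.hom (iA A)))
  obtain ⟨x0, rfl⟩ := (fstHomeo X).surjective x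
  obtain ⟨y0, rfl⟩ := (fstHomeo X).surjective y
  rw [← image_cc (fstHomeo X) x0, ← image_cc (fstHomeo X) y0, dim_image, dim_image]
  exact dim_cc_eq_field (a.bc (iA A)) hΦ' x0 y0

end Artin

end Groth.Agent.Helper23.HomogDim
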