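import Mathlib
import Groth.Prelude
import Groth.Agent.Lib.Helper4.Homog1
import Groth.Agent.Lib.Helper4.GrpConn
import Groth.Agent.Lib.Helper16.AlgSp.RedSp
import Groth.Agent.Lib.Helper16.Sch.FTDim10
import Groth.Agent.Lib.Helper23.HomogDim1

universe u

open CategoryTheory AlgebraicGeometry Limits MonObj CartesianMonoidalCategory MonoidalCategory

namespace Groth.Agent.Helper23.CurveHomog

open Groth.Agent.Helper16.FTDim

variable {k : Type u} [Field k]

/-- a connected group scheme over a field is irreducible -/
theorem irreducibleSpace_of_connected (G : Over (Spec (CommRingCat.of k))) [GrpObj G]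
    [ConnectedSpace ↥G.left] : IrreducibleSpace ↥G.left := by
  have h := (Groth.Agent.Helper4.GrpConn.connectedComponent_unit_irreducible_compact G).1
  rw [PreconnectedSpace.connectedComponent_eq_univ] at h
  exact irreducibleSpace_of_isIrreducible_univ h

/-- the diagonal of a separated `k`-scheme is a closed immersion -/
theorem isClosedImmersion_diag (C : Over (Spec (CommRingCat.of k))) [IsSeparated C.hom] :
    IsClosedImmersion (lift (𝟙 C) (𝟙 C)).left := by
  haveI : IsSeparated (fst C C).left :=
    inferInstanceAs (IsSeparated (pullback.fst C.hom C.hom))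
  have h : (lift (𝟙 C) (𝟙 C)).left ≫ (fst C C).left = 𝟙 C.left := by
    rw [← Over.comp_left, lift_fst]
    rfl
  haveI : IsClosedImmersion ((lift (𝟙 C) (𝟙 C)).left ≫ (fst C C).left) := by
    rw [h]; infer_instance
  exact IsClosedImmersion.of_comp (lift (𝟙 C) (𝟙 C)).left (fst C C).left

theorem genericPoint_map {X Y : Scheme.{u}} [IrreducibleSpace ↥X] [IrreducibleSpace ↥Y]
    (f : X ⟶ Y) [Surjective f] : f (genericPoint ↥X) = genericPoint ↥Y := by
  have h1 : IsGenericPoint (f (genericPoint ↥X)) (closure (f '' Set.univ)) :=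
    (genericPoint_spec ↥X).image f.continuous
  rw [Set.image_univ, f.surjective.range_eq, closure_univ] at h1
  exact h1.eq (genericPoint_spec ↥Y)

/-- dimension of `C ×ₖ C` -/
theorem dim_prod_self (C : Over (Spec (CommRingCat.of k))) [LocallyOfFiniteType C.hom]
    [GeometricallyIntegral C.hom] (n : ℕ) (hdim : topologicalKrullDim ↥C.left = n) :
    topologicalKrullDim ↥(C ⊗ C).left = ((n + n : ℕ) : WithBot ℕ∞) := by
  haveI : IsIntegral C.left := GeometricallyIntegral.isIntegral_of_subsingleton C.hom
  haveI : IsLocallyNoetherian C.left := LocallyOfFiniteType.isLocallyNoetherian C.hom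
  haveI : IsIntegral (C ⊗ C).left := inferInstanceAs (IsIntegral (pullback C.hom C.hom))
  haveI : LocallyOfFiniteType (C ⊗ C).hom :=
    inferInstanceAs (LocallyOfFiniteType (pullback.fst C.hom C.hom ≫ C.hom))
  haveI : LocallyOfFiniteType (fst C C).left :=
    inferInstanceAs (LocallyOfFiniteType (pullback.fst C.hom C.hom))
  haveI : Surjective (fst C C).left :=
    inferInstanceAs (Surjective (pullback.fst C.hom C.hom))
  haveI : Surjective (snd C C).left :=
    inferInstanceAs (Surjective (pullback.snd C.hom C.hom))
  set ζ := genericPoint ↥(C ⊗ C).left with hζ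
  have htdC : td C.hom (genericPoint ↥C.left) = n := by
    have h := dim_eq_td_genericPoint k C.hom
    rw [hdim] at h
    exact_mod_cast h.symm
  have hmax : ∀ w : ↥(C ⊗ C).left, w ⤳ ζ → w = ζ := fun w hw =>
    hw.antisymm (genericPoint_specializes w) |>.eq
  have hsq : IsPullback (snd C C).left (fst C C).left C.hom C.hom :=
    (IsPullback.of_hasPullback C.hom C.hom).flip
  have h1 : td (fst C C).left ζ = td C.hom ((snd C C).left ζ) :=
    Groth.Agent.Helper23.HomogDim.td_eq_of_pullback hsq ζ hmax
  have h2 : td ((fst C C).left ≫ C.hom) ζ = td C.hom ((fst C C).left ζ) + td (fst C C).left ζ :=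
    td_comp _ _ _
  rw [dim_eq_td_genericPoint k (C ⊗ C).hom]
  change ((td ((fst C C).left ≫ C.hom) ζ : ℕ) : WithBot ℕ∞) = _
  rw [h2, h1, genericPoint_map (fst C C).left, genericPoint_map (snd C C).left, htdC]

end Groth.Agent.Helper23.CurveHomog
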