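import Mathlib
import Groth.Prelude
import Groth.Agent.Lib.Helper23.CurveHomog1

universe u

open CategoryTheory AlgebraicGeometry Limits MonObj CartesianMonoidalCategory MonoidalCategory

namespace Groth.Agent.Helper23.CurveHomog

open Groth.Agent.Helper16.FTDim

/-- In an irreducible space of dimension `2`, an irreducible closed proper subset containing a
closed subset of dimension `1` equals it. -/
theorem eq_of_dim_two {S : Type*} [TopologicalSpace S] [IrreducibleSpace S]
    (hS : topologicalKrullDim S = (2 : ℕ)) {D Z : Set S} (hD : IsClosed D)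
    (hDd : topologicalKrullDim ↥D = (1 : ℕ)) (hZ : IsIrreducible Z) (hZc : IsClosed Z)
    (hDZ : D ⊆ Z) (hne : Z ≠ Set.univ) : Z = D := by
  have hDne : D.Nonempty := by
    by_contra h
    rw [Set.not_nonempty_iff_eq_empty] at h
    haveI : IsEmpty ↥D := by rw [h]; infer_instance
    haveI : IsEmpty (TopologicalSpace.IrreducibleCloseds ↥D) :=
      ⟨fun c => by obtain ⟨x, _⟩ := c.isIrreducible.nonempty; exact IsEmpty.false x⟩
    rw [topologicalKrullDim, Order.krullDim_eq_bot] at hDd
    exact absurd hDd (by simp)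
  have h1 : topologicalKrullDim ↥Z + 1 ≤ topologicalKrullDim ↥(Set.univ : Set S) :=
    dim_add_one_le_of_ssubset (IrreducibleSpace.isIrreducible_univ S) hZc
      (Set.inter_univ Z).symm hZ.nonempty (fun h => hne (Set.eq_univ_of_univ_subset h))
  rw [dim_univ, hS] at h1
  have h1' : topologicalKrullDim ↥Z ≤ ((1 : ℕ) : WithBot ℕ∞) :=
    (add_le_iff _ 1 1).1 (by simpa using h1)
  apply subset_antisymm _ hDZ
  by_contra hcon
  have h2 : topologicalKrullDim ↥D + 1 ≤ topologicalKrullDim ↥Z :=
    dim_add_one_le_of_ssubset hZ hD (Set.inter_eq_left.mpr hDZ).symm hDne hcon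
  rw [hDd] at h2
  have h3 : (((1 : ℕ) : WithBot ℕ∞)) + 1 ≤ ((1 : ℕ) : WithBot ℕ∞) := h2.trans h1'
  have h4 : ((1 + 1 : ℕ) : WithBot ℕ∞) ≤ ((1 : ℕ) : WithBot ℕ∞) := by exact_mod_cast h3
  have h5 : 1 + 1 ≤ 1 := by exact_mod_cast h4
  omega

end Groth.Agent.Helper23.CurveHomog
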