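import Mathlib
import Groth.Prelude
import Groth.Agent.Lib.Helper23.CurveHomog2

universe u

open CategoryTheory AlgebraicGeometry Limits MonObj CartesianMonoidalCategory MonoidalCategory

namespace Groth.Agent.Helper23.CurveHomog

open Groth.Agent.Helper16.FTDim

variable {k : Type u} [Field k]

section

variable (G C : Over (Spec (CommRingCat.of k))) [GrpObj G] [Smooth G.hom]
  [ConnectedSpace ↥G.left] [IsSeparated C.hom] [LocallyOfFiniteType C.hom]
  [GeometricallyIntegral C.hom] (a : AlgGrp.Action G C)

omit [IsSeparated C.hom] [LocallyOfFiniteType C.hom] in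
theorem isIntegral_prod : IsIntegral (G ⊗ C).left := by
  haveI : IrreducibleSpace ↥G.left := irreducibleSpace_of_connected G
  haveI : IsReduced G.left := Groth.Agent.Helper16.AS.isReduced_of_smooth G.hom
  haveI : IsIntegral G.left := isIntegral_of_irreducibleSpace_of_isReduced G.left
  haveI : IsLocallyNoetherian G.left := LocallyOfFiniteType.isLocallyNoetherian G.hom
  exact inferInstanceAs (IsIntegral (pullback G.hom C.hom))

omit [LocallyOfFiniteType C.hom] in
theorem act_eq_snd_of_range_subset
    (h : Set.range (lift (snd G C) a.act).left ⊆ Set.range (lift (𝟙 C) (𝟙 C)).left) :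
    a.act = snd G C := by
  set Ψ := lift (snd G C) a.act with hΨ
  set Δ := lift (𝟙 C) (𝟙 C) with hΔ
  haveI : IsClosedImmersion Δ.left := isClosedImmersion_diag C
  haveI : IsIntegral (G ⊗ C).left := isIntegral_prod G C
  let e := pullback.fst Ψ.left Δ.left
  haveI : Surjective e := ⟨fun z => by
    obtain ⟨c, hc⟩ := h ⟨z, rfl⟩
    obtain ⟨w, hw1, -⟩ := Scheme.Pullback.exists_preimage_pullback z c hc.symm
    exact ⟨w, hw1⟩⟩
  haveI : IsIso e := isIso_of_isClosedImmersion_of_surjective e
  have h1 : Δ.left ≫ (fst C C).left = 𝟙 C.left := by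
    rw [← Over.comp_left, lift_fst]; rfl
  have h2 : Δ.left ≫ (snd C C).left = 𝟙 C.left := by
    rw [← Over.comp_left, lift_snd]; rfl
  have h3 : Ψ.left ≫ (fst C C).left = Ψ.left ≫ (snd C C).left := by
    rw [← cancel_epi e, ← Category.assoc, ← Category.assoc, pullback.condition, Category.assoc,
      Category.assoc, h1, h2]
  have h4 : (Ψ ≫ fst C C).left = (Ψ ≫ snd C C).left := by
    rw [Over.comp_left, Over.comp_left, h3]
  rw [lift_fst, lift_snd] at h4
  exact (Over.OverMorphism.ext h4).symm

omit [LocallyOfFiniteType C.hom] [GeometricallyIntegral C.hom] in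
theorem range_diag_closed : IsClosed (Set.range (lift (𝟙 C) (𝟙 C)).left) := by
  haveI : IsClosedImmersion (lift (𝟙 C) (𝟙 C)).left := isClosedImmersion_diag C
  exact (lift (𝟙 C) (𝟙 C)).left.isClosedEmbedding.isClosed_range

omit [LocallyOfFiniteType C.hom] [GeometricallyIntegral C.hom] in
theorem dim_range_diag :
    topologicalKrullDim ↥(Set.range (lift (𝟙 C) (𝟙 C)).left) = topologicalKrullDim ↥C.left := by
  haveI : IsClosedImmersion (lift (𝟙 C) (𝟙 C)).left := isClosedImmersion_diag C
  exact ((lift (𝟙 C) (𝟙 C)).left.isClosedEmbedding.isEmbedding.toHomeomorph.isHomeomorph.topologicalKrullDim_eq).symm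

omit [IsSeparated C.hom] in
theorem irreducibleSpace_prod_self : IrreducibleSpace ↥(C ⊗ C).left := by
  haveI : IsIntegral C.left := GeometricallyIntegral.isIntegral_of_subsingleton C.hom
  haveI : IsLocallyNoetherian C.left := LocallyOfFiniteType.isLocallyNoetherian C.hom
  haveI : IsIntegral (C ⊗ C).left := inferInstanceAs (IsIntegral (pullback C.hom C.hom))
  infer_instance

theorem main14634 (hdim : topologicalKrullDim ↥C.left = 1) :
    IsDominant (lift (snd G C) a.act).left ↔ a.act ≠ snd G C := by
  set Ψ := lift (snd G C) a.act with hΨ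
  set Δ := lift (𝟙 C) (𝟙 C) with hΔ
  have hdim' : topologicalKrullDim ↥C.left = ((1 : ℕ) : WithBot ℕ∞) := by
    rw [hdim]; rfl
  haveI : IrreducibleSpace ↥(C ⊗ C).left := irreducibleSpace_prod_self C
  have hP : topologicalKrullDim ↥(C ⊗ C).left = ((2 : ℕ) : WithBot ℕ∞) :=
    dim_prod_self C 1 hdim'
  have hDc : IsClosed (Set.range Δ.left) := range_diag_closed C
  have hDd : topologicalKrullDim ↥(Set.range Δ.left) = ((1 : ℕ) : WithBot ℕ∞) := by
    rw [dim_range_diag C, hdim']
  constructor
  · intro hdom heq
    have h1 : Ψ = snd G C ≫ Δ := by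
      rw [hΨ, hΔ, comp_lift, Category.comp_id, heq]
    have h2 : Set.range Ψ.left ⊆ Set.range Δ.left := by
      rw [h1, Over.comp_left]
      rintro _ ⟨z, rfl⟩
      exact ⟨(snd G C).left z, rfl⟩
    have h3 : Set.range Δ.left = Set.univ := by
      apply Set.eq_univ_of_univ_subset
      rw [← hdom.1.closure_range]
      exact closure_minimal h2 hDc
    rw [h3, dim_univ, hP] at hDd
    have : (2 : ℕ) = 1 := by exact_mod_cast hDd
    omega
  · intro hne
    by_contra hnd
    haveI : IsIntegral (G ⊗ C).left := isIntegral_prod G C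
    have hirr : IsIrreducible (closure (Set.range Ψ.left)) := by
      have := (IrreducibleSpace.isIrreducible_univ ↥(G ⊗ C).left).image Ψ.left
        Ψ.left.continuous.continuousOn
      rw [Set.image_univ] at this
      exact this.closure
    have hDZ : Set.range Δ.left ⊆ closure (Set.range Ψ.left) := by
      have h1 : Groth.Agent.Helper4.Homog.unitHom (G := G) (X := C) ≫ Ψ = Δ := by
        rw [hΨ, hΔ, comp_lift, Groth.Agent.Helper4.Homog.unitHom_snd,
          Groth.Agent.Helper4.Homog.unitHom_act]
      rw [← h1, Over.comp_left]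
      rintro _ ⟨z, rfl⟩
      exact subset_closure ⟨_, rfl⟩
    have hZne : closure (Set.range Ψ.left) ≠ Set.univ := by
      intro h
      exact hnd ⟨dense_iff_closure_eq.mpr h⟩
    have hZ := eq_of_dim_two hP hDc hDd hirr isClosed_closure hDZ hZne
    apply hne
    apply act_eq_snd_of_range_subset G C a
    rw [← hZ]
    exact subset_closure

end

end Groth.Agent.Helper23.CurveHomog
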