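import Mathlib

/-!
# The cyclic matrix of a vector
-/

set_option autoImplicit false
set_option linter.unusedSectionVars false
set_option linter.unusedVariables false

universe u

open Polynomial

namespace Groth.Agent.Helper23.CycMat

variable {B : Type u} [CommRing B] {n : ℕ}

/-- the matrix with columns `v, g v, …, g^(n-1) v` -/
def cycMat (g : Matrix (Fin n) (Fin n) B) (v : Fin n → B) : Matrix (Fin n) (Fin n) B :=
  Matrix.of (fun i k => ((g ^ (k : ℕ)).mulVec v) i)

theorem cycMat_mulVec (g : Matrix (Fin n) (Fin n) B) (v a : Fin n → B) :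
    (cycMat g v).mulVec a = (∑ k : Fin n, a k • g ^ (k : ℕ)).mulVec v := by
  funext i
  rw [Matrix.sum_mulVec, Finset.sum_apply, Matrix.mulVec, dotProduct]
  apply Finset.sum_congr rfl
  intro k _
  rw [Matrix.smul_mulVec, Pi.smul_apply, smul_eq_mul, mul_comm]
  rfl

theorem cycMat_map {C : Type u} [CommRing C] (φ : B →+* C) (g : Matrix (Fin n) (Fin n) B)
    (v : Fin n → B) : (cycMat g v).map φ = cycMat (g.map φ) (fun i => φ (v i)) := by
  ext i k
  have h1 : (g ^ (k : ℕ)).map φ = (g.map φ) ^ (k : ℕ) := map_pow (RingHom.mapMatrix φ) g k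
  change φ (((g ^ (k : ℕ)).mulVec v) i) = (((g.map φ) ^ (k : ℕ)).mulVec fun i => φ (v i)) i
  rw [← h1, Matrix.mulVec, dotProduct, Matrix.mulVec, dotProduct, map_sum]
  apply Finset.sum_congr rfl
  intro j _
  rw [map_mul, Matrix.map_apply]

/-- the coefficient vector of a matrix with respect to a cyclic vector (scaled by the determinant) -/
def coef (g : Matrix (Fin n) (Fin n) B) (v : Fin n → B) (X : Matrix (Fin n) (Fin n) B) : Fin n → B :=
  ((cycMat g v).adjugate * X).mulVec v

theorem coef_sum (g : Matrix (Fin n) (Fin n) B) (v t : Fin n → B) :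
    coef g v (∑ l : Fin n, t l • g ^ (l : ℕ)) = (cycMat g v).det • t := by
  unfold coef
  rw [← Matrix.mulVec_mulVec, ← cycMat_mulVec, Matrix.mulVec_mulVec, Matrix.adjugate_mul,
    Matrix.smul_mulVec, Matrix.one_mulVec]

theorem commute_pow {g X : Matrix (Fin n) (Fin n) B} (h : X * g = g * X) (k : ℕ) :
    X * g ^ k = g ^ k * X := by
  induction k with
  | zero => simp
  | succ k ih => rw [pow_succ, ← mul_assoc, ih, mul_assoc, h, ← mul_assoc]

theorem det_smul_eq (g : Matrix (Fin n) (Fin n) B) (v : Fin n → B) (X : Matrix (Fin n) (Fin n) B)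
    (h : X * g = g * X) :
    (cycMat g v).det • ((cycMat g v).det • X) =
      (cycMat g v).det • ∑ k : Fin n, coef g v X k • g ^ (k : ℕ) := by
  set P := cycMat g v with hP
  set f := P.det with hf
  set Z := ∑ k : Fin n, coef g v X k • g ^ (k : ℕ) with hZ
  have hZg : Z * g = g * Z := by
    rw [hZ, Finset.sum_mul, Finset.mul_sum]
    apply Finset.sum_congr rfl
    intro k _
    rw [Matrix.smul_mul, Matrix.mul_smul, ← pow_succ, ← pow_succ']
  -- Z v = f • X v
  have h1 : Z.mulVec v = f • X.mulVec v := by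
    rw [hZ, ← cycMat_mulVec]
    unfold coef
    rw [Matrix.mulVec_mulVec, ← Matrix.mul_assoc, Matrix.mul_adjugate, Matrix.smul_mul,
      Matrix.one_mul, Matrix.smul_mulVec]
  -- (f • X) * P = Z * P
  have h2 : (f • X) * P = Z * P := by
    refine Matrix.ext (fun i k => ?_)
    have e1 : ((f • X) * P) i k = ((f • X).mulVec ((g ^ (k : ℕ)).mulVec v)) i := by
      rw [Matrix.mul_apply, Matrix.mulVec, dotProduct]
      rfl
    have e2 : (Z * P) i k = (Z.mulVec ((g ^ (k : ℕ)).mulVec v)) i := by
      rw [Matrix.mul_apply, Matrix.mulVec, dotProduct]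
      rfl
    rw [e1, e2, Matrix.mulVec_mulVec, Matrix.mulVec_mulVec, Matrix.smul_mul, commute_pow h,
      commute_pow hZg, ← Matrix.mulVec_mulVec, h1, Matrix.smul_mulVec,
      Matrix.mulVec_smul, Matrix.mulVec_mulVec]
  have h3 := congrArg (fun W => W * P.adjugate) h2
  simp only [Matrix.mul_assoc, Matrix.mul_adjugate] at h3
  rw [Matrix.mul_smul, Matrix.mul_one, Matrix.mul_smul, Matrix.mul_one] at h3
  exact h3

/-- a cyclic vector in the polynomial sense gives an invertible cyclic matrix -/
theorem isUnit_det_of_cyclic [Nontrivial B] (g : Matrix (Fin n) (Fin n) B) (v : Fin n → B)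
    (hv : ∀ w : Fin n → B, ∃ p : B[X], w = (aeval g p).mulVec v) :
    IsUnit (cycMat g v).det := by
  rw [← Matrix.isUnit_iff_isUnit_det, ← Matrix.mulVec_surjective_iff_isUnit]
  intro w
  obtain ⟨p, rfl⟩ := hv w
  set χ := g.charpoly with hχ
  have hmonic : χ.Monic := Matrix.charpoly_monic g
  set r := p %ₘ χ with hr
  have hpr : aeval g p = aeval g r := by
    conv_lhs => rw [← modByMonic_add_div p χ]
    rw [map_add, map_mul, Matrix.aeval_self_charpoly, zero_mul, add_zero]
  by_cases hn : n = 0
  · subst hn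
    refine ⟨fun _ => 0, ?_⟩
    funext i
    exact i.elim0
  have hdeg : r.natDegree < n := by
    have hχ1 : χ ≠ 1 := by
      intro h1
      have := Matrix.charpoly_natDegree_eq_dim g
      rw [← hχ, h1, natDegree_one, Fintype.card_fin] at this
      exact hn this.symm
    have := natDegree_modByMonic_lt p hmonic hχ1
    rwa [Matrix.charpoly_natDegree_eq_dim, Fintype.card_fin] at this
  refine ⟨fun k => r.coeff (k : ℕ), ?_⟩
  rw [cycMat_mulVec, hpr, aeval_eq_sum_range' hdeg, Finset.sum_range]
theorem coef_map {C : Type u} [CommRing C] (φ : B →+* C) (g : Matrix (Fin n) (Fin n) B)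
    (v : Fin n → B) (X : Matrix (Fin n) (Fin n) B) (k : Fin n) :
    φ (coef g v X k) = coef (g.map φ) (fun i => φ (v i)) (X.map φ) k := by
  unfold coef
  rw [← cycMat_map, ← RingHom.mapMatrix_apply, ← RingHom.map_adjugate, RingHom.mapMatrix_apply,
    ← Matrix.map_mul, Matrix.mulVec, dotProduct, Matrix.mulVec, dotProduct, map_sum]
  apply Finset.sum_congr rfl
  intro j _
  rw [map_mul, Matrix.map_apply]

end Groth.Agent.Helper23.CycMat
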