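import Mathlib

/-!
# Cyclic vectors for regular endomorphisms
-/

set_option autoImplicit false
set_option linter.unusedSectionVars false
set_option linter.unusedVariables false

universe u

open Polynomial Function

namespace Groth.Agent.Helper23.CycVec

section PiModel

variable {K : Type u} [Field K] {ι : Type u} [Fintype ι] [DecidableEq ι] (q : ι → K[X])

/-- the model module: a finite product of cyclic torsion modules -/
abbrev Model : Type u := (i : ι) → K[X] ⧸ Ideal.span ({q i} : Set K[X])

/-- pairwise coprime generators give a cyclic vector -/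
theorem cyclic_of_coprime (hq : ∀ i j, i ≠ j → IsCoprime (q i) (q j)) :
    ∃ v : Model q, Submodule.span K[X] {v} = ⊤ := by
  refine ⟨fun _ => 1, ?_⟩
  rw [eq_top_iff]
  intro w _
  have hI : Pairwise (IsCoprime on fun i => Ideal.span ({q i} : Set K[X])) := by
    intro i j hij
    exact (Ideal.isCoprime_span_singleton_iff _ _).2 (hq i j hij)
  obtain ⟨x, hx⟩ := Ideal.quotientInfToPiQuotient_surj hI w
  obtain ⟨r, rfl⟩ := Ideal.Quotient.mk_surjective x
  rw [Submodule.mem_span_singleton]
  refine ⟨r, ?_⟩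
  funext i
  have := congrFun hx i
  rw [Ideal.quotientInfToPiQuotient_mk'] at this
  rw [← this, Pi.smul_apply]
  change r • (Submodule.Quotient.mk (1 : K[X]) : K[X] ⧸ Ideal.span ({q i} : Set K[X])) = _
  rw [← Submodule.Quotient.mk_smul, smul_eq_mul, mul_one]
  rfl

/-- a non-coprime pair of generators gives an endomorphism outside the diagonal ones -/
theorem finrank_lt_of_not_coprime [Module.Finite K (Model q)]
    [Module.Finite K (Model q →ₗ[K[X]] Model q)] (i j : ι) (hij : i ≠ j) (hqj : q j ≠ 0)
    (hnc : ¬ IsCoprime (q i) (q j)) :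
    Module.finrank K (Model q) < Module.finrank K (Model q →ₗ[K[X]] Model q) := by
  -- a common non-unit divisor
  have hex : ∃ z : K[X], ¬ IsUnit z ∧ z ∣ q i ∧ z ∣ q j := by
    by_contra hcon
    apply hnc
    apply EuclideanDomain.isCoprime_of_dvd (fun h => hqj h.2)
    intro z hz _ hzi hzj
    exact hcon ⟨z, hz, hzi, hzj⟩
  obtain ⟨z, hz, ⟨a, ha⟩, ⟨c, hc⟩⟩ := hex
  have hc0 : c ≠ 0 := by
    rintro rfl
    rw [mul_zero] at hc
    exact hqj hc
  have hle : Ideal.span ({q i} : Set K[X]) ≤
      Submodule.comap (LinearMap.lsmul K[X] K[X] c) (Ideal.span ({q j} : Set K[X])) := by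
    intro x hx
    obtain ⟨y, rfl⟩ := Ideal.mem_span_singleton'.1 hx
    rw [Submodule.mem_comap, LinearMap.lsmul_apply, smul_eq_mul, Ideal.mem_span_singleton']
    exact ⟨y * a, by rw [ha, hc]; ring⟩
  let μ : (K[X] ⧸ Ideal.span ({q i} : Set K[X])) →ₗ[K[X]] (K[X] ⧸ Ideal.span ({q j} : Set K[X])) :=
    Submodule.mapQ _ _ (LinearMap.lsmul K[X] K[X] c) hle
  have hμ1 : μ 1 ≠ 0 := by
    change μ (Submodule.Quotient.mk (1 : K[X])) ≠ 0
    rw [Submodule.mapQ_apply, LinearMap.lsmul_apply, smul_eq_mul, mul_one, Ne,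
      Submodule.Quotient.mk_eq_zero, Ideal.mem_span_singleton, hc]
    intro hdvd
    have : z * c ∣ 1 * c := by rwa [one_mul]
    exact hz (isUnit_of_dvd_one ((mul_dvd_mul_iff_right hc0).1 this))
  let h : Model q →ₗ[K[X]] Model q :=
    (LinearMap.single K[X] (fun i => K[X] ⧸ Ideal.span ({q i} : Set K[X])) j) ∘ₗ μ ∘ₗ
      (LinearMap.proj i)
  let Δ : Model q →ₗ[K] (Model q →ₗ[K[X]] Model q) :=
    (LinearMap.mul K[X] (Model q)).restrictScalars K
  let Θ : (Model q × K) →ₗ[K] (Model q →ₗ[K[X]] Model q) :=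
    LinearMap.coprod Δ (LinearMap.toSpanSingleton K _ h)
  have hΘ : ∀ (a : Model q) (t : K) (x : Model q), Θ (a, t) x = a * x + (t • h) x := by
    intro a t x
    rfl
  have hinj : Function.Injective Θ := by
    rw [injective_iff_map_eq_zero]
    rintro ⟨a, t⟩ hat
    have h1 := congrFun (LinearMap.congr_fun hat (Pi.single i 1)) j
    rw [hΘ] at h1
    have h2 : (a * (Pi.single i (1 : K[X] ⧸ Ideal.span ({q i} : Set K[X])) : Model q)) j = 0 := by
      rw [Pi.mul_apply, Pi.single_eq_of_ne (Ne.symm hij), mul_zero]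
    have h3 : h (Pi.single i 1) j = μ 1 := by
      change (Pi.single j (μ ((Pi.single i (1 : K[X] ⧸ Ideal.span ({q i} : Set K[X])) :
        Model q) i)) : Model q) j = μ 1
      rw [Pi.single_eq_same, Pi.single_eq_same]
    rw [LinearMap.smul_apply, Pi.add_apply, h2, zero_add, Pi.smul_apply, h3, LinearMap.zero_apply,
      Pi.zero_apply, smul_eq_zero] at h1
    have ht : t = 0 := h1.resolve_right hμ1
    have ha0 : a = 0 := by
      have h4 := LinearMap.congr_fun hat 1
      rw [hΘ, ht, zero_smul, LinearMap.zero_apply, add_zero, mul_one] at h4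
      exact h4
    rw [ha0, ht]
    rfl
  have := LinearMap.finrank_le_finrank_of_injective hinj
  rw [Module.finrank_prod, Module.finrank_self] at this
  omega

theorem cyclic_model (hq0 : ∀ i, q i ≠ 0) [Module.Finite K (Model q)]
    [Module.Finite K (Model q →ₗ[K[X]] Model q)]
    (h : Module.finrank K (Model q →ₗ[K[X]] Model q) ≤ Module.finrank K (Model q)) :
    ∃ v : Model q, Submodule.span K[X] {v} = ⊤ := by
  by_cases hcop : ∀ i j, i ≠ j → IsCoprime (q i) (q j)
  · exact cyclic_of_coprime q hcop
  · exfalso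
    push Not at hcop
    obtain ⟨i, j, hij, hnc⟩ := hcop
    have := finrank_lt_of_not_coprime q i j hij (hq0 j) hnc
    omega

end PiModel

section AEval

variable {K : Type u} [Field K] {V : Type u} [AddCommGroup V] [Module K V] [Module.Finite K V]
  (φ : V →ₗ[K] V)

instance finite_end_aeval : Module.Finite K (Module.AEval' φ →ₗ[K[X]] Module.AEval' φ) :=
  Module.Finite.of_injective
    (LinearMap.restrictScalarsₗ K K[X] (Module.AEval' φ) (Module.AEval' φ) K)
    (LinearMap.restrictScalars_injective K)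

/-- a finite-dimensional `K[X]`-module whose endomorphism ring is no bigger than itself is cyclic -/
theorem exists_cyclic
    (h : Module.finrank K (Module.AEval' φ →ₗ[K[X]] Module.AEval' φ) ≤ Module.finrank K V) :
    ∃ v : Module.AEval' φ, Submodule.span K[X] {v} = ⊤ := by
  classical
  have htors : Module.IsTorsion K[X] (Module.AEval' φ) :=
    Module.AEval.isTorsion_of_finiteDimensional K V φ
  obtain ⟨ι, hι, p, hp, e, ⟨E⟩⟩ := Module.equiv_directSum_of_isTorsion htors
  let q : ι → K[X] := fun i => p i ^ e i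
  have hq0 : ∀ i, q i ≠ 0 := fun i => pow_ne_zero _ (hp i).ne_zero
  let E' : Module.AEval' φ ≃ₗ[K[X]] Model q :=
    E.trans (DirectSum.linearEquivFunOnFintype K[X] ι _)
  haveI : Module.Finite K (Model q) := Module.Finite.equiv (E'.restrictScalars K)
  haveI : Module.Finite K (Model q →ₗ[K[X]] Model q) :=
    Module.Finite.of_injective
      (LinearMap.restrictScalarsₗ K K[X] (Model q) (Model q) K)
      (LinearMap.restrictScalars_injective K)
  have h1 : Module.finrank K (Model q) = Module.finrank K V := by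
    rw [← (E'.restrictScalars K).finrank_eq, ← (Module.AEval'.of φ).finrank_eq]
  have h2 : Module.finrank K (Model q →ₗ[K[X]] Model q) =
      Module.finrank K (Module.AEval' φ →ₗ[K[X]] Module.AEval' φ) :=
    ((E'.conj).restrictScalars K).finrank_eq.symm
  obtain ⟨v', hv'⟩ := cyclic_model q hq0 (by rw [h1, h2]; exact h)
  refine ⟨E'.symm v', ?_⟩
  have : Submodule.span K[X] {E'.symm v'} = (Submodule.span K[X] {v'}).map E'.symm.toLinearMap := by
    rw [Submodule.map_span, Set.image_singleton]
    rfl
  rw [this, hv', Submodule.map_top, LinearMap.range_eq_top]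
  exact E'.symm.surjective

end AEval

section Mat

variable {K : Type u} [Field K]

theorem aeval_toLin' {n : ℕ} (g : Matrix (Fin n) (Fin n) K) (p : K[X]) (v : Fin n → K) :
    (aeval (Matrix.toLin' g) p) v = (aeval g p).mulVec v := by
  have h := aeval_algHom_apply (Matrix.toLinAlgEquiv' : Matrix (Fin n) (Fin n) K ≃ₐ[K] _) g p
  have h2 : (Matrix.toLinAlgEquiv' : Matrix (Fin n) (Fin n) K ≃ₐ[K] _) g = Matrix.toLin' g := rfl
  rw [h2] at h
  rw [h, Matrix.toLinAlgEquiv'_apply]

/-- a matrix over a field whose commutant has dimension `n` has a cyclic vector -/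
theorem exists_cyclic_matrix (n : ℕ) (g : Matrix (Fin n) (Fin n) K)
    (hfin : Module.finrank K (Subalgebra.centralizer K ({g} : Set (Matrix (Fin n) (Fin n) K))) = n) :
    ∃ v : Fin n → K, ∀ w : Fin n → K, ∃ p : K[X], w = (aeval g p).mulVec v := by
  set φ : (Fin n → K) →ₗ[K] (Fin n → K) := Matrix.toLin' g with hφ
  let J : (Module.AEval' φ →ₗ[K[X]] Module.AEval' φ) →ₗ[K] Matrix (Fin n) (Fin n) K :=
    (LinearMap.toMatrix' : ((Fin n → K) →ₗ[K] (Fin n → K)) ≃ₗ[K] _).toLinearMap ∘ₗ
      ((Module.AEval'.of φ).symm.conj).toLinearMap ∘ₗ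
      (LinearMap.restrictScalarsₗ K K[X] (Module.AEval' φ) (Module.AEval' φ) K)
  have hJinj : Function.Injective J := by
    intro f f' hff
    have h1 := LinearMap.toMatrix'.injective hff
    have h2 := ((Module.AEval'.of φ).symm.conj).injective h1
    exact LinearMap.restrictScalars_injective K h2
  have hJmem : ∀ f, J f ∈ Subalgebra.toSubmodule
      (Subalgebra.centralizer K ({g} : Set (Matrix (Fin n) (Fin n) K))) := by
    intro f
    rw [Subalgebra.mem_toSubmodule, Subalgebra.mem_centralizer_iff]
    intro g' hg'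
    rw [Set.mem_singleton_iff] at hg'
    subst hg'
    set f₀ : (Fin n → K) →ₗ[K] (Fin n → K) :=
      (Module.AEval'.of φ).symm.conj (f.restrictScalars K) with hf₀
    have hJf : J f = LinearMap.toMatrix' f₀ := rfl
    have hcomm : f₀ ∘ₗ φ = φ ∘ₗ f₀ := by
      apply LinearMap.ext
      intro m
      change (Module.AEval'.of φ).symm (f (Module.AEval'.of φ (φ m))) =
        φ ((Module.AEval'.of φ).symm (f (Module.AEval'.of φ m)))
      rw [← Module.AEval'.X_smul_of, map_smul, Module.AEval'.of_symm_X_smul]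
    have h3 := congrArg LinearMap.toMatrix' hcomm
    rw [LinearMap.toMatrix'_comp, LinearMap.toMatrix'_comp, hφ, LinearMap.toMatrix'_toLin'] at h3
    rw [hJf]
    exact h3.symm
  have hle : Module.finrank K (Module.AEval' φ →ₗ[K[X]] Module.AEval' φ) ≤
      Module.finrank K (Fin n → K) := by
    have := LinearMap.finrank_le_finrank_of_injective
      (f := LinearMap.codRestrict _ J hJmem) (by
        intro a b hab
        apply hJinj
        exact congrArg Subtype.val hab)
    rw [Module.finrank_fin_fun]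
    calc _ ≤ _ := this
      _ = n := hfin
  obtain ⟨v', hv'⟩ := exists_cyclic φ hle
  refine ⟨(Module.AEval'.of φ).symm v', ?_⟩
  intro w
  have hw : Module.AEval'.of φ w ∈ Submodule.span K[X] {v'} := by rw [hv']; trivial
  obtain ⟨p, hp⟩ := Submodule.mem_span_singleton.1 hw
  refine ⟨p, ?_⟩
  rw [← aeval_toLin']
  apply (Module.AEval'.of φ).injective
  rw [← hp]
  have : v' = Module.AEval'.of φ ((Module.AEval'.of φ).symm v') := by simp
  conv_lhs => rw [this]
  exact (Module.AEval.of_aeval_smul φ p _).symm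

end Mat

end Groth.Agent.Helper23.CycVec
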