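import Mathlib
import Groth.Prelude.Def_W4c3severiratdpLat

/-! Helper library for the del Pezzo lattice statements (Weyl group, reflections, descent). -/

namespace Groth.Agent.Helper23.DPLat

open W4c3severiratdp

variable {δ : ℕ}

/-! ### bilinearity of the form -/

theorem form_comm (v w : DP δ) : form v w = form w v := by
  unfold form
  rw [mul_comm]
  congr 1
  exact Finset.sum_congr rfl fun i _ => mul_comm _ _

theorem form_add_left (u v w : DP δ) : form (u + v) w = form u w + form v w := by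
  unfold form
  simp only [Pi.add_apply, add_mul, Finset.sum_add_distrib]
  ring

theorem form_smul_left (c : ℤ) (v w : DP δ) : form (c • v) w = c * form v w := by
  unfold form
  simp only [Pi.smul_apply, smul_eq_mul, mul_assoc, ← Finset.mul_sum]
  ring

theorem form_add_right (u v w : DP δ) : form u (v + w) = form u v + form u w := by
  rw [form_comm, form_add_left, form_comm v, form_comm w]

theorem form_smul_right (c : ℤ) (v w : DP δ) : form v (c • w) = c * form v w := by
  rw [form_comm, form_smul_left, form_comm]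

theorem form_sub_right (u v w : DP δ) : form u (v - w) = form u v - form u w := by
  rw [sub_eq_add_neg, form_add_right, ← neg_one_smul ℤ w, form_smul_right]; ring

theorem canon_zero (δ : ℕ) : canon δ 0 = -3 := rfl

theorem canon_succ (δ : ℕ) (i : Fin δ) : canon δ i.succ = -1 := rfl

theorem form_canon (v : DP δ) : form (canon δ) v = -3 * v 0 + ∑ i : Fin δ, v i.succ := by
  unfold form
  simp only [canon_zero, canon_succ, neg_mul, one_mul, Finset.sum_neg_distrib, sub_neg_eq_add]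

theorem conic_iff (v : DP δ) : IsConic v ↔
    (v 0 * v 0 = ∑ i : Fin δ, v i.succ * v i.succ) ∧ (∑ i : Fin δ, v i.succ = 3 * v 0 - 2) := by
  unfold IsConic
  rw [form_canon]
  unfold form
  constructor
  · rintro ⟨h1, h2⟩
    exact ⟨by linarith, by linarith⟩
  · rintro ⟨h1, h2⟩
    exact ⟨by linarith, by linarith⟩

/-! ### Weyl group elements -/

theorem isWeyl_refl : IsWeyl (LinearEquiv.refl ℤ (DP δ)) := ⟨fun _ _ => rfl, rfl⟩

theorem isWeyl_trans {g h : DP δ ≃ₗ[ℤ] DP δ} (hg : IsWeyl g) (hh : IsWeyl h) :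
    IsWeyl (g.trans h) := by
  refine ⟨fun v w => ?_, ?_⟩
  · simp only [LinearEquiv.trans_apply]
    rw [hh.1, hg.1]
  · simp only [LinearEquiv.trans_apply]
    rw [hg.2, hh.2]

theorem isWeyl_symm {g : DP δ ≃ₗ[ℤ] DP δ} (hg : IsWeyl g) : IsWeyl g.symm := by
  refine ⟨fun v w => ?_, ?_⟩
  · have := hg.1 (g.symm v) (g.symm w)
    simpa using this.symm
  · rw [LinearEquiv.symm_apply_eq]
    exact hg.2.symm

theorem isWeyl_conic {g : DP δ ≃ₗ[ℤ] DP δ} (hg : IsWeyl g) {v : DP δ} (hv : IsConic v) :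
    IsConic (g v) := by
  refine ⟨by rw [hg.1]; exact hv.1, ?_⟩
  have := hg.1 (canon δ) v
  rw [hg.2] at this
  rw [this]; exact hv.2

/-- the reflection in a root `α` (`α·α = -2`) -/
def reflFun (α : DP δ) (v : DP δ) : DP δ := v + form v α • α

theorem reflFun_invol (α : DP δ) (hα : form α α = -2) (v : DP δ) :
    reflFun α (reflFun α v) = v := by
  unfold reflFun
  rw [form_add_left, form_smul_left, hα]
  funext i
  simp only [Pi.add_apply, Pi.smul_apply, smul_eq_mul]
  ring

/-- the reflection as a linear equivalence -/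
def refl (α : DP δ) (hα : form α α = -2) : DP δ ≃ₗ[ℤ] DP δ :=
  LinearEquiv.ofInvolutive
    { toFun := reflFun α
      map_add' := fun v w => by
        unfold reflFun
        rw [form_add_left]
        funext i
        simp only [Pi.add_apply, Pi.smul_apply, smul_eq_mul]
        ring
      map_smul' := fun c v => by
        unfold reflFun
        rw [form_smul_left]
        funext i
        simp only [Pi.add_apply, Pi.smul_apply, smul_eq_mul, RingHom.id_apply]
        ring }
    (reflFun_invol α hα)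

@[simp] theorem refl_apply (α : DP δ) (hα : form α α = -2) (v : DP δ) :
    refl α hα v = v + form v α • α := rfl

theorem refl_isWeyl (α : DP δ) (hα : form α α = -2) (hK : form (canon δ) α = 0) :
    IsWeyl (refl α hα) := by
  refine ⟨fun v w => ?_, ?_⟩
  · simp only [refl_apply]
    rw [form_add_left, form_add_right, form_add_right, form_smul_left, form_smul_left,
      form_smul_right, form_smul_right, hα, form_comm α w]
    ring
  · simp only [refl_apply, hK, zero_smul, add_zero]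

/-- the action of a permutation of the exceptional curves -/
def permL (σ : Equiv.Perm (Fin δ)) : DP δ ≃ₗ[ℤ] DP δ :=
  LinearEquiv.funCongrLeft ℤ ℤ (Equiv.Perm.decomposeFin.symm (0, σ))

theorem permL_zero (σ : Equiv.Perm (Fin δ)) (v : DP δ) : permL σ v 0 = v 0 := by
  simp [permL, LinearEquiv.funCongrLeft_apply, LinearMap.funLeft_apply]

theorem permL_succ (σ : Equiv.Perm (Fin δ)) (v : DP δ) (i : Fin δ) :
    permL σ v i.succ = v (σ i).succ := by
  simp [permL, LinearEquiv.funCongrLeft_apply, LinearMap.funLeft_apply]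

theorem permL_isWeyl (σ : Equiv.Perm (Fin δ)) : IsWeyl (permL σ) := by
  refine ⟨fun v w => ?_, ?_⟩
  · unfold form
    simp only [permL_zero, permL_succ]
    rw [Equiv.sum_comp σ (fun i => v i.succ * w i.succ)]
  · funext i
    refine Fin.cases ?_ (fun j => ?_) i
    · rw [permL_zero]
    · rw [permL_succ, canon_succ, canon_succ]


/-! ### the relation "conjugate under the Weyl group fixing `F` pointwise" -/

/-- `x` and `y` are related by a Weyl element fixing `F` pointwise -/
def WRel (F : Set (DP δ)) (x y : DP δ) : Prop :=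
  ∃ g : DP δ ≃ₗ[ℤ] DP δ, IsWeyl g ∧ (∀ q ∈ F, g q = q) ∧ g x = y

theorem WRel.refl (F : Set (DP δ)) (x : DP δ) : WRel F x x :=
  ⟨LinearEquiv.refl ℤ _, isWeyl_refl, fun _ _ => rfl, rfl⟩

theorem WRel.symm {F : Set (DP δ)} {x y : DP δ} (h : WRel F x y) : WRel F y x := by
  obtain ⟨g, hg, hF, hxy⟩ := h
  refine ⟨g.symm, isWeyl_symm hg, fun q hq => ?_, ?_⟩
  · rw [LinearEquiv.symm_apply_eq]; exact (hF q hq).symm
  · rw [LinearEquiv.symm_apply_eq]; exact hxy.symm

theorem WRel.trans {F : Set (DP δ)} {x y z : DP δ} (h1 : WRel F x y) (h2 : WRel F y z) :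
    WRel F x z := by
  obtain ⟨g, hg, hF, hxy⟩ := h1
  obtain ⟨h, hh, hF', hyz⟩ := h2
  refine ⟨g.trans h, isWeyl_trans hg hh, fun q hq => ?_, ?_⟩
  · rw [LinearEquiv.trans_apply, hF q hq, hF' q hq]
  · rw [LinearEquiv.trans_apply, hxy, hyz]

theorem WRel.mono {F F' : Set (DP δ)} (hFF : F' ⊆ F) {x y : DP δ} (h : WRel F x y) :
    WRel F' x y := by
  obtain ⟨g, hg, hF, hxy⟩ := h
  exact ⟨g, hg, fun q hq => hF q (hFF hq), hxy⟩

/-! ### roots `ℓ - e_i - e_j - e_k` -/

theorem form_single_zero (v : DP δ) (c : ℤ) : form v (Pi.single 0 c) = v 0 * c := by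
  unfold form
  have : ∀ i : Fin δ, (Pi.single (0 : Fin (δ + 1)) c : DP δ) i.succ = 0 := fun i =>
    Pi.single_eq_of_ne (Fin.succ_ne_zero i) c
  simp only [this, Pi.single_eq_same, mul_zero, Finset.sum_const_zero, sub_zero]

theorem form_single_succ (v : DP δ) (i : Fin δ) (c : ℤ) :
    form v (Pi.single i.succ c) = -(v i.succ * c) := by
  unfold form
  have h0 : (Pi.single i.succ c : DP δ) 0 = 0 := Pi.single_eq_of_ne (Fin.succ_ne_zero i).symm c
  have hs : ∀ m : Fin δ, (Pi.single i.succ c : DP δ) m.succ = if m = i then c else 0 := fun m => by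
    rw [Pi.single_apply]
    simp only [Fin.succ_inj]
  simp only [h0, hs, mul_zero, mul_ite, Finset.sum_ite_eq', Finset.mem_univ, if_true, zero_sub]

/-- the root `ℓ - e_i - e_j - e_k` as a coordinate vector `(1; 1 at i, j, k)` -/
def root3 (i j k : Fin δ) : DP δ :=
  Pi.single 0 1 + Pi.single i.succ 1 + Pi.single j.succ 1 + Pi.single k.succ 1

theorem form_root3 (v : DP δ) (i j k : Fin δ) :
    form v (root3 i j k) = v 0 - (v i.succ + v j.succ + v k.succ) := by
  unfold root3
  simp only [form_add_right, form_single_zero, form_single_succ]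
  ring

theorem root3_zero (i j k : Fin δ) : root3 i j k 0 = 1 := by
  unfold root3
  simp [(Fin.succ_ne_zero _).symm]

theorem root3_succ (i j k m : Fin δ) (hij : i ≠ j) (hik : i ≠ k) (hjk : j ≠ k) :
    root3 i j k m.succ = if m = i ∨ m = j ∨ m = k then 1 else 0 := by
  unfold root3
  simp only [Pi.add_apply, Pi.single_apply, Fin.succ_inj, Fin.succ_ne_zero, if_false, zero_add]
  by_cases h1 : m = i
  · subst h1; simp [hij, hik]
  · by_cases h2 : m = j
    · subst h2; simp [h1, hjk]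
    · by_cases h3 : m = k
      · subst h3; simp [h1, h2]
      · simp [h1, h2, h3]

theorem root3_self (i j k : Fin δ) (hij : i ≠ j) (hik : i ≠ k) (hjk : j ≠ k) :
    form (root3 i j k) (root3 i j k) = -2 := by
  rw [form_root3, root3_zero, root3_succ i j k i hij hik hjk, root3_succ i j k j hij hik hjk,
    root3_succ i j k k hij hik hjk]
  simp

theorem root3_canon (i j k : Fin δ) : form (canon δ) (root3 i j k) = 0 := by
  rw [form_root3, canon_zero, canon_succ, canon_succ, canon_succ]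
  norm_num


/-! ### bounds for conic classes (`δ ≤ 8`) -/

theorem conic_bounds (hδ : δ ≤ 8) (v : DP δ) (hv : IsConic v) :
    1 ≤ v 0 ∧ v 0 ≤ 11 ∧ ∀ j : Fin δ, 0 ≤ v j.succ ∧ v j.succ ≤ v 0 := by
  obtain ⟨h1, h2⟩ := (conic_iff v).mp hv
  have cs := sq_sum_le_card_mul_sum_sq (s := (Finset.univ : Finset (Fin δ)))
    (f := fun i => v i.succ)
  simp only [Finset.card_univ, Fintype.card_fin] at cs
  have hsq : ∑ i : Fin δ, v i.succ ^ 2 = v 0 * v 0 := by
    rw [h1]; exact Finset.sum_congr rfl fun i _ => by ring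
  rw [h2, hsq] at cs
  have hδ' : (δ : ℤ) ≤ 8 := by exact_mod_cast hδ
  have hnn0 : 0 ≤ v 0 * v 0 := mul_self_nonneg _
  have cs8 : (3 * v 0 - 2) ^ 2 ≤ 8 * (v 0 * v 0) := by nlinarith
  have ha1 : 1 ≤ v 0 := by nlinarith
  have ha2 : v 0 ≤ 11 := by nlinarith
  refine ⟨ha1, ha2, fun j => ?_⟩
  have e1 := Finset.add_sum_erase Finset.univ (fun i : Fin δ => v i.succ) (Finset.mem_univ j)
  have e2 := Finset.add_sum_erase Finset.univ (fun i : Fin δ => v i.succ ^ 2) (Finset.mem_univ j)
  have cs' := sq_sum_le_card_mul_sum_sq (s := (Finset.univ : Finset (Fin δ)).erase j)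
    (f := fun i => v i.succ)
  rw [Finset.card_erase_of_mem (Finset.mem_univ j)] at cs'
  simp only [Finset.card_univ, Fintype.card_fin] at cs'
  rw [h2] at e1
  rw [hsq] at e2
  have hnn : ∀ i ∈ (Finset.univ : Finset (Fin δ)).erase j, 0 ≤ v i.succ ^ 2 :=
    fun i _ => sq_nonneg _
  have hsn := Finset.sum_nonneg hnn
  have hS : ∑ x ∈ Finset.univ.erase j, v x.succ = 3 * v 0 - 2 - v j.succ := by linarith
  have hQ : ∑ x ∈ Finset.univ.erase j, v x.succ ^ 2 = v 0 * v 0 - v j.succ ^ 2 := by linarith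
  rw [hS, hQ] at cs'
  rw [hQ] at hsn
  have hδ1 : ((δ - 1 : ℕ) : ℤ) ≤ 7 := by
    have : δ - 1 ≤ 7 := by omega
    exact_mod_cast this
  have cs7 : (3 * v 0 - 2 - v j.succ) ^ 2 ≤ 7 * (v 0 * v 0 - v j.succ ^ 2) := by nlinarith
  constructor
  · by_contra hneg
    push Not at hneg
    have k1 : 0 ≤ v 0 * (-v j.succ - 1) := mul_nonneg (by linarith) (by linarith)
    have k2 : 0 ≤ (-v j.succ - 1) * (-v j.succ) := mul_nonneg (by linarith) (by linarith)
    nlinarith [sq_nonneg (2 * v 0 - 3)]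
  · nlinarith

/-! ### descent by Cremona reflections -/

theorem descent (hδ : δ ≤ 8) (F : Set (DP δ)) (T : Fin δ → Fin δ → Fin δ → Prop)
    (hT : ∀ i j k, T i j k → i ≠ j ∧ i ≠ k ∧ j ≠ k ∧ ∀ q ∈ F, form q (root3 i j k) = 0)
    (Q : DP δ) (hQ : IsConic Q) :
    ∃ Q', WRel F Q Q' ∧ IsConic Q' ∧
      ∀ i j k, T i j k → Q' i.succ + Q' j.succ + Q' k.succ ≤ Q' 0 := by
  induction hn : (Q 0).toNat using Nat.strong_induction_on generalizing Q with
  | _ n ih =>
    by_cases h : ∀ i j k, T i j k → Q i.succ + Q j.succ + Q k.succ ≤ Q 0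
    · exact ⟨Q, WRel.refl F Q, hQ, h⟩
    · push Not at h
      obtain ⟨i, j, k, hijk, hlt⟩ := h
      obtain ⟨hij, hik, hjk, hF⟩ := hT i j k hijk
      have hα := root3_self i j k hij hik hjk
      have hg := refl_isWeyl (root3 i j k) hα (root3_canon i j k)
      set Q' := refl (root3 i j k) hα Q with hQ'
      have hQ'c : IsConic Q' := isWeyl_conic hg hQ
      have h0 : Q' 0 = Q 0 + (Q 0 - (Q i.succ + Q j.succ + Q k.succ)) := by
        rw [hQ', refl_apply, form_root3]
        simp only [Pi.add_apply, Pi.smul_apply, smul_eq_mul, root3_zero, mul_one]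
      have hpos := (conic_bounds hδ Q' hQ'c).1
      have hpos0 := (conic_bounds hδ Q hQ).1
      have hlt' : (Q' 0).toNat < n := by
        rw [← hn]
        omega
      obtain ⟨Q'', hrel, hc, hred⟩ := ih _ hlt' Q' hQ'c rfl
      refine ⟨Q'', WRel.trans ⟨refl (root3 i j k) hα, hg, fun q hq => ?_, rfl⟩ hrel, hc, hred⟩
      rw [refl_apply, hF q hq, zero_smul, add_zero]


/-! ### a verified search for descending lists with prescribed sum and square sum -/

/-- search: `k` entries remaining, each `≤ m`; partial sum `s`, partial square sum `q`,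
chosen entries `acc` (in reverse order); targets `S` and `Q`. -/
def Srch (S Q : ℕ) (P : List ℕ → Prop) : ℕ → ℕ → ℕ → ℕ → List ℕ → Prop
  | 0, _, s, q, acc => s = S → q = Q → P acc.reverse
  | k + 1, m, s, q, acc => ∀ c < m + 1, (s + c ≤ S → q + c ^ 2 ≤ Q →
      S ≤ s + c + k * c → Srch S Q P k c (s + c) (q + c ^ 2) (c :: acc))

instance Srch.dec (S Q : ℕ) (P : List ℕ → Prop) [DecidablePred P] :
    ∀ k m s q acc, Decidable (Srch S Q P k m s q acc)
  | 0, _, s, q, acc => by unfold Srch; infer_instance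
  | k + 1, m, s, q, acc => by
      unfold Srch
      have := fun c => Srch.dec S Q P k c (s + c) (q + c ^ 2) (c :: acc)
      infer_instance

theorem srch_sound (S Q : ℕ) (P : List ℕ → Prop) :
    ∀ (k m s q : ℕ) (acc l : List ℕ), Srch S Q P k m s q acc → l.length = k →
      l.Pairwise (· ≥ ·) → (∀ x ∈ l, x ≤ m) → s + l.sum = S →
      q + (l.map (· ^ 2)).sum = Q → P (acc.reverse ++ l) := by
  intro k
  induction k with
  | zero =>
    intro m s q acc l h hl _ _ hs hq
    rw [List.length_eq_zero_iff] at hl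
    subst hl
    simp only [List.sum_nil, add_zero, List.map_nil] at hs hq
    simpa using h hs hq
  | succ k ih =>
    intro m s q acc l h hl hp hm hs hq
    match l, hl with
    | c :: l', hl' =>
      simp only [List.length_cons, Nat.add_right_cancel_iff] at hl'
      simp only [List.sum_cons, List.map_cons] at hs hq
      rw [List.pairwise_cons] at hp
      have hc : c < m + 1 := Nat.lt_succ_of_le (hm c (List.mem_cons_self))
      have hsum : l'.sum ≤ k * c := by
        have := List.sum_le_card_nsmul l' c (fun x hx => hp.1 x hx)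
        rw [hl', smul_eq_mul] at this
        exact this
      have h' := h c hc (by omega) (by omega) (by omega)
      have := ih c (s + c) (q + c ^ 2) (c :: acc) l' h' hl' hp.2 (fun x hx => hp.1 x hx)
        (by omega) (by omega)
      simpa using this

theorem srch_sound_fn (S Q : ℕ) (P : List ℕ → Prop) (k m s q : ℕ) (acc : List ℕ)
    (C : Fin k → ℕ) (h : Srch S Q P k m s q acc) (hanti : ∀ i j : Fin k, i ≤ j → C j ≤ C i)
    (hm : ∀ i, C i ≤ m) (hs : s + ∑ i, C i = S) (hq : q + ∑ i, C i ^ 2 = Q) :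
    P (acc.reverse ++ List.ofFn C) := by
  apply srch_sound S Q P k m s q acc (List.ofFn C) h (List.length_ofFn)
  · rw [List.pairwise_ofFn]
    intro i j hij
    exact hanti i j hij.le
  · intro x hx
    rw [List.mem_ofFn] at hx
    obtain ⟨i, rfl⟩ := hx
    exact hm i
  · rw [List.sum_ofFn]; exact hs
  · rw [List.map_ofFn, List.sum_ofFn]; exact hq


/-! ### natural number coordinates of a conic class -/

theorem conic_nat (hδ : δ ≤ 8) (Q : DP δ) (hQ : IsConic Q) :
    ∃ (A : ℕ) (C : Fin δ → ℕ), Q 0 = A ∧ (∀ i, Q i.succ = C i) ∧ 1 ≤ A ∧ A ≤ 11 ∧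
      (∀ i, C i ≤ A) ∧ ∑ i, C i + 2 = 3 * A ∧ ∑ i, C i ^ 2 = A ^ 2 := by
  obtain ⟨ha1, ha2, hb⟩ := conic_bounds hδ Q hQ
  obtain ⟨h1, h2⟩ := (conic_iff Q).mp hQ
  obtain ⟨A, hA⟩ := Int.eq_ofNat_of_zero_le (by linarith : 0 ≤ Q 0)
  have hC : ∀ i : Fin δ, ∃ c : ℕ, Q i.succ = c := fun i => Int.eq_ofNat_of_zero_le (hb i).1
  choose C hCe using hC
  refine ⟨A, C, hA, hCe, ?_, ?_, ?_, ?_, ?_⟩
  · rw [hA] at ha1; exact_mod_cast ha1
  · rw [hA] at ha2; exact_mod_cast ha2
  · intro i
    have := (hb i).2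
    rw [hCe, hA] at this
    exact_mod_cast this
  · have : ((∑ i, C i + 2 : ℕ) : ℤ) = ((3 * A : ℕ) : ℤ) := by
      push_cast
      rw [← hA, ← Finset.sum_congr rfl (fun i _ => hCe i), h2]
      ring
    exact_mod_cast this
  · have : ((∑ i, C i ^ 2 : ℕ) : ℤ) = ((A ^ 2 : ℕ) : ℤ) := by
      push_cast
      rw [← hA, sq, h1]
      exact Finset.sum_congr rfl fun i _ => by rw [hCe i]; ring
    exact_mod_cast this

/-- the "first three entries have sum at most `a`" condition on lists -/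
def red3 (a : ℕ) : List ℕ → Prop
  | x :: y :: z :: _ => x + y + z ≤ a
  | _ => True

instance (a : ℕ) : DecidablePred (red3 a) := fun l => by
  unfold red3
  split <;> infer_instance

theorem red3_ofFn (a : ℕ) (C : Fin δ → ℕ)
    (h : ∀ h3 : 3 ≤ δ, C ⟨0, by omega⟩ + C ⟨1, by omega⟩ + C ⟨2, by omega⟩ ≤ a) :
    red3 a (List.ofFn C) := by
  match δ, C, h with
  | 0, C, _ => simp [red3]
  | 1, C, _ => simp [red3, List.ofFn_succ]
  | 2, C, _ => simp [red3, List.ofFn_succ]
  | e + 3, C, h =>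
    have := h (by omega)
    simp only [List.ofFn_succ, red3]
    exact this


/-! ### normal forms -/

theorem normal0 (hδ : δ ≤ 8) (P : ℕ → List ℕ → Prop)
    (hs : ∀ a, 1 ≤ a → a ≤ 11 →
      Srch (3 * a - 2) (a ^ 2) (fun l => red3 a l → P a l) δ a 0 0 [])
    (Q : DP δ) (hQ : IsConic Q) :
    ∃ Q'', WRel ∅ Q Q'' ∧ IsConic Q'' ∧ ∃ (A : ℕ) (C : Fin δ → ℕ),
      Q'' 0 = A ∧ (∀ i, Q'' i.succ = C i) ∧ P A (List.ofFn C) := by
  obtain ⟨Q', hrel, hc, hred⟩ := descent hδ ∅ (fun i j k => i ≠ j ∧ i ≠ k ∧ j ≠ k)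
    (fun i j k h => ⟨h.1, h.2.1, h.2.2, fun q hq => absurd hq (Set.notMem_empty q)⟩) Q hQ
  let b : Fin δ → ℤ := fun i => Q' i.succ
  let σ : Equiv.Perm (Fin δ) := Fin.revPerm.trans (Tuple.sort b)
  have hQ''s : ∀ i, permL σ Q' i.succ = b (σ i) := fun i => permL_succ σ Q' i
  have hanti : ∀ i j : Fin δ, i ≤ j → permL σ Q' j.succ ≤ permL σ Q' i.succ := by
    intro i j hij
    rw [hQ''s, hQ''s]
    have := Tuple.monotone_sort b (Fin.rev_le_rev.mpr hij)
    simpa [σ] using this
  have hc'' : IsConic (permL σ Q') := isWeyl_conic (permL_isWeyl σ) hc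
  obtain ⟨A, C, hA, hC, hA1, hA11, hCA, hsum, hsq⟩ := conic_nat hδ (permL σ Q') hc''
  refine ⟨permL σ Q', hrel.trans ⟨permL σ, permL_isWeyl σ,
    fun q hq => absurd hq (Set.notMem_empty q), rfl⟩, hc'', A, C, hA, hC, ?_⟩
  have hantiC : ∀ i j : Fin δ, i ≤ j → C j ≤ C i := by
    intro i j hij
    have := hanti i j hij
    rw [hC, hC] at this
    exact_mod_cast this
  have := srch_sound_fn (3 * A - 2) (A ^ 2) _ δ A 0 0 [] C (hs A hA1 hA11) hantiC hCA
    (by omega) (by omega)
  simp only [List.reverse_nil, List.nil_append] at this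
  apply this
  apply red3_ofFn
  intro h3
  have hr := hred (σ ⟨0, by omega⟩) (σ ⟨1, by omega⟩) (σ ⟨2, by omega⟩)
    ⟨by simp [Fin.ext_iff], by simp [Fin.ext_iff], by simp [Fin.ext_iff]⟩
  rw [← permL_succ σ Q', ← permL_succ σ Q', ← permL_succ σ Q', ← permL_zero σ Q', hC, hC, hC,
    hA] at hr
  exact_mod_cast hr

/-- the conic class `ℓ - e₁` -/
def Q0 (d : ℕ) : DP (d + 1) := Pi.single 0 1 + Pi.single (0 : Fin (d + 1)).succ 1

theorem form_Q0 (d : ℕ) (v : DP (d + 1)) : form v (Q0 d) = v 0 - v (0 : Fin (d + 1)).succ := by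
  unfold Q0
  rw [form_add_right, form_single_zero, form_single_succ]
  ring

theorem Q0_zero (d : ℕ) : Q0 d 0 = 1 := by
  unfold Q0
  simp

theorem Q0_one (d : ℕ) : Q0 d (0 : Fin (d + 1)).succ = 1 := by
  unfold Q0
  simp

theorem Q0_succ_succ (d : ℕ) (i : Fin d) : Q0 d i.succ.succ = 0 := by
  unfold Q0
  rw [Pi.add_apply, Pi.single_eq_of_ne (Fin.succ_ne_zero _),
    Pi.single_eq_of_ne (fun h => Fin.succ_ne_zero i (Fin.succ_injective _ h)), add_zero]

theorem normal1 {d : ℕ} (hδ : d + 1 ≤ 8) (P : ℕ → List ℕ → Prop)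
    (hs : ∀ a, 1 ≤ a → a ≤ 11 → ∀ b < a + 1,
      Srch (3 * a - 2) (a ^ 2) (fun l => red3 a l → P a l) d a b (b ^ 2) [b])
    (Q : DP (d + 1)) (hQ : IsConic Q) :
    ∃ Q'', WRel {Q0 d} Q Q'' ∧ IsConic Q'' ∧ ∃ (A : ℕ) (C : Fin (d + 1) → ℕ),
      Q'' 0 = A ∧ (∀ i, Q'' i.succ = C i) ∧ P A (List.ofFn C) := by
  obtain ⟨Q', hrel, hc, hred⟩ := descent hδ {Q0 d}
    (fun i j k => i = 0 ∧ j ≠ 0 ∧ k ≠ 0 ∧ j ≠ k)
    (fun i j k h => by
      obtain ⟨rfl, hj, hk, hjk⟩ := h
      refine ⟨hj.symm, hk.symm, hjk, fun q hq => ?_⟩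
      rw [Set.mem_singleton_iff] at hq
      subst hq
      rw [form_root3, Q0_zero, Q0_one]
      obtain ⟨j', rfl⟩ := Fin.exists_succ_eq.mpr hj
      obtain ⟨k', rfl⟩ := Fin.exists_succ_eq.mpr hk
      rw [Q0_succ_succ, Q0_succ_succ]
      ring) Q hQ
  let b : Fin d → ℤ := fun i => Q' i.succ.succ
  let τ : Equiv.Perm (Fin d) := Fin.revPerm.trans (Tuple.sort b)
  let σ : Equiv.Perm (Fin (d + 1)) := Equiv.Perm.decomposeFin.symm (0, τ)
  have hσ0 : σ 0 = 0 := by simp [σ]
  have hσs : ∀ i : Fin d, σ i.succ = (τ i).succ := fun i => by simp [σ]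
  have hfix : permL σ (Q0 d) = Q0 d := by
    funext i
    refine Fin.cases ?_ (fun j => ?_) i
    · rw [permL_zero]
    · rw [permL_succ]
      refine Fin.cases ?_ (fun m => ?_) j
      · rw [hσ0]
      · rw [hσs, Q0_succ_succ, Q0_succ_succ]
  have hanti : ∀ i j : Fin d, i ≤ j → permL σ Q' j.succ.succ ≤ permL σ Q' i.succ.succ := by
    intro i j hij
    rw [permL_succ, permL_succ, hσs, hσs]
    have := Tuple.monotone_sort b (Fin.rev_le_rev.mpr hij)
    simpa [τ] using this
  have hc'' : IsConic (permL σ Q') := isWeyl_conic (permL_isWeyl σ) hc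
  obtain ⟨A, C, hA, hC, hA1, hA11, hCA, hsum, hsq⟩ := conic_nat hδ (permL σ Q') hc''
  refine ⟨permL σ Q', hrel.trans ⟨permL σ, permL_isWeyl σ, fun q hq => ?_, rfl⟩, hc'', A, C, hA,
    hC, ?_⟩
  · rw [Set.mem_singleton_iff] at hq
    rw [hq, hfix]
  have hantiC : ∀ i j : Fin d, i ≤ j → Fin.tail C j ≤ Fin.tail C i := by
    intro i j hij
    have := hanti i j hij
    rw [hC, hC] at this
    exact_mod_cast this
  rw [Fin.sum_univ_succ] at hsum hsq
  have := srch_sound_fn (3 * A - 2) (A ^ 2) _ d A (C 0) (C 0 ^ 2) [C 0] (Fin.tail C)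
    (hs A hA1 hA11 (C 0) (Nat.lt_succ_of_le (hCA 0))) hantiC (fun i => hCA i.succ)
    (by simp only [Fin.tail]; omega) (by simp only [Fin.tail]; omega)
  have hof : List.ofFn C = [C 0] ++ List.ofFn (Fin.tail C) := by
    rw [List.ofFn_succ]; rfl
  rw [hof]
  simp only [List.reverse_cons, List.reverse_nil, List.nil_append] at this
  apply this
  rw [← hof]
  apply red3_ofFn
  intro h3
  obtain ⟨e, rfl⟩ : ∃ e, d = e + 2 := ⟨d - 2, by omega⟩
  have hr := hred 0 (σ (0 : Fin (e + 2)).succ) (σ (1 : Fin (e + 2)).succ)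
    ⟨rfl, by rw [hσs]; exact Fin.succ_ne_zero _, by rw [hσs]; exact Fin.succ_ne_zero _,
      by
        rw [hσs, hσs]
        intro h
        exact Fin.zero_ne_one (τ.injective (Fin.succ_injective _ h))⟩
  have h0 : Q' (0 : Fin (e + 2 + 1)).succ = permL σ Q' (0 : Fin (e + 2 + 1)).succ := by
    rw [permL_succ, hσ0]
  rw [h0, ← permL_succ σ Q', ← permL_succ σ Q', ← permL_zero σ Q', hC, hC, hC, hA] at hr
  exact_mod_cast hr

end Groth.Agent.Helper23.DPLat
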