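import Mathlib
import Groth.Prelude.Def_W4c3severiratdpLat
import Groth.Agent.Lib.Helper23.DPLat

/-! Normal forms for ordered pairs of conic classes under the Weyl group. -/

namespace Groth.Agent.Helper23.DPPair

open W4c3severiratdp Groth.Agent.Helper23.DPLat

/-- normal forms of conics under the stabiliser of `ℓ - e₁` -/
def L1 : ℕ → List (ℕ × List ℕ)
  | 2 => [(1, [0, 1]), (1, [1, 0])]
  | 3 => [(1, [0, 1, 0]), (1, [1, 0, 0])]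
  | 4 => [(1, [0, 1, 0, 0]), (1, [1, 0, 0, 0])]
  | 5 => [(1, [0, 1, 0, 0, 0]), (1, [1, 0, 0, 0, 0]), (2, [0, 1, 1, 1, 1])]
  | 6 => [(1, [0, 1, 0, 0, 0, 0]), (1, [1, 0, 0, 0, 0, 0]), (2, [0, 1, 1, 1, 1, 0])]
  | 7 => [(1, [0, 1, 0, 0, 0, 0, 0]), (1, [1, 0, 0, 0, 0, 0, 0]), (2, [0, 1, 1, 1, 1, 0, 0]), (3, [0, 2, 1, 1, 1, 1, 1]), (5, [1, 2, 2, 2, 2, 2, 2])]
  | 8 => [(1, [0, 1, 0, 0, 0, 0, 0, 0]), (1, [1, 0, 0, 0, 0, 0, 0, 0]), (2, [0, 1, 1, 1, 1, 0, 0, 0]), (3, [0, 2, 1, 1, 1, 1, 1, 0]), (4, [0, 2, 2, 2, 1, 1, 1, 1]), (5, [0, 2, 2, 2, 2, 2, 2, 1]), (5, [1, 2, 2, 2, 2, 2, 2, 0]), (7, [1, 3, 3, 3, 3, 2, 2, 2]), (8, [1, 3, 3, 3, 3, 3, 3, 3]), (11, [3, 4, 4, 4, 4, 4, 4, 4])]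
  | _ => []

/-- final predicate for the full descent -/
def P0 (δ a : ℕ) (l : List ℕ) : Prop := (a, l) = (1, 1 :: List.replicate (δ - 1) 0)

instance (δ a : ℕ) : DecidablePred (P0 δ a) := fun l => by unfold P0; infer_instance

/-- final predicate for the descent in the stabiliser -/
def P1 (δ a : ℕ) (l : List ℕ) : Prop := (a, l) ∈ L1 δ

instance (δ a : ℕ) : DecidablePred (P1 δ a) := fun l => by unfold P1; infer_instance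

/-- the search predicate with the reducedness hypothesis -/
def R (P : ℕ → List ℕ → Prop) (a : ℕ) (l : List ℕ) : Prop := red3 a l → P a l

instance (P : ℕ → List ℕ → Prop) [∀ a, DecidablePred (P a)] (a : ℕ) : DecidablePred (R P a) :=
  fun l => by unfold R; infer_instance

theorem D0 : ∀ δ : ℕ, δ < 9 → 2 ≤ δ → ∀ a : ℕ, a < 12 → 1 ≤ a →
    Srch (3 * a - 2) (a ^ 2) (R (P0 δ) a) δ a 0 0 [] := by
  decide +kernel

/-- the body of the search statement in the stabiliser case -/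
def D1body (d a : ℕ) : Prop := ∀ b : ℕ, b < a + 1 →
    Srch (3 * a - 2) (a ^ 2) (R (P1 (d + 1)) a) d a b (b ^ 2) [b]

instance (d a : ℕ) : Decidable (D1body d a) := by unfold D1body; infer_instance

theorem D1 : ∀ d : ℕ, d < 8 → 1 ≤ d → ∀ a : ℕ, a < 12 → 1 ≤ a → D1body d a := by
  decide +kernel

theorem D2 : ∀ δ : ℕ, δ < 9 → 2 ≤ δ → ∀ x ∈ L1 δ, ∀ y ∈ L1 δ, x.1 + y.2.headI = y.1 + x.2.headI →
    ¬(δ = 8 ∧ x.1 = x.2.headI + 4) → x = y := by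
  decide +kernel


/-- two ordered pairs are conjugate under the Weyl group -/
def PRel {δ : ℕ} (x₁ x₂ y₁ y₂ : DP δ) : Prop :=
  ∃ g : DP δ ≃ₗ[ℤ] DP δ, IsWeyl g ∧ g x₁ = y₁ ∧ g x₂ = y₂

theorem PRel.symm {δ : ℕ} {x₁ x₂ y₁ y₂ : DP δ} (h : PRel x₁ x₂ y₁ y₂) : PRel y₁ y₂ x₁ x₂ := by
  obtain ⟨g, hg, h1, h2⟩ := h
  refine ⟨g.symm, isWeyl_symm hg, ?_, ?_⟩
  · rw [LinearEquiv.symm_apply_eq]; exact h1.symm
  · rw [LinearEquiv.symm_apply_eq]; exact h2.symm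

theorem PRel.trans {δ : ℕ} {x₁ x₂ y₁ y₂ z₁ z₂ : DP δ} (h : PRel x₁ x₂ y₁ y₂)
    (h' : PRel y₁ y₂ z₁ z₂) : PRel x₁ x₂ z₁ z₂ := by
  obtain ⟨g, hg, h1, h2⟩ := h
  obtain ⟨g', hg', h1', h2'⟩ := h'
  refine ⟨g.trans g', isWeyl_trans hg hg', ?_, ?_⟩
  · rw [LinearEquiv.trans_apply, h1, h1']
  · rw [LinearEquiv.trans_apply, h2, h2']

theorem ofFn_eq_cons_replicate {d : ℕ} (C : Fin (d + 1) → ℕ)
    (h : List.ofFn C = 1 :: List.replicate d 0) : C 0 = 1 ∧ ∀ i : Fin d, C i.succ = 0 := by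
  rw [List.ofFn_succ, List.cons.injEq] at h
  refine ⟨h.1, fun i => ?_⟩
  have h2 := h.2
  rw [← List.ofFn_const] at h2
  exact congrFun (List.ofFn_injective h2) i

theorem conic_to_Q0 (d : ℕ) (h2 : 2 ≤ d + 1) (h8 : d + 1 ≤ 8) (Q : DP (d + 1)) (hQ : IsConic Q) :
    WRel ∅ Q (Q0 d) := by
  obtain ⟨Q'', hrel, -, A, C, hA, hC, hP⟩ := normal0 h8 (P0 (d + 1))
    (fun a ha1 ha11 => D0 (d + 1) (by omega) h2 a (by omega) ha1) Q hQ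
  have hP' : (A, List.ofFn C) = (1, 1 :: List.replicate d 0) := hP
  rw [Prod.mk.injEq] at hP'
  obtain ⟨hC0, hCs⟩ := ofFn_eq_cons_replicate C hP'.2
  have : Q'' = Q0 d := by
    funext i
    refine Fin.cases ?_ (fun j => ?_) i
    · rw [hA, hP'.1, Q0_zero]; rfl
    · rw [hC]
      refine Fin.cases ?_ (fun m => ?_) j
      · rw [hC0, Q0_one]; rfl
      · rw [hCs, Q0_succ_succ]; rfl
  rw [← this]
  exact hrel

theorem pair_normal (d : ℕ) (h2 : 2 ≤ d + 1) (h8 : d + 1 ≤ 8) (v₁ v₂ : DP (d + 1))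
    (hv₁ : IsConic v₁) (hv₂ : IsConic v₂) :
    ∃ (Q'' : DP (d + 1)) (A : ℕ) (C : Fin (d + 1) → ℕ), PRel v₁ v₂ (Q0 d) Q'' ∧ Q'' 0 = A ∧
      (∀ i, Q'' i.succ = C i) ∧ (A, List.ofFn C) ∈ L1 (d + 1) ∧ form v₁ v₂ = (A : ℤ) - C 0 := by
  obtain ⟨g₁, hg₁, -, hg₁v⟩ := conic_to_Q0 d h2 h8 v₁ hv₁
  obtain ⟨Q'', ⟨h, hh, hfix, hQ''⟩, -, A, C, hA, hC, hmem⟩ := normal1 h8 (P1 (d + 1))
    (fun a ha1 ha11 => D1 d (by omega) (by omega) a (by omega) ha1) (g₁ v₂) (isWeyl_conic hg₁ hv₂)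
  refine ⟨Q'', A, C, ⟨g₁.trans h, isWeyl_trans hg₁ hh, ?_, ?_⟩, hA, hC, hmem, ?_⟩
  · rw [LinearEquiv.trans_apply, hg₁v]; exact hfix _ rfl
  · rw [LinearEquiv.trans_apply, hQ'']
  · have e1 : form v₁ v₂ = form (Q0 d) Q'' := by
      rw [← hg₁.1 v₁ v₂, hg₁v, ← hh.1 (Q0 d) (g₁ v₂), hfix _ rfl, hQ'']
    rw [e1, form_comm, form_Q0, hA, hC]

end Groth.Agent.Helper23.DPPair
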