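import Mathlib
import Groth.Prelude.Def_DeRham

set_option autoImplicit false

universe u

open exteriorPower

namespace Groth.Agent.Helper23

/-- The elements `b₀ • d b₁ ∧ … ∧ d b_p` generate `⋀[A]^p Ω[A⁄R]` as an additive group. -/
theorem closure_gen_eq_top (R A : Type u) [CommRing R] [CommRing A] [Algebra R A] (p : ℕ) :
    AddSubgroup.closure {x : ↥(⋀[A]^p (Ω[A⁄R])) | ∃ (b₀ : A) (b : Fin p → A),
      x = DeRham.gen (KaehlerDifferential.D R A) p b₀ b} = ⊤ := by
  set G : Set ↥(⋀[A]^p (Ω[A⁄R])) := {x | ∃ (b₀ : A) (b : Fin p → A),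
      x = DeRham.gen (KaehlerDifferential.D R A) p b₀ b} with hG
  have hsmul : ∀ (a : A) (x : ↥(⋀[A]^p (Ω[A⁄R]))), x ∈ AddSubgroup.closure G →
      a • x ∈ AddSubgroup.closure G := by
    intro a x hx
    induction hx using AddSubgroup.closure_induction with
    | mem x hx =>
      obtain ⟨b₀, b, rfl⟩ := hx
      apply AddSubgroup.subset_closure
      refine ⟨a * b₀, b, ?_⟩
      simp only [DeRham.gen, mul_smul]
    | zero => rw [smul_zero]; exact zero_mem _
    | add x y _ _ hx hy => rw [smul_add]; exact add_mem hx hy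
    | neg x _ hx => rw [smul_neg]; exact neg_mem hx
  have hspan := ιMulti_span_of_span A p (Ω[A⁄R]) (KaehlerDifferential.span_range_derivation R A)
  rw [eq_top_iff]
  intro x hxtop
  clear hxtop
  have hx : x ∈ Submodule.span A (ιMulti A p '' {a : Fin p → Ω[A⁄R] |
      Set.range a ⊆ Set.range (KaehlerDifferential.D R A)}) := by
    rw [hspan]; trivial
  induction hx using Submodule.span_induction with
  | mem x hx =>
    obtain ⟨a, ha, rfl⟩ := hx
    have hch : ∀ i : Fin p, ∃ b : A, KaehlerDifferential.D R A b = a i := fun i => ha ⟨i, rfl⟩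
    choose b hb using hch
    apply AddSubgroup.subset_closure
    refine ⟨1, b, ?_⟩
    simp only [DeRham.gen, one_smul]
    congr 1
    funext i
    exact (hb i).symm
  | zero => exact zero_mem _
  | add x y _ _ hx hy => exact add_mem hx hy
  | smul a x _ hx => exact hsmul a x hx

/-- Two additive maps out of `⋀[A]^p Ω[A⁄R]` agreeing on the generators are equal. -/
theorem addHom_ext_gen (R A : Type u) [CommRing R] [CommRing A] [Algebra R A] (p : ℕ)
    {N : Type*} [AddCommGroup N] (f g : ↥(⋀[A]^p (Ω[A⁄R])) →+ N)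
    (h : ∀ (b₀ : A) (b : Fin p → A), f (DeRham.gen (KaehlerDifferential.D R A) p b₀ b) =
      g (DeRham.gen (KaehlerDifferential.D R A) p b₀ b)) : f = g := by
  apply AddMonoidHom.eq_of_eqOn_dense (closure_gen_eq_top R A p)
  rintro _ ⟨b₀, b, rfl⟩
  exact h b₀ b

end Groth.Agent.Helper23
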