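import Mathlib
import Groth.Prelude.Def_DeRham
import Groth.Agent.Lib.Helper23.DeRhamGen

/-!
# Interior product on exterior powers, and left multiplication by a one-form
-/

set_option autoImplicit false
set_option linter.unusedSectionVars false
set_option linter.unusedVariables false
set_option linter.style.haveILetI false

open exteriorPower

namespace Groth.Agent.Helper23.DRContr

section Gen

variable {B : Type*} [CommRing B] {M : Type*} [AddCommGroup M] [Module B M]

theorem mem_zero_iff (x : ExteriorAlgebra B M) :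
    x ∈ ⋀[B]^0 M ↔ ∃ a : B, algebraMap B (ExteriorAlgebra B M) a = x := by
  rw [ExteriorAlgebra.exteriorPower, pow_zero, Submodule.mem_one]

theorem ι_mul_mem (m : M) (p : ℕ) {x : ExteriorAlgebra B M} (hx : x ∈ ⋀[B]^p M) :
    ExteriorAlgebra.ι B m * x ∈ ⋀[B]^(p + 1) M := by
  rw [ExteriorAlgebra.exteriorPower, pow_succ']
  exact Submodule.mul_mem_mul (LinearMap.mem_range_self _ m) hx

/-- left multiplication by a one-form -/
noncomputable def mulι (m : M) (p : ℕ) : ↥(⋀[B]^p M) →ₗ[B] ↥(⋀[B]^(p + 1) M) where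
  toFun x := ⟨ExteriorAlgebra.ι B m * x.1, ι_mul_mem m p x.2⟩
  map_add' x y := by
    apply Subtype.ext
    simp [mul_add]
  map_smul' a x := by
    apply Subtype.ext
    simp

@[simp]
theorem mulι_coe (m : M) (p : ℕ) (x : ↥(⋀[B]^p M)) :
    ((mulι m p x : ↥(⋀[B]^(p + 1) M)) : ExteriorAlgebra B M) = ExteriorAlgebra.ι B m * x.1 := rfl

theorem mulι_add (m m' : M) (p : ℕ) (x : ↥(⋀[B]^p M)) :
    mulι (m + m') p x = mulι m p x + mulι m' p x := by
  apply Subtype.ext
  simp [add_mul]

theorem mulι_smul (a : B) (m : M) (p : ℕ) (x : ↥(⋀[B]^p M)) :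
    mulι (a • m) p x = a • mulι m p x := by
  apply Subtype.ext
  simp

theorem mulι_mulι (m m' : M) (p : ℕ) (x : ↥(⋀[B]^p M)) :
    mulι m (p + 1) (mulι m' p x) = - mulι m' (p + 1) (mulι m p x) := by
  apply Subtype.ext
  simp only [mulι_coe, NegMemClass.coe_neg]
  rw [← mul_assoc, ← mul_assoc, eq_neg_iff_add_eq_zero, ← add_mul, ExteriorAlgebra.ι_add_mul_swap,
    zero_mul]

theorem ιMulti_cons (m : M) (p : ℕ) (v : Fin p → M) :
    ιMulti B (p + 1) (Fin.cons m v : Fin (p + 1) → M) = mulι m p (ιMulti B p v) := by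
  apply Subtype.ext
  rw [mulι_coe, ιMulti_apply_coe, ιMulti_apply_coe, ExteriorAlgebra.ιMulti_succ_apply]
  congr 1

variable (θ : Module.Dual B M)

theorem contract_zero {x : ExteriorAlgebra B M} (hx : x ∈ ⋀[B]^0 M) :
    CliffordAlgebra.contractLeft (R := B) (M := M) θ x = 0 := by
  obtain ⟨a, rfl⟩ := (mem_zero_iff x).mp hx
  exact CliffordAlgebra.contractLeft_algebraMap _ _ _

theorem contract_mem : ∀ (p : ℕ) {x : ExteriorAlgebra B M}, x ∈ ⋀[B]^(p + 1) M →
    CliffordAlgebra.contractLeft (R := B) (M := M) θ x ∈ ⋀[B]^p M := by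
  intro p
  induction p with
  | zero =>
    intro x hx
    rw [ExteriorAlgebra.exteriorPower, pow_succ'] at hx
    refine Submodule.mul_induction_on hx ?_ ?_
    · intro m hm y hy
      obtain ⟨v, rfl⟩ := hm
      have h1 := CliffordAlgebra.contractLeft_ι_mul (Q := (0 : QuadraticForm B M)) (d := θ) v y
      change CliffordAlgebra.contractLeft θ (ExteriorAlgebra.ι B v * y) = _ at h1
      rw [h1, contract_zero θ hy, mul_zero, sub_zero]
      exact Submodule.smul_mem _ _ hy
    · intro a b ha hb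
      rw [map_add]
      exact Submodule.add_mem _ ha hb
  | succ p ih =>
    intro x hx
    rw [ExteriorAlgebra.exteriorPower, pow_succ'] at hx
    refine Submodule.mul_induction_on hx ?_ ?_
    · intro m hm y hy
      obtain ⟨v, rfl⟩ := hm
      have h1 := CliffordAlgebra.contractLeft_ι_mul (Q := (0 : QuadraticForm B M)) (d := θ) v y
      change CliffordAlgebra.contractLeft θ (ExteriorAlgebra.ι B v * y) = _ at h1
      rw [h1]
      exact Submodule.sub_mem _ (Submodule.smul_mem _ _ hy) (ι_mul_mem v p (ih hy))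
    · intro a b ha hb
      rw [map_add]
      exact Submodule.add_mem _ ha hb

/-- the interior product with `θ` -/
noncomputable def contr (p : ℕ) : ↥(⋀[B]^(p + 1) M) →ₗ[B] ↥(⋀[B]^p M) where
  toFun x := ⟨CliffordAlgebra.contractLeft (R := B) (M := M) θ x.1, contract_mem θ p x.2⟩
  map_add' x y := by
    apply Subtype.ext
    simp
  map_smul' a x := by
    apply Subtype.ext
    simp

@[simp]
theorem contr_coe (p : ℕ) (x : ↥(⋀[B]^(p + 1) M)) :
    ((contr θ p x : ↥(⋀[B]^p M)) : ExteriorAlgebra B M) =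
      CliffordAlgebra.contractLeft (R := B) (M := M) θ x.1 := rfl

theorem contr_mulι_zero (m : M) (x : ↥(⋀[B]^0 M)) :
    contr θ 0 (mulι m 0 x) = θ m • x := by
  apply Subtype.ext
  rw [contr_coe, mulι_coe]
  have h1 := CliffordAlgebra.contractLeft_ι_mul (Q := (0 : QuadraticForm B M)) (d := θ) m x.1
  change CliffordAlgebra.contractLeft θ (ExteriorAlgebra.ι B m * x.1) = _ at h1
  rw [h1, contract_zero θ x.2, mul_zero, sub_zero]
  rfl

theorem contr_mulι_succ (m : M) (p : ℕ) (x : ↥(⋀[B]^(p + 1) M)) :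
    contr θ (p + 1) (mulι m (p + 1) x) = θ m • x - mulι m p (contr θ p x) := by
  apply Subtype.ext
  rw [contr_coe, mulι_coe]
  have h1 := CliffordAlgebra.contractLeft_ι_mul (Q := (0 : QuadraticForm B M)) (d := θ) m x.1
  change CliffordAlgebra.contractLeft θ (ExteriorAlgebra.ι B m * x.1) = _ at h1
  rw [h1]
  rfl

end Gen

end Groth.Agent.Helper23.DRContr
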