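import Groth.Agent.Lib.Helper23.DRContr

/-!
# The Lie derivative along a derivation on the de Rham complex, on weighted generators
-/

set_option autoImplicit false
set_option linter.unusedSectionVars false
set_option linter.unusedVariables false
set_option linter.style.haveILetI false

universe u

open exteriorPower

namespace Groth.Agent.Helper23.DRLie
open Groth.Agent.Helper23.DRContr

variable {R B : Type u} [CommRing R] [CommRing B] [Algebra R B]

local notation "DD" => KaehlerDifferential.D R B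

/-- the wedge `d b₁ ∧ … ∧ d b_p` -/
noncomputable def w (p : ℕ) (bs : Fin p → B) : ↥(⋀[B]^p (Ω[B⁄R])) :=
  ιMulti B p (fun i => DD (bs i))

theorem gen_eq (p : ℕ) (b₀ : B) (bs : Fin p → B) :
    DeRham.gen DD p b₀ bs = b₀ • w (R := R) p bs := rfl

theorem w_cons (p : ℕ) (b : B) (bs : Fin p → B) :
    w (R := R) (p + 1) (Fin.cons b bs) = mulι (DD b) p (w p bs) := by
  unfold w
  rw [← ιMulti_cons]
  congr 1
  funext i
  refine Fin.cases ?_ (fun j => ?_) i
  · simp
  · simp

theorem w_succ (p : ℕ) (bs : Fin (p + 1) → B) :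
    w (R := R) (p + 1) bs = mulι (DD (bs 0)) p (w p (Fin.tail bs)) := by
  rw [← w_cons, Fin.cons_self_tail]

variable (d : ∀ p : ℕ, ↥(⋀[B]^p (Ω[B⁄R])) →ₗ[R] ↥(⋀[B]^(p + 1) (Ω[B⁄R])))
  (hd : DeRham.IsRule (KaehlerDifferential.D R B) d)

include hd

theorem d_gen (p : ℕ) (b₀ : B) (bs : Fin p → B) :
    d p (b₀ • w p bs) = mulι (DD b₀) p (w p bs) := by
  have := hd p b₀ bs
  rw [gen_eq] at this
  rw [this, ← w_cons]
  unfold w
  congr 1
  funext i
  refine Fin.cases ?_ (fun j => ?_) i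
  · simp
  · simp

/-- graded Leibniz rule for an exact one-form -/
theorem d_mulι (p : ℕ) (b : B) (η : ↥(⋀[B]^p (Ω[B⁄R]))) :
    d (p + 1) (mulι (DD b) p η) = - mulι (DD b) (p + 1) (d p η) := by
  have h := addHom_ext_gen R B p
    ((d (p + 1)).toAddMonoidHom.comp (mulι (DD b) p).toAddMonoidHom)
    (-((mulι (DD b) (p + 1)).toAddMonoidHom.comp (d p).toAddMonoidHom)) ?_
  · exact DFunLike.congr_fun h η
  · intro c cs
    simp only [AddMonoidHom.coe_comp, LinearMap.toAddMonoidHom_coe, Function.comp_apply,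
      AddMonoidHom.neg_apply]
    rw [gen_eq, map_smul, ← w_cons, d_gen d hd, d_gen d hd, w_cons, mulι_mulι]

variable (Eu : Derivation R B B)

/-- the linear form on one-forms attached to a derivation -/
noncomputable def th : Module.Dual B (Ω[B⁄R]) := Eu.liftKaehlerDifferential

omit hd in
theorem th_D (b : B) : th Eu (DD b) = Eu b :=
  Derivation.liftKaehlerDifferential_comp_D Eu b

omit hd in
theorem D_mul_cast (b₀ b : B) (n : ℕ) :
    DD (b₀ * ((n : B) * b)) = (n : B) • (b₀ • DD b + b • DD b₀) := by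
  rw [Derivation.leibniz, Derivation.leibniz, Derivation.map_natCast, smul_zero, add_zero,
    smul_add, smul_smul, smul_smul, smul_smul]
  congr 1
  rw [mul_comm]

theorem key : ∀ (p : ℕ) (bs : Fin (p + 1) → B) (n : Fin (p + 1) → ℕ)
    (h : ∀ i, Eu (bs i) = (n i : B) * bs i) (b₀ : B),
    d p (b₀ • contr (th Eu) p (w (p + 1) bs)) =
      ((∑ i, n i : ℕ) : B) • (b₀ • w (p + 1) bs) +
        mulι (DD b₀) p (contr (th Eu) p (w (p + 1) bs)) := by
  intro p
  induction p with
  | zero =>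
    intro bs n h b₀
    rw [w_succ, contr_mulι_zero, th_D, h 0, smul_smul, d_gen d hd, D_mul_cast,
      Fin.sum_univ_one]
    simp only [mulι_smul, mulι_add, map_smul, smul_add]
    module
  | succ p ih =>
    intro bs n h b₀
    have ih' : d p (b₀ • contr (th Eu) p (w (p + 1) (Fin.tail bs))) =
      ((∑ i : Fin (p + 1), n i.succ : ℕ) : B) • (b₀ • w (p + 1) (Fin.tail bs)) +
        mulι (DD b₀) p (contr (th Eu) p (w (p + 1) (Fin.tail bs))) :=
      ih (Fin.tail bs) (fun i => n i.succ) (fun i => h i.succ) b₀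
    rw [w_succ (p + 1) bs, contr_mulι_succ, th_D, h 0, smul_sub, smul_smul, map_sub,
      d_gen d hd, ← map_smul, d_mulι d hd, ih', D_mul_cast, Fin.sum_univ_succ n]
    simp only [mulι_smul, mulι_add, map_smul, map_add, map_sub, smul_add, smul_sub]
    rw [mulι_mulι (DD b₀) (DD (bs 0))]
    push_cast
    module

omit hd in
/-- the Lie derivative `d ι + ι d` along the derivation `Eu` -/
noncomputable def LE : (p : ℕ) → (↥(⋀[B]^p (Ω[B⁄R])) →ₗ[R] ↥(⋀[B]^p (Ω[B⁄R])))
  | 0 => ((contr (th Eu) 0).restrictScalars R) ∘ₗ d 0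
  | (p + 1) => d p ∘ₗ ((contr (th Eu) p).restrictScalars R) +
      ((contr (th Eu) (p + 1)).restrictScalars R) ∘ₗ d (p + 1)

omit hd in
theorem LE_zero (x : ↥(⋀[B]^0 (Ω[B⁄R]))) : LE d Eu 0 x = contr (th Eu) 0 (d 0 x) := rfl

omit hd in
theorem LE_succ (p : ℕ) (x : ↥(⋀[B]^(p + 1) (Ω[B⁄R]))) :
    LE d Eu (p + 1) x = d p (contr (th Eu) p x) + contr (th Eu) (p + 1) (d (p + 1) x) := rfl

/-- weighted generators are eigenvectors of the Lie derivative -/
theorem LE_gen (p : ℕ) (b₀ : B) (bs : Fin p → B) (n₀ : ℕ) (n : Fin p → ℕ)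
    (h₀ : Eu b₀ = (n₀ : B) * b₀) (h : ∀ i, Eu (bs i) = (n i : B) * bs i) :
    LE d Eu p (b₀ • w p bs) = ((n₀ + ∑ i, n i : ℕ) : B) • (b₀ • w p bs) := by
  cases p with
  | zero =>
    rw [LE_zero, d_gen d hd, contr_mulι_zero, th_D, h₀, Finset.univ_eq_empty, Finset.sum_empty,
      add_zero, smul_smul]
  | succ p =>
    rw [LE_succ, map_smul, key d hd Eu p bs n h b₀, d_gen d hd, contr_mulι_succ, th_D, h₀]
    push_cast
    module

end Groth.Agent.Helper23.DRLie
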