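import Groth.Agent.Lib.Helper23.DRContr

/-!
# The Lie derivative along a contraction on the de Rham complex of a general receptacle `(M, δ)`
generated by `δ(B)`.
-/

set_option autoImplicit false
set_option linter.unusedSectionVars false
set_option linter.unusedVariables false
set_option linter.style.haveILetI false

universe v u

open exteriorPower

namespace Groth.Agent.Helper23.DRLieG
open Groth.Agent.Helper23.DRContr

variable {R : Type v} {B M : Type u} [CommRing R] [CommRing B] [Algebra R B]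
  [AddCommGroup M] [Module B M] [Module R M] [IsScalarTower R B M]

variable (δ : Derivation R B M)

/-- the wedge `δ b₁ ∧ … ∧ δ b_p` -/
noncomputable def w (p : ℕ) (bs : Fin p → B) : ↥(⋀[B]^p M) :=
  ιMulti B p (fun i => δ (bs i))

theorem gen_eq (p : ℕ) (b₀ : B) (bs : Fin p → B) :
    DeRham.gen δ p b₀ bs = b₀ • w δ p bs := rfl

theorem w_cons (p : ℕ) (b : B) (bs : Fin p → B) :
    w δ (p + 1) (Fin.cons b bs) = mulι (δ b) p (w δ p bs) := by
  unfold w
  rw [← ιMulti_cons]
  congr 1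
  funext i
  refine Fin.cases ?_ (fun j => ?_) i
  · simp
  · simp

theorem w_succ (p : ℕ) (bs : Fin (p + 1) → B) :
    w δ (p + 1) bs = mulι (δ (bs 0)) p (w δ p (Fin.tail bs)) := by
  rw [← w_cons, Fin.cons_self_tail]

/-- The elements `b₀ • δ b₁ ∧ … ∧ δ b_p` generate `⋀[B]^p M` as an additive group, when `δ(B)`
generates `M`. -/
theorem closure_gen_eq_top (hgen : Submodule.span B (Set.range δ) = ⊤) (p : ℕ) :
    AddSubgroup.closure {x : ↥(⋀[B]^p M) | ∃ (b₀ : B) (b : Fin p → B),
      x = DeRham.gen δ p b₀ b} = ⊤ := by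
  set G : Set ↥(⋀[B]^p M) := {x | ∃ (b₀ : B) (b : Fin p → B),
      x = DeRham.gen δ p b₀ b} with hG
  have hsmul : ∀ (a : B) (x : ↥(⋀[B]^p M)), x ∈ AddSubgroup.closure G →
      a • x ∈ AddSubgroup.closure G := by
    intro a x hx
    induction hx using AddSubgroup.closure_induction with
    | mem x hx =>
      obtain ⟨b₀, b, rfl⟩ := hx
      apply AddSubgroup.subset_closure
      refine ⟨a * b₀, b, ?_⟩
      simp only [DeRham.gen, mul_smul]
    | zero => rw [smul_zero]; exact zero_mem _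
    | add x y _ _ hx hy => rw [smul_add]; exact add_mem hx hy
    | neg x _ hx => rw [smul_neg]; exact neg_mem hx
  have hspan := ιMulti_span_of_span B p M hgen
  rw [eq_top_iff]
  intro x hxtop
  clear hxtop
  have hx : x ∈ Submodule.span B (ιMulti B p '' {a : Fin p → M |
      Set.range a ⊆ Set.range δ}) := by
    rw [hspan]; trivial
  induction hx using Submodule.span_induction with
  | mem x hx =>
    obtain ⟨a, ha, rfl⟩ := hx
    have hch : ∀ i : Fin p, ∃ b : B, δ b = a i := fun i => ha ⟨i, rfl⟩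
    choose b hb using hch
    apply AddSubgroup.subset_closure
    refine ⟨1, b, ?_⟩
    simp only [DeRham.gen, one_smul]
    congr 1
    funext i
    exact (hb i).symm
  | zero => exact zero_mem _
  | add x y _ _ hx hy => exact add_mem hx hy
  | smul a x _ hx => exact hsmul a x hx

/-- Two additive maps out of `⋀[B]^p M` agreeing on the generators are equal. -/
theorem addHom_ext_gen (hgen : Submodule.span B (Set.range δ) = ⊤) (p : ℕ)
    {N : Type*} [AddCommGroup N] (f g : ↥(⋀[B]^p M) →+ N)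
    (h : ∀ (b₀ : B) (b : Fin p → B), f (DeRham.gen δ p b₀ b) = g (DeRham.gen δ p b₀ b)) :
    f = g := by
  apply AddMonoidHom.eq_of_eqOn_dense (closure_gen_eq_top δ hgen p)
  rintro _ ⟨b₀, b, rfl⟩
  exact h b₀ b

variable (hgen : Submodule.span B (Set.range δ) = ⊤)
  (d : ∀ p : ℕ, ↥(⋀[B]^p M) →ₗ[R] ↥(⋀[B]^(p + 1) M))
  (hd : DeRham.IsRule δ d)

include hd

theorem d_gen (p : ℕ) (b₀ : B) (bs : Fin p → B) :
    d p (b₀ • w δ p bs) = mulι (δ b₀) p (w δ p bs) := by
  have := hd p b₀ bs
  rw [gen_eq] at this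
  rw [this, ← w_cons]
  unfold w
  congr 1
  funext i
  refine Fin.cases ?_ (fun j => ?_) i
  · simp
  · simp

include hgen

/-- graded Leibniz rule for an exact one-form -/
theorem d_mulι (p : ℕ) (b : B) (η : ↥(⋀[B]^p M)) :
    d (p + 1) (mulι (δ b) p η) = - mulι (δ b) (p + 1) (d p η) := by
  have h := addHom_ext_gen δ hgen p
    ((d (p + 1)).toAddMonoidHom.comp (mulι (δ b) p).toAddMonoidHom)
    (-((mulι (δ b) (p + 1)).toAddMonoidHom.comp (d p).toAddMonoidHom)) ?_
  · exact DFunLike.congr_fun h η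
  · intro c cs
    simp only [AddMonoidHom.coe_comp, LinearMap.toAddMonoidHom_coe, Function.comp_apply,
      AddMonoidHom.neg_apply]
    rw [gen_eq, map_smul, ← w_cons, d_gen δ d hd, d_gen δ d hd, w_cons, mulι_mulι]

variable (θ : Module.Dual B M)

omit hd hgen in
theorem δ_mul_cast (b₀ b : B) (n : ℕ) :
    δ (b₀ * ((n : B) * b)) = (n : B) • (b₀ • δ b + b • δ b₀) := by
  rw [Derivation.leibniz, Derivation.leibniz, Derivation.map_natCast, smul_zero, add_zero,
    smul_add, smul_smul, smul_smul, smul_smul]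
  congr 1
  rw [mul_comm]

theorem key : ∀ (p : ℕ) (bs : Fin (p + 1) → B) (n : Fin (p + 1) → ℕ)
    (h : ∀ i, θ (δ (bs i)) = (n i : B) * bs i) (b₀ : B),
    d p (b₀ • contr θ p (w δ (p + 1) bs)) =
      ((∑ i, n i : ℕ) : B) • (b₀ • w δ (p + 1) bs) +
        mulι (δ b₀) p (contr θ p (w δ (p + 1) bs)) := by
  intro p
  induction p with
  | zero =>
    intro bs n h b₀
    rw [w_succ, contr_mulι_zero, h 0, smul_smul, d_gen δ d hd, δ_mul_cast,
      Fin.sum_univ_one]
    simp only [mulι_smul, mulι_add, map_smul, smul_add]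
    module
  | succ p ih =>
    intro bs n h b₀
    have ih' : d p (b₀ • contr θ p (w δ (p + 1) (Fin.tail bs))) =
      ((∑ i : Fin (p + 1), n i.succ : ℕ) : B) • (b₀ • w δ (p + 1) (Fin.tail bs)) +
        mulι (δ b₀) p (contr θ p (w δ (p + 1) (Fin.tail bs))) :=
      ih (Fin.tail bs) (fun i => n i.succ) (fun i => h i.succ) b₀
    rw [w_succ δ (p + 1) bs, contr_mulι_succ, h 0, smul_sub, smul_smul, map_sub,
      d_gen δ d hd, ← map_smul, d_mulι δ hgen d hd, ih', δ_mul_cast, Fin.sum_univ_succ n]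
    simp only [mulι_smul, mulι_add, map_smul, map_add, map_sub, smul_add, smul_sub]
    rw [mulι_mulι (δ b₀) (δ (bs 0))]
    push_cast
    module

omit hd hgen in
/-- the Lie derivative `d ι + ι d` along the contraction `θ` -/
noncomputable def LE : (p : ℕ) → (↥(⋀[B]^p M) →ₗ[R] ↥(⋀[B]^p M))
  | 0 => ((contr θ 0).restrictScalars R) ∘ₗ d 0
  | (p + 1) => d p ∘ₗ ((contr θ p).restrictScalars R) +
      ((contr θ (p + 1)).restrictScalars R) ∘ₗ d (p + 1)

omit hd hgen in
theorem LE_zero (x : ↥(⋀[B]^0 M)) : LE d θ 0 x = contr θ 0 (d 0 x) := rfl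

omit hd hgen in
theorem LE_succ (p : ℕ) (x : ↥(⋀[B]^(p + 1) M)) :
    LE d θ (p + 1) x = d p (contr θ p x) + contr θ (p + 1) (d (p + 1) x) := rfl

/-- the Lie derivative on generators whose wedge factors are eigenvectors -/
theorem LE_gen (p : ℕ) (b₀ : B) (bs : Fin p → B) (n : Fin p → ℕ)
    (h : ∀ i, θ (δ (bs i)) = (n i : B) * bs i) :
    LE d θ p (b₀ • w δ p bs) =
      ((∑ i, n i : ℕ) : B) • (b₀ • w δ p bs) + θ (δ b₀) • w δ p bs := by
  cases p with
  | zero =>
    rw [LE_zero, d_gen δ d hd, contr_mulι_zero, Finset.univ_eq_empty, Finset.sum_empty,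
      Nat.cast_zero, zero_smul, zero_add]
  | succ p =>
    rw [LE_succ, map_smul, key δ hgen d hd θ p bs n h b₀, d_gen δ d hd, contr_mulι_succ]
    module

omit hgen hd in
/-- the Lie derivative commutes with `d` when `d ∘ d = 0` -/
theorem LE_d (hdd : ∀ p : ℕ, d (p + 1) ∘ₗ d p = 0) (p : ℕ) (x : ↥(⋀[B]^p M)) :
    LE d θ (p + 1) (d p x) = d p (LE d θ p x) := by
  have h2 : ∀ (q : ℕ) (y : ↥(⋀[B]^q M)), d (q + 1) (d q y) = 0 := fun q y =>
    LinearMap.congr_fun (hdd q) y
  cases p with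
  | zero =>
    rw [LE_succ, LE_zero, h2, map_zero, add_zero]
  | succ p =>
    rw [LE_succ, LE_succ, h2, map_zero, add_zero, map_add, h2, zero_add]

end Groth.Agent.Helper23.DRLieG
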