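import Groth.Agent.Lib.Helper23.DRLie
import Groth.Agent.S15293

/-!
# The algebraic Poincaré lemma: `A → A[t]` induces a quasi-isomorphism of de Rham complexes over `ℚ`
-/

set_option autoImplicit false
set_option linter.unusedSectionVars false
set_option linter.unusedVariables false
set_option linter.style.haveILetI false

universe u

open exteriorPower Polynomial

namespace Groth.Agent.Helper23.DRPoinc
open Groth.Agent.Helper23.DRContr Groth.Agent.Helper23.DRLie

section Indep

variable {R V : Type*} [CommRing R] [Algebra ℚ R] [AddCommGroup V] [Module R V]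

theorem isUnit_cast_sub {n m : ℕ} (h : n ≠ m) : IsUnit ((n : R) - (m : R)) := by
  have h1 : ((n : R) - (m : R)) = algebraMap ℚ R ((n : ℚ) - (m : ℚ)) := by
    rw [map_sub, map_natCast, map_natCast]
  rw [h1]
  apply RingHom.isUnit_map
  rw [isUnit_iff_ne_zero, sub_ne_zero]
  exact_mod_cast h

theorem isUnit_cast {n : ℕ} (h : n ≠ 0) : IsUnit (n : R) := by
  have := isUnit_cast_sub (R := R) h
  simpa using this

/-- eigenvectors of an endomorphism for distinct natural eigenvalues are independent -/
theorem eigen_indep (L : V →ₗ[R] V) (F : Finset ℕ) :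
    ∀ (y : ℕ → V), (∀ n ∈ F, L (y n) = (n : R) • y n) → ∑ n ∈ F, y n = 0 → ∀ n ∈ F, y n = 0 := by
  classical
  induction F using Finset.induction_on with
  | empty => intro y _ _ n hn; simp at hn
  | insert m F hm ih =>
    intro y hy hsum
    rw [Finset.sum_insert hm] at hsum
    have h1 : L (y m + ∑ n ∈ F, y n) - (m : R) • (y m + ∑ n ∈ F, y n) = 0 := by
      rw [hsum, map_zero, smul_zero, sub_zero]
    rw [map_add, map_sum, hy m (Finset.mem_insert_self _ _), smul_add, Finset.smul_sum,
      add_sub_add_left_eq_sub, ← Finset.sum_sub_distrib] at h1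
    have h2 : ∑ n ∈ F, ((n : R) - (m : R)) • y n = 0 := by
      rw [← h1]
      apply Finset.sum_congr rfl
      intro n hn
      rw [hy n (Finset.mem_insert_of_mem hn), sub_smul]
    have h3 := ih (fun n => ((n : R) - (m : R)) • y n) (fun n hn => by
      show L (((n : R) - (m : R)) • y n) = (n : R) • (((n : R) - (m : R)) • y n)
      rw [map_smul, hy n (Finset.mem_insert_of_mem hn), smul_comm]) h2
    have h4 : ∀ n ∈ F, y n = 0 := by
      intro n hn
      have hnm : n ≠ m := fun h => hm (h ▸ hn)
      exact (isUnit_cast_sub (R := R) hnm).smul_eq_zero.mp (h3 n hn)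
    intro n hn
    rcases Finset.mem_insert.mp hn with rfl | hn
    · rw [Finset.sum_eq_zero h4, add_zero] at hsum
      exact hsum
    · exact h4 n hn

end Indep

section Euler

variable {R A : Type u} [CommRing R] [CommRing A] [Algebra R A]

/-- the Euler derivation `t d/dt` of `A[t]` -/
noncomputable def Eu : Derivation R A[X] A[X] :=
  (X : A[X]) • ((Polynomial.derivative' (R := A)).restrictScalars R)

theorem Eu_apply (b : A[X]) : Eu (R := R) b = X * derivative b := rfl

theorem Eu_monomial (n : ℕ) (a : A) :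
    Eu (R := R) (monomial n a) = (n : A[X]) * monomial n a := by
  rw [Eu_apply, derivative_monomial]
  cases n with
  | zero => simp
  | succ m =>
    rw [← C_mul_X_pow_eq_monomial, ← C_mul_X_pow_eq_monomial]
    simp only [Nat.add_sub_cancel, C_mul, Nat.cast_add, Nat.cast_one, map_add, map_natCast,
      map_one]
    ring

end Euler

section Weight

/-- `p`-forms on `A[t]` over `R` -/
abbrev VV (R A : Type u) [CommRing R] [CommRing A] [Algebra R A] (p : ℕ) : Type u :=
  ↥(⋀[A[X]]^p (Ω[A[X]⁄R]))

variable (R A : Type u) [CommRing R] [CommRing A] [Algebra R A]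

/-- generators `b₀ db₁ ∧ … ∧ db_p` with monomial entries of total `t`-degree `N` -/
def WG (p N : ℕ) : Set (VV R A p) :=
  {x | ∃ (a₀ : A) (n₀ : ℕ) (a : Fin p → A) (n : Fin p → ℕ), n₀ + ∑ i, n i = N ∧
    x = monomial n₀ a₀ • w (R := R) p (fun i => monomial (n i) (a i))}

/-- forms of weight `N` -/
noncomputable def G (p N : ℕ) : Submodule ℤ (VV R A p) := Submodule.span ℤ (WG R A p N)

theorem gen_mem_iSup (p : ℕ) (b₀ : A[X]) (bs : Fin p → A[X]) :
    b₀ • w (R := R) p bs ∈ ⨆ N, G R A p N := by
  classical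
  have hbs : ∀ i, bs i = ∑ k ∈ (bs i).support, monomial k ((bs i).coeff k) := fun i => by
    conv_lhs => rw [← (bs i).sum_monomial_eq, Polynomial.sum_def]
  have h1 : w (R := R) p bs = ∑ r ∈ Fintype.piFinset (fun i => (bs i).support),
      w (R := R) p (fun i => monomial (r i) ((bs i).coeff (r i))) := by
    unfold w
    have h2 := (ιMulti A[X] p (M := Ω[A[X]⁄R])).toMultilinearMap.map_sum_finset
      (fun i k => KaehlerDifferential.D R A[X] (monomial k ((bs i).coeff k)))
      (fun i => (bs i).support)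
    simp only [AlternatingMap.coe_multilinearMap] at h2
    rw [← h2]
    congr 1
    funext i
    conv_lhs => rw [hbs i]
    rw [map_sum]
  have hb₀ : b₀ = ∑ k ∈ b₀.support, monomial k (b₀.coeff k) := by
    conv_lhs => rw [← b₀.sum_monomial_eq, Polynomial.sum_def]
  rw [hb₀, h1, Finset.sum_smul]
  refine Submodule.sum_mem _ (fun k₀ _ => ?_)
  rw [Finset.smul_sum]
  refine Submodule.sum_mem _ (fun r _ => ?_)
  refine Submodule.mem_iSup_of_mem (k₀ + ∑ i, r i) (Submodule.subset_span ?_)
  exact ⟨b₀.coeff k₀, k₀, fun i => (bs i).coeff (r i), r, rfl, rfl⟩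

theorem iSup_G_eq_top (p : ℕ) : ⨆ N, G R A p N = ⊤ := by
  rw [eq_top_iff]
  intro x hxtop
  clear hxtop
  have hx : x ∈ AddSubgroup.closure {x : VV R A p | ∃ (b₀ : A[X]) (b : Fin p → A[X]),
      x = DeRham.gen (KaehlerDifferential.D R A[X]) p b₀ b} := by
    rw [closure_gen_eq_top]; trivial
  induction hx using AddSubgroup.closure_induction with
  | mem x hx =>
    obtain ⟨b₀, b, rfl⟩ := hx
    exact gen_mem_iSup R A p b₀ b
  | zero => exact zero_mem _
  | add x y _ _ hx hy => exact add_mem hx hy
  | neg x _ hx => exact neg_mem hx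

variable {R A}
variable (d' : ∀ p : ℕ, (VV R A p) →ₗ[R] (VV R A (p + 1)))
  (hd' : DeRham.IsRule (KaehlerDifferential.D R A[X]) d')

include hd' in
theorem LE_of_mem_G (p N : ℕ) {x : VV R A p} (hx : x ∈ G R A p N) :
    LE d' (Eu (R := R) (A := A)) p x = (N : R) • x := by
  induction hx using Submodule.span_induction with
  | mem x hx =>
    obtain ⟨a₀, n₀, a, n, hN, rfl⟩ := hx
    rw [LE_gen d' hd' Eu p _ _ n₀ n (Eu_monomial n₀ a₀) (fun i => Eu_monomial (n i) (a i)), hN,
      Nat.cast_smul_eq_nsmul, Nat.cast_smul_eq_nsmul]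
  | zero => rw [map_zero, smul_zero]
  | add x y _ _ hx hy => rw [map_add, hx, hy, smul_add]
  | smul z x _ hx => rw [map_zsmul, hx, smul_comm]

include hd' in
theorem d_mem_G (p N : ℕ) {x : VV R A p} (hx : x ∈ G R A p N) :
    d' p x ∈ G R A (p + 1) N := by
  induction hx using Submodule.span_induction with
  | mem x hx =>
    obtain ⟨a₀, n₀, a, n, hN, rfl⟩ := hx
    rw [d_gen d' hd', ← w_cons]
    apply Submodule.subset_span
    refine ⟨1, 0, Fin.cons a₀ a, Fin.cons n₀ n, ?_, ?_⟩
    · rw [Fin.sum_univ_succ]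
      simpa using hN
    · rw [monomial_zero_left, map_one, one_smul]
      congr 1
      funext i
      refine Fin.cases ?_ (fun j => ?_) i
      · simp
      · simp
  | zero => rw [map_zero]; exact zero_mem _
  | add x y _ _ hx hy => rw [map_add]; exact add_mem hx hy
  | smul z x _ hx => rw [map_zsmul]; exact Submodule.smul_mem _ _ hx

end Weight

section Main

variable {R A : Type u} [CommRing R] [CommRing A] [Algebra R A]
  (ψ : ∀ p : ℕ, ↥(⋀[A]^p (Ω[A⁄R])) →+ VV R A p)
  (hψ : DeRham.IsCxMap (KaehlerDifferential.D R A) (KaehlerDifferential.D R A[X])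
    (algebraMap A A[X]) ψ)

include hψ

theorem psi_injective (p : ℕ) : Function.Injective (ψ p) := by
  letI : Algebra A[X] A := (Polynomial.evalRingHom (0 : A)).toAlgebra
  have halg : ∀ q : A[X], algebraMap A[X] A q = Polynomial.eval 0 q := fun q => rfl
  haveI : IsScalarTower R A[X] A := IsScalarTower.of_algebraMap_eq (fun r => by
    rw [halg, IsScalarTower.algebraMap_apply R A A[X], Polynomial.algebraMap_apply,
      Algebra.algebraMap_self_apply, Polynomial.eval_C])
  obtain ⟨ev, hev⟩ := Groth.Agent.S15293.result R R A[X] A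
  have hcomp : (ev p).comp (ψ p) = AddMonoidHom.id _ := by
    apply addHom_ext_gen R A p
    intro b₀ b
    simp only [AddMonoidHom.comp_apply, AddMonoidHom.id_apply]
    rw [hψ p b₀ b, hev p]
    congr 1
    · rw [halg, Polynomial.algebraMap_apply, Algebra.algebraMap_self_apply, Polynomial.eval_C]
    · funext i
      rw [halg, Polynomial.algebraMap_apply, Algebra.algebraMap_self_apply, Polynomial.eval_C]
  intro x y hxy
  have := congrArg (ev p) hxy
  rwa [← AddMonoidHom.comp_apply, ← AddMonoidHom.comp_apply, hcomp] at this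

theorem psi_mem_G_zero (p : ℕ) (x : ↥(⋀[A]^p (Ω[A⁄R]))) : ψ p x ∈ G R A p 0 := by
  have hx : x ∈ AddSubgroup.closure {x : ↥(⋀[A]^p (Ω[A⁄R])) | ∃ (b₀ : A) (b : Fin p → A),
      x = DeRham.gen (KaehlerDifferential.D R A) p b₀ b} := by
    rw [closure_gen_eq_top]; trivial
  induction hx using AddSubgroup.closure_induction with
  | mem x hx =>
    obtain ⟨b₀, b, rfl⟩ := hx
    rw [hψ p b₀ b]
    apply Submodule.subset_span
    refine ⟨b₀, 0, b, fun _ => 0, by simp, ?_⟩
    simp only [monomial_zero_left]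
    rfl
  | zero => rw [map_zero]; exact zero_mem _
  | add x y _ _ hx hy => rw [map_add]; exact add_mem hx hy
  | neg x _ hx => rw [map_neg]; exact neg_mem hx

theorem exists_of_mem_G_zero (p : ℕ) {y : VV R A p} (hy : y ∈ G R A p 0) :
    ∃ x, ψ p x = y := by
  induction hy using Submodule.span_induction with
  | mem y hy =>
    obtain ⟨a₀, n₀, a, n, hN, rfl⟩ := hy
    have hn₀ : n₀ = 0 := by omega
    have hn : ∀ i, n i = 0 := by
      intro i
      have : n i ≤ ∑ j, n j := Finset.single_le_sum (fun _ _ => Nat.zero_le _) (Finset.mem_univ i)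
      omega
    refine ⟨DeRham.gen (KaehlerDifferential.D R A) p a₀ a, ?_⟩
    rw [hψ p a₀ a, hn₀]
    simp only [hn, monomial_zero_left]
    rfl
  | zero => exact ⟨0, map_zero _⟩
  | add x y _ _ hx hy =>
    obtain ⟨x', rfl⟩ := hx
    obtain ⟨y', rfl⟩ := hy
    exact ⟨x' + y', map_add _ _ _⟩
  | smul z x _ hx =>
    obtain ⟨x', rfl⟩ := hx
    exact ⟨z • x', map_zsmul _ _ _⟩

end Main

end Groth.Agent.Helper23.DRPoinc
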