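import Groth.Agent.Lib.Helper23.DRPoinc

/-!
# Weight decompositions of de Rham complexes along an Euler-type derivation (generic version)
-/

set_option autoImplicit false
set_option linter.unusedSectionVars false
set_option linter.unusedVariables false
set_option linter.style.haveILetI false

universe u

open exteriorPower

namespace Groth.Agent.Helper23.DRWt
open Groth.Agent.Helper23.DRContr Groth.Agent.Helper23.DRLie Groth.Agent.Helper23.DRPoinc

variable {R B : Type u} [CommRing R] [CommRing B] [Algebra R B]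
  (Eu : Derivation R B B) (Wt : B → ℕ → Prop)

/-- `p`-forms -/
abbrev FF (R B : Type u) [CommRing R] [CommRing B] [Algebra R B] (p : ℕ) : Type u :=
  ↥(⋀[B]^p (Ω[B⁄R]))

/-- weighted generators of total weight `N` -/
def WG (p N : ℕ) : Set (FF R B p) :=
  {x | ∃ (b₀ : B) (n₀ : ℕ) (bs : Fin p → B) (n : Fin p → ℕ), Wt b₀ n₀ ∧ (∀ i, Wt (bs i) (n i)) ∧
    n₀ + ∑ i, n i = N ∧ x = b₀ • w (R := R) p bs}

/-- forms of weight `N` -/
noncomputable def G (p N : ℕ) : Submodule ℤ (FF R B p) := Submodule.span ℤ (WG (R := R) Wt p N)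

variable {ι : Type} (hdec : ∀ b : B, ∃ (J : Finset ι) (c : ι → B) (n : ι → ℕ),
  (∀ j ∈ J, Wt (c j) (n j)) ∧ b = ∑ j ∈ J, c j)

include hdec in
theorem gen_mem_iSup (p : ℕ) (b₀ : B) (bs : Fin p → B) :
    b₀ • w (R := R) p bs ∈ ⨆ N, G (R := R) Wt p N := by
  classical
  choose J c n hW hsum using hdec
  have h1 : w (R := R) p bs = ∑ r ∈ Fintype.piFinset (fun i => J (bs i)),
      w (R := R) p (fun i => c (bs i) (r i)) := by
    unfold w
    have h2 := (ιMulti B p (M := Ω[B⁄R])).toMultilinearMap.map_sum_finset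
      (fun i j => KaehlerDifferential.D R B (c (bs i) j))
      (fun i => J (bs i))
    simp only [AlternatingMap.coe_multilinearMap] at h2
    rw [← h2]
    congr 1
    funext i
    conv_lhs => rw [hsum (bs i)]
    rw [map_sum]
  rw [show b₀ • w (R := R) p bs = (∑ j ∈ J b₀, c b₀ j) • w (R := R) p bs from by
    rw [← hsum b₀]]
  rw [h1, Finset.sum_smul]
  refine Submodule.sum_mem _ (fun j₀ hj₀ => ?_)
  rw [Finset.smul_sum]
  refine Submodule.sum_mem _ (fun r hr => ?_)
  refine Submodule.mem_iSup_of_mem (n b₀ j₀ + ∑ i, n (bs i) (r i)) (Submodule.subset_span ?_)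
  refine ⟨c b₀ j₀, n b₀ j₀, fun i => c (bs i) (r i), fun i => n (bs i) (r i), hW b₀ j₀ hj₀,
    fun i => hW (bs i) (r i) ((Fintype.mem_piFinset.mp hr) i), rfl, rfl⟩

include hdec in
theorem iSup_G_eq_top (p : ℕ) : ⨆ N, G (R := R) Wt p N = ⊤ := by
  rw [eq_top_iff]
  intro x hxtop
  clear hxtop
  have hx : x ∈ AddSubgroup.closure {x : FF R B p | ∃ (b₀ : B) (b : Fin p → B),
      x = DeRham.gen (KaehlerDifferential.D R B) p b₀ b} := by
    rw [closure_gen_eq_top]; trivial
  induction hx using AddSubgroup.closure_induction with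
  | mem x hx =>
    obtain ⟨b₀, b, rfl⟩ := hx
    exact gen_mem_iSup Wt hdec p b₀ b
  | zero => exact zero_mem _
  | add x y _ _ hx hy => exact add_mem hx hy
  | neg x _ hx => exact neg_mem hx

include hdec in
theorem decomp (p : ℕ) (y : FF R B p) :
    ∃ g : ℕ →₀ FF R B p, (∀ N, g N ∈ G (R := R) Wt p N) ∧ (g.sum fun _ v => v) = y := by
  have hy : y ∈ ⨆ N, G (R := R) Wt p N := by rw [iSup_G_eq_top Wt hdec]; trivial
  exact (Submodule.mem_iSup_iff_exists_finsupp _ _).mp hy

variable (d : ∀ p : ℕ, (FF R B p) →ₗ[R] (FF R B (p + 1)))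
  (hd : DeRham.IsRule (KaehlerDifferential.D R B) d)
  (heu : ∀ b n, Wt b n → Eu b = (n : B) * b)

include hd heu in
theorem LE_of_mem_G (p N : ℕ) {x : FF R B p} (hx : x ∈ G (R := R) Wt p N) :
    LE d Eu p x = (N : R) • x := by
  induction hx using Submodule.span_induction with
  | mem x hx =>
    obtain ⟨b₀, n₀, bs, n, h₀, hb, hN, rfl⟩ := hx
    rw [LE_gen d hd Eu p _ _ n₀ n (heu _ _ h₀) (fun i => heu _ _ (hb i)), hN,
      Nat.cast_smul_eq_nsmul, Nat.cast_smul_eq_nsmul]
  | zero => rw [map_zero, smul_zero]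
  | add x y _ _ hx hy => rw [map_add, hx, hy, smul_add]
  | smul z x _ hx => rw [map_zsmul, hx, smul_comm]

include hd in
theorem d_mem_G (hone : Wt 1 0) (p N : ℕ) {x : FF R B p} (hx : x ∈ G (R := R) Wt p N) :
    d p x ∈ G (R := R) Wt (p + 1) N := by
  induction hx using Submodule.span_induction with
  | mem x hx =>
    obtain ⟨b₀, n₀, bs, n, h₀, hb, hN, rfl⟩ := hx
    rw [d_gen d hd, ← w_cons]
    apply Submodule.subset_span
    refine ⟨1, 0, Fin.cons b₀ bs, Fin.cons n₀ n, hone, ?_, ?_, ?_⟩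
    · intro i
      refine Fin.cases ?_ (fun j => ?_) i
      · simpa using h₀
      · simpa using hb j
    · rw [Fin.sum_univ_succ]
      simpa using hN
    · rw [one_smul]
  | zero => rw [map_zero]; exact zero_mem _
  | add x y _ _ hx hy => rw [map_add]; exact add_mem hx hy
  | smul z x _ hx => rw [map_zsmul]; exact Submodule.smul_mem _ _ hx

section Rat

variable [Algebra ℚ R]

include hd heu in
/-- the weight components of a closed form are closed -/
theorem closed_components (hone : Wt 1 0) (p : ℕ) (g : ℕ →₀ FF R B p)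
    (hg : ∀ N, g N ∈ G (R := R) Wt p N) (hcl : d p (g.sum fun _ v => v) = 0) :
    ∀ N, d p (g N) = 0 := by
  classical
  have h1 : ∑ N ∈ g.support, d p (g N) = 0 := by
    rw [← map_sum]
    exact hcl
  have h2 := eigen_indep (LE d Eu (p + 1)) g.support (fun N => d p (g N))
    (fun N _ => LE_of_mem_G Eu Wt d hd heu (p + 1) N (d_mem_G Wt d hd hone p N (hg N))) h1
  intro N
  by_cases hN : N ∈ g.support
  · exact h2 N hN
  · rw [Finsupp.notMem_support_iff.mp hN, map_zero]

include hd heu in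
/-- a closed form of positive weight is exact -/
theorem exact_of_pos (p N : ℕ) (hN : N ≠ 0) {x : FF R B (p + 1)}
    (hx : x ∈ G (R := R) Wt (p + 1) N) (hcl : d (p + 1) x = 0) :
    ∃ z : FF R B p, d p z = x := by
  have hLE := LE_of_mem_G Eu Wt d hd heu (p + 1) N hx
  obtain ⟨u, hu⟩ := isUnit_cast (R := R) hN
  rw [LE_succ, hcl, map_zero, add_zero] at hLE
  refine ⟨(↑u⁻¹ : R) • contr (th Eu) p x, ?_⟩
  rw [map_smul, hLE, ← hu, smul_smul, Units.inv_mul, one_smul]

include hd heu in
/-- a closed function of positive weight vanishes -/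
theorem eq_zero_of_pos (N : ℕ) (hN : N ≠ 0) {x : FF R B 0}
    (hx : x ∈ G (R := R) Wt 0 N) (hcl : d 0 x = 0) : x = 0 := by
  have hLE := LE_of_mem_G Eu Wt d hd heu 0 N hx
  obtain ⟨u, hu⟩ := isUnit_cast (R := R) hN
  rw [LE_zero, hcl, map_zero] at hLE
  have h3 := hLE.symm
  rw [← hu] at h3
  exact (u.isUnit.smul_eq_zero).mp h3

end Rat

end Groth.Agent.Helper23.DRWt
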