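import Groth.Agent.Lib.Helper23.RegMero10
import Groth.Agent.Lib.Helper13.InvQCoh

set_option autoImplicit false
set_option linter.style.haveILetI false

open CategoryTheory AlgebraicGeometry Opposite TopologicalSpace IsLocalRing

universe u

namespace Groth.Agent.Helper23.Denom

open Groth.Agent.Helper13.Inv Groth.Agent.Helper13.MeroLib Groth.Agent.Helper13.QCoh
open Groth.Agent.Helper23.RegMero Groth.Agent.Helper23.FracIdeal

variable {X : Scheme.{u}} {L : X.Modules}

/-- invertible modules are torsion-free with respect to the germs of regular sections -/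
theorem eq_zero_of_regStalk_smul_eq_zero (hL : PicF.IsInvertible L) (x : X)
    (c : X.presheaf.stalk x) (hc : c ∈ Mero.regStalk X x) (μ : L.presheaf.stalk x)
    (h : c • μ = 0) : μ = 0 := by
  obtain ⟨U₀, hxU₀, e₀, he₀⟩ := (isInvertible_iff_exists_isGen (L := L)).1 hL x
  obtain ⟨r, hr⟩ := (he₀ x hxU₀).2 μ
  simp only at hr
  rw [← hr, smul_smul] at h
  have h1 : c * r = 0 := (he₀ x hxU₀).1 (by simp only; rw [h, zero_smul])
  have h2 : r = 0 :=
    (mul_left_mem_nonZeroDivisors_eq_zero_iff (Mero.regStalk_le_nonZeroDivisors x hc)).1 h1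
  rw [← hr, h2, zero_smul]

/-- a meromorphic section is locally a fraction -/
theorem exists_local_frac (s : Γ(Mero.merMod L, ⊤)) (x : X) :
    ∃ (W : X.Opens) (_ : x ∈ W) (n : Γ(L, W)) (β : Mero.regSub X W), ∀ (y : X) (hy : y ∈ W),
      s.1 ⟨y, trivial⟩ = (LocalizedModule.mk (L.presheaf.germ W y hy n) (Mero.regGerm ⟨y, hy⟩ β) :
        Mero.MStalk L y) := by
  obtain ⟨V, hxV, i, n, b, hnb⟩ := s.2 ⟨x, trivial⟩
  exact ⟨V, hxV, n, b, fun y hy => hnb ⟨y, hy⟩⟩

theorem mem_denomIdeal_iff (s : Γ(Mero.merMod L, ⊤)) (U : X.Opens) (f : Γ(X, U)) :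
    f ∈ Mero.denomIdeal L s U ↔ ∃ m : Γ(L, U), ∀ (y : X) (hy : y ∈ U),
      X.presheaf.germ U y hy f • s.1 ⟨y, trivial⟩ =
        (LocalizedModule.mk (L.presheaf.germ U y hy m) 1 : Mero.MStalk L y) := by
  constructor
  · rintro ⟨m, hm⟩
    exact ⟨m, fun y hy => hm ⟨y, hy⟩⟩
  · rintro ⟨m, hm⟩
    exact ⟨m, fun y => hm y.1 y.2⟩

theorem res_mem_denomIdeal (s : Γ(Mero.merMod L, ⊤)) {U V : X.Opens} (hV : V ≤ U) (f : Γ(X, U))
    (hf : f ∈ Mero.denomIdeal L s U) :
    X.presheaf.map (homOfLE hV).op f ∈ Mero.denomIdeal L s V := by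
  rw [mem_denomIdeal_iff] at hf ⊢
  obtain ⟨m, hm⟩ := hf
  refine ⟨L.presheaf.map (homOfLE hV).op m, fun y hy => ?_⟩
  rw [TopCat.Presheaf.germ_res_apply, germ_congr_res]
  exact hm y (hV hy)

/-- key step for quasi-coherence of the ideal of denominators -/
theorem exists_pow_mul_mem_denomIdeal (hL : PicF.IsInvertible L) (s : Γ(Mero.merMod L, ⊤))
    {U : X.Opens} (hU : IsAffineOpen U) (f g' : Γ(X, U))
    (h : X.presheaf.map (homOfLE (X.basicOpen_le f)).op g' ∈
      Mero.denomIdeal L s (X.basicOpen f)) :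
    ∃ N : ℕ, f ^ N * g' ∈ Mero.denomIdeal L s U := by
  haveI : L.IsQuasicoherent := Groth.Agent.Helper13.Inv.isQuasicoherent_of_isInvertible L hL
  rw [mem_denomIdeal_iff] at h
  obtain ⟨m, hm⟩ := h
  obtain ⟨l, m', hm'⟩ := exists_pow_smul_eq_res L hU f m
  have hDU : X.basicOpen f ≤ U := X.basicOpen_le f
  -- G = f^l g' satisfies G s = m'/1 on D(f)
  have hG : ∀ (y : X) (hy : y ∈ X.basicOpen f),
      (X.presheaf.germ U y (hDU hy) f ^ l * X.presheaf.germ U y (hDU hy) g') • s.1 ⟨y, trivial⟩ =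
        (LocalizedModule.mk (L.presheaf.germ U y (hDU hy) m') 1 : Mero.MStalk L y) := by
    intro y hy
    have h1 := hm y hy
    rw [TopCat.Presheaf.germ_res_apply] at h1
    have h2 := congrArg (L.presheaf.germ (X.basicOpen f) y hy) hm'
    rw [germ_congr_res, Mero.germ_smul, map_pow, TopCat.Presheaf.germ_res_apply] at h2
    rw [mul_smul, h1, LocalizedModule.smul'_mk, h2]
  -- local statement
  have hloc : ∀ x : U, ∃ (W : X.Opens) (_ : x.1 ∈ W) (N : ℕ), ∀ (y : X) (hy : y ∈ U), y ∈ W →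
      ∀ N' : ℕ, N ≤ N' →
      (X.presheaf.germ U y hy f ^ N' * (X.presheaf.germ U y hy f ^ l * X.presheaf.germ U y hy g')) •
        s.1 ⟨y, trivial⟩ = (LocalizedModule.mk (X.presheaf.germ U y hy f ^ N' •
          L.presheaf.germ U y hy m') 1 : Mero.MStalk L y) := by
    rintro ⟨x, hxU⟩
    obtain ⟨W, hxW, n, β, hs⟩ := exists_local_frac s x
    obtain ⟨h_, hhW, hxh⟩ := hU.exists_basicOpen_le (V := W) ⟨x, hxW⟩ hxU
    have hW'U : X.basicOpen h_ ≤ U := X.basicOpen_le h_
    have hW' : IsAffineOpen (X.basicOpen h_) := hU.basicOpen h_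
    -- ν = G n - β m' on W' = D(h_)
    let f' : Γ(X, X.basicOpen h_) := X.presheaf.map (homOfLE hW'U).op f
    let ν : Γ(L, X.basicOpen h_) :=
      (X.presheaf.map (homOfLE hW'U).op (f ^ l * g')) • L.presheaf.map (homOfLE hhW).op n -
        X.presheaf.map (homOfLE hhW).op β.1 • L.presheaf.map (homOfLE hW'U).op m'
    have hνgerm : ∀ (y : X) (hy : y ∈ X.basicOpen h_), L.presheaf.germ (X.basicOpen h_) y hy ν =
        (X.presheaf.germ U y (hW'U hy) f ^ l * X.presheaf.germ U y (hW'U hy) g') •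
          L.presheaf.germ W y (hhW hy) n -
        X.presheaf.germ W y (hhW hy) β.1 • L.presheaf.germ U y (hW'U hy) m' := by
      intro y hy
      change L.presheaf.germ (X.basicOpen h_) y hy (_ - _) = _
      rw [map_sub, Mero.germ_smul, Mero.germ_smul]
      simp only [TopCat.Presheaf.germ_res_apply, map_mul, map_pow]
    have hν0 : L.presheaf.map (homOfLE (X.basicOpen_le f')).op ν = 0 := by
      apply TopCat.Presheaf.section_ext ⟨L.presheaf, L.isSheaf⟩
      intro y hy
      have hyW' : y ∈ X.basicOpen h_ := X.basicOpen_le f' hy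
      have hyf : y ∈ X.basicOpen f := by
        have := Scheme.basicOpen_res X f (homOfLE hW'U).op
        rw [this] at hy
        exact hy.2
      change L.presheaf.germ _ y hy _ = L.presheaf.germ _ y hy 0
      rw [map_zero, germ_congr_res, hνgerm y hyW']
      have h1 := hG y hyf
      rw [hs y (hhW hyW'), LocalizedModule.smul'_mk, LocalizedModule.mk_eq] at h1
      obtain ⟨u, hu⟩ := h1
      simp only [one_smul, Submonoid.smul_def] at hu
      apply eq_zero_of_regStalk_smul_eq_zero hL y (u : X.presheaf.stalk y) u.2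
      rw [smul_sub, hu, sub_self]
    obtain ⟨N, hN⟩ := exists_pow_smul_eq_zero L hW' f' ν hν0
    refine ⟨X.basicOpen h_, hxh, N, ?_⟩
    intro y hy hyW' N' hNN'
    have h1 := congrArg (L.presheaf.germ (X.basicOpen h_) y hyW') hN
    rw [Mero.germ_smul, map_zero, map_pow, TopCat.Presheaf.germ_res_apply, hνgerm y hyW',
      smul_sub, sub_eq_zero] at h1
    rw [hs y (hhW hyW'), LocalizedModule.smul'_mk, LocalizedModule.mk_eq]
    refine ⟨1, ?_⟩
    simp only [one_smul, Submonoid.smul_def]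
    obtain ⟨k, rfl⟩ := Nat.exists_eq_add_of_le hNN'
    have key : ∀ (a G b : X.presheaf.stalk y) (ν₁ ν₂ : L.presheaf.stalk y),
        a ^ N • G • ν₁ = a ^ N • b • ν₂ → (a ^ (N + k) * G) • ν₁ = b • a ^ (N + k) • ν₂ := by
      intro a G b ν₁ ν₂ h
      calc (a ^ (N + k) * G) • ν₁ = a ^ k • (a ^ N • G • ν₁) := by
            rw [smul_smul, smul_smul]; congr 1; ring
        _ = a ^ k • (a ^ N • b • ν₂) := by rw [h]
        _ = b • a ^ (N + k) • ν₂ := by
            rw [smul_smul, smul_smul, smul_smul]; congr 1; ring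
    exact key _ _ _ _ _ h1
  choose W hxW N hN using hloc
  obtain ⟨t, ht⟩ := hU.isCompact.elim_nhds_subcover' (fun x hx => (W ⟨x, hx⟩ : Set X))
    (fun x hx => (W ⟨x, hx⟩).2.mem_nhds (hxW ⟨x, hx⟩))
  let N₀ : ℕ := t.sup fun x => N ⟨x.1, x.2⟩
  refine ⟨N₀ + l, ?_⟩
  rw [mem_denomIdeal_iff]
  refine ⟨f ^ N₀ • m', fun y hy => ?_⟩
  obtain ⟨x, hxt, hyx⟩ := Set.mem_iUnion₂.1 (ht hy)
  have h1 := hN ⟨x.1, x.2⟩ y hy hyx N₀ (Finset.le_sup (f := fun x => N ⟨x.1, x.2⟩) hxt)
  rw [Mero.germ_smul, map_pow, ← h1, map_mul, map_pow, pow_add, mul_assoc]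

theorem map_denomIdeal_basicOpen (hL : PicF.IsInvertible L) (s : Γ(Mero.merMod L, ⊤))
    (U : X.affineOpens) (f : Γ(X, U)) :
    (Mero.denomIdeal L s U.1).map (X.presheaf.map (homOfLE (X.basicOpen_le f)).op).hom =
      Mero.denomIdeal L s (X.affineBasicOpen f).1 := by
  change (Mero.denomIdeal L s U.1).map (X.presheaf.map (homOfLE (X.basicOpen_le f)).op).hom =
      Mero.denomIdeal L s (X.basicOpen f)
  apply le_antisymm
  · rw [Ideal.map_le_iff_le_comap]
    intro g hg
    exact res_mem_denomIdeal s (X.basicOpen_le f) g hg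
  · intro g hg
    haveI := U.2.isLocalization_basicOpen f
    obtain ⟨⟨g', ⟨_, k, rfl⟩⟩, hgk⟩ := IsLocalization.surj (Submonoid.powers f) g
    simp only at hgk
    have hgk' : g * X.presheaf.map (homOfLE (X.basicOpen_le f)).op (f ^ k) =
        X.presheaf.map (homOfLE (X.basicOpen_le f)).op g' := hgk
    have h1 : X.presheaf.map (homOfLE (X.basicOpen_le f)).op g' ∈
        Mero.denomIdeal L s (X.basicOpen f) := by
      rw [← hgk']
      exact Ideal.mul_mem_right _ _ hg
    obtain ⟨N, hN⟩ := exists_pow_mul_mem_denomIdeal hL s U.2 f g' h1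
    have h2 : (X.presheaf.map (homOfLE (X.basicOpen_le f)).op).hom (f ^ N * g') ∈
        (Mero.denomIdeal L s U.1).map (X.presheaf.map (homOfLE (X.basicOpen_le f)).op).hom :=
      Ideal.mem_map_of_mem _ hN
    have hu : IsUnit ((X.presheaf.map (homOfLE (X.basicOpen_le f)).op).hom f) :=
      IsLocalization.map_units Γ(X, X.basicOpen f) (⟨f, Submonoid.mem_powers f⟩ : Submonoid.powers f)
    have h3 : (X.presheaf.map (homOfLE (X.basicOpen_le f)).op).hom (f ^ N * g') =
        ((X.presheaf.map (homOfLE (X.basicOpen_le f)).op).hom f) ^ (N + k) * g := by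
      have h4 : (X.presheaf.map (homOfLE (X.basicOpen_le f)).op).hom g' =
          g * (X.presheaf.map (homOfLE (X.basicOpen_le f)).op).hom (f ^ k) := hgk'.symm
      rw [map_mul, h4, map_pow, map_pow, pow_add]
      ring
    rw [h3] at h2
    exact (Ideal.unit_mul_mem_iff_mem _ (hu.pow (N + k))).1 h2

/-- the quasi-coherent ideal sheaf of denominators of a meromorphic section of an invertible module -/
noncomputable def denomSheaf (hL : PicF.IsInvertible L) (s : Γ(Mero.merMod L, ⊤)) :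
    X.IdealSheafData where
  ideal U := Mero.denomIdeal L s U.1
  map_ideal_basicOpen U f := map_denomIdeal_basicOpen hL s U f

theorem interior_support_denomSheaf (hL : PicF.IsInvertible L) (s : Γ(Mero.merMod L, ⊤)) :
    interior ((denomSheaf hL s).support : Set X) = ∅ := by
  rw [Set.eq_empty_iff_forall_notMem]
  intro x hx
  obtain ⟨O, hOsub, hOopen, hxO⟩ := mem_interior.1 hx
  obtain ⟨W, hxW, n, β, hs⟩ := exists_local_frac s x
  obtain ⟨_, ⟨U, hU, rfl⟩, hxU, hUle⟩ :=
    X.isBasis_affineOpens.exists_subset_of_mem_open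
      (show x ∈ (W : Set X) ∩ O from ⟨hxW, hxO⟩) (W.2.inter hOopen)
  have hUW : U ≤ W := fun y hy => (hUle hy).1
  have hUO : ∀ y, y ∈ U → y ∈ O := fun y hy => (hUle hy).2
  have hβmem : X.presheaf.map (homOfLE hUW).op β.1 ∈ Mero.denomIdeal L s U := by
    rw [mem_denomIdeal_iff]
    refine ⟨L.presheaf.map (homOfLE hUW).op n, fun y hy => ?_⟩
    rw [hs y (hUW hy), LocalizedModule.smul'_mk, LocalizedModule.mk_eq]
    refine ⟨1, ?_⟩
    simp only [one_smul, Submonoid.smul_def, TopCat.Presheaf.germ_res_apply]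
  have hβreg : X.presheaf.map (homOfLE hUW).op β.1 ∈ Mero.regSub X U := Mero.regSub_res _ β.2
  have hbot : ∀ y : X, y ∉ X.basicOpen (X.presheaf.map (homOfLE hUW).op β.1) := by
    intro y hy
    have hyU : y ∈ U := X.basicOpen_le _ hy
    have h1 : y ∈ (denomSheaf hL s).support := hOsub (hUO y hyU)
    rw [Scheme.IdealSheafData.mem_support_iff] at h1
    have h2 := h1 ⟨U, hU⟩
    rw [Scheme.mem_zeroLocus_iff] at h2
    exact h2 _ hβmem hy
  have h1 : (1 : Γ(X, U)) = 0 := by
    apply eq_zero_of_res_basicOpen hU _ 1 hβreg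
    apply TopCat.Presheaf.section_ext X.sheaf
    intro z hz
    exact absurd hz (hbot z)
  have h2 := congrArg (X.presheaf.germ U x hxU) h1
  rw [map_one, map_zero] at h2
  exact one_ne_zero h2

end Groth.Agent.Helper23.Denom
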