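import Mathlib

set_option autoImplicit false
set_option linter.style.haveILetI false

universe u

namespace Groth.Agent.Helper23.DepthExt

/-- the ring has a "regular pair" of non-units -/
def HasRegPair (S : Type*) [CommRing S] : Prop :=
  ∃ t₁ t₂ : S, ¬ IsUnit t₁ ∧ ¬ IsUnit t₂ ∧ (∀ x, t₁ * x = 0 → x = 0) ∧
    (∀ x y, t₂ * x = t₁ * y → ∃ z, x = t₁ * z)

theorem HasRegPair.of_ringEquiv {S S' : Type*} [CommRing S] [CommRing S'] (e : S ≃+* S')
    (h : HasRegPair S) : HasRegPair S' := by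
  obtain ⟨t₁, t₂, h1, h2, h3, h4⟩ := h
  refine ⟨e t₁, e t₂, fun hu => h1 ?_, fun hu => h2 ?_, ?_, ?_⟩
  · have := hu.map e.symm.toRingHom
    simpa using this
  · have := hu.map e.symm.toRingHom
    simpa using this
  · intro x hx
    have : t₁ * e.symm x = 0 := by
      apply e.injective
      rw [map_mul, e.apply_symm_apply, hx, map_zero]
    have := h3 _ this
    rw [← e.apply_symm_apply x, this, map_zero]
  · intro x y hxy
    have : t₂ * e.symm x = t₁ * e.symm y := by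
      apply e.injective
      rw [map_mul, map_mul, e.apply_symm_apply, e.apply_symm_apply, hxy]
    obtain ⟨z, hz⟩ := h4 _ _ this
    refine ⟨e z, ?_⟩
    rw [← e.apply_symm_apply x, hz, map_mul]

section pow

variable {S : Type*} [CommRing S] (t₁ t₂ : S) (h1 : ∀ x, t₁ * x = 0 → x = 0)
  (h2 : ∀ x y, t₂ * x = t₁ * y → ∃ z, x = t₁ * z)

include h1 in
theorem regpair_pow1 (n : ℕ) : ∀ x, t₁ ^ n * x = 0 → x = 0 := by
  induction n with
  | zero => intro x hx; simpa using hx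
  | succ n ih =>
    intro x hx
    rw [pow_succ, mul_assoc] at hx
    exact h1 x (ih _ hx)

include h1 h2 in
theorem regpair_pow2 (n : ℕ) : ∀ x y, t₂ * x = t₁ ^ n * y → ∃ z, x = t₁ ^ n * z := by
  induction n with
  | zero => intro x y _; exact ⟨x, by simp⟩
  | succ n ih =>
    intro x y hxy
    rw [pow_succ', mul_assoc] at hxy
    obtain ⟨z₁, rfl⟩ := h2 x _ hxy
    have h3 : t₁ * (t₂ * z₁ - t₁ ^ n * y) = 0 := by
      rw [mul_sub, ← hxy]; ring
    have h4 := sub_eq_zero.1 (h1 _ h3)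
    obtain ⟨z₂, rfl⟩ := ih z₁ y h4
    exact ⟨z₂, by rw [pow_succ']; ring⟩

include h1 h2 in
theorem regpair_pow3 (n m : ℕ) : ∀ x y, t₂ ^ m * x = t₁ ^ n * y → ∃ z, x = t₁ ^ n * z := by
  induction m with
  | zero => intro x y hxy; exact ⟨y, by simpa using hxy⟩
  | succ m ih =>
    intro x y hxy
    rw [pow_succ', mul_assoc] at hxy
    obtain ⟨z, hz⟩ := regpair_pow2 t₁ t₂ h1 h2 n _ y hxy
    exact ih x z hz

end pow

section main

open IsLocalRing

variable {R G : Type u} [CommRing R] [IsNoetherianRing R] [CommRing G] [Algebra R G]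
  {ι : Type*} (a : ι → R)

/-- an ideal whose localization at `p` vanishes elementwise is killed by a single element outside
`p` -/
theorem exists_kill (p : Ideal R) [p.IsPrime] (N : Ideal R)
    (hN : ∀ x ∈ N, ∃ v ∈ p.primeCompl, v * x = 0) : ∃ v ∈ p.primeCompl, ∀ x ∈ N, v * x = 0 := by
  classical
  obtain ⟨s, hs⟩ := (IsNoetherian.noetherian N : N.FG)
  have key : ∀ t : Finset R, (∀ x ∈ t, x ∈ N) → ∃ v ∈ p.primeCompl, ∀ x ∈ t, v * x = 0 := by
    intro t
    induction t using Finset.induction_on with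
    | empty => intro _; exact ⟨1, p.primeCompl.one_mem, by simp⟩
    | insert x t hx ih =>
      intro ht
      obtain ⟨v, hv, hvt⟩ := ih fun y hy => ht y (Finset.mem_insert_of_mem hy)
      obtain ⟨w, hw, hwx⟩ := hN x (ht x (Finset.mem_insert_self _ _))
      refine ⟨w * v, p.primeCompl.mul_mem hw hv, ?_⟩
      intro y hy
      rcases Finset.mem_insert.1 hy with rfl | hy
      · rw [mul_comm w v, mul_assoc, hwx, mul_zero]
      · rw [mul_assoc, hvt y hy, mul_zero]
  obtain ⟨v, hv, hvs⟩ := key s fun x hx => by rw [← hs]; exact Submodule.subset_span hx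
  refine ⟨v, hv, fun x hx => ?_⟩
  rw [← hs] at hx
  refine Submodule.span_induction (p := fun x _ => v * x = 0) ?_ ?_ ?_ ?_ hx
  · intro y hy; exact hvs y hy
  · simp
  · intro y z _ _ hy hz; rw [mul_add, hy, hz, add_zero]
  · intro r y _ hy; rw [smul_eq_mul, mul_left_comm, hy, mul_zero]

omit [IsNoetherianRing R] in
/-- powers of a non-unit of the localization at a minimal prime over `I` lie in the extension
of `I` -/
theorem exists_pow_mem_map (p : Ideal R) [p.IsPrime] (I : Ideal R) (hp : p ∈ I.minimalPrimes)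
    (t : Localization.AtPrime p) (ht : ¬ IsUnit t) :
    ∃ n : ℕ, t ^ n ∈ I.map (algebraMap R (Localization.AtPrime p)) := by
  have h1 := IsLocalization.AtPrime.radical_map_of_mem_minimalPrimes
    (A := Localization.AtPrime p) p I hp
  rw [IsLocalization.AtPrime.map_eq_maximalIdeal p (Localization.AtPrime p)] at h1
  have h2 : t ∈ maximalIdeal (Localization.AtPrime p) := (mem_maximalIdeal t).2 ht
  rw [← h1] at h2
  exact h2

include a in
theorem bijective_of_hasRegPair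
    (E1 : ∀ (g : G) (i : ι), ∃ (n : ℕ) (x : R), (a i) ^ n • g = algebraMap R G x)
    (E2 : ∀ (r : R) (i : ι), algebraMap R G r = 0 → ∃ n : ℕ, (a i) ^ n * r = 0)
    (E3 : ∀ g : G, (∀ i, ∃ n : ℕ, (a i) ^ n • g = 0) → g = 0)
    (hdepth : ∀ (p : Ideal R) [p.IsPrime], (∀ i, a i ∈ p) →
      HasRegPair (Localization.AtPrime p)) :
    Function.Bijective (algebraMap R G) := by
  have hinj : Function.Injective (algebraMap R G) := by
    rw [injective_iff_map_eq_zero]
    intro b hb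
    by_contra hne
    set Ann : Ideal R := LinearMap.ker (LinearMap.toSpanSingleton R R b) with hAnn
    have hmem : ∀ r, r ∈ Ann ↔ r * b = 0 := by
      intro r
      rw [hAnn, LinearMap.mem_ker, LinearMap.toSpanSingleton_apply, smul_eq_mul]
    have hne_top : Ann ≠ ⊤ := by
      intro h
      have : (1 : R) ∈ Ann := by rw [h]; trivial
      rw [hmem, one_mul] at this
      exact hne this
    obtain ⟨m, hm, hAm⟩ := Ideal.exists_le_maximal Ann hne_top
    haveI := hm.isPrime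
    obtain ⟨p, hp, -⟩ := Ideal.exists_minimalPrimes_le hAm
    haveI : p.IsPrime := hp.1.1
    have hap : ∀ i, a i ∈ p := by
      intro i
      obtain ⟨n, hn⟩ := E2 b i hb
      exact Ideal.IsPrime.mem_of_pow_mem inferInstance n (hp.1.2 ((hmem _).2 hn))
    obtain ⟨t₁, t₂, hu1, -, hr1, -⟩ := hdepth p hap
    obtain ⟨n, hn⟩ := exists_pow_mem_map p Ann hp t₁ hu1
    rw [IsLocalization.mem_map_algebraMap_iff p.primeCompl] at hn
    obtain ⟨⟨⟨α, hα⟩, ⟨v, hv⟩⟩, hαv⟩ := hn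
    simp only at hαv
    have h0 : t₁ ^ n * algebraMap R (Localization.AtPrime p) (v * b) = 0 := by
      rw [map_mul, ← mul_assoc, hαv, ← map_mul, (hmem α).1 hα, map_zero]
    have h1 := regpair_pow1 t₁ hr1 n _ h0
    rw [IsLocalization.map_eq_zero_iff p.primeCompl] at h1
    obtain ⟨⟨w, hw⟩, hwv⟩ := h1
    simp only at hwv
    have : w * v ∈ Ann := by rw [hmem, mul_assoc]; exact hwv
    exact (p.primeCompl.mul_mem hw hv) (hp.1.2 this)
  refine ⟨hinj, fun g => ?_⟩
  set J : Ideal R := Submodule.comap (LinearMap.toSpanSingleton R G g)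
    (LinearMap.range (Algebra.linearMap R G)) with hJ
  have hmemJ : ∀ r, r ∈ J ↔ ∃ c, algebraMap R G c = r • g := by
    intro r
    rw [hJ, Submodule.mem_comap, LinearMap.mem_range, LinearMap.toSpanSingleton_apply]
    rfl
  by_cases htop : J = ⊤
  · have : (1 : R) ∈ J := by rw [htop]; trivial
    obtain ⟨c, hc⟩ := (hmemJ 1).1 this
    exact ⟨c, by rw [hc, one_smul]⟩
  exfalso
  obtain ⟨m, hm, hJm⟩ := Ideal.exists_le_maximal J htop
  haveI := hm.isPrime
  obtain ⟨p, hp, -⟩ := Ideal.exists_minimalPrimes_le hJm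
  haveI : p.IsPrime := hp.1.1
  have hap : ∀ i, a i ∈ p := by
    intro i
    obtain ⟨n, x, hn⟩ := E1 g i
    exact Ideal.IsPrime.mem_of_pow_mem inferInstance n (hp.1.2 ((hmemJ _).2 ⟨x, hn.symm⟩))
  obtain ⟨t₁, t₂, hu1, hu2, hr1, hr2⟩ := hdepth p hap
  obtain ⟨n₁, hn₁⟩ := exists_pow_mem_map p J hp t₁ hu1
  obtain ⟨n₂, hn₂⟩ := exists_pow_mem_map p J hp t₂ hu2
  rw [IsLocalization.mem_map_algebraMap_iff p.primeCompl] at hn₁ hn₂
  obtain ⟨⟨⟨α₁, hα₁⟩, ⟨v₁, hv₁⟩⟩, hαv₁⟩ := hn₁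
  obtain ⟨⟨⟨α₂, hα₂⟩, ⟨v₂, hv₂⟩⟩, hαv₂⟩ := hn₂
  simp only at hαv₁ hαv₂
  set f := algebraMap R (Localization.AtPrime p) with hf
  have hT1 := regpair_pow1 t₁ hr1 n₁
  have hT2 := regpair_pow3 t₁ t₂ hr1 hr2 n₁ n₂
  obtain ⟨c₁, hc₁⟩ := (hmemJ α₁).1 hα₁
  obtain ⟨c₂, hc₂⟩ := (hmemJ α₂).1 hα₂
  have hcc : α₂ * c₁ = α₁ * c₂ := by
    apply hinj
    rw [map_mul, map_mul, hc₁, hc₂, ← Algebra.smul_def, ← Algebra.smul_def, smul_smul, smul_smul,
      mul_comm]
  -- in `S`
  have hS1 : t₂ ^ n₂ * (f v₂ * f c₁) = t₁ ^ n₁ * (f v₁ * f c₂) := by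
    rw [← mul_assoc, hαv₂, ← mul_assoc, hαv₁, ← map_mul, ← map_mul, hcc]
  obtain ⟨z, hz⟩ := hT2 _ _ hS1
  obtain ⟨⟨c, ⟨w, hw⟩⟩, hcw⟩ := IsLocalization.surj p.primeCompl z
  simp only at hcw
  have hS2 : f (v₂ * c₁ * w * v₁) = f (α₁ * c) := by
    rw [map_mul, map_mul, map_mul, map_mul, hz, ← hcw, ← hαv₁]
    ring
  rw [IsLocalization.eq_iff_exists p.primeCompl] at hS2
  obtain ⟨⟨w', hw'⟩, hww⟩ := hS2
  simp only at hww
  set v₀ := w' * v₂ * w * v₁ with hv₀
  have hv₀p : v₀ ∈ p.primeCompl :=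
    p.primeCompl.mul_mem (p.primeCompl.mul_mem (p.primeCompl.mul_mem hw' hv₂) hw) hv₁
  have hvc : v₀ * c₁ = α₁ * (w' * c) := by
    have : v₀ * c₁ = w' * (v₂ * c₁ * w * v₁) := by rw [hv₀]; ring
    rw [this, hww]; ring
  set h : G := v₀ • g - algebraMap R G (w' * c) with hh
  have hαh : α₁ • h = 0 := by
    rw [hh, smul_sub, smul_comm, ← hc₁, Algebra.smul_def, Algebra.smul_def, ← map_mul, ← map_mul,
      hvc, sub_self]
  -- the annihilator of `α₁`
  set N : Ideal R := LinearMap.ker (LinearMap.toSpanSingleton R R α₁) with hN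
  have hmemN : ∀ r, r ∈ N ↔ r * α₁ = 0 := by
    intro r
    rw [hN, LinearMap.mem_ker, LinearMap.toSpanSingleton_apply, smul_eq_mul]
  have hNloc : ∀ x ∈ N, ∃ v ∈ p.primeCompl, v * x = 0 := by
    intro x hx
    have h0 : t₁ ^ n₁ * (f v₁ * f x) = 0 := by
      rw [← mul_assoc, hαv₁, ← map_mul, mul_comm, (hmemN x).1 hx, map_zero]
    have h1 := hT1 _ h0
    rw [← map_mul, hf, IsLocalization.map_eq_zero_iff p.primeCompl] at h1
    obtain ⟨⟨u, hu⟩, hux⟩ := h1
    simp only at hux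
    exact ⟨u * v₁, p.primeCompl.mul_mem hu hv₁, by rw [mul_assoc]; exact hux⟩
  obtain ⟨v', hv', hv'N⟩ := exists_kill p N hNloc
  have hkill : v' • h = 0 := by
    apply E3
    intro i
    obtain ⟨n, x, hx⟩ := E1 h i
    refine ⟨n, ?_⟩
    have hxN : x ∈ N := by
      rw [hmemN]
      apply hinj
      rw [map_mul, map_zero, ← hx, mul_comm, ← Algebra.smul_def, smul_comm, hαh, smul_zero]
    rw [smul_comm, hx, Algebra.smul_def, ← map_mul, hv'N x hxN, map_zero]
  have hfinal : v' * v₀ ∈ J := by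
    rw [hmemJ]
    refine ⟨v' * (w' * c), ?_⟩
    rw [hh, smul_sub, sub_eq_zero] at hkill
    rw [mul_smul, hkill, Algebra.smul_def, map_mul]
  exact (p.primeCompl.mul_mem hv' hv₀p) (hp.1.2 hfinal)

end main

end Groth.Agent.Helper23.DepthExt
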