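import Groth.Agent.Lib.Helper23.DepthExt7

set_option autoImplicit false
set_option linter.style.haveILetI false

open CategoryTheory AlgebraicGeometry Opposite TopologicalSpace

universe u

namespace Groth.Agent.Helper23.DepthExt

variable {X : Scheme.{u}}

/-- restriction maps of the structure sheaf -/
noncomputable abbrev res {A B : X.Opens} (h : A ≤ B) : Γ(X, B) →+* Γ(X, A) :=
  (X.presheaf.map (homOfLE h).op).hom

theorem res_res {A B C : X.Opens} (h₁ : A ≤ B) (h₂ : B ≤ C) (s : Γ(X, C)) :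
    res h₁ (res h₂ s) = res (h₁.trans h₂) s := by
  unfold res
  rw [← RingHom.comp_apply, ← CommRingCat.hom_comp, ← Functor.map_comp]
  rfl

/-- sections are determined by their restrictions to the affine opens -/
theorem eq_of_res_affine {W : X.Opens} (s s' : Γ(X, W))
    (h : ∀ (V : X.affineOpens) (hV : V.1 ≤ W), res hV s = res hV s') : s = s' := by
  let ι := {V : X.affineOpens // V.1 ≤ W}
  have hcover : W ≤ ⨆ i : ι, i.1.1 := by
    intro x hx
    obtain ⟨V, hV, hxV, hVW⟩ := exists_isAffineOpen_mem_and_subset hx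
    exact Opens.mem_iSup.2 ⟨⟨⟨V, hV⟩, hVW⟩, hxV⟩
  exact TopCat.Sheaf.eq_of_locally_eq' X.sheaf (fun i : ι => i.1.1) W (fun i => homOfLE i.2)
    hcover s s' (fun i => h i.1 i.2)

/-- bijectivity of restriction to `W ⊓ U` for all opens `W`, from the affine case -/
theorem bijective_res_of_affine (U : X.Opens)
    (hB : ∀ V : X.affineOpens, Function.Bijective (res (inf_le_left : V.1 ⊓ U ≤ V.1)))
    (W : X.Opens) : Function.Bijective (res (inf_le_left : W ⊓ U ≤ W)) := by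
  have hinj : ∀ W : X.Opens, Function.Injective (res (inf_le_left : W ⊓ U ≤ W)) := by
    intro W s s' hss'
    apply eq_of_res_affine
    intro V hV
    apply (hB V).1
    rw [res_res, res_res]
    have h1 : V.1 ⊓ U ≤ W ⊓ U := inf_le_inf_right U hV
    rw [← res_res h1 inf_le_left s, ← res_res h1 inf_le_left s', hss']
  refine ⟨hinj W, fun t => ?_⟩
  let ι := {V : X.affineOpens // V.1 ≤ W}
  have hcover : W ≤ ⨆ i : ι, i.1.1 := by
    intro x hx
    obtain ⟨V, hV, hxV, hVW⟩ := exists_isAffineOpen_mem_and_subset hx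
    exact Opens.mem_iSup.2 ⟨⟨⟨V, hV⟩, hVW⟩, hxV⟩
  have hsf : ∀ i : ι, ∃ s : Γ(X, i.1.1), res (inf_le_left : i.1.1 ⊓ U ≤ i.1.1) s =
      res (inf_le_inf_right U i.2 : i.1.1 ⊓ U ≤ W ⊓ U) t := fun i => (hB i.1).2 _
  choose sf hsf' using hsf
  have hcompat : TopCat.Presheaf.IsCompatible X.sheaf.1 (fun i : ι => i.1.1) sf := by
    intro i j
    show res (inf_le_left : i.1.1 ⊓ j.1.1 ≤ i.1.1) (sf i) =
      res (inf_le_right : i.1.1 ⊓ j.1.1 ≤ j.1.1) (sf j)
    apply eq_of_res_affine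
    intro V hV
    apply (hB V).1
    rw [res_res, res_res, res_res, res_res]
    have hVi : V.1 ≤ i.1.1 := hV.trans inf_le_left
    have hVj : V.1 ≤ j.1.1 := hV.trans inf_le_right
    have e1 : res (inf_le_left.trans hVi : V.1 ⊓ U ≤ i.1.1) (sf i) =
        res (inf_le_inf_right U (hVi.trans i.2) : V.1 ⊓ U ≤ W ⊓ U) t := by
      rw [← res_res (inf_le_inf_right U hVi : V.1 ⊓ U ≤ i.1.1 ⊓ U) inf_le_left (sf i), hsf' i,
        res_res]
    have e2 : res (inf_le_left.trans hVj : V.1 ⊓ U ≤ j.1.1) (sf j) =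
        res (inf_le_inf_right U (hVj.trans j.2) : V.1 ⊓ U ≤ W ⊓ U) t := by
      rw [← res_res (inf_le_inf_right U hVj : V.1 ⊓ U ≤ j.1.1 ⊓ U) inf_le_left (sf j), hsf' j,
        res_res]
    exact e1.trans e2.symm
  obtain ⟨s, hs, -⟩ : ∃! s : Γ(X, W), ∀ i : ι, res i.2 s = sf i :=
    TopCat.Sheaf.existsUnique_gluing' X.sheaf (fun i : ι => i.1.1) W
      (fun i => homOfLE i.2) hcover sf hcompat
  refine ⟨s, ?_⟩
  apply eq_of_res_affine
  intro V hV
  have hVW : V.1 ≤ W := hV.trans inf_le_left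
  have hVU : V.1 ≤ U := hV.trans inf_le_right
  have hs' : res hVW s = sf ⟨V, hVW⟩ := hs ⟨V, hVW⟩
  rw [res_res, ← res_res hV (inf_le_left : W ⊓ U ≤ W) s, res_res]
  have e1 : res (le_inf le_rfl hVU : V.1 ≤ V.1 ⊓ U)
      (res (inf_le_left : V.1 ⊓ U ≤ V.1) (sf ⟨V, hVW⟩)) = sf ⟨V, hVW⟩ := by
    rw [res_res]
    show (X.presheaf.map (𝟙 _)).hom _ = _
    rw [X.presheaf.map_id]; rfl
  rw [hs', ← e1, hsf' ⟨V, hVW⟩, res_res]

end Groth.Agent.Helper23.DepthExt
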