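import Groth.Agent.Lib.Helper23.DepthExt10

set_option autoImplicit false
set_option linter.style.haveILetI false

open CategoryTheory AlgebraicGeometry Opposite TopologicalSpace

universe u

namespace Groth.Agent.Helper23.DepthExt

variable {X : Scheme.{u}}

theorem bijective_res_congr {A B W : X.Opens} (hAB : A = B) (hA : A ≤ W) (hB : B ≤ W)
    (h : Function.Bijective (res hA)) : Function.Bijective (res hB) := by
  subst hAB
  exact h

/-- Hartogs: on a locally Noetherian scheme, restriction of functions from `W` to `W ⊓ U` is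
bijective provided the local rings outside `U` have depth at least 2 -/
theorem bijective_res_global [IsLocallyNoetherian X] (U : X.Opens)
    (hreg : ∀ x : X, x ∉ U → HasRegPair (X.presheaf.stalk x)) (W : X.Opens) :
    Function.Bijective (res (inf_le_left : W ⊓ U ≤ W)) := by
  apply bijective_res_of_affine U
  rintro ⟨V, hV⟩
  haveI : IsNoetherianRing Γ(X, V) := IsLocallyNoetherian.component_noetherian ⟨V, hV⟩
  haveI : NoetherianSpace ↥V := noetherianSpace_of_isAffineOpen V hV
  have hcomp : IsCompact ((V ⊓ U : X.Opens) : Set X) := by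
    have h1 : ((V ⊓ U : X.Opens) : Set X) =
        (Subtype.val : ↥V → X) '' ((Subtype.val : ↥V → X) ⁻¹' (U : Set X)) := by
      ext y
      simp only [Opens.coe_inf, Set.mem_inter_iff, SetLike.mem_coe, Set.mem_image,
        Set.mem_preimage, Subtype.exists, exists_and_left, exists_prop, exists_eq_right_right]
      tauto
    rw [h1]
    exact (NoetherianSpace.isCompact _).image continuous_subtype_val
  exact bijective_res_of_hasRegPair V hV (V ⊓ U) inf_le_left hcomp
    (fun y hyV hyU => hreg y fun hy => hyU ⟨hyV, hy⟩)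

theorem bijective_ι_appTop [IsLocallyNoetherian X] (U : X.Opens)
    (hreg : ∀ x : X, x ∉ U → HasRegPair (X.presheaf.stalk x)) :
    Function.Bijective U.ι.appTop.hom := by
  have h1 := bijective_res_global U hreg ⊤
  have h2 : (⊤ ⊓ U : X.Opens) = U.ι ''ᵁ ⊤ := by
    rw [top_inf_eq, Scheme.Opens.ι_image_top]
  exact bijective_res_congr h2 inf_le_left le_top h1

/-- extension of morphisms to an affine target -/
theorem existsUnique_extension [IsLocallyNoetherian X] (U : X.Opens)
    (hreg : ∀ x : X, x ∉ U → HasRegPair (X.presheaf.stalk x)) {Y : Scheme.{u}} [IsAffine Y]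
    (f : (U : Scheme.{u}) ⟶ Y) : ∃! g : X ⟶ Y, U.ι ≫ g = f := by
  have hbij := bijective_ι_appTop U hreg
  haveI : IsIso U.ι.appTop := (ConcreteCategory.isIso_iff_bijective _).2 hbij
  refine ⟨X.toSpecΓ ≫ Spec.map (f.appTop ≫ inv U.ι.appTop) ≫ Y.isoSpec.inv, ?_, ?_⟩
  · show U.ι ≫ X.toSpecΓ ≫ Spec.map (f.appTop ≫ inv U.ι.appTop) ≫ Y.isoSpec.inv = f
    rw [← cancel_mono Y.toSpecΓ]
    simp only [Category.assoc, Scheme.isoSpec_inv_toSpecΓ, Category.comp_id]
    rw [Scheme.toSpecΓ_naturality f, Scheme.toSpecΓ_naturality_assoc U.ι, ← Spec.map_comp,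
      Category.assoc, IsIso.inv_hom_id, Category.comp_id]
  · intro g hg
    apply ext_of_isAffine
    have h1 : (U.ι ≫ g).appTop = f.appTop := by rw [hg]
    rw [Scheme.Hom.comp_appTop] at h1
    have h2 : (U.ι ≫ X.toSpecΓ ≫ Spec.map (f.appTop ≫ inv U.ι.appTop) ≫ Y.isoSpec.inv).appTop =
        f.appTop := by
      congr 1
      rw [← cancel_mono Y.toSpecΓ]
      simp only [Category.assoc, Scheme.isoSpec_inv_toSpecΓ, Category.comp_id]
      rw [Scheme.toSpecΓ_naturality f, Scheme.toSpecΓ_naturality_assoc U.ι, ← Spec.map_comp,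
        Category.assoc, IsIso.inv_hom_id, Category.comp_id]
    rw [Scheme.Hom.comp_appTop] at h2
    rw [← cancel_mono U.ι.appTop, h1, h2]

end Groth.Agent.Helper23.DepthExt
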