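import Groth.Agent.Lib.Helper23.DepthExt11

set_option autoImplicit false
set_option linter.style.haveILetI false

open CategoryTheory AlgebraicGeometry Opposite TopologicalSpace IsLocalRing RingTheory.Sequence

universe u

namespace Groth.Agent.Helper23.DepthExt

/-- the ring has a regular non-unit -/
def HasReg1 (S : Type*) [CommRing S] : Prop :=
  ∃ t : S, ¬ IsUnit t ∧ ∀ x, t * x = 0 → x = 0

theorem HasReg1.of_ringEquiv {S S' : Type*} [CommRing S] [CommRing S'] (e : S ≃+* S')
    (h : HasReg1 S) : HasReg1 S' := by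
  obtain ⟨t, h1, h3⟩ := h
  refine ⟨e t, fun hu => h1 ?_, ?_⟩
  · have := hu.map e.symm.toRingHom
    simpa using this
  · intro x hx
    have : t * e.symm x = 0 := by
      apply e.injective
      rw [map_mul, e.apply_symm_apply, hx, map_zero]
    have := h3 _ this
    rw [← e.apply_symm_apply x, this, map_zero]

theorem hasReg1_iff_depth (S : Type u) [CommRing S] [IsLocalRing S] :
    HasReg1 S ↔ (1 : ℕ∞) ≤ LocCoh.depth S S := by
  classical
  have hne : ¬ (maximalIdeal S • (⊤ : Submodule S S) = ⊤) := by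
    intro htop
    have h1 : (maximalIdeal S • (⊤ : Submodule S S)) = maximalIdeal S := by
      rw [smul_eq_mul, Ideal.mul_top]
    rw [h1] at htop
    exact (maximalIdeal.isMaximal S).ne_top htop
  unfold LocCoh.depth LocCoh.idealDepth
  rw [if_neg hne]
  constructor
  · rintro ⟨t, hu, hreg⟩
    have hw : IsWeaklyRegular S [t] ∧ ∀ r ∈ [t], r ∈ maximalIdeal S := by
      refine ⟨?_, ?_⟩
      · rw [isWeaklyRegular_singleton_iff]
        intro x y hxy
        have : t * (x - y) = 0 := by rw [mul_sub, sub_eq_zero]; simpa using hxy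
        exact sub_eq_zero.1 (hreg _ this)
      · intro r hr
        rw [List.mem_singleton] at hr
        rw [hr]
        exact (mem_maximalIdeal t).2 hu
    refine le_trans ?_ (le_iSup₂ (f := fun (rs : List S)
      (_ : IsWeaklyRegular S rs ∧ ∀ r ∈ rs, r ∈ maximalIdeal S) => (rs.length : ℕ∞)) [t] hw)
    simp
  · intro h
    obtain ⟨rs, hrs, hlen⟩ : ∃ rs : List S,
        (IsWeaklyRegular S rs ∧ ∀ r ∈ rs, r ∈ maximalIdeal S) ∧ 1 ≤ rs.length := by
      by_contra hcon
      push Not at hcon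
      have : (⨆ (rs : List S) (_ : IsWeaklyRegular S rs ∧ ∀ r ∈ rs, r ∈ maximalIdeal S),
          (rs.length : ℕ∞)) ≤ 0 := by
        refine iSup_le fun rs => iSup_le fun hrs => ?_
        have := hcon rs hrs
        have h1 : rs.length = 0 := by omega
        rw [h1]; simp
      have h2 := h.trans this
      exact absurd h2 (by decide)
    match rs, hrs, hlen with
    | t :: rest, hrs, _ =>
      obtain ⟨hreg, hmem⟩ := hrs
      rw [isWeaklyRegular_cons_iff] at hreg
      refine ⟨t, (mem_maximalIdeal t).1 (hmem t (by simp)), ?_⟩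
      intro x hx
      apply hreg.1
      simpa using hx

section abstract

variable {R G : Type u} [CommRing R] [CommRing G] [Algebra R G] {ι : Type*} (a : ι → R)

include a in
theorem injective_of_hasReg1
    (E2 : ∀ (r : R) (i : ι), algebraMap R G r = 0 → ∃ n : ℕ, (a i) ^ n * r = 0)
    (hdepth : ∀ (p : Ideal R) [p.IsPrime], (∀ i, a i ∈ p) → HasReg1 (Localization.AtPrime p)) :
    Function.Injective (algebraMap R G) := by
  rw [injective_iff_map_eq_zero]
  intro b hb
  by_contra hne
  set Ann : Ideal R := LinearMap.ker (LinearMap.toSpanSingleton R R b) with hAnn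
  have hmem : ∀ r, r ∈ Ann ↔ r * b = 0 := by
    intro r
    rw [hAnn, LinearMap.mem_ker, LinearMap.toSpanSingleton_apply, smul_eq_mul]
  have hne_top : Ann ≠ ⊤ := by
    intro h
    have : (1 : R) ∈ Ann := by rw [h]; trivial
    rw [hmem, one_mul] at this
    exact hne this
  obtain ⟨m, hm, hAm⟩ := Ideal.exists_le_maximal Ann hne_top
  haveI := hm.isPrime
  obtain ⟨p, hp, -⟩ := Ideal.exists_minimalPrimes_le hAm
  haveI : p.IsPrime := hp.1.1
  have hap : ∀ i, a i ∈ p := by
    intro i
    obtain ⟨n, hn⟩ := E2 b i hb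
    exact Ideal.IsPrime.mem_of_pow_mem inferInstance n (hp.1.2 ((hmem _).2 hn))
  obtain ⟨t₁, hu1, hr1⟩ := hdepth p hap
  obtain ⟨n, hn⟩ := exists_pow_mem_map p Ann hp t₁ hu1
  rw [IsLocalization.mem_map_algebraMap_iff p.primeCompl] at hn
  obtain ⟨⟨⟨α, hα⟩, ⟨v, hv⟩⟩, hαv⟩ := hn
  simp only at hαv
  have h0 : t₁ ^ n * algebraMap R (Localization.AtPrime p) (v * b) = 0 := by
    rw [map_mul, ← mul_assoc, hαv, ← map_mul, (hmem α).1 hα, map_zero]
  have h1 := regpair_pow1 t₁ hr1 n _ h0
  rw [IsLocalization.map_eq_zero_iff p.primeCompl] at h1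
  obtain ⟨⟨w, hw⟩, hwv⟩ := h1
  simp only at hwv
  have : w * v ∈ Ann := by rw [hmem, mul_assoc]; exact hwv
  exact (p.primeCompl.mul_mem hw hv) (hp.1.2 this)

end abstract

variable {X : Scheme.{u}}

theorem injective_res_of_hasReg1 (V : X.Opens) (hV : IsAffineOpen V) (U' : X.Opens) (hle : U' ≤ V)
    (hdepth : ∀ x : X, x ∈ V → x ∉ U' → HasReg1 (X.presheaf.stalk x)) :
    Function.Injective (res hle) := by
  letI : Algebra Γ(X, V) Γ(X, U') := (X.presheaf.map (homOfLE hle).op).hom.toAlgebra
  have halg : ∀ r : Γ(X, V), algebraMap Γ(X, V) Γ(X, U') r = res hle r := fun r => rfl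
  let ι := {a : Γ(X, V) // X.basicOpen a ≤ U'}
  refine injective_of_hasReg1 (R := Γ(X, V)) (G := Γ(X, U')) (fun i : ι => i.1) ?_ ?_
  · intro r i hr
    have H : (X.presheaf.map (homOfLE (X.basicOpen_le i.1)).op).hom r = 0 := by
      have : X.presheaf.map (homOfLE (X.basicOpen_le i.1)).op =
          X.presheaf.map (homOfLE hle).op ≫ X.presheaf.map (homOfLE i.2).op := by
        rw [← Functor.map_comp]; rfl
      rw [this, CommRingCat.hom_comp, RingHom.comp_apply]
      have hr' : (X.presheaf.map (homOfLE hle).op).hom r = 0 := hr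
      rw [hr', map_zero]
    exact exists_pow_mul_eq_zero_of_res_basicOpen_eq_zero_of_isAffineOpen X hV r i.1 H
  · intro p hp hap
    set x : X := hV.fromSpec.base ⟨p, hp⟩ with hx
    have hxV : x ∈ V := (hV.isoSpec.inv _).2
    have hxU : x ∉ U' := by
      intro hxU
      obtain ⟨f, hf1, hf2⟩ := hV.exists_basicOpen_le (V := U') ⟨x, hxU⟩ hxV
      have h1 : (⟨p, hp⟩ : PrimeSpectrum Γ(X, V)) ∈ hV.fromSpec ⁻¹ᵁ X.basicOpen f := hf2
      rw [hV.fromSpec_preimage_basicOpen] at h1
      exact h1 (hap ⟨f, hf1⟩)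
    have hreg := hdepth x hxV hxU
    letI : Algebra Γ(X, V) (X.presheaf.stalk x) :=
      TopCat.Presheaf.algebra_section_stalk X.presheaf ⟨x, hxV⟩
    haveI : IsLocalization.AtPrime (X.presheaf.stalk x) p :=
      hV.isLocalization_stalk' ⟨p, hp⟩ hxV
    exact hreg.of_ringEquiv (IsLocalization.algEquiv p.primeCompl (X.presheaf.stalk x)
      (Localization.AtPrime p)).toRingEquiv

theorem injective_res_global (U : X.Opens)
    (hreg : ∀ x : X, x ∉ U → HasReg1 (X.presheaf.stalk x)) (W : X.Opens) :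
    Function.Injective (res (inf_le_left : W ⊓ U ≤ W)) := by
  intro s s' hss'
  apply eq_of_res_affine
  intro V hV
  have hinjV := injective_res_of_hasReg1 V.1 V.2 (V.1 ⊓ U) inf_le_left
    (fun y hyV hyU => hreg y fun hy => hyU ⟨hyV, hy⟩)
  apply hinjV
  rw [res_res, res_res]
  have h1 : V.1 ⊓ U ≤ W ⊓ U := inf_le_inf_right U hV
  rw [← res_res h1 inf_le_left s, ← res_res h1 inf_le_left s', hss']

end Groth.Agent.Helper23.DepthExt
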