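import Groth.Agent.Lib.Helper23.DepthExt6
import Groth.Agent.Lib.Helper23.FEtFull

set_option autoImplicit false
set_option linter.style.haveILetI false

open CategoryTheory CategoryTheory.Limits AlgebraicGeometry Opposite TopologicalSpace Pi1

universe u

namespace Groth.Agent.Helper23.DepthExt

/-- transfer of the regular pair hypothesis along a flat morphism -/
theorem hasRegPair_of_flat {X P : Scheme.{u}} (c : P ⟶ X) [Flat c] (U : X.Opens)
    (hreg : ∀ x : X, x ∉ U → HasRegPair (X.presheaf.stalk x)) :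
    ∀ y : P, y ∉ c ⁻¹ᵁ U → HasRegPair (P.presheaf.stalk y) := by
  intro y hy
  have h1 : HasRegPair (X.presheaf.stalk (c.base y)) := hreg _ hy
  exact HasRegPair.of_flat (c.stalkMap y).hom (Flat.stalkMap c y) h1

/-- the clopen-descent hypothesis `hC` for an open subscheme with depth ≥ 2 outside -/
theorem exists_clopen_preimage_of_hasRegPair {X P : Scheme.{u}} [IsLocallyNoetherian X]
    (c : P ⟶ X) [Flat c] [LocallyOfFiniteType c] (U : X.Opens)
    (hreg : ∀ x : X, x ∉ U → HasRegPair (X.presheaf.stalk x))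
    (Z : Set ↥(pullback c U.ι)) (hZ : IsClopen Z) :
    ∃ W : Set P, IsClopen W ∧ (pullback.fst c U.ι).base ⁻¹' W = Z := by
  haveI : IsLocallyNoetherian P := LocallyOfFiniteType.isLocallyNoetherian c
  set q := pullback.fst c U.ι with hq
  have hqo : IsOpenMap q.base := q.isOpenEmbedding.isOpenMap
  have hqinj : Function.Injective q.base := q.isOpenEmbedding.injective
  have hrange : Set.range q.base = c.base ⁻¹' (U : Set X) := by
    have := Scheme.Pullback.range_fst c U.ι
    rw [Scheme.Opens.range_ι] at this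
    exact this
  let Z₁ : P.Opens := ⟨q.base '' Z, hqo _ hZ.2⟩
  let Z₂ : P.Opens := ⟨q.base '' Zᶜ, hqo _ hZ.1.isOpen_compl⟩
  have hsup : Z₁ ⊔ Z₂ = c ⁻¹ᵁ U := by
    ext y
    constructor
    · rintro (⟨z, -, rfl⟩ | ⟨z, -, rfl⟩)
      · have : q.base z ∈ Set.range q.base := ⟨z, rfl⟩
        rw [hrange] at this; exact this
      · have : q.base z ∈ Set.range q.base := ⟨z, rfl⟩
        rw [hrange] at this; exact this
    · intro hy
      have : y ∈ Set.range q.base := by rw [hrange]; exact hy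
      obtain ⟨z, rfl⟩ := this
      by_cases hz : z ∈ Z
      · exact Or.inl ⟨z, hz, rfl⟩
      · exact Or.inr ⟨z, hz, rfl⟩
  have hdisj : Z₁ ⊓ Z₂ = ⊥ := by
    rw [eq_bot_iff]
    rintro y ⟨⟨z, hz, rfl⟩, ⟨z', hz', hzz'⟩⟩
    rw [hqinj hzz'] at hz'
    exact hz' hz
  obtain ⟨W, W', hW1, hW2, hW3, -⟩ := exists_clopen_ext_global (c ⁻¹ᵁ U)
    (hasRegPair_of_flat c U hreg) Z₁ Z₂ hsup hdisj
  have hWclopen : IsClopen (W : Set P) := by
    refine ⟨?_, W.2⟩
    have : (W : Set P)ᶜ = (W' : Set P) := by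
      ext x
      constructor
      · intro hx
        have : x ∈ W ⊔ W' := by rw [hW1]; trivial
        rcases this with h | h
        · exact absurd h hx
        · exact h
      · intro hx hx'
        have : x ∈ W ⊓ W' := ⟨hx', hx⟩
        rw [hW2] at this
        exact this
    rw [← isOpen_compl_iff, this]
    exact W'.2
  refine ⟨W, hWclopen, ?_⟩
  ext z
  constructor
  · intro hz
    have h1 : q.base z ∈ c ⁻¹ᵁ U := by
      have : q.base z ∈ Set.range q.base := ⟨z, rfl⟩
      rw [hrange] at this; exact this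
    have h2 : q.base z ∈ W ⊓ c ⁻¹ᵁ U := ⟨hz, h1⟩
    rw [hW3] at h2
    obtain ⟨z', hz', hzz'⟩ := h2
    rw [← hqinj hzz']
    exact hz'
  · intro hz
    have : q.base z ∈ W ⊓ c ⁻¹ᵁ U := by rw [hW3]; exact ⟨z, hz, rfl⟩
    exact this.1

open Groth.Agent.Helper23.FEtFull in
theorem full_of_hasRegPair {X : Scheme.{u}} [IsLocallyNoetherian X] (U : X.Opens)
    (hreg : ∀ x : X, x ∉ U → HasRegPair (X.presheaf.stalk x))
    (A B : FEt.Cat X) (φ : (FEt.restrict U.ι).obj A ⟶ (FEt.restrict U.ι).obj B) :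
    ∃ ψ : A ⟶ B, (FEt.restrict U.ι).map ψ = φ := by
  haveI : IsFinite A.hom := A.prop.1
  haveI : Etale A.hom := A.prop.2
  haveI : IsFinite B.hom := B.prop.1
  haveI : Etale B.hom := B.prop.2
  have hφ : φ.left ≫ pullback.snd B.hom U.ι = pullback.snd A.hom U.ι := Over.w φ.hom
  have hC : ∀ Z : Set ↥(pullback (cc A.hom B.hom) U.ι), IsClopen Z →
      ∃ W : Set ↥(pullback A.hom B.hom), IsClopen W ∧
        (pullback.fst (cc A.hom B.hom) U.ι).base ⁻¹' W = Z := by
    intro Z hZ
    exact exists_clopen_preimage_of_hasRegPair (X := X) (cc A.hom B.hom) U hreg Z hZ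
  have hE : ∀ d : ↥A.left → ℕ, IsLocallyConstant d →
      (∀ z : ↥(pullback A.hom U.ι), d ((pullback.fst A.hom U.ι).base z) = 1) → ∀ x, d x = 1 := by
    intro d hd hd1 x
    obtain ⟨x', hx'U, hx'⟩ := exists_generization_mem (X := A.left) (A.hom ⁻¹ᵁ U)
      (hasRegPair_of_flat (X := X) A.hom U hreg) x
    have hr := Scheme.Pullback.range_fst A.hom U.ι
    rw [Scheme.Opens.range_ι] at hr
    have : x' ∈ Set.range (pullback.fst A.hom U.ι).base := by rw [hr]; exact hx'U
    obtain ⟨z, rfl⟩ := this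
    rw [← (hx'.map hd.continuous).eq]
    exact hd1 z
  obtain ⟨ψ, hψ1, hψ2⟩ := exists_descent_of_clopen U.ι A.hom B.hom φ.left hφ hC hE
  refine ⟨MorphismProperty.Over.homMk ψ hψ1, ?_⟩
  ext
  simp only [FEt.restrict, MorphismProperty.Over.pullback, MorphismProperty.Over.homMk_hom,
    Over.homMk_left]
  change pullback.lift _ _ _ = φ.left
  apply pullback.hom_ext
  · exact (pullback.lift_fst _ _ _).trans hψ2
  · exact (pullback.lift_snd _ _ _).trans hφ.symm

end Groth.Agent.Helper23.DepthExt
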