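import Groth.Agent.Lib.Helper23.DepthExt11
import Groth.Agent.Lib.Helper23.DepthExt8

set_option autoImplicit false
set_option linter.style.haveILetI false

open CategoryTheory CategoryTheory.Limits AlgebraicGeometry Opposite TopologicalSpace

universe u

namespace Groth.Agent.Helper23.DepthExt

variable {X : Scheme.{u}}

/-- extension of morphisms to an affine target, for an open immersion `j : U' ⟶ X` -/
theorem existsUnique_extension_of_isOpenImmersion [IsLocallyNoetherian X] {U' : Scheme.{u}}
    (j : U' ⟶ X) [IsOpenImmersion j]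
    (hreg : ∀ x : X, x ∉ Set.range j.base → HasRegPair (X.presheaf.stalk x))
    {Y : Scheme.{u}} [IsAffine Y] (f : U' ⟶ Y) : ∃! g : X ⟶ Y, j ≫ g = f := by
  have hreg' : ∀ x : X, x ∉ j.opensRange → HasRegPair (X.presheaf.stalk x) := fun x hx =>
    hreg x hx
  obtain ⟨g, hg, huniq⟩ := existsUnique_extension j.opensRange hreg' (j.isoOpensRange.inv ≫ f)
  refine ⟨g, ?_, ?_⟩
  · show j ≫ g = f
    rw [← Scheme.Hom.isoOpensRange_hom_ι j, Category.assoc, hg, Iso.hom_inv_id_assoc]
  · intro g' hg'
    apply huniq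
    show j.opensRange.ι ≫ g' = j.isoOpensRange.inv ≫ f
    rw [← hg', ← Category.assoc, Scheme.Hom.isoOpensRange_inv_comp]

/-- the regular pair hypothesis pulls back along an open immersion -/
theorem hasRegPair_pullback_snd {U' W : Scheme.{u}} (j : U' ⟶ X) [IsOpenImmersion j]
    (hreg : ∀ x : X, x ∉ Set.range j.base → HasRegPair (X.presheaf.stalk x))
    (c : W ⟶ X) [Flat c] :
    ∀ y : W, y ∉ Set.range (pullback.snd j c).base → HasRegPair (W.presheaf.stalk y) := by
  intro y hy
  have hcy : c.base y ∉ Set.range j.base := by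
    rintro ⟨u, hu⟩
    obtain ⟨z, -, hz⟩ := Scheme.Pullback.exists_preimage_pullback (f := j) (g := c) u y hu
    exact hy ⟨z, hz⟩
  exact HasRegPair.of_flat (c.stalkMap y).hom (Flat.stalkMap c y) (hreg _ hcy)

end Groth.Agent.Helper23.DepthExt
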