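import Groth.Agent.Lib.Helper23.DepthExt14

set_option autoImplicit false
set_option linter.style.haveILetI false

open CategoryTheory CategoryTheory.Limits AlgebraicGeometry Opposite TopologicalSpace

universe u

namespace Groth.Agent.Helper23.DepthExt

variable {X : Scheme.{u}}

/-- Morphisms into a scheme affine over a base `S`, which agree over `S` and after restriction along
an open immersion whose complement has depth at least 2, are equal. -/
theorem hom_ext_of_hasRegPair [IsLocallyNoetherian X] {U' : Scheme.{u}} (j : U' ⟶ X)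
    [IsOpenImmersion j]
    (hreg : ∀ x : X, x ∉ Set.range j.base → HasRegPair (X.presheaf.stalk x))
    {Y S : Scheme.{u}} (p : Y ⟶ S) [IsAffineHom p] (a b : X ⟶ Y) (hp : a ≫ p = b ≫ p)
    (hj : j ≫ a = j ≫ b) : a = b := by
  let 𝒱 := S.affineCover
  let 𝒲 := 𝒱.pullback₁ (a ≫ p)
  refine Scheme.Cover.hom_ext 𝒲 _ _ fun i => ?_
  let c : pullback (a ≫ p) (𝒱.f i) ⟶ X := pullback.fst (a ≫ p) (𝒱.f i)
  show c ≫ a = c ≫ b
  haveI : IsLocallyNoetherian (pullback (a ≫ p) (𝒱.f i)) := isLocallyNoetherian_of_isOpenImmersion c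
  haveI : IsAffine (pullback p (𝒱.f i)) := isAffine_of_isAffineHom (pullback.snd p (𝒱.f i))
  have ha : (c ≫ a) ≫ p = pullback.snd (a ≫ p) (𝒱.f i) ≫ 𝒱.f i := by
    rw [Category.assoc]; exact pullback.condition
  have hb : (c ≫ b) ≫ p = pullback.snd (a ≫ p) (𝒱.f i) ≫ 𝒱.f i := by
    rw [Category.assoc, ← hp]; exact pullback.condition
  let a' : pullback (a ≫ p) (𝒱.f i) ⟶ pullback p (𝒱.f i) := pullback.lift (c ≫ a) (pullback.snd _ _) ha
  let b' : pullback (a ≫ p) (𝒱.f i) ⟶ pullback p (𝒱.f i) := pullback.lift (c ≫ b) (pullback.snd _ _) hb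
  have hreg' := hasRegPair_pullback_snd j hreg c
  have hab : pullback.snd j c ≫ a' = pullback.snd j c ≫ b' := by
    apply pullback.hom_ext
    · simp only [a', b', Category.assoc, pullback.lift_fst]
      rw [← pullback.condition_assoc, ← pullback.condition_assoc, hj]
    · simp only [a', b', Category.assoc, pullback.lift_snd]
  obtain ⟨g, -, huniq⟩ := existsUnique_extension_of_isOpenImmersion (pullback.snd j c) hreg'
    (pullback.snd j c ≫ a')
  have h1 : a' = b' := (huniq a' rfl).trans (huniq b' hab.symm).symm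
  have h2 : c ≫ a = a' ≫ pullback.fst p (𝒱.f i) := (pullback.lift_fst _ _ _).symm
  have h3 : c ≫ b = b' ≫ pullback.fst p (𝒱.f i) := (pullback.lift_fst _ _ _).symm
  rw [h2, h3, h1]

end Groth.Agent.Helper23.DepthExt
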