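import Groth.Agent.Lib.Helper23.DepthExt15

set_option autoImplicit false
set_option linter.style.haveILetI false

open CategoryTheory CategoryTheory.Limits AlgebraicGeometry Opposite TopologicalSpace

universe u

namespace Groth.Agent.Helper23.DepthExt

variable {X : Scheme.{u}}

/-- local existence of the extension, over an affine open of the base -/
theorem exists_local_extension [IsLocallyNoetherian X] {U' : Scheme.{u}} (j : U' ⟶ X)
    [IsOpenImmersion j]
    (hreg : ∀ x : X, x ∉ Set.range j.base → HasRegPair (X.presheaf.stalk x))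
    {Y S : Scheme.{u}} (p : Y ⟶ S) [IsAffineHom p] (h : X ⟶ S) (φ : U' ⟶ Y)
    (hφ : φ ≫ p = j ≫ h) {V : Scheme.{u}} [IsAffine V] (v : V ⟶ S) [IsOpenImmersion v] :
    ∃ l : pullback h v ⟶ Y,
      pullback.snd j (pullback.fst h v) ≫ l = pullback.fst j (pullback.fst h v) ≫ φ ∧
      l ≫ p = pullback.fst h v ≫ h := by
  let c : pullback h v ⟶ X := pullback.fst h v
  let s : pullback h v ⟶ V := pullback.snd h v
  haveI : IsLocallyNoetherian (pullback h v) := isLocallyNoetherian_of_isOpenImmersion c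
  haveI : IsAffine (pullback p v) := isAffine_of_isAffineHom (pullback.snd p v)
  have hreg' := hasRegPair_pullback_snd j hreg c
  have hcond : (pullback.fst j c ≫ φ) ≫ p = (pullback.snd j c ≫ s) ≫ v := by
    rw [Category.assoc, hφ, pullback.condition_assoc, Category.assoc]
    congr 1
    exact pullback.condition
  let φW : pullback j c ⟶ pullback p v := pullback.lift (pullback.fst j c ≫ φ) (pullback.snd j c ≫ s) hcond
  obtain ⟨g, hg, -⟩ := existsUnique_extension_of_isOpenImmersion (pullback.snd j c) hreg' φW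
  obtain ⟨g', -, huniq⟩ := existsUnique_extension_of_isOpenImmersion (pullback.snd j c) hreg'
    (pullback.snd j c ≫ s)
  have hgs : g ≫ pullback.snd p v = s := by
    have h1 : g ≫ pullback.snd p v = g' := by
      apply huniq
      show pullback.snd j c ≫ g ≫ pullback.snd p v = pullback.snd j c ≫ s
      rw [← Category.assoc, hg, pullback.lift_snd]
    have h2 : s = g' := huniq s rfl
    rw [h1, h2]
  refine ⟨g ≫ pullback.fst p v, ?_, ?_⟩
  · rw [← Category.assoc, hg, pullback.lift_fst]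
  · rw [Category.assoc, pullback.condition, ← Category.assoc, hgs]
    exact pullback.condition.symm

/-- compatibility of two local extensions on the overlap -/
theorem local_extension_compat [IsLocallyNoetherian X] {U' : Scheme.{u}} (j : U' ⟶ X)
    [IsOpenImmersion j]
    (hreg : ∀ x : X, x ∉ Set.range j.base → HasRegPair (X.presheaf.stalk x))
    {Y S : Scheme.{u}} (p : Y ⟶ S) [IsAffineHom p] (h : X ⟶ S) (φ : U' ⟶ Y)
    {W₁ W₂ : Scheme.{u}} (c₁ : W₁ ⟶ X) (c₂ : W₂ ⟶ X) [IsOpenImmersion c₁] [IsOpenImmersion c₂]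
    (l₁ : W₁ ⟶ Y) (l₂ : W₂ ⟶ Y)
    (h11 : pullback.snd j c₁ ≫ l₁ = pullback.fst j c₁ ≫ φ) (h12 : l₁ ≫ p = c₁ ≫ h)
    (h21 : pullback.snd j c₂ ≫ l₂ = pullback.fst j c₂ ≫ φ) (h22 : l₂ ≫ p = c₂ ≫ h) :
    pullback.fst c₁ c₂ ≫ l₁ = pullback.snd c₁ c₂ ≫ l₂ := by
  let d : pullback c₁ c₂ ⟶ X := pullback.fst c₁ c₂ ≫ c₁
  have hd : d = pullback.snd c₁ c₂ ≫ c₂ := pullback.condition
  haveI : IsLocallyNoetherian (pullback c₁ c₂) := isLocallyNoetherian_of_isOpenImmersion d
  have hregP := hasRegPair_pullback_snd j hreg d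
  refine hom_ext_of_hasRegPair (pullback.snd j d) hregP p _ _ ?_ ?_
  · calc (pullback.fst c₁ c₂ ≫ l₁) ≫ p = pullback.fst c₁ c₂ ≫ (l₁ ≫ p) := Category.assoc _ _ _
      _ = pullback.fst c₁ c₂ ≫ (c₁ ≫ h) := by rw [h12]
      _ = (pullback.fst c₁ c₂ ≫ c₁) ≫ h := (Category.assoc _ _ _).symm
      _ = (pullback.snd c₁ c₂ ≫ c₂) ≫ h := by rw [pullback.condition]
      _ = pullback.snd c₁ c₂ ≫ (c₂ ≫ h) := Category.assoc _ _ _
      _ = pullback.snd c₁ c₂ ≫ (l₂ ≫ p) := by rw [h22]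
      _ = (pullback.snd c₁ c₂ ≫ l₂) ≫ p := (Category.assoc _ _ _).symm
  · have hc1 : pullback.fst j d ≫ j = (pullback.snd j d ≫ pullback.fst c₁ c₂) ≫ c₁ := by
      rw [pullback.condition, Category.assoc]
    have hc2 : pullback.fst j d ≫ j = (pullback.snd j d ≫ pullback.snd c₁ c₂) ≫ c₂ := by
      rw [pullback.condition, Category.assoc, hd]
    let t₁ : pullback j d ⟶ pullback j c₁ :=
      pullback.lift (pullback.fst j d) (pullback.snd j d ≫ pullback.fst c₁ c₂) hc1
    let t₂ : pullback j d ⟶ pullback j c₂ :=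
      pullback.lift (pullback.fst j d) (pullback.snd j d ≫ pullback.snd c₁ c₂) hc2
    have e1 : pullback.snd j d ≫ pullback.fst c₁ c₂ ≫ l₁ = pullback.fst j d ≫ φ :=
      calc pullback.snd j d ≫ pullback.fst c₁ c₂ ≫ l₁
          = (pullback.snd j d ≫ pullback.fst c₁ c₂) ≫ l₁ := (Category.assoc _ _ _).symm
        _ = (t₁ ≫ pullback.snd j c₁) ≫ l₁ := by rw [pullback.lift_snd]
        _ = t₁ ≫ (pullback.snd j c₁ ≫ l₁) := Category.assoc _ _ _
        _ = t₁ ≫ (pullback.fst j c₁ ≫ φ) := by rw [h11]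
        _ = (t₁ ≫ pullback.fst j c₁) ≫ φ := (Category.assoc _ _ _).symm
        _ = pullback.fst j d ≫ φ := by rw [pullback.lift_fst]
    have e2 : pullback.snd j d ≫ pullback.snd c₁ c₂ ≫ l₂ = pullback.fst j d ≫ φ :=
      calc pullback.snd j d ≫ pullback.snd c₁ c₂ ≫ l₂
          = (pullback.snd j d ≫ pullback.snd c₁ c₂) ≫ l₂ := (Category.assoc _ _ _).symm
        _ = (t₂ ≫ pullback.snd j c₂) ≫ l₂ := by rw [pullback.lift_snd]
        _ = t₂ ≫ (pullback.snd j c₂ ≫ l₂) := Category.assoc _ _ _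
        _ = t₂ ≫ (pullback.fst j c₂ ≫ φ) := by rw [h21]
        _ = (t₂ ≫ pullback.fst j c₂) ≫ φ := (Category.assoc _ _ _).symm
        _ = pullback.fst j d ≫ φ := by rw [pullback.lift_fst]
    rw [e1, e2]

/-- Extension of morphisms across a closed subset of depth at least 2: let `X` be locally
Noetherian, `j : U' ⟶ X` an open immersion such that the local rings of `X` outside the image have
a regular pair, and `p : Y ⟶ S` an affine morphism. Every `S`-morphism `U' ⟶ Y` extends uniquely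
to an `S`-morphism `X ⟶ Y`. -/
theorem existsUnique_extension_over [IsLocallyNoetherian X] {U' : Scheme.{u}} (j : U' ⟶ X)
    [IsOpenImmersion j]
    (hreg : ∀ x : X, x ∉ Set.range j.base → HasRegPair (X.presheaf.stalk x))
    {Y S : Scheme.{u}} (p : Y ⟶ S) [IsAffineHom p] (h : X ⟶ S) (φ : U' ⟶ Y)
    (hφ : φ ≫ p = j ≫ h) : ∃! g : X ⟶ Y, j ≫ g = φ ∧ g ≫ p = h := by
  let 𝒱 := S.affineCover
  let 𝒲 := 𝒱.pullback₁ h
  have hloc := fun i => exists_local_extension j hreg p h φ hφ (𝒱.f i)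
  choose l hl1 hl2 using hloc
  have hcompat : ∀ i i' : 𝒲.I₀, pullback.fst (𝒲.f i) (𝒲.f i') ≫ l i = pullback.snd _ _ ≫ l i' := by
    intro i i'
    exact local_extension_compat j hreg p h φ (pullback.fst h (𝒱.f i)) (pullback.fst h (𝒱.f i'))
      (l i) (l i') (hl1 i) (hl2 i) (hl1 i') (hl2 i')
  let L : X ⟶ Y := Scheme.Cover.glueMorphisms 𝒲 l hcompat
  have hL : ∀ i, 𝒲.f i ≫ L = l i := fun i => Scheme.Cover.ι_glueMorphisms 𝒲 l hcompat i
  have hL1 : j ≫ L = φ := by
    refine Scheme.Cover.hom_ext (𝒲.pullback₁ j) _ _ fun i => ?_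
    show pullback.fst j (𝒲.f i) ≫ j ≫ L = pullback.fst j (𝒲.f i) ≫ φ
    rw [pullback.condition_assoc, hL i]
    exact hl1 i
  have hL2 : L ≫ p = h := by
    refine Scheme.Cover.hom_ext 𝒲 _ _ fun i => ?_
    rw [← Category.assoc, hL i]
    exact hl2 i
  refine ⟨L, ⟨hL1, hL2⟩, ?_⟩
  rintro L' ⟨h1, h2⟩
  exact hom_ext_of_hasRegPair j hreg p _ _ (h2.trans hL2.symm) (h1.trans hL1.symm)

end Groth.Agent.Helper23.DepthExt
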