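import Groth.Agent.Lib.Helper23.DepthExt1
import Groth.Prelude

set_option autoImplicit false
set_option linter.style.haveILetI false

universe u

namespace Groth.Agent.Helper23.DepthExt

open IsLocalRing RingTheory.Sequence

theorem hasRegPair_of_depth (S : Type u) [CommRing S] [IsLocalRing S]
    (h : (2 : ℕ∞) ≤ LocCoh.depth S S) : HasRegPair S := by
  classical
  unfold LocCoh.depth LocCoh.idealDepth at h
  have hne : ¬ (maximalIdeal S • (⊤ : Submodule S S) = ⊤) := by
    intro htop
    have h1 : (maximalIdeal S • (⊤ : Submodule S S)) = maximalIdeal S := by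
      rw [smul_eq_mul, Ideal.mul_top]
    rw [h1] at htop
    exact (maximalIdeal.isMaximal S).ne_top htop
  rw [if_neg hne] at h
  obtain ⟨rs, hrs, hlen⟩ : ∃ rs : List S, (IsWeaklyRegular S rs ∧ ∀ r ∈ rs, r ∈ maximalIdeal S) ∧
      2 ≤ rs.length := by
    by_contra hcon
    push Not at hcon
    have : (⨆ (rs : List S) (_ : IsWeaklyRegular S rs ∧ ∀ r ∈ rs, r ∈ maximalIdeal S),
        (rs.length : ℕ∞)) ≤ 1 := by
      refine iSup_le fun rs => iSup_le fun hrs => ?_
      have := hcon rs hrs
      have h1 : rs.length ≤ 1 := by omega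
      exact_mod_cast h1
    have h2 := h.trans this
    exact absurd h2 (by decide)
  match rs, hrs, hlen with
  | t₁ :: t₂ :: rest, hrs, _ =>
    obtain ⟨hreg, hmem⟩ := hrs
    rw [isWeaklyRegular_cons_iff] at hreg
    obtain ⟨hr1, hreg2⟩ := hreg
    rw [isWeaklyRegular_cons_iff] at hreg2
    obtain ⟨hr2, -⟩ := hreg2
    refine ⟨t₁, t₂, ?_, ?_, ?_, ?_⟩
    · exact (mem_maximalIdeal t₁).1 (hmem t₁ (by simp))
    · exact (mem_maximalIdeal t₂).1 (hmem t₂ (by simp))
    · intro x hx
      apply hr1
      simpa using hx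
    · intro x y hxy
      have h0 : t₂ • (Submodule.Quotient.mk x : QuotSMulTop t₁ S) = t₂ • 0 := by
        rw [smul_zero, ← Submodule.Quotient.mk_smul, Submodule.Quotient.mk_eq_zero,
          smul_eq_mul, hxy]
        exact Submodule.smul_mem_pointwise_smul y t₁ ⊤ trivial
      have h1 := hr2 h0
      rw [Submodule.Quotient.mk_eq_zero, Submodule.mem_smul_pointwise_iff_exists] at h1
      obtain ⟨z, -, hz⟩ := h1
      exact ⟨z, by rw [← hz, smul_eq_mul]⟩

end Groth.Agent.Helper23.DepthExt
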