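import Groth.Agent.Lib.Helper23.DepthExt3

set_option autoImplicit false
set_option linter.style.haveILetI false

open TensorProduct RingTheory.Sequence

universe u

namespace Groth.Agent.Helper23.DepthExt

theorem isWeaklyRegular_pair_iff {S : Type*} [CommRing S] (t₁ t₂ : S) :
    IsWeaklyRegular S [t₁, t₂] ↔ ((∀ x, t₁ * x = 0 → x = 0) ∧
      (∀ x y, t₂ * x = t₁ * y → ∃ z, x = t₁ * z)) := by
  rw [isWeaklyRegular_cons_iff, isWeaklyRegular_cons_iff]
  constructor
  · rintro ⟨hr1, hr2, -⟩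
    refine ⟨?_, ?_⟩
    · intro x hx
      apply hr1
      simpa using hx
    · intro x y hxy
      have h0 : t₂ • (Submodule.Quotient.mk x : QuotSMulTop t₁ S) = t₂ • 0 := by
        rw [smul_zero, ← Submodule.Quotient.mk_smul, Submodule.Quotient.mk_eq_zero,
          smul_eq_mul, hxy]
        exact Submodule.smul_mem_pointwise_smul y t₁ ⊤ trivial
      have h1 := hr2 h0
      rw [Submodule.Quotient.mk_eq_zero, Submodule.mem_smul_pointwise_iff_exists] at h1
      obtain ⟨z, -, hz⟩ := h1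
      exact ⟨z, by rw [← hz, smul_eq_mul]⟩
  · rintro ⟨h1, h2⟩
    refine ⟨?_, ?_, IsWeaklyRegular.nil _ _⟩
    · intro x y hxy
      have : t₁ * (x - y) = 0 := by
        rw [mul_sub, sub_eq_zero]; simpa using hxy
      exact sub_eq_zero.1 (h1 _ this)
    · intro x y hxy
      obtain ⟨x, rfl⟩ := Submodule.Quotient.mk_surjective _ x
      obtain ⟨y, rfl⟩ := Submodule.Quotient.mk_surjective _ y
      simp only at hxy
      rw [← Submodule.Quotient.mk_smul, ← Submodule.Quotient.mk_smul,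
        Submodule.Quotient.eq, Submodule.mem_smul_pointwise_iff_exists] at hxy
      obtain ⟨w, -, hw⟩ := hxy
      have : t₂ * (x - y) = t₁ * w := by
        rw [← smul_eq_mul t₁ w, hw, smul_eq_mul, smul_eq_mul, mul_sub]
      obtain ⟨z, hz⟩ := h2 _ _ this
      rw [Submodule.Quotient.eq, Submodule.mem_smul_pointwise_iff_exists]
      exact ⟨z, trivial, by rw [smul_eq_mul, ← hz]⟩

/-- regular pairs transfer along flat local homomorphisms -/
theorem HasRegPair.of_flat {R S : Type u} [CommRing R] [CommRing S] (φ : R →+* S)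
    (hflat : φ.Flat) [IsLocalHom φ] (h : HasRegPair R) : HasRegPair S := by
  obtain ⟨t₁, t₂, hu1, hu2, h1, h2⟩ := h
  algebraize [φ]
  have hreg : IsWeaklyRegular R [t₁, t₂] := (isWeaklyRegular_pair_iff t₁ t₂).2 ⟨h1, h2⟩
  have hreg2 : IsWeaklyRegular (S ⊗[R] R) [t₁, t₂] := hreg.isWeaklyRegular_lTensor (M₂ := S)
  have hreg3 : IsWeaklyRegular S [t₁, t₂] :=
    ((TensorProduct.rid R S).isWeaklyRegular_congr [t₁, t₂]).1 hreg2
  have hreg4 : IsWeaklyRegular S ([t₁, t₂].map (algebraMap R S)) :=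
    (isWeaklyRegular_map_algebraMap_iff (S := S) (M := S) [t₁, t₂]).2 hreg3
  simp only [List.map_cons, List.map_nil] at hreg4
  obtain ⟨h1', h2'⟩ := (isWeaklyRegular_pair_iff _ _).1 hreg4
  refine ⟨φ t₁, φ t₂, ?_, ?_, h1', h2'⟩
  · intro hu; exact hu1 (isUnit_of_map_unit φ t₁ hu)
  · intro hu; exact hu2 (isUnit_of_map_unit φ t₂ hu)

end Groth.Agent.Helper23.DepthExt
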