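import Mathlib

set_option autoImplicit false
set_option linter.style.haveILetI false

open CategoryTheory AlgebraicGeometry Opposite TopologicalSpace

universe u

namespace Groth.Agent.Helper23.DepthExt

variable {X : Scheme.{u}}

/-- a section which is `1` on `Z₁` and `0` on `Z₂` has basic open `Z₁` -/
theorem basicOpen_eq_of_res {U Z₁ Z₂ : X.Opens} (h₁ : Z₁ ≤ U) (h₂ : Z₂ ≤ U) (hU : U ≤ Z₁ ⊔ Z₂)
    (e : Γ(X, U)) (he₁ : (X.presheaf.map (homOfLE h₁).op).hom e = 1)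
    (he₂ : (X.presheaf.map (homOfLE h₂).op).hom e = 0) : X.basicOpen e = Z₁ := by
  have hb1 : Z₁ ⊓ X.basicOpen e = Z₁ := by
    have := X.basicOpen_res e (homOfLE h₁).op
    rw [show (X.presheaf.map (homOfLE h₁).op) e = 1 from he₁, Scheme.basicOpen_one] at this
    exact this.symm
  have hb2 : Z₂ ⊓ X.basicOpen e = ⊥ := by
    have := X.basicOpen_res e (homOfLE h₂).op
    rw [show (X.presheaf.map (homOfLE h₂).op) e = 0 from he₂, Scheme.basicOpen_zero] at this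
    exact this.symm
  apply le_antisymm
  · have h3 : X.basicOpen e ≤ Z₁ ⊔ Z₂ := (X.basicOpen_le e).trans hU
    calc X.basicOpen e = X.basicOpen e ⊓ (Z₁ ⊔ Z₂) := (inf_eq_left.2 h3).symm
      _ = (X.basicOpen e ⊓ Z₁) ⊔ (X.basicOpen e ⊓ Z₂) := inf_sup_left _ _ _
      _ = X.basicOpen e ⊓ Z₁ := by rw [inf_comm _ Z₂, hb2, sup_bot_eq]
      _ ≤ Z₁ := inf_le_right
  · rw [← hb1]; exact inf_le_right

/-- gluing `1` and `0` on two disjoint opens -/
theorem exists_glue01 (Z₁ Z₂ : X.Opens) (hdisj : Z₁ ⊓ Z₂ = ⊥) :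
    ∃ e : Γ(X, Z₁ ⊔ Z₂), (X.presheaf.map (homOfLE (le_sup_left : Z₁ ≤ Z₁ ⊔ Z₂)).op).hom e = 1 ∧
      (X.presheaf.map (homOfLE (le_sup_right : Z₂ ≤ Z₁ ⊔ Z₂)).op).hom e = 0 := by
  haveI : Subsingleton Γ(X, Z₁ ⊓ Z₂) := by rw [hdisj]; infer_instance
  let x : (RingHom.eqLocus
      (RingHom.comp (X.sheaf.obj.map (homOfLE inf_le_left : Z₁ ⊓ Z₂ ⟶ Z₁).op).hom
        (RingHom.fst (X.sheaf.obj.obj <| op Z₁) (X.sheaf.obj.obj <| op Z₂)))
      (RingHom.comp (X.sheaf.obj.map (homOfLE inf_le_right : Z₁ ⊓ Z₂ ⟶ Z₂).op).hom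
        (RingHom.snd (X.sheaf.obj.obj <| op Z₁) (X.sheaf.obj.obj <| op Z₂)))) :=
    ⟨((1 : Γ(X, Z₁)), (0 : Γ(X, Z₂))), Subsingleton.elim (α := Γ(X, Z₁ ⊓ Z₂)) _ _⟩
  refine ⟨(X.sheaf.objSupIsoProdEqLocus Z₁ Z₂).inv x, ?_, ?_⟩
  · exact X.sheaf.objSupIsoProdEqLocus_inv_fst Z₁ Z₂ x
  · exact X.sheaf.objSupIsoProdEqLocus_inv_snd Z₁ Z₂ x

/-- extension of a clopen decomposition along a bijective restriction map -/
theorem exists_clopen_ext (V U : X.Opens) (hle : U ≤ V)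
    (hbij : Function.Bijective (X.presheaf.map (homOfLE hle).op).hom)
    (Z₁ Z₂ : X.Opens) (hsup : Z₁ ⊔ Z₂ = U) (hdisj : Z₁ ⊓ Z₂ = ⊥) :
    ∃ W₁ W₂ : X.Opens, W₁ ⊔ W₂ = V ∧ W₁ ⊓ W₂ = ⊥ ∧ W₁ ⊓ U = Z₁ ∧ W₂ ⊓ U = Z₂ := by
  subst hsup
  obtain ⟨e, he₁, he₂⟩ := exists_glue01 Z₁ Z₂ hdisj
  obtain ⟨e', he'⟩ := hbij.2 e
  -- `e` is idempotent
  have hidem : e * e = e := by
    refine TopCat.Sheaf.eq_of_locally_eq₂ X.sheaf (homOfLE le_sup_left) (homOfLE le_sup_right)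
      le_rfl (e * e) e ?_ ?_
    · show (X.presheaf.map (homOfLE le_sup_left).op).hom (e * e) =
        (X.presheaf.map (homOfLE le_sup_left).op).hom e
      rw [map_mul, he₁, mul_one]
    · show (X.presheaf.map (homOfLE le_sup_right).op).hom (e * e) =
        (X.presheaf.map (homOfLE le_sup_right).op).hom e
      rw [map_mul, he₂, mul_zero]
  have hidem' : e' * (1 - e') = 0 := by
    apply hbij.1
    rw [map_mul, map_sub, map_one, map_zero, he', mul_sub, mul_one, hidem, sub_self]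
  refine ⟨X.basicOpen e', X.basicOpen (1 - e'), ?_, ?_, ?_, ?_⟩
  · apply le_antisymm (sup_le (X.basicOpen_le _) (X.basicOpen_le _))
    intro x hx
    have h1 : X.presheaf.germ V x hx e' + X.presheaf.germ V x hx (1 - e') = 1 := by
      rw [← map_add, add_sub_cancel, map_one]
    rcases IsLocalRing.isUnit_or_isUnit_of_add_one h1 with h | h
    · exact Or.inl ((X.mem_basicOpen _ _ hx).2 h)
    · exact Or.inr ((X.mem_basicOpen _ _ hx).2 h)
  · rw [← Scheme.basicOpen_mul, hidem', Scheme.basicOpen_zero]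
  · have h1 := X.basicOpen_res e' (homOfLE hle).op
    rw [show (X.presheaf.map (homOfLE hle).op) e' = e from he'] at h1
    rw [inf_comm, ← h1]
    exact basicOpen_eq_of_res le_sup_left le_sup_right le_rfl e he₁ he₂
  · have h1 := X.basicOpen_res (1 - e') (homOfLE hle).op
    rw [show (X.presheaf.map (homOfLE hle).op) (1 - e') = 1 - e from by
      show (X.presheaf.map (homOfLE hle).op).hom (1 - e') = 1 - e
      rw [map_sub, map_one, he']] at h1
    rw [inf_comm, ← h1]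
    refine basicOpen_eq_of_res le_sup_right le_sup_left (by rw [sup_comm]) (1 - e) ?_ ?_
    · rw [map_sub, map_one, he₂, sub_zero]
    · rw [map_sub, map_one, he₁, sub_self]

end Groth.Agent.Helper23.DepthExt
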