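import Groth.Agent.Lib.Helper23.DepthExt4
import Groth.Agent.Lib.Helper23.DepthExt5

set_option autoImplicit false
set_option linter.style.haveILetI false

open CategoryTheory AlgebraicGeometry Opposite TopologicalSpace

universe u

namespace Groth.Agent.Helper23.DepthExt

theorem not_hasRegPair_of_krullDimLE_zero (S : Type*) [CommRing S] [IsLocalRing S]
    [Ring.KrullDimLE 0 S] : ¬ HasRegPair S := by
  rintro ⟨t₁, -, hu1, -, h1, -⟩
  have hnil : IsNilpotent t₁ := Ring.KrullDimLE.isNilpotent_iff_mem_nonunits.2 hu1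
  obtain ⟨n, hn⟩ := hnil
  have := regpair_pow1 t₁ h1 n 1 (by rw [mul_one, hn])
  exact one_ne_zero this

variable {X : Scheme.{u}} (U : X.Opens)

/-- every point has a generization in `U` when the local rings outside `U` have regular pairs -/
theorem exists_generization_mem (hreg : ∀ x : X, x ∉ U → HasRegPair (X.presheaf.stalk x)) (x : X) :
    ∃ x' ∈ U, x' ⤳ x := by
  obtain ⟨V, hV, hxV, -⟩ := exists_isAffineOpen_mem_and_subset (TopologicalSpace.Opens.mem_top x)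
  set p := hV.primeIdealOf ⟨x, hxV⟩ with hp
  obtain ⟨q, hq, hqp⟩ := Ideal.exists_minimalPrimes_le (bot_le : (⊥ : Ideal Γ(X, V)) ≤ p.asIdeal)
  haveI hqprime : q.IsPrime := hq.1.1
  set x' : X := hV.fromSpec.base ⟨q, hqprime⟩ with hx'
  have hx'V : x' ∈ V := (hV.isoSpec.inv _).2
  have hspec : x' ⤳ x := by
    have h1 : (⟨q, hqprime⟩ : PrimeSpectrum Γ(X, V)) ⤳ p :=
      (PrimeSpectrum.le_iff_specializes _ _).1 hqp
    have h2 := h1.map hV.fromSpec.continuous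
    rwa [hV.fromSpec_primeIdealOf ⟨x, hxV⟩] at h2
  refine ⟨x', ?_, hspec⟩
  by_contra hx'U
  have hreg' := hreg x' hx'U
  letI : Algebra Γ(X, V) (X.presheaf.stalk x') :=
    TopCat.Presheaf.algebra_section_stalk X.presheaf ⟨x', hx'V⟩
  haveI : IsLocalization.AtPrime (X.presheaf.stalk x') q :=
    hV.isLocalization_stalk' ⟨q, hqprime⟩ hx'V
  haveI : Ring.KrullDimLE 0 (X.presheaf.stalk x') :=
    Ring.KrullDimLE.of_isLocalization q hq (X.presheaf.stalk x')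
  exact not_hasRegPair_of_krullDimLE_zero _ hreg'

/-- extension of clopen decompositions from `U` to `X` -/
theorem exists_clopen_ext_global [IsLocallyNoetherian X]
    (hreg : ∀ x : X, x ∉ U → HasRegPair (X.presheaf.stalk x))
    (Z Z' : X.Opens) (hsup : Z ⊔ Z' = U) (hdisj : Z ⊓ Z' = ⊥) :
    ∃ W W' : X.Opens, W ⊔ W' = ⊤ ∧ W ⊓ W' = ⊥ ∧ W ⊓ U = Z ∧ W' ⊓ U = Z' := by
  -- local extensions
  have hloc : ∀ V : X.affineOpens, ∃ W₁ W₂ : X.Opens, W₁ ⊔ W₂ = V.1 ∧ W₁ ⊓ W₂ = ⊥ ∧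
      W₁ ⊓ (U ⊓ V.1) = Z ⊓ V.1 ∧ W₂ ⊓ (U ⊓ V.1) = Z' ⊓ V.1 := by
    rintro ⟨V, hV⟩
    haveI : IsNoetherianRing Γ(X, V) := IsLocallyNoetherian.component_noetherian ⟨V, hV⟩
    haveI : NoetherianSpace ↥V := noetherianSpace_of_isAffineOpen V hV
    have hcomp : IsCompact ((U ⊓ V : X.Opens) : Set X) := by
      have h1 : ((U ⊓ V : X.Opens) : Set X) = (Subtype.val : ↥V → X) '' ((Subtype.val : ↥V → X) ⁻¹' (U : Set X)) := by
        ext y
        simp only [Opens.coe_inf, Set.mem_inter_iff, SetLike.mem_coe, Set.mem_image,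
          Set.mem_preimage, Subtype.exists, exists_and_left, exists_prop, exists_eq_right_right]
      rw [h1]
      exact (NoetherianSpace.isCompact _).image continuous_subtype_val
    have hbij := bijective_res_of_hasRegPair V hV (U ⊓ V) inf_le_right hcomp
      (fun y _ hyU => hreg y fun hy => hyU ⟨hy, ‹y ∈ V›⟩)
    refine exists_clopen_ext V (U ⊓ V) inf_le_right hbij (Z ⊓ V) (Z' ⊓ V) ?_ ?_
    · rw [← inf_sup_right, hsup]
    · rw [inf_inf_inf_comm, hdisj, bot_inf_eq]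
  choose W₁ W₂ h1 h2 h3 h4 using hloc
  have hcov : ∀ x : X, ∃ V : X.affineOpens, x ∈ V.1 := fun x => by
    obtain ⟨V, hV, hxV, -⟩ := exists_isAffineOpen_mem_and_subset (TopologicalSpace.Opens.mem_top x)
    exact ⟨⟨V, hV⟩, hxV⟩
  have hW₁V : ∀ V, W₁ V ≤ V.1 := fun V => by rw [← h1 V]; exact le_sup_left
  have hW₂V : ∀ V, W₂ V ≤ V.1 := fun V => by rw [← h1 V]; exact le_sup_right
  have hcross : ∀ V V' : X.affineOpens, W₁ V ⊓ W₂ V' = ⊥ := by
    intro V V'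
    rw [eq_bot_iff]
    rintro x ⟨hx1, hx2⟩
    obtain ⟨x', hx'U, hx'⟩ := exists_generization_mem U hreg x
    have hx'1 : x' ∈ W₁ V := hx'.mem_open (W₁ V).2 hx1
    have hx'2 : x' ∈ W₂ V' := hx'.mem_open (W₂ V').2 hx2
    have hz : x' ∈ Z ⊓ V.1 := by
      rw [← h3 V]; exact ⟨hx'1, hx'U, hW₁V V hx'1⟩
    have hz' : x' ∈ Z' ⊓ V'.1 := by
      rw [← h4 V']; exact ⟨hx'2, hx'U, hW₂V V' hx'2⟩
    have : x' ∈ Z ⊓ Z' := ⟨hz.1, hz'.1⟩
    rw [hdisj] at this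
    exact this
  have hZW : Z ≤ ⨆ V, W₁ V := by
    intro z hz
    obtain ⟨V, hzV⟩ := hcov z
    have : z ∈ W₁ V ⊓ (U ⊓ V.1) := by rw [h3 V]; exact ⟨hz, hzV⟩
    exact Opens.mem_iSup.2 ⟨V, this.1⟩
  have hZ'W : Z' ≤ ⨆ V, W₂ V := by
    intro z hz
    obtain ⟨V, hzV⟩ := hcov z
    have : z ∈ W₂ V ⊓ (U ⊓ V.1) := by rw [h4 V]; exact ⟨hz, hzV⟩
    exact Opens.mem_iSup.2 ⟨V, this.1⟩
  have hdW : (⨆ V, W₁ V) ⊓ (⨆ V, W₂ V) = ⊥ := by
    rw [eq_bot_iff]
    rintro x ⟨hx1, hx2⟩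
    obtain ⟨V, hV⟩ := Opens.mem_iSup.1 hx1
    obtain ⟨V', hV'⟩ := Opens.mem_iSup.1 hx2
    have : x ∈ W₁ V ⊓ W₂ V' := ⟨hV, hV'⟩
    rw [hcross] at this
    exact this
  refine ⟨⨆ V, W₁ V, ⨆ V, W₂ V, ?_, hdW, ?_, ?_⟩
  · rw [eq_top_iff]
    intro x _
    obtain ⟨V, hxV⟩ := hcov x
    have : x ∈ W₁ V ⊔ W₂ V := by rw [h1 V]; exact hxV
    rcases this with h | h
    · exact Or.inl (Opens.mem_iSup.2 ⟨V, h⟩)
    · exact Or.inr (Opens.mem_iSup.2 ⟨V, h⟩)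
  · apply le_antisymm
    · rintro x ⟨hxW, hxU⟩
      rw [← hsup] at hxU
      rcases hxU with h | h
      · exact h
      · have : x ∈ (⨆ V, W₁ V) ⊓ (⨆ V, W₂ V) := ⟨hxW, hZ'W h⟩
        rw [hdW] at this
        exact absurd this (by simp)
    · exact le_inf hZW (by rw [← hsup]; exact le_sup_left)
  · apply le_antisymm
    · rintro x ⟨hxW, hxU⟩
      rw [← hsup] at hxU
      rcases hxU with h | h
      · have : x ∈ (⨆ V, W₁ V) ⊓ (⨆ V, W₂ V) := ⟨hZW h, hxW⟩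
        rw [hdW] at this
        exact absurd this (by simp)
      · exact h
    · exact le_inf hZ'W (by rw [← hsup]; exact le_sup_right)

end Groth.Agent.Helper23.DepthExt
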