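import Mathlib

set_option autoImplicit false
set_option linter.style.haveILetI false

open Set Topology TopologicalSpace

namespace Groth.Agent.Helper23.LocConn

variable {α : Type*} [TopologicalSpace α]

theorem finite_connectedComponents (α : Type*) [TopologicalSpace α] [NoetherianSpace α] :
    Finite (ConnectedComponents α) := by
  haveI : NoetherianSpace (ConnectedComponents α) :=
    noetherianSpace_of_surjective _ ConnectedComponents.continuous_coe
      ConnectedComponents.surjective_coe
  have hfin := NoetherianSpace.finite_irreducibleComponents (α := ConnectedComponents α)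
  have hsub : ∀ s ∈ irreducibleComponents (ConnectedComponents α), s.Subsingleton := by
    intro s hs
    exact (hs.1.isPreirreducible.isPreconnected).subsingleton
  rw [← Set.finite_univ_iff, ← sUnion_irreducibleComponents]
  exact hfin.sUnion (fun s hs => (hsub s hs).finite)

theorem isClopen_connectedComponent_of_noetherian (α : Type*) [TopologicalSpace α]
    [NoetherianSpace α] (x : α) : IsClopen (connectedComponent x) := by
  haveI := finite_connectedComponents α
  haveI : DiscreteTopology (ConnectedComponents α) := inferInstance
  rw [← connectedComponents_preimage_singleton]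
  exact (isClopen_discrete _).preimage ConnectedComponents.continuous_coe

/-- every point has a Noetherian open neighbourhood -/
def LocNoeth (α : Type*) [TopologicalSpace α] : Prop :=
  ∀ x : α, ∃ V : Set α, IsOpen V ∧ x ∈ V ∧ NoetherianSpace V

theorem isOpen_connectedComponent (h : LocNoeth α) (x : α) : IsOpen (connectedComponent x) := by
  rw [isOpen_iff_mem_nhds]
  intro y hy
  obtain ⟨V, hVo, hyV, hVn⟩ := h y
  have hcl := isClopen_connectedComponent_of_noetherian V ⟨y, hyV⟩
  have hopen : IsOpen ((Subtype.val : V → α) '' connectedComponent (⟨y, hyV⟩ : V)) :=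
    hVo.isOpenEmbedding_subtypeVal.isOpenMap _ hcl.2
  have hconn : IsConnected ((Subtype.val : V → α) '' connectedComponent (⟨y, hyV⟩ : V)) :=
    isConnected_connectedComponent.image _ continuous_subtype_val.continuousOn
  have hymem : y ∈ (Subtype.val : V → α) '' connectedComponent (⟨y, hyV⟩ : V) :=
    ⟨⟨y, hyV⟩, mem_connectedComponent, rfl⟩
  have hsub : (Subtype.val : V → α) '' connectedComponent (⟨y, hyV⟩ : V) ⊆ connectedComponent x := by
    rw [connectedComponent_eq hy]
    exact hconn.isPreconnected.subset_connectedComponent hymem
  exact Filter.mem_of_superset (hopen.mem_nhds hymem) hsub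

theorem LocNoeth.subtype (h : LocNoeth α) (U : Set α) : LocNoeth U := by
  intro u
  obtain ⟨V, hVo, huV, hVn⟩ := h u.1
  refine ⟨(Subtype.val : U → α) ⁻¹' V, hVo.preimage continuous_subtype_val, huV, ?_⟩
  let i : ((Subtype.val : U → α) ⁻¹' V) → V := fun x => ⟨x.1.1, x.2⟩
  have hi : IsInducing i := by
    have h1 : IsInducing ((Subtype.val : V → α) ∘ i) := by
      have : (Subtype.val : V → α) ∘ i = (Subtype.val : U → α) ∘ Subtype.val := rfl
      rw [this]
      exact IsInducing.subtypeVal.comp IsInducing.subtypeVal
    exact IsInducing.of_comp (continuous_induced_rng.2 h1.continuous)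
      continuous_subtype_val h1
  exact hi.noetherianSpace

end Groth.Agent.Helper23.LocConn
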