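import Groth.Agent.Lib.Helper23.DepthExt6
import Groth.Agent.Lib.Helper23.LocConn

set_option autoImplicit false
set_option linter.style.haveILetI false

open CategoryTheory AlgebraicGeometry Opposite TopologicalSpace

universe u

namespace Groth.Agent.Helper23.DepthExt

variable {X : Scheme.{u}} (U : X.Opens)

theorem locNoeth_of_isLocallyNoetherian [IsLocallyNoetherian X] : LocConn.LocNoeth X := by
  intro x
  obtain ⟨V, hV, hxV, -⟩ := exists_isAffineOpen_mem_and_subset (TopologicalSpace.Opens.mem_top x)
  haveI : IsNoetherianRing Γ(X, V) := IsLocallyNoetherian.component_noetherian ⟨V, hV⟩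
  exact ⟨V, V.2, hxV, noetherianSpace_of_isAffineOpen V hV⟩

theorem bijective_connectedComponentsMap [IsLocallyNoetherian X]
    (hreg : ∀ x : X, x ∉ U → HasRegPair (X.presheaf.stalk x)) :
    Function.Bijective (Continuous.connectedComponentsMap
      (continuous_subtype_val : Continuous (fun x : U => (x : X)))) := by
  constructor
  · intro c₁ c₂
    induction c₁ using ConnectedComponents.surjective_coe.forall.2 with | _ u₁ => ?_
    induction c₂ using ConnectedComponents.surjective_coe.forall.2 with | _ u₂ => ?_
    intro h12
    have h12' : connectedComponent (u₁ : X) = connectedComponent (u₂ : X) :=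
      ConnectedComponents.coe_eq_coe.1 h12
    rw [ConnectedComponents.coe_eq_coe]
    -- the component of `u₁` in `U` is clopen
    have hLN : LocConn.LocNoeth ↥U :=
      (locNoeth_of_isLocallyNoetherian (X := X)).subtype (U : Set X)
    have hopen : IsOpen (connectedComponent u₁) := LocConn.isOpen_connectedComponent hLN u₁
    have hclosed : IsClosed (connectedComponent u₁) := isClosed_connectedComponent
    let Z : X.Opens := ⟨Subtype.val '' connectedComponent u₁,
      U.2.isOpenEmbedding_subtypeVal.isOpenMap _ hopen⟩
    let Z' : X.Opens := ⟨Subtype.val '' (connectedComponent u₁)ᶜ,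
      U.2.isOpenEmbedding_subtypeVal.isOpenMap _ hclosed.isOpen_compl⟩
    have hsup : Z ⊔ Z' = U := by
      ext x
      constructor
      · rintro (⟨y, -, rfl⟩ | ⟨y, -, rfl⟩) <;> exact y.2
      · intro hx
        by_cases hc : (⟨x, hx⟩ : U) ∈ connectedComponent u₁
        · exact Or.inl ⟨⟨x, hx⟩, hc, rfl⟩
        · exact Or.inr ⟨⟨x, hx⟩, hc, rfl⟩
    have hdisj : Z ⊓ Z' = ⊥ := by
      rw [eq_bot_iff]
      rintro x ⟨⟨y, hy, rfl⟩, ⟨y', hy', hyy'⟩⟩
      have : y' = y := Subtype.ext hyy'
      rw [this] at hy'
      exact hy' hy
    obtain ⟨W, W', hW1, hW2, hW3, -⟩ := exists_clopen_ext_global U hreg Z Z' hsup hdisj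
    have hWclopen : IsClopen (W : Set X) := by
      refine ⟨?_, W.2⟩
      have : (W : Set X)ᶜ = (W' : Set X) := by
        ext x
        constructor
        · intro hx
          have : x ∈ W ⊔ W' := by rw [hW1]; trivial
          rcases this with h | h
          · exact absurd h hx
          · exact h
        · intro hx hx'
          have : x ∈ W ⊓ W' := ⟨hx', hx⟩
          rw [hW2] at this
          exact this
      rw [← isOpen_compl_iff, this]
      exact W'.2
    have hu₁W : (u₁ : X) ∈ W := by
      have : (u₁ : X) ∈ W ⊓ U := by rw [hW3]; exact ⟨u₁, mem_connectedComponent, rfl⟩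
      exact this.1
    have hsub := hWclopen.connectedComponent_subset hu₁W
    have hu₂W : (u₂ : X) ∈ W := hsub (by rw [h12']; exact mem_connectedComponent)
    have hu₂Z : (u₂ : X) ∈ Z := by rw [← hW3]; exact ⟨hu₂W, u₂.2⟩
    obtain ⟨y, hy, hyu⟩ := hu₂Z
    have : y = u₂ := Subtype.ext hyu
    rw [this] at hy
    exact connectedComponent_eq hy
  · intro c
    induction c using ConnectedComponents.surjective_coe.forall.2 with | _ x => ?_
    obtain ⟨x', hx'U, hx'⟩ := exists_generization_mem U hreg x
    refine ⟨ConnectedComponents.mk (⟨x', hx'U⟩ : U), ?_⟩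
    show ConnectedComponents.mk (x' : X) = ConnectedComponents.mk x
    rw [ConnectedComponents.coe_eq_coe']
    have h1 : closure ({x'} : Set X) ⊆ connectedComponent x' :=
      (isPreconnected_singleton.closure).subset_connectedComponent (subset_closure rfl)
    have h2 : x ∈ connectedComponent x' := h1 (specializes_iff_mem_closure.1 hx')
    rw [← connectedComponent_eq h2]
    exact mem_connectedComponent

end Groth.Agent.Helper23.DepthExt
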