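import Groth.Agent.Lib.Helper23.DepthExt8

set_option autoImplicit false
set_option linter.style.haveILetI false

open CategoryTheory CategoryTheory.Limits AlgebraicGeometry Opposite TopologicalSpace Pi1

universe u

namespace Groth.Agent.Helper23.DepthExt

/-- the local ring at the closed point of `Spec A` has a regular pair if `A` has depth ≥ 2 -/
theorem hasRegPair_puncturedSpec (A : Type u) [CommRing A] [IsLocalRing A]
    (hA : (2 : ℕ∞) ≤ LocCoh.depth A A) :
    ∀ x : Spec (CommRingCat.of A), x ∉ FEt.puncturedSpec A →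
      HasRegPair ((Spec (CommRingCat.of A)).presheaf.stalk x) := by
  intro x hx
  let x' : PrimeSpectrum A := x
  have hx1 : x' = IsLocalRing.closedPoint A := by
    by_contra hne
    exact hx hne
  have hA := hasRegPair_of_depth A hA
  have hle : x'.asIdeal.primeCompl ≤ IsUnit.submonoid A := by
    intro a ha
    rw [hx1] at ha
    have : a ∉ IsLocalRing.maximalIdeal A := ha
    rw [IsLocalRing.mem_maximalIdeal, mem_nonunits_iff, not_not] at this
    exact this
  exact hA.of_ringEquiv (IsLocalization.atUnits A x'.asIdeal.primeCompl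
    (S := (AlgebraicGeometry.Spec.structureSheaf A).presheaf.stalk x') hle).toRingEquiv

theorem isIso_appTop_fst {X Y' : Scheme.{u}} [IsLocallyNoetherian X] (U : X.Opens)
    (hreg : ∀ x : X, x ∉ U → HasRegPair (X.presheaf.stalk x)) (c : Y' ⟶ X) [IsFinite c] [Etale c]
    [IsAffine Y'] : IsIso (pullback.fst c U.ι).appTop := by
  haveI : IsLocallyNoetherian Y' := LocallyOfFiniteType.isLocallyNoetherian c
  haveI : IsNoetherianRing Γ(Y', ⊤) :=
    IsLocallyNoetherian.component_noetherian ⟨⊤, isAffineOpen_top Y'⟩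
  haveI : IsNoetherian Y' := { }
  have hrange : ((pullback.fst c U.ι) ''ᵁ ⊤ : Y'.Opens) = c ⁻¹ᵁ U := by
    ext y
    have h1 := Scheme.Pullback.range_fst c U.ι
    rw [Scheme.Opens.range_ι] at h1
    constructor
    · rintro ⟨z, -, rfl⟩
      have : (pullback.fst c U.ι).base z ∈ Set.range (pullback.fst c U.ι).base := ⟨z, rfl⟩
      rw [h1] at this; exact this
    · intro hy
      have : y ∈ Set.range (pullback.fst c U.ι).base := by rw [h1]; exact hy
      obtain ⟨z, rfl⟩ := this
      exact ⟨z, trivial, rfl⟩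
  have hcomp : IsCompact (((pullback.fst c U.ι) ''ᵁ ⊤ : Y'.Opens) : Set Y') :=
    TopologicalSpace.NoetherianSpace.isCompact _
  have hbij := bijective_res_of_hasRegPair (X := Y') ⊤
    (isAffineOpen_top Y') ((pullback.fst c U.ι) ''ᵁ ⊤) le_top hcomp (by
      intro y _ hy
      rw [hrange] at hy
      exact hasRegPair_of_flat c U hreg y hy)
  haveI h1 : IsIso (Y'.presheaf.map
      (homOfLE (le_top : (pullback.fst c U.ι) ''ᵁ ⊤ ≤ ⊤)).op) :=
    (ConcreteCategory.isIso_iff_bijective _).2 hbij
  have h2 : (pullback.fst c U.ι).appTop = Y'.presheaf.map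
      (homOfLE (le_top : (pullback.fst c U.ι) ''ᵁ ⊤ ≤ ⊤)).op ≫
      ((pullback.fst c U.ι).appIso ⊤).hom := by
    rw [Scheme.Hom.appIso_hom', Scheme.Hom.map_appLE, Scheme.Hom.appTop,
      Scheme.Hom.app_eq_appLE]
    simp only [Scheme.Hom.appLE]
    rfl
  rw [h2]
  infer_instance

end Groth.Agent.Helper23.DepthExt
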