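import Groth.Agent.Lib.Helper23.MeroD3

set_option autoImplicit false
set_option linter.style.haveILetI false

open CategoryTheory AlgebraicGeometry Opposite TopologicalSpace IsLocalRing

universe u

namespace Groth.Agent.Helper23.CDivDepth

variable {X : Scheme.{u}}

/-- local representation of a divisor by a quotient of two regular sections -/
theorem exists_local_rep (D : Mero.Divisor X) (x : X) :
    ∃ (W : X.Opens) (a b : Γ(X, W)) (_ : a ∈ Mero.regSub X W) (hb : b ∈ Mero.regSub X W),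
      x ∈ W ∧ ∀ (y : X) (hy : y ∈ W), ∃ g : (Mero.KStalk X y)ˣ,
        D.1 y = QuotientGroup.mk g ∧
        (g : Mero.KStalk X y) = LocalizedModule.mk (X.presheaf.germ W y hy a)
          (Mero.regGerm ⟨y, hy⟩ ⟨b, hb⟩) := by
  obtain ⟨U, hxU, f, hU⟩ := D.2 x
  obtain ⟨W₁, m₁, i₁, a, b, wab⟩ := f.val.2 ⟨x, hxU⟩
  obtain ⟨W₂, m₂, i₂, c, d, wcd⟩ := f.inv.2 ⟨x, hxU⟩
  have hW1 : W₁ ⊓ W₂ ≤ W₁ := inf_le_left
  have hW2 : W₁ ⊓ W₂ ≤ W₂ := inf_le_right
  have hmul : ∀ (y : X) (hy : y ∈ U), f.val.1 ⟨y, hy⟩ * f.inv.1 ⟨y, hy⟩ = 1 := by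
    intro y hy
    have := congrArg (fun s : Γ(Mero.kmod X, U) => s.1 ⟨y, hy⟩) f.val_inv
    exact this
  have hreg : ∀ (y : X) (hy : y ∈ W₁ ⊓ W₂),
      X.presheaf.germ W₁ y hy.1 a ∈ nonZeroDivisors (X.presheaf.stalk y) := by
    intro y hy
    have h1 := wab ⟨y, hy.1⟩
    have h2 := wcd ⟨y, hy.2⟩
    have h3 := hmul y (i₁.le hy.1)
    simp only at h1 h2
    have e1 : f.val.1 ⟨y, i₁.le hy.1⟩ = LocalizedModule.mk (X.presheaf.germ W₁ y hy.1 a)
        (Mero.regGerm ⟨y, hy.1⟩ b) := h1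
    have e2 : f.inv.1 ⟨y, i₁.le hy.1⟩ = LocalizedModule.mk (X.presheaf.germ W₂ y hy.2 c)
        (Mero.regGerm ⟨y, hy.2⟩ d) := h2
    rw [e1, e2] at h3
    have h4 : (LocalizedModule.mk (X.presheaf.germ W₁ y hy.1 a * X.presheaf.germ W₂ y hy.2 c)
        (Mero.regGerm ⟨y, hy.1⟩ b * Mero.regGerm ⟨y, hy.2⟩ d) : Mero.KStalk X y) =
        LocalizedModule.mk 1 1 := by
      rw [← LocalizedModule.mk_mul_mk]
      exact h3.trans (Mero.mk_self_eq_one 1).symm
    rw [LocalizedModule.mk_eq] at h4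
    obtain ⟨u, hu⟩ := h4
    simp only [Submonoid.smul_def, smul_eq_mul, OneMemClass.coe_one, one_mul, mul_one,
      Submonoid.coe_mul] at hu
    have hnz : (u : X.presheaf.stalk y) * (X.presheaf.germ W₁ y hy.1 a * X.presheaf.germ W₂ y hy.2 c) ∈
        nonZeroDivisors (X.presheaf.stalk y) := by
      rw [hu]
      exact Submonoid.mul_mem _ (Mero.regStalk_le_nonZeroDivisors y u.2)
        (Submonoid.mul_mem _ (Mero.regStalk_le_nonZeroDivisors y (Mero.regGerm ⟨y, hy.1⟩ b).2)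
          (Mero.regStalk_le_nonZeroDivisors y (Mero.regGerm ⟨y, hy.2⟩ d).2))
    exact (mul_mem_nonZeroDivisors.1 (mul_mem_nonZeroDivisors.1 hnz).2).1
  refine ⟨W₁ ⊓ W₂, X.presheaf.map (homOfLE hW1).op a, X.presheaf.map (homOfLE hW1).op b.1, ?_,
    Mero.regSub_res (homOfLE hW1) b.2, ⟨m₁, m₂⟩, ?_⟩
  · intro y
    change X.presheaf.germ (W₁ ⊓ W₂) y.1 y.2 (X.presheaf.map (homOfLE hW1).op a) ∈ _
    rw [TopCat.Presheaf.germ_res_apply]
    exact hreg y.1 y.2
  · intro y hy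
    have hyU : y ∈ U := i₁.le hy.1
    refine ⟨Units.map (Mero.evalK X U ⟨y, hyU⟩).toMonoidHom f, hU ⟨y, hyU⟩, ?_⟩
    have h1 := wab ⟨y, hy.1⟩
    simp only at h1
    have e1 : f.val.1 ⟨y, hyU⟩ = LocalizedModule.mk (X.presheaf.germ W₁ y hy.1 a)
        (Mero.regGerm ⟨y, hy.1⟩ b) := h1
    change f.val.1 ⟨y, hyU⟩ = _
    rw [e1]
    exact Mero.mk_congr (TopCat.Presheaf.germ_res_apply X.presheaf (homOfLE hW1) y hy a).symm
      (TopCat.Presheaf.germ_res_apply X.presheaf (homOfLE hW1) y hy b.1).symm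

/-- spreading out: a quotient of regular sections is (the germ of) a regular section -/
theorem mem_regStalk_of_mul_eq (W : X.Opens) (a b : Γ(X, W)) (ha : a ∈ Mero.regSub X W)
    (y : X) (hy : y ∈ W) (w : X.presheaf.stalk y)
    (hw : X.presheaf.germ W y hy a = X.presheaf.germ W y hy b * w) :
    w ∈ Mero.regStalk X y := by
  obtain ⟨W', hyW', w', rfl⟩ := X.presheaf.exists_germ_eq w
  have hW1 : W ⊓ W' ≤ W := inf_le_left
  have hW2 : W ⊓ W' ≤ W' := inf_le_right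
  have hyW : y ∈ W ⊓ W' := ⟨hy, hyW'⟩
  have h1 : X.presheaf.germ (W ⊓ W') y hyW (X.presheaf.map (homOfLE hW1).op a) =
      X.presheaf.germ (W ⊓ W') y hyW (X.presheaf.map (homOfLE hW1).op b *
        X.presheaf.map (homOfLE hW2).op w') := by
    rw [map_mul, TopCat.Presheaf.germ_res_apply, TopCat.Presheaf.germ_res_apply,
      TopCat.Presheaf.germ_res_apply]
    exact hw
  obtain ⟨W'', hyW'', i₁, i₂, e⟩ := X.presheaf.germ_eq y hyW hyW _ _ h1
  have hle : W'' ≤ W ⊓ W' := i₁.le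
  refine ⟨W'', hyW'', X.presheaf.map (homOfLE (hle.trans hW2)).op w', ?_, ?_⟩
  · intro z
    change X.presheaf.germ W'' z.1 z.2 (X.presheaf.map (homOfLE (hle.trans hW2)).op w') ∈ _
    rw [TopCat.Presheaf.germ_res_apply]
    have e' := congrArg (X.presheaf.germ W'' z.1 z.2) e
    simp only [map_mul, TopCat.Presheaf.germ_res_apply] at e'
    have hz : X.presheaf.germ W z.1 (hle z.2).1 a ∈ nonZeroDivisors (X.presheaf.stalk z.1) :=
      ha ⟨z.1, (hle z.2).1⟩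
    rw [e'] at hz
    exact (mul_mem_nonZeroDivisors.1 hz).2
  · rw [TopCat.Presheaf.germ_res_apply]

end Groth.Agent.Helper23.CDivDepth

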