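import Groth.Agent.Lib.Helper13.InvGen
import Groth.Agent.Lib.Helper23.MeroD4

set_option autoImplicit false
set_option linter.style.haveILetI false

open CategoryTheory AlgebraicGeometry Opposite TopologicalSpace IsLocalRing

universe u

namespace Groth.Agent.Helper23.DivInv

open Groth.Agent.Helper23.CDivDepth Groth.Agent.Helper13.Inv

variable {X : Scheme.{u}}

/-- equality of fractions in `K_{X,x}` -/
theorem kmk_eq_iff {x : X} (a a' : X.presheaf.stalk x) (s s' : Mero.regStalk X x) :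
    (LocalizedModule.mk a s : Mero.KStalk X x) = LocalizedModule.mk a' s' ↔
      (s' : X.presheaf.stalk x) * a = s * a' := by
  rw [LocalizedModule.mk_eq]
  constructor
  · rintro ⟨u, hu⟩
    simp only [Submonoid.smul_def, smul_eq_mul] at hu
    have hnz := Mero.regStalk_le_nonZeroDivisors x u.2
    exact (mul_cancel_left_mem_nonZeroDivisors hnz).1 hu
  · intro h
    exact ⟨1, by simp only [Submonoid.smul_def, smul_eq_mul, one_smul]; exact h⟩

section Germs

variable {T : X → Type u} [∀ x, AddCommGroup (T x)] [∀ x, Module (X.presheaf.stalk x) (T x)]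
variable (P : TopCat.LocalPredicate T) [Mero.IsModPred P]

/-- sections of `modOf P` with the same germ at `y` take the same value at `y` -/
theorem apply_eq_of_germ_eq {W W' : X.Opens} (y : X) (hy : y ∈ W) (hy' : y ∈ W')
    (t : Γ(Mero.modOf P, W)) (t' : Γ(Mero.modOf P, W'))
    (h : (Mero.modOf P).presheaf.germ W y hy t = (Mero.modOf P).presheaf.germ W' y hy' t') :
    t.1 ⟨y, hy⟩ = t'.1 ⟨y, hy'⟩ := by
  obtain ⟨W'', hyW'', i₁, i₂, e⟩ := (Mero.modOf P).presheaf.germ_eq y hy hy' _ _ h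
  have := congrArg (fun s : Γ(Mero.modOf P, W'') => s.1 ⟨y, hyW''⟩) e
  exact this

/-- sections of `modOf P` agreeing pointwise near `y` have the same germ -/
theorem germ_eq_of_apply_eq {W W' W'' : X.Opens} (y : X) (hy : y ∈ W'') (h1 : W'' ≤ W) (h2 : W'' ≤ W')
    (t : Γ(Mero.modOf P, W)) (t' : Γ(Mero.modOf P, W'))
    (h : ∀ (z : X) (hz : z ∈ W''), t.1 ⟨z, h1 hz⟩ = t'.1 ⟨z, h2 hz⟩) :
    (Mero.modOf P).presheaf.germ W y (h1 hy) t = (Mero.modOf P).presheaf.germ W' y (h2 hy) t' := by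
  have e : (Mero.modOf P).presheaf.map (homOfLE h1).op t =
      (Mero.modOf P).presheaf.map (homOfLE h2).op t' := by
    apply Subtype.ext
    funext z
    exact h z.1 z.2
  rw [← TopCat.Presheaf.germ_res_apply (Mero.modOf P).presheaf (homOfLE h1) y hy t,
    ← TopCat.Presheaf.germ_res_apply (Mero.modOf P).presheaf (homOfLE h2) y hy t', e]

end Germs


/-- the section `b / a` of `O_X(D)` where `D` is represented by `a / b` -/
theorem divCond_inv (D : Mero.Divisor X) (y : X) (α : X.presheaf.stalk y) (β : Mero.regStalk X y)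
    (hα : α ∈ Mero.regStalk X y) (g : (Mero.KStalk X y)ˣ) (hg : D.1 y = QuotientGroup.mk g)
    (hgab : (g : Mero.KStalk X y) = LocalizedModule.mk α β) :
    Mero.DivCond D y (LocalizedModule.mk (β : X.presheaf.stalk y) ⟨α, hα⟩) := by
  intro g' hg'
  have h1 : g⁻¹ * g' ∈ Mero.stalkUnits X y := QuotientGroup.eq.1 (hg.symm.trans hg')
  obtain ⟨u, hu⟩ := h1
  have h2 : (LocalizedModule.mk (β : X.presheaf.stalk y) ⟨α, hα⟩ : Mero.KStalk X y) * g = 1 := by
    rw [hgab]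
    refine LocalizedModule.mk_mul_mk.trans ?_
    have := Mero.mk_self_eq_one (⟨α, hα⟩ * β : Mero.regStalk X y)
    rw [← this]
    exact Mero.mk_congr (mul_comm _ _) rfl
  have h3 : (g' : Mero.KStalk X y) = g * ((g⁻¹ * g' : (Mero.KStalk X y)ˣ) : Mero.KStalk X y) := by
    rw [← Units.val_mul, mul_inv_cancel_left]
  rw [h3, ← mul_assoc, h2, one_mul, ← hu]
  exact ⟨(u : X.presheaf.stalk y), rfl⟩


theorem isInvertible_divMod (D : Mero.Divisor X) : PicF.IsInvertible (Mero.divMod D) := by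
  rw [isInvertible_iff_exists_isGen]
  intro x
  obtain ⟨W, a, b, ha, hb, hxW, hrep⟩ := exists_local_rep D x
  let sfun : ∀ y : W, Mero.KStalk X y.1 := fun y =>
    LocalizedModule.mk (X.presheaf.germ W y.1 y.2 b) (Mero.regGerm y ⟨a, ha⟩)
  have hs : (Mero.divLoc X D).pred sfun := by
    refine ⟨fun y => ⟨W, y.2, 𝟙 _, b, ⟨a, ha⟩, fun z => rfl⟩, fun y => ?_⟩
    obtain ⟨g, hg, hgab⟩ := hrep y.1 y.2
    exact divCond_inv D y.1 (X.presheaf.germ W y.1 y.2 a) (Mero.regGerm y ⟨b, hb⟩)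
      (Mero.germ_mem_regStalk y ha) g hg hgab
  let s : Γ(Mero.divMod D, W) := ⟨sfun, hs⟩
  refine ⟨W, hxW, s, fun y hy => ?_⟩
  have hsmul : ∀ (W' : X.Opens) (hW' : W' ≤ W) (hyW' : y ∈ W') (r' : Γ(X, W')),
      X.presheaf.germ W' y hyW' r' • (Mero.divMod D).presheaf.germ W y hy s =
      (Mero.divMod D).presheaf.germ W' y hyW'
        (r' • (Mero.divMod D).presheaf.map (homOfLE hW').op s) := by
    intro W' hW' hyW' r'
    rw [Mero.germ_smul, TopCat.Presheaf.germ_res_apply]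
  have hbnz : ∀ (z : X) (hz : z ∈ W), X.presheaf.germ W z hz b ∈
      nonZeroDivisors (X.presheaf.stalk z) := fun z hz => hb ⟨z, hz⟩
  constructor
  · -- injective
    intro r₁ r₂ h
    simp only at h
    rw [← sub_eq_zero] at h ⊢
    rw [← sub_smul] at h
    generalize r₁ - r₂ = r at h
    obtain ⟨W₁, hyW₁, r', rfl⟩ := X.presheaf.exists_germ_eq r
    have hW' : W ⊓ W₁ ≤ W := inf_le_left
    have hyW' : y ∈ W ⊓ W₁ := ⟨hy, hyW₁⟩
    rw [← TopCat.Presheaf.germ_res_apply X.presheaf (homOfLE (inf_le_right : W ⊓ W₁ ≤ W₁)) y hyW' r']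
      at h ⊢
    rw [hsmul _ hW' hyW'] at h
    have h0 : (Mero.divMod D).presheaf.germ (W ⊓ W₁) y hyW' 0 = 0 := map_zero _
    have h1 := apply_eq_of_germ_eq (Mero.divLoc X D) y hyW' hyW' _ _ (h.trans h0.symm)
    have h2 : X.presheaf.germ (W ⊓ W₁) y hyW' (X.presheaf.map (homOfLE inf_le_right).op r') •
        (LocalizedModule.mk (X.presheaf.germ W y hy b) (Mero.regGerm ⟨y, hy⟩ ⟨a, ha⟩) :
          Mero.KStalk X y) = 0 := h1
    rw [LocalizedModule.smul'_mk, ← LocalizedModule.zero_mk (1 : Mero.regStalk X y), kmk_eq_iff] at h2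
    simp only [OneMemClass.coe_one, one_mul, mul_zero, smul_eq_mul] at h2
    exact (mul_right_mem_nonZeroDivisors_eq_zero_iff (hbnz y hy)).1 h2
  · -- surjective
    intro m
    obtain ⟨W₁, hyW₁, t, rfl⟩ := (Mero.divMod D).presheaf.exists_germ_eq m
    obtain ⟨g, hg, hgab⟩ := hrep y hy
    obtain ⟨r₀, hr₀⟩ := t.2.2 ⟨y, hyW₁⟩ g hg
    obtain ⟨W₂, hyW₂, i₂, p, q, hpq⟩ := t.2.1 ⟨y, hyW₁⟩
    obtain ⟨W₃, hyW₃, r', rfl⟩ := X.presheaf.exists_germ_eq r₀
    have hpqy := hpq ⟨y, hyW₂⟩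
    have e1 : t.1 ⟨y, hyW₁⟩ = LocalizedModule.mk (X.presheaf.germ W₂ y hyW₂ p)
        (Mero.regGerm ⟨y, hyW₂⟩ q) := hpqy
    rw [e1, hgab] at hr₀
    have e2 : (LocalizedModule.mk (X.presheaf.germ W₂ y hyW₂ p * X.presheaf.germ W y hy a)
        (Mero.regGerm ⟨y, hyW₂⟩ q * Mero.regGerm ⟨y, hy⟩ ⟨b, hb⟩) : Mero.KStalk X y) =
        algebraMap _ _ (X.presheaf.germ W₃ y hyW₃ r') :=
      LocalizedModule.mk_mul_mk.symm.trans hr₀.symm
    rw [mk_eq_algebraMap_iff _ (Mero.regStalk_le_nonZeroDivisors y)] at e2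
    simp only [Submonoid.coe_mul] at e2
    have hW₂₁ : W₂ ≤ W₁ := i₂.le
    let W₄ : X.Opens := W ⊓ W₂ ⊓ W₃
    have h4W : W₄ ≤ W := inf_le_left.trans inf_le_left
    have h42 : W₄ ≤ W₂ := inf_le_left.trans inf_le_right
    have h43 : W₄ ≤ W₃ := inf_le_right
    have hyW₄ : y ∈ W₄ := ⟨⟨hy, hyW₂⟩, hyW₃⟩
    have e3 : X.presheaf.germ W₄ y hyW₄ (X.presheaf.map (homOfLE h42).op p *
        X.presheaf.map (homOfLE h4W).op a) =
        X.presheaf.germ W₄ y hyW₄ (X.presheaf.map (homOfLE h42).op q.1 *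
        X.presheaf.map (homOfLE h4W).op b * X.presheaf.map (homOfLE h43).op r') := by
      simp only [map_mul, TopCat.Presheaf.germ_res_apply]
      exact e2
    obtain ⟨W₅, hyW₅, j₁, j₂, e4⟩ := X.presheaf.germ_eq y hyW₄ hyW₄ _ _ e3
    have h54 : W₅ ≤ W₄ := j₁.le
    have h5W : W₅ ≤ W := h54.trans h4W
    have h52 : W₅ ≤ W₂ := h54.trans h42
    have h53 : W₅ ≤ W₃ := h54.trans h43
    have h51 : W₅ ≤ W₁ := h52.trans hW₂₁
    have e5 : ∀ (z : X) (hz : z ∈ W₅), X.presheaf.germ W₂ z (h52 hz) p *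
        X.presheaf.germ W z (h5W hz) a = X.presheaf.germ W₂ z (h52 hz) q.1 *
        X.presheaf.germ W z (h5W hz) b * X.presheaf.germ W₃ z (h53 hz) r' := by
      intro z hz
      have := congrArg (X.presheaf.germ W₅ z hz) e4
      simp only [map_mul, TopCat.Presheaf.germ_res_apply] at this
      exact this
    refine ⟨X.presheaf.germ W₃ y hyW₃ r', ?_⟩
    simp only
    rw [← TopCat.Presheaf.germ_res_apply X.presheaf (homOfLE h53) y hyW₅ r', hsmul W₅ h5W hyW₅]
    refine germ_eq_of_apply_eq (Mero.divLoc X D) y hyW₅ le_rfl h51 _ t (fun z hz => ?_)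
    have e6 : t.1 ⟨z, h51 hz⟩ = LocalizedModule.mk (X.presheaf.germ W₂ z (h52 hz) p)
        (Mero.regGerm ⟨z, h52 hz⟩ q) := hpq ⟨z, h52 hz⟩
    rw [e6]
    change X.presheaf.germ W₅ z hz (X.presheaf.map (homOfLE h53).op r') •
      (LocalizedModule.mk (X.presheaf.germ W z (h5W hz) b) (Mero.regGerm ⟨z, h5W hz⟩ ⟨a, ha⟩) :
        Mero.KStalk X z) = _
    rw [LocalizedModule.smul'_mk, kmk_eq_iff, TopCat.Presheaf.germ_res_apply]
    simp only [smul_eq_mul]
    have := e5 z hz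
    change X.presheaf.germ W₂ z (h52 hz) q.1 * _ = X.presheaf.germ W z (h5W hz) a * _
    rw [mul_comm (X.presheaf.germ W z (h5W hz) a), this]
    ring

end Groth.Agent.Helper23.DivInv
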