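import Groth.Agent.Lib.Helper13.InvTensor
import Groth.Agent.Lib.Helper23.DivInv

set_option autoImplicit false
set_option linter.style.haveILetI false

open CategoryTheory AlgebraicGeometry Opposite TopologicalSpace IsLocalRing

universe u

namespace Groth.Agent.Helper23.DivInv

open Groth.Agent.Helper23.CDivDepth Groth.Agent.Helper13.Inv

variable {X : Scheme.{u}}

/-- `D` is represented by `a / b` on `W` -/
def IsRep (D : Mero.Divisor X) (W : X.Opens) (a b : Γ(X, W)) (hb : b ∈ Mero.regSub X W) : Prop :=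
  ∀ (y : X) (hy : y ∈ W), ∃ g : (Mero.KStalk X y)ˣ, D.1 y = QuotientGroup.mk g ∧
    (g : Mero.KStalk X y) = LocalizedModule.mk (X.presheaf.germ W y hy a)
      (Mero.regGerm ⟨y, hy⟩ ⟨b, hb⟩)

theorem IsRep.res {D : Mero.Divisor X} {W W' : X.Opens} {a b : Γ(X, W)} {hb : b ∈ Mero.regSub X W}
    (h : IsRep D W a b hb) (hle : W' ≤ W) :
    IsRep D W' (X.presheaf.map (homOfLE hle).op a) (X.presheaf.map (homOfLE hle).op b)
      (Mero.regSub_res (homOfLE hle) hb) := by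
  intro y hy
  obtain ⟨g, hg, hgab⟩ := h y (hle hy)
  refine ⟨g, hg, hgab.trans ?_⟩
  exact Mero.mk_congr (TopCat.Presheaf.germ_res_apply X.presheaf (homOfLE hle) y hy a).symm
    (TopCat.Presheaf.germ_res_apply X.presheaf (homOfLE hle) y hy b).symm

theorem IsRep.mul {D E : Mero.Divisor X} {W : X.Opens} {a b a' b' : Γ(X, W)}
    {hb : b ∈ Mero.regSub X W} {hb' : b' ∈ Mero.regSub X W}
    (h : IsRep D W a b hb) (h' : IsRep E W a' b' hb') :
    IsRep (D * E) W (a * a') (b * b') (Submonoid.mul_mem _ hb hb') := by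
  intro y hy
  obtain ⟨g, hg, hgab⟩ := h y hy
  obtain ⟨g', hg', hgab'⟩ := h' y hy
  refine ⟨g * g', ?_, ?_⟩
  · change D.1 y * E.1 y = _
    rw [hg, hg']; rfl
  · rw [Units.val_mul, hgab, hgab']
    refine LocalizedModule.mk_mul_mk.trans (Mero.mk_congr ?_ ?_)
    · rw [map_mul]
    · change _ * _ = X.presheaf.germ W y hy (b * b')
      rw [map_mul]


theorem exists_isRep (D : Mero.Divisor X) (x : X) :
    ∃ (W : X.Opens) (a b : Γ(X, W)) (_ : a ∈ Mero.regSub X W) (hb : b ∈ Mero.regSub X W),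
      x ∈ W ∧ IsRep D W a b hb := exists_local_rep D x

/-- the section `b / a` of `O_X(D)` when `D` is represented by `a / b` -/
noncomputable def genSec (D : Mero.Divisor X) (W : X.Opens) (a b : Γ(X, W))
    (ha : a ∈ Mero.regSub X W) (hb : b ∈ Mero.regSub X W) (hrep : IsRep D W a b hb) :
    Γ(Mero.divMod D, W) :=
  ⟨fun y => LocalizedModule.mk (X.presheaf.germ W y.1 y.2 b) (Mero.regGerm y ⟨a, ha⟩), by
    refine ⟨fun y => ⟨W, y.2, 𝟙 _, b, ⟨a, ha⟩, fun z => rfl⟩, fun y => ?_⟩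
    obtain ⟨g, hg, hgab⟩ := hrep y.1 y.2
    exact divCond_inv D y.1 (X.presheaf.germ W y.1 y.2 a) (Mero.regGerm y ⟨b, hb⟩)
      (Mero.germ_mem_regStalk y ha) g hg hgab⟩

theorem genSec_apply (D : Mero.Divisor X) (W : X.Opens) (a b : Γ(X, W))
    (ha : a ∈ Mero.regSub X W) (hb : b ∈ Mero.regSub X W) (hrep : IsRep D W a b hb) (y : W) :
    (genSec D W a b ha hb hrep).1 y =
      LocalizedModule.mk (X.presheaf.germ W y.1 y.2 b) (Mero.regGerm y ⟨a, ha⟩) := rfl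

/-- a section of `O_X(D)` with values `b / a` generates all the stalks over `W` -/
theorem isGen_of_rep (D : Mero.Divisor X) (W : X.Opens) (a b : Γ(X, W))
    (ha : a ∈ Mero.regSub X W) (hb : b ∈ Mero.regSub X W) (hrep : IsRep D W a b hb)
    (s : Γ(Mero.divMod D, W))
    (hs : ∀ (y : X) (hy : y ∈ W), s.1 ⟨y, hy⟩ =
      LocalizedModule.mk (X.presheaf.germ W y hy b) (Mero.regGerm ⟨y, hy⟩ ⟨a, ha⟩))
    (y : X) (hy : y ∈ W) : IsGen (Mero.divMod D) s y hy := by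
  have hsmul : ∀ (W' : X.Opens) (hW' : W' ≤ W) (hyW' : y ∈ W') (r' : Γ(X, W')),
      X.presheaf.germ W' y hyW' r' • (Mero.divMod D).presheaf.germ W y hy s =
      (Mero.divMod D).presheaf.germ W' y hyW'
        (r' • (Mero.divMod D).presheaf.map (homOfLE hW').op s) := by
    intro W' hW' hyW' r'
    rw [Mero.germ_smul, TopCat.Presheaf.germ_res_apply]
  have hbnz : ∀ (z : X) (hz : z ∈ W), X.presheaf.germ W z hz b ∈
      nonZeroDivisors (X.presheaf.stalk z) := fun z hz => hb ⟨z, hz⟩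
  constructor
  · intro r₁ r₂ h
    simp only at h
    rw [← sub_eq_zero] at h ⊢
    rw [← sub_smul] at h
    generalize r₁ - r₂ = r at h
    obtain ⟨W₁, hyW₁, r', rfl⟩ := X.presheaf.exists_germ_eq r
    have hW' : W ⊓ W₁ ≤ W := inf_le_left
    have hyW' : y ∈ W ⊓ W₁ := ⟨hy, hyW₁⟩
    rw [← TopCat.Presheaf.germ_res_apply X.presheaf (homOfLE (inf_le_right : W ⊓ W₁ ≤ W₁)) y hyW' r']
      at h ⊢
    rw [hsmul _ hW' hyW'] at h
    have h0 : (Mero.divMod D).presheaf.germ (W ⊓ W₁) y hyW' 0 = 0 := map_zero _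
    have h1 := apply_eq_of_germ_eq (Mero.divLoc X D) y hyW' hyW' _ _ (h.trans h0.symm)
    have h2 : X.presheaf.germ (W ⊓ W₁) y hyW' (X.presheaf.map (homOfLE inf_le_right).op r') •
        (LocalizedModule.mk (X.presheaf.germ W y hy b) (Mero.regGerm ⟨y, hy⟩ ⟨a, ha⟩) :
          Mero.KStalk X y) = 0 := by
      rw [← hs y hy]; exact h1
    rw [LocalizedModule.smul'_mk, ← LocalizedModule.zero_mk (1 : Mero.regStalk X y), kmk_eq_iff] at h2
    simp only [OneMemClass.coe_one, one_mul, mul_zero, smul_eq_mul] at h2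
    exact (mul_right_mem_nonZeroDivisors_eq_zero_iff (hbnz y hy)).1 h2
  · intro m
    obtain ⟨W₁, hyW₁, t, rfl⟩ := (Mero.divMod D).presheaf.exists_germ_eq m
    obtain ⟨g, hg, hgab⟩ := hrep y hy
    obtain ⟨r₀, hr₀⟩ := t.2.2 ⟨y, hyW₁⟩ g hg
    obtain ⟨W₂, hyW₂, i₂, p, q, hpq⟩ := t.2.1 ⟨y, hyW₁⟩
    obtain ⟨W₃, hyW₃, r', rfl⟩ := X.presheaf.exists_germ_eq r₀
    have hpqy := hpq ⟨y, hyW₂⟩
    have e1 : t.1 ⟨y, hyW₁⟩ = LocalizedModule.mk (X.presheaf.germ W₂ y hyW₂ p)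
        (Mero.regGerm ⟨y, hyW₂⟩ q) := hpqy
    rw [e1, hgab] at hr₀
    have e2 : (LocalizedModule.mk (X.presheaf.germ W₂ y hyW₂ p * X.presheaf.germ W y hy a)
        (Mero.regGerm ⟨y, hyW₂⟩ q * Mero.regGerm ⟨y, hy⟩ ⟨b, hb⟩) : Mero.KStalk X y) =
        algebraMap _ _ (X.presheaf.germ W₃ y hyW₃ r') :=
      LocalizedModule.mk_mul_mk.symm.trans hr₀.symm
    rw [mk_eq_algebraMap_iff _ (Mero.regStalk_le_nonZeroDivisors y)] at e2
    simp only [Submonoid.coe_mul] at e2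
    have hW₂₁ : W₂ ≤ W₁ := i₂.le
    let W₄ : X.Opens := W ⊓ W₂ ⊓ W₃
    have h4W : W₄ ≤ W := inf_le_left.trans inf_le_left
    have h42 : W₄ ≤ W₂ := inf_le_left.trans inf_le_right
    have h43 : W₄ ≤ W₃ := inf_le_right
    have hyW₄ : y ∈ W₄ := ⟨⟨hy, hyW₂⟩, hyW₃⟩
    have e3 : X.presheaf.germ W₄ y hyW₄ (X.presheaf.map (homOfLE h42).op p *
        X.presheaf.map (homOfLE h4W).op a) =
        X.presheaf.germ W₄ y hyW₄ (X.presheaf.map (homOfLE h42).op q.1 *
        X.presheaf.map (homOfLE h4W).op b * X.presheaf.map (homOfLE h43).op r') := by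
      simp only [map_mul, TopCat.Presheaf.germ_res_apply]
      exact e2
    obtain ⟨W₅, hyW₅, j₁, j₂, e4⟩ := X.presheaf.germ_eq y hyW₄ hyW₄ _ _ e3
    have h54 : W₅ ≤ W₄ := j₁.le
    have h5W : W₅ ≤ W := h54.trans h4W
    have h52 : W₅ ≤ W₂ := h54.trans h42
    have h53 : W₅ ≤ W₃ := h54.trans h43
    have h51 : W₅ ≤ W₁ := h52.trans hW₂₁
    have e5 : ∀ (z : X) (hz : z ∈ W₅), X.presheaf.germ W₂ z (h52 hz) p *
        X.presheaf.germ W z (h5W hz) a = X.presheaf.germ W₂ z (h52 hz) q.1 *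
        X.presheaf.germ W z (h5W hz) b * X.presheaf.germ W₃ z (h53 hz) r' := by
      intro z hz
      have := congrArg (X.presheaf.germ W₅ z hz) e4
      simp only [map_mul, TopCat.Presheaf.germ_res_apply] at this
      exact this
    refine ⟨X.presheaf.germ W₃ y hyW₃ r', ?_⟩
    simp only
    rw [← TopCat.Presheaf.germ_res_apply X.presheaf (homOfLE h53) y hyW₅ r', hsmul W₅ h5W hyW₅]
    refine germ_eq_of_apply_eq (Mero.divLoc X D) y hyW₅ le_rfl h51 _ t (fun z hz => ?_)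
    have e6 : t.1 ⟨z, h51 hz⟩ = LocalizedModule.mk (X.presheaf.germ W₂ z (h52 hz) p)
        (Mero.regGerm ⟨z, h52 hz⟩ q) := hpq ⟨z, h52 hz⟩
    rw [e6]
    change X.presheaf.germ W₅ z hz (X.presheaf.map (homOfLE h53).op r') • s.1 ⟨z, h5W hz⟩ = _
    rw [hs z (h5W hz), LocalizedModule.smul'_mk, kmk_eq_iff, TopCat.Presheaf.germ_res_apply]
    simp only [smul_eq_mul]
    have := e5 z hz
    change X.presheaf.germ W₂ z (h52 hz) q.1 * _ = X.presheaf.germ W z (h5W hz) a * _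
    rw [mul_comm (X.presheaf.germ W z (h5W hz) a), this]
    ring

end Groth.Agent.Helper23.DivInv
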