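import Mathlib

/-!
# Morphisms to a one-point base are universally open; base change of dominant morphisms along open maps
(helper23)
-/

set_option autoImplicit false
universe u
open CategoryTheory CategoryTheory.Limits AlgebraicGeometry

namespace Groth.Agent.Helper23.DomProd

/-- a surjective closed immersion is universally open. -/
theorem universallyOpen_of_isClosedImmersion_of_surjective {X Y : Scheme.{u}} (f : X ⟶ Y)
    [IsClosedImmersion f] [Surjective f] : UniversallyOpen f := by
  refine ⟨fun X' Y' i₁ i₂ f' hpb => ?_⟩
  have h1 : IsClosedImmersion f' := MorphismProperty.of_isPullback hpb.flip inferInstance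
  have h2 : Surjective f' := MorphismProperty.of_isPullback hpb.flip inferInstance
  have hemb := f'.isClosedEmbedding
  exact (hemb.isEmbedding.toHomeomorphOfSurjective f'.surjective).isOpenMap

/-- if `f ≫ g` is universally open and `f` is surjective then `g` is universally open. -/
theorem universallyOpen_of_comp_surjective {X Y Z : Scheme.{u}} (f : X ⟶ Y) (g : Y ⟶ Z)
    [Surjective f] [UniversallyOpen (f ≫ g)] : UniversallyOpen g := by
  refine ⟨fun Y' Z' i₁ i₂ g' hpb => ?_⟩
  -- hpb : IsPullback g' i₁ i₂ g
  have hpb' : IsPullback (pullback.snd f i₁) (pullback.fst f i₁) i₁ f :=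
    (IsPullback.of_hasPullback f i₁).flip
  have hbig : IsPullback (pullback.snd f i₁ ≫ g') (pullback.fst f i₁) i₂ (f ≫ g) :=
    hpb'.paste_horiz hpb
  have hUO : UniversallyOpen (pullback.snd f i₁ ≫ g') :=
    MorphismProperty.of_isPullback (P := @UniversallyOpen) hbig.flip inferInstance
  have hopen : IsOpenMap (pullback.snd f i₁ ≫ g').base := (pullback.snd f i₁ ≫ g').isOpenMap
  have hsurj : Function.Surjective (pullback.snd f i₁).base := (pullback.snd f i₁).surjective
  intro U hU
  have : g'.base '' U = (pullback.snd f i₁ ≫ g').base '' ((pullback.snd f i₁).base ⁻¹' U) := by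
    rw [Scheme.Hom.comp_base, TopCat.coe_comp, Set.image_comp, Set.image_preimage_eq _ hsurj]
  rw [this]
  exact hopen _ (hU.preimage (pullback.snd f i₁).continuous)

/-- every morphism to the spectrum of a zero-dimensional local ring is universally open. -/
theorem universallyOpen_of_local_krullDimLE_zero (A : Type u) [CommRing A] [IsLocalRing A]
    [Ring.KrullDimLE 0 A] {Y : Scheme.{u}} (h : Y ⟶ Spec (CommRingCat.of A)) :
    UniversallyOpen h := by
  let k := IsLocalRing.ResidueField A
  let ι : Spec (CommRingCat.of k) ⟶ Spec (CommRingCat.of A) :=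
    Spec.map (CommRingCat.ofHom (IsLocalRing.residue A))
  have hci : IsClosedImmersion ι :=
    IsClosedImmersion.spec_of_surjective _ IsLocalRing.residue_surjective
  have hsub : Subsingleton (Spec (CommRingCat.of A)) :=
    Ring.KrullDimLE.subsingleton_primeSpectrum A
  have hsurj : Surjective ι := by
    refine ⟨fun y => ?_⟩
    obtain ⟨x⟩ : Nonempty (Spec (CommRingCat.of k)) := inferInstance
    exact ⟨x, Subsingleton.elim _ _⟩
  have hι : UniversallyOpen ι := universallyOpen_of_isClosedImmersion_of_surjective ι
  have h0 : UniversallyOpen (pullback.snd h ι) := inferInstance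
  have hcomp : UniversallyOpen (pullback.fst h ι ≫ h) := by
    rw [pullback.condition]
    infer_instance
  exact universallyOpen_of_comp_surjective (pullback.fst h ι) h

/-- base change of a dominant morphism along an open map is dominant. -/
theorem denseRange_of_isPullback {P X' X Z : Scheme.{u}} {q : P ⟶ X'} {f' : P ⟶ Z} {f : X' ⟶ X}
    {p : Z ⟶ X} (hpb : IsPullback q f' f p) (hf : DenseRange f.base) (hp : IsOpenMap p.base) :
    DenseRange f'.base := by
  rw [DenseRange, dense_iff_inter_open]
  intro U hU hne
  have h1 : (p.base '' U).Nonempty := hne.image _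
  obtain ⟨_, ⟨z, hzU, rfl⟩, ⟨x', hx'⟩⟩ := hf.inter_open_nonempty _ (hp U hU) h1
  obtain ⟨t, ht1, ht2⟩ := Scheme.Pullback.exists_preimage_pullback x' z hx'
  refine ⟨z, hzU, hpb.isoPullback.inv.base t, ?_⟩
  rw [← ht2, ← Scheme.Hom.comp_apply, hpb.isoPullback_inv_snd]

end Groth.Agent.Helper23.DomProd
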