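import Mathlib

/-!
# Divisibility of a section by a stalkwise-regular section (helper23)
-/

set_option autoImplicit false

universe u

open CategoryTheory AlgebraicGeometry TopologicalSpace Opposite Limits

namespace Groth.Agent.Helper23.DvrDom

/-- If the germs of `π` are non-zero-divisors and `π * u = 0` then `u = 0`. -/
theorem eq_zero_of_mul_eq_zero {X : Scheme.{u}} (π : Γ(X, ⊤))
    (hreg : ∀ x : X, ∀ c : X.presheaf.stalk x,
      (X.presheaf.germ ⊤ x trivial).hom π * c = 0 → c = 0)
    (W : X.Opens) (u : Γ(X, W))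
    (h : (X.presheaf.map (homOfLE (le_top : W ≤ ⊤)).op).hom π * u = 0) : u = 0 := by
  apply TopCat.Presheaf.section_ext X.sheaf W u 0
  intro x hx
  have h1 := congrArg (X.presheaf.germ W x hx).hom h
  rw [map_mul, map_zero] at h1
  have h2 : (X.presheaf.germ W x hx).hom ((X.presheaf.map (homOfLE (le_top : W ≤ ⊤)).op).hom π) =
      (X.presheaf.germ ⊤ x trivial).hom π :=
    X.presheaf.germ_res_apply (homOfLE (le_top : W ≤ ⊤)) x hx π
  rw [h2] at h1
  have h3 := hreg x _ h1
  show (X.presheaf.germ W x hx).hom u = (X.presheaf.germ W x hx).hom 0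
  rw [h3, map_zero]

theorem exists_eq_mul_of_germ_mem {X : Scheme.{u}} (π b : Γ(X, ⊤))
    (hreg : ∀ x : X, ∀ c : X.presheaf.stalk x,
      (X.presheaf.germ ⊤ x trivial).hom π * c = 0 → c = 0)
    (hmem : ∀ x : X, ∃ c : X.presheaf.stalk x,
      (X.presheaf.germ ⊤ x trivial).hom b = (X.presheaf.germ ⊤ x trivial).hom π * c) :
    ∃ b'' : Γ(X, ⊤), b = π * b'' := by
  -- local quotients
  have hloc : ∀ x : X, ∃ (W : X.Opens) (_ : x ∈ W) (t : Γ(X, W)),
      (X.presheaf.map (homOfLE (le_top : W ≤ ⊤)).op).hom b =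
        (X.presheaf.map (homOfLE (le_top : W ≤ ⊤)).op).hom π * t := by
    intro x
    obtain ⟨c, hc⟩ := hmem x
    obtain ⟨V, hxV, t, rfl⟩ := X.presheaf.exists_germ_eq c
    have h1 : (X.presheaf.germ ⊤ x trivial).hom b = (X.presheaf.germ V x hxV).hom
        ((X.presheaf.map (homOfLE (le_top : V ≤ ⊤)).op).hom π * t) := by
      rw [map_mul, hc]
      congr 1
      exact (X.presheaf.germ_res_apply (homOfLE (le_top : V ≤ ⊤)) x hxV π).symm
    obtain ⟨W, hxW, iU, iV, hW⟩ := X.presheaf.germ_eq x (show x ∈ (⊤ : X.Opens) from trivial) hxV b _ h1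
    refine ⟨W, hxW, (X.presheaf.map iV.op).hom t, ?_⟩
    have e1 : (X.presheaf.map (homOfLE (le_top : W ≤ ⊤)).op).hom b = (X.presheaf.map iU.op).hom b := by
      rw [Subsingleton.elim iU (homOfLE le_top)]
    rw [e1]
    refine hW.trans ?_
    rw [map_mul]
    congr 1
    rw [← CommRingCat.comp_apply, ← Functor.map_comp, ← op_comp]
    rfl
  choose W hxW t ht using hloc
  have hcompat : TopCat.Presheaf.IsCompatible X.sheaf.1 W t := by
    intro x y
    have hsub : (X.presheaf.map (Opens.infLELeft (W x) (W y)).op).hom (t x) -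
        (X.presheaf.map (Opens.infLERight (W x) (W y)).op).hom (t y) = 0 := by
      apply eq_zero_of_mul_eq_zero π hreg
      rw [mul_sub]
      have e1 : (X.presheaf.map (homOfLE (le_top : W x ⊓ W y ≤ ⊤)).op).hom π *
          (X.presheaf.map (Opens.infLELeft (W x) (W y)).op).hom (t x) =
          (X.presheaf.map (homOfLE (le_top : W x ⊓ W y ≤ ⊤)).op).hom b := by
        have := congrArg (X.presheaf.map (Opens.infLELeft (W x) (W y)).op).hom (ht x)
        rw [map_mul, ← CommRingCat.comp_apply, ← CommRingCat.comp_apply, ← Functor.map_comp,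
          ← op_comp] at this
        exact this.symm
      have e2 : (X.presheaf.map (homOfLE (le_top : W x ⊓ W y ≤ ⊤)).op).hom π *
          (X.presheaf.map (Opens.infLERight (W x) (W y)).op).hom (t y) =
          (X.presheaf.map (homOfLE (le_top : W x ⊓ W y ≤ ⊤)).op).hom b := by
        have := congrArg (X.presheaf.map (Opens.infLERight (W x) (W y)).op).hom (ht y)
        rw [map_mul, ← CommRingCat.comp_apply, ← CommRingCat.comp_apply, ← Functor.map_comp,
          ← op_comp] at this
        exact this.symm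
      rw [e1, e2, sub_self]
    exact sub_eq_zero.mp hsub
  have hcover : (⊤ : X.Opens) ≤ iSup W := by
    intro x _
    simp only [Opens.mem_iSup]
    exact ⟨x, hxW x⟩
  obtain ⟨b0, hb0, -⟩ := TopCat.Sheaf.existsUnique_gluing' X.sheaf W ⊤ (fun x => homOfLE le_top)
    hcover t hcompat
  obtain ⟨b'', hb''⟩ : ∃ b'' : Γ(X, ⊤), ∀ x,
      (X.presheaf.map (homOfLE (le_top : W x ≤ ⊤)).op).hom b'' = t x := ⟨b0, hb0⟩
  refine ⟨b'', ?_⟩
  apply TopCat.Sheaf.eq_of_locally_eq' X.sheaf W ⊤ (fun x => homOfLE le_top) hcover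
  intro x
  show (X.presheaf.map (homOfLE (le_top : W x ≤ ⊤)).op).hom b =
    (X.presheaf.map (homOfLE (le_top : W x ≤ ⊤)).op).hom (π * b'')
  rw [map_mul, ht x, hb'' x]

end Groth.Agent.Helper23.DvrDom
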