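import Mathlib
import Groth.Agent.Lib.Helper23.DvrDom1
import Groth.Agent.Lib.Helper16.Sch.FibStalk

/-!
# Fibrewise schematic dominance of `X ⟶ Spec Γ(X)` over a DVR (helper23)
-/

set_option autoImplicit false

universe u

open CategoryTheory AlgebraicGeometry TopologicalSpace Opposite Limits

namespace Groth.Agent.Helper23.DvrDom

/-- For a closed immersion `i`, `(K.map i).comap i = K` (here: `≥`). -/
theorem le_comap_map_of_isClosedImmersion {W T : Scheme.{u}} (i : W ⟶ T) [IsClosedImmersion i]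
    (K : W.IdealSheafData) : K ≤ (K.map i).comap i := by
  have h1 : (pullback.fst i (K.subschemeι ≫ i)).ker = (K.subschemeι ≫ i).ker.comap i :=
    Scheme.IdealSheafData.ker_fst_of_isClosedImmersion (K.subschemeι ≫ i) i
  have h2 : (K.subschemeι ≫ i).ker = K.map i := rfl
  rw [← h2, ← h1]
  let l : K.subscheme ⟶ pullback i (K.subschemeι ≫ i) :=
    pullback.lift K.subschemeι (𝟙 _) (by simp)
  have hl : l ≫ pullback.fst i (K.subschemeι ≫ i) = K.subschemeι := pullback.lift_fst _ _ _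
  haveI : IsIso l := by
    refine ⟨pullback.snd _ _, pullback.lift_snd _ _ _, ?_⟩
    apply pullback.hom_ext
    · rw [Category.assoc, hl, Category.id_comp, ← cancel_mono i, Category.assoc,
        ← pullback.condition]
    · rw [Category.assoc, pullback.lift_snd, Category.id_comp, Category.comp_id]
  rw [← Scheme.Hom.ker_comp_of_isIso l, hl, Scheme.IdealSheafData.ker_subschemeι]

theorem isPullback_map {X T S Z : Scheme.{u}} (f : X ⟶ S) (g : T ⟶ S) (c : X ⟶ T)
    (hc : c ≫ g = f) (r : Z ⟶ S) (h1 h2) :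
    IsPullback (pullback.fst f r) (pullback.map f r g r c (𝟙 _) (𝟙 _) h1 h2) c
      (pullback.fst g r) := by
  have hm1 : pullback.map f r g r c (𝟙 _) (𝟙 _) h1 h2 ≫ pullback.fst g r = pullback.fst f r ≫ c := by
    simp only [pullback.map, pullback.lift_fst]
  have hm2 : pullback.map f r g r c (𝟙 _) (𝟙 _) h1 h2 ≫ pullback.snd g r = pullback.snd f r := by
    simp only [pullback.map, pullback.lift_snd, Category.comp_id]
  refine (IsPullback.of_right ?_ hm1 (IsPullback.of_hasPullback g r).flip).flip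
  rw [hm2, hc]
  exact (IsPullback.of_hasPullback f r).flip

instance isSchemeTheoreticallyDominant_toSpecΓ (X : Scheme.{u}) :
    IsSchemeTheoreticallyDominant X.toSpecΓ := by
  constructor
  rw [Scheme.ker_of_isAffine]
  apply Scheme.IdealSheafData.ext_of_isAffine
  rw [Scheme.IdealSheafData.ofIdealTop_ideal]
  simp only [Scheme.IdealSheafData.ideal_bot, Pi.bot_apply]
  rw [Scheme.toSpecΓ_appTop]
  have : RingHom.ker (Scheme.ΓSpecIso Γ(X, ⊤)).hom.hom = ⊥ :=
    RingHom.ker_coe_equiv (Scheme.ΓSpecIso Γ(X, ⊤)).commRingCatIsoToRingEquiv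
  rw [this, Ideal.map_bot]

theorem ker_eq_bot_of_flat {X T S Z : Scheme.{u}} (f : X ⟶ S) (g : T ⟶ S) (c : X ⟶ T)
    (hc : c ≫ g = f) [IsSchemeTheoreticallyDominant c] [QuasiCompact c]
    (r : Z ⟶ S) [Flat r] (h1 h2) :
    (pullback.map f r g r c (𝟙 _) (𝟙 _) h1 h2).ker = ⊥ := by
  haveI : IsSchemeTheoreticallyDominant (pullback.map f r g r c (𝟙 _) (𝟙 _) h1 h2) :=
    IsSchemeTheoreticallyDominant.of_isPullback (isPullback_map f g c hc r h1 h2)
  exact Scheme.Hom.ker_eq_bot _


theorem ker_eq_bot_of_closed {X T S Z : Scheme.{u}} [IsAffine T] (f : X ⟶ S) (g : T ⟶ S)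
    (c : X ⟶ T) (hc : c ≫ g = f) [QuasiCompact c] (hbij : Function.Bijective c.appTop.hom)
    (r : Z ⟶ S) [IsClosedImmersion r] (ϖ : Γ(S, ⊤)) (hϖ : r.appTop.hom ϖ = 0)
    (H : ∀ b' : Γ(X, ⊤), (pullback.fst f r).appTop.hom b' = 0 →
      ∃ b'' : Γ(X, ⊤), b' = f.appTop.hom ϖ * b'')
    (h1 h2) : (pullback.map f r g r c (𝟙 _) (𝟙 _) h1 h2).ker = ⊥ := by
  obtain ⟨M, hM⟩ : ∃ M, M = pullback.map f r g r c (𝟙 _) (𝟙 _) h1 h2 := ⟨_, rfl⟩
  rw [← hM]
  obtain ⟨p', hp'⟩ : ∃ p', p' = pullback.fst g r := ⟨_, rfl⟩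
  haveI : IsClosedImmersion p' := by rw [hp']; infer_instance
  have hMp : M ≫ p' = pullback.fst f r ≫ c := by
    rw [hM, hp']; simp only [pullback.map, pullback.lift_fst]
  have hC2 : (pullback.fst f r ≫ c).ker ≤ p'.ker := by
    apply Scheme.IdealSheafData.le_of_isAffine
    rw [Scheme.Hom.ker_apply, Scheme.Hom.ker_apply]
    intro b hb
    rw [RingHom.mem_ker] at hb ⊢
    have hb' : (pullback.fst f r).appTop.hom (c.appTop.hom b) = 0 := by
      have := Scheme.Hom.comp_appTop (pullback.fst f r) c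
      have h6 := congrArg (fun k => k.hom b) this
      exact h6.symm.trans hb
    obtain ⟨b'', hb''⟩ := H _ hb'
    obtain ⟨b₂, rfl⟩ := hbij.2 b''
    have h3 : f.appTop.hom ϖ = c.appTop.hom (g.appTop.hom ϖ) := by
      have := Scheme.Hom.comp_appTop c g
      rw [hc] at this
      exact congrArg (fun k => k.hom ϖ) this
    rw [h3, ← map_mul] at hb''
    have h4 : b = g.appTop.hom ϖ * b₂ := hbij.1 hb''
    have h5 : p'.appTop.hom (g.appTop.hom ϖ) = 0 := by
      have e1 : p' ≫ g = pullback.snd g r ≫ r := by rw [hp']; exact pullback.condition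
      have e2 := Scheme.Hom.comp_appTop p' g
      have e3 := Scheme.Hom.comp_appTop (pullback.snd g r) r
      rw [e1] at e2
      have e4 := congrArg (fun k => k.hom ϖ) (e2.symm.trans e3)
      refine e4.trans ?_
      show (pullback.snd g r).appTop.hom (r.appTop.hom ϖ) = 0
      rw [hϖ, map_zero]
    show p'.appTop.hom b = 0
    rw [h4, map_mul, h5, zero_mul]
  apply le_antisymm _ bot_le
  have e1 : M.ker ≤ (M.ker.map p').comap p' := le_comap_map_of_isClosedImmersion p' _
  have e2 : M.ker.map p' = (pullback.fst f r ≫ c).ker := by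
    rw [← Scheme.Hom.ker_comp, hMp]
  rw [e2] at e1
  have e3 : (pullback.fst f r ≫ c).ker.comap p' ≤ p'.ker.comap p' :=
    Scheme.IdealSheafData.comap_mono p' hC2
  have e4 : p'.ker.comap p' ≤ ⊥ := by
    rw [← Scheme.IdealSheafData.map_bot p']
    exact Scheme.IdealSheafData.comap_map_le _ _
  exact e1.trans (e3.trans e4)

end Groth.Agent.Helper23.DvrDom
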