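import Mathlib
import Groth.Agent.Lib.Helper23.DvrDom2

/-!
# Fibrewise schematic dominance of `X ⟶ Spec Γ(X)` over a DVR: the closed fibre (helper23)
-/

set_option autoImplicit false

universe u

open CategoryTheory AlgebraicGeometry TopologicalSpace Opposite Limits

namespace Groth.Agent.Helper23.DvrDom

section

variable (A : Type u) [CommRing A]

theorem maximalIdeal_stalk_eq_span (y : Spec (CommRingCat.of A)) (ϖ : A)
    (hy : y.asIdeal = Ideal.span {ϖ}) :
    IsLocalRing.maximalIdeal ((Spec (CommRingCat.of A)).presheaf.stalk y) =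
      Ideal.span {((Spec (CommRingCat.of A)).presheaf.germ ⊤ y trivial).hom
        ((Scheme.ΓSpecIso (CommRingCat.of A)).inv.hom ϖ)} := by
  letI k : Algebra A ((Spec (CommRingCat.of A)).presheaf.stalk y) :=
    StructureSheaf.stalkAlgebra A y
  haveI : IsLocalization.AtPrime ((Spec (CommRingCat.of A)).presheaf.stalk y) y.asIdeal :=
    StructureSheaf.IsLocalization.to_stalk A y
  have h := IsLocalization.AtPrime.map_eq_maximalIdeal y.asIdeal
    ((Spec (CommRingCat.of A)).presheaf.stalk y)
  rw [← h, hy, Ideal.map_span, Set.image_singleton]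
  rfl


variable [IsDomain A]

theorem exists_dvd_of_fiber_eq_zero
    (X : Scheme.{u}) (f : X ⟶ Spec (CommRingCat.of A)) [Flat f] (s : Spec (CommRingCat.of A))
    (ϖ : A) (hϖ0 : ϖ ≠ 0) (hϖ : s.asIdeal = Ideal.span {ϖ}) (hmax : s.asIdeal.IsMaximal)
    (b' : Γ(X, ⊤))
    (hb' : (pullback.fst f ((Spec (CommRingCat.of A)).fromSpecResidueField s)).appTop.hom b' = 0) :
    ∃ b'' : Γ(X, ⊤),
      b' = f.appTop.hom ((Scheme.ΓSpecIso (CommRingCat.of A)).inv.hom ϖ) * b'' := by
  obtain ⟨ϖ', hϖ'⟩ : ∃ ϖ' : Γ(Spec (CommRingCat.of A), ⊤),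
      ϖ' = (Scheme.ΓSpecIso (CommRingCat.of A)).inv.hom ϖ := ⟨_, rfl⟩
  rw [← hϖ']
  have hϖ'0 : ϖ' ≠ 0 := by
    rw [hϖ']
    intro h
    apply hϖ0
    have hinj : Function.Injective (Scheme.ΓSpecIso (CommRingCat.of A)).inv.hom :=
      (ConcreteCategory.bijective_of_isIso (Scheme.ΓSpecIso (CommRingCat.of A)).inv).1
    exact hinj (h.trans (map_zero _).symm)
  have hgerm : ∀ x : X, (X.presheaf.germ ⊤ x trivial).hom (f.appTop.hom ϖ') =
      (f.stalkMap x).hom
        (((Spec (CommRingCat.of A)).presheaf.germ ⊤ (f x) trivial).hom ϖ') := by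
    intro x
    exact (Scheme.Hom.germ_stalkMap_apply f ⊤ x trivial ϖ').symm
  apply exists_eq_mul_of_germ_mem
  · -- regularity
    intro x c hc
    rw [hgerm] at hc
    have h1 : ((Spec (CommRingCat.of A)).presheaf.germ ⊤ (f x) trivial).hom ϖ' ≠ 0 := by
      intro h
      apply hϖ'0
      exact germ_injective_of_isIntegral (Spec (CommRingCat.of A)) (f x)
        (show f x ∈ (⊤ : (Spec (CommRingCat.of A)).Opens) from trivial)
        (h.trans (map_zero _).symm)
    have h2 := mem_nonZeroDivisors_of_ne_zero h1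
    have hflat : (f.stalkMap x).hom.Flat := Flat.stalkMap f x
    algebraize [(f.stalkMap x).hom]
    have h3 : IsSMulRegular (X.presheaf.stalk x)
        (((Spec (CommRingCat.of A)).presheaf.germ ⊤ (f x) trivial).hom ϖ') :=
      Module.Flat.isSMulRegular_of_nonZeroDivisors h2
    apply h3
    show _ • c = _ • (0 : X.presheaf.stalk x)
    rw [smul_zero, Algebra.smul_def]
    exact hc
  · -- membership
    intro x
    by_cases hx : f x = s
    · have hxr : x ∈ Set.range (f.fiberι s) := by
        rw [Scheme.Hom.range_fiberι]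
        exact hx
      obtain ⟨x', rfl⟩ := hxr
      have h2 : ((f.fiberι s).stalkMap x').hom
          ((X.presheaf.germ ⊤ (f.fiberι s x') trivial).hom b') = 0 := by
        have h4 := Scheme.Hom.germ_stalkMap_apply (f.fiberι s) ⊤ x' trivial b'
        refine h4.trans ?_
        have h5 : ((f.fiberι s).app ⊤).hom b' = 0 := hb'
        rw [h5, map_zero]
      have h3 : (X.presheaf.germ ⊤ (f.fiberι s x') trivial).hom b' ∈
          RingHom.ker ((f.fiberι s).stalkMap x').hom := h2
      rw [Groth.Agent.Helper16.FibStalk.ker_stalkMap_fiberι,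
        Groth.Agent.Helper16.FibStalk.fibIdeal,
        maximalIdeal_stalk_eq_span A (f (f.fiberι s x')) ϖ (by rw [hx]; exact hϖ), ← hϖ',
        Ideal.map_span, Set.image_singleton, ← hgerm, Ideal.mem_span_singleton'] at h3
      obtain ⟨c, hc⟩ := h3
      exact ⟨c, by rw [← hc, mul_comm]⟩
    · have h1 : ϖ ∉ (f x).asIdeal := by
        intro hmem
        apply hx
        have hle : s.asIdeal ≤ (f x).asIdeal := by
          rw [hϖ, Ideal.span_singleton_le_iff_mem]
          exact hmem
        have := hmax.eq_of_le (f x).2.ne_top hle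
        exact (PrimeSpectrum.ext this).symm
      have h2 : f x ∈ (Spec (CommRingCat.of A)).basicOpen ϖ' := by
        rw [hϖ', basicOpen_eq_of_affine]
        exact h1
      rw [Scheme.mem_basicOpen_top] at h2
      have h3 : IsUnit ((X.presheaf.germ ⊤ x trivial).hom (f.appTop.hom ϖ')) := by
        rw [hgerm]
        exact h2.map _
      obtain ⟨v, hv⟩ := h3
      refine ⟨↑v⁻¹ * (X.presheaf.germ ⊤ x trivial).hom b', ?_⟩
      rw [← hv, ← mul_assoc, Units.mul_inv, one_mul]


theorem flat_fromSpecResidueField_of_eq_bot (s : Spec (CommRingCat.of A)) (hs : s.asIdeal = ⊥) :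
    Flat ((Spec (CommRingCat.of A)).fromSpecResidueField s) := by
  rw [← Scheme.Spec.map_residueFieldIso_inv_eq_fromSpecResidueField]
  haveI : Flat (Spec.map (CommRingCat.ofHom (algebraMap A s.asIdeal.ResidueField))) := by
    rw [Flat.SpecMap_iff]
    show (algebraMap A s.asIdeal.ResidueField).Flat
    rw [RingHom.flat_algebraMap_iff]
    obtain ⟨p, hp⟩ := s
    simp only at hs
    subst hs
    exact IsLocalization.flat _ (nonZeroDivisors A)
  infer_instance

theorem isClosedImmersion_fromSpecResidueField_of_isMaximal (s : Spec (CommRingCat.of A))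
    (hs : s.asIdeal.IsMaximal) :
    IsClosedImmersion ((Spec (CommRingCat.of A)).fromSpecResidueField s) := by
  rw [← Scheme.Spec.map_residueFieldIso_inv_eq_fromSpecResidueField]
  haveI : IsClosedImmersion (Spec.map (CommRingCat.ofHom (algebraMap A s.asIdeal.ResidueField))) :=
    IsClosedImmersion.spec_of_surjective _ (Ideal.algebraMap_residueField_surjective s.asIdeal)
  infer_instance

theorem fromSpecResidueField_appTop_eq_zero (s : Spec (CommRingCat.of A)) (ϖ : A)
    (hϖ : ϖ ∈ s.asIdeal) :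
    ((Spec (CommRingCat.of A)).fromSpecResidueField s).appTop.hom
      ((Scheme.ΓSpecIso (CommRingCat.of A)).inv.hom ϖ) = 0 := by
  rw [← Scheme.Spec.map_residueFieldIso_inv_eq_fromSpecResidueField, Scheme.Hom.comp_appTop]
  have h1 := Scheme.ΓSpecIso_inv_naturality
    (CommRingCat.ofHom (algebraMap A s.asIdeal.ResidueField))
  have h2 := congrArg (fun k => k.hom ϖ) h1
  simp only [CommRingCat.hom_comp, RingHom.comp_apply, CommRingCat.hom_ofHom] at h2
  rw [CommRingCat.hom_comp, RingHom.comp_apply]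
  erw [← h2]
  rw [Ideal.algebraMap_residueField_eq_zero.mpr hϖ, map_zero, map_zero]

theorem ker_eq_bot [IsDiscreteValuationRing A]
    (X : Scheme.{u}) (f : X ⟶ Spec (CommRingCat.of A)) [Flat f] [QuasiCompact f]
    (g : Spec Γ(X, ⊤) ⟶ Spec (CommRingCat.of A)) (hg : X.toSpecΓ ≫ g = f)
    (s : ↥(Spec (CommRingCat.of A))) (h1 h2) :
    (pullback.map f ((Spec (CommRingCat.of A)).fromSpecResidueField s) g
        ((Spec (CommRingCat.of A)).fromSpecResidueField s) X.toSpecΓ (𝟙 _) (𝟙 _) h1 h2).ker = ⊥ := by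
  haveI : CompactSpace X := QuasiCompact.compactSpace_of_compactSpace f
  by_cases hs : s.asIdeal = ⊥
  · haveI := flat_fromSpecResidueField_of_eq_bot A s hs
    exact ker_eq_bot_of_flat f g X.toSpecΓ hg _ h1 h2
  · have hmax : s.asIdeal.IsMaximal := Ideal.IsPrime.isMaximal s.2 hs
    obtain ⟨ϖ, hϖ⟩ := (IsPrincipalIdealRing.principal s.asIdeal).principal
    have hϖ' : s.asIdeal = Ideal.span {ϖ} := hϖ
    have hϖ0 : ϖ ≠ 0 := by
      rintro rfl
      apply hs
      rw [hϖ']
      simp
    haveI := isClosedImmersion_fromSpecResidueField_of_isMaximal A s hmax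
    have hbij : Function.Bijective X.toSpecΓ.appTop.hom := by
      rw [Scheme.toSpecΓ_appTop]
      exact ConcreteCategory.bijective_of_isIso (Scheme.ΓSpecIso Γ(X, ⊤)).hom
    refine ker_eq_bot_of_closed f g X.toSpecΓ hg hbij _
      ((Scheme.ΓSpecIso (CommRingCat.of A)).inv.hom ϖ)
      (fromSpecResidueField_appTop_eq_zero A s ϖ (by rw [hϖ']; exact Ideal.mem_span_singleton_self ϖ))
      (fun b' hb' => exists_dvd_of_fiber_eq_zero A X f s ϖ hϖ0 hϖ' hmax b' hb') h1 h2

end

end Groth.Agent.Helper23.DvrDom
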