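import Mathlib
import Groth.Agent.Lib.Helper28.DVRFibre
import Groth.Prelude.Def_Neron

set_option autoImplicit false
universe u
open CategoryTheory CategoryTheory.Limits AlgebraicGeometry TopologicalSpace Opposite

namespace Groth.Agent.Helper23.DvrProperIso

/-- core algebra: an integral ring map which is an isomorphism after inverting a nonzerodivisor
`t` generating a radical ideal is bijective -/
theorem bijective_of_integral_of_radical {A B : Type*} [CommRing A] [CommRing B] (φ : A →+* B)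
    (t : A) (ht : t ∈ nonZeroDivisors A) (ht' : φ t ∈ nonZeroDivisors B)
    (hrad : (Ideal.span {t}).IsRadical) (hint : φ.IsIntegral)
    (hker : ∀ a, φ a = 0 → ∃ n : ℕ, t ^ n * a = 0)
    (hsurj : ∀ b, ∃ (n : ℕ) (a : A), φ a = φ t ^ n * b) : Function.Bijective φ := by
  have hinj : Function.Injective φ := by
    rw [injective_iff_map_eq_zero]
    intro a ha
    obtain ⟨n, hn⟩ := hker a ha
    exact (mul_left_mem_nonZeroDivisors_eq_zero_iff (pow_mem ht n)).mp hn
  refine ⟨hinj, ?_⟩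
  have key : ∀ n : ℕ, ∀ (b : B) (a : A), φ a = φ t ^ n * b → ∃ a', φ a' = b := by
    intro n
    induction n with
    | zero => intro b a h; exact ⟨a, by simpa using h⟩
    | succ n ih =>
      intro b a h
      obtain ⟨p, hp, hpz⟩ := hint (φ t ^ n * b)
      have hz : φ t * (φ t ^ n * b) = φ a := by rw [h, pow_succ]; ring
      have hdvd := Polynomial.dvd_pow_natDegree_of_eval₂_eq_zero hinj hp t a _ hpz hz
      have hmem : a ∈ Ideal.span {t} := hrad ⟨_, Ideal.mem_span_singleton.mpr hdvd⟩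
      obtain ⟨a'', rfl⟩ := Ideal.mem_span_singleton.mp hmem
      rw [map_mul] at hz
      have h2 := (mul_cancel_left_mem_nonZeroDivisors ht').mp hz
      exact ih b a'' h2.symm
  intro b
  obtain ⟨n, a, h⟩ := hsurj b
  exact key n b a h

section Sch

variable {R : Type u} [CommRing R]

/-- restriction maps of the structure sheaf -/
noncomputable abbrev res {X : Scheme.{u}} {A B : X.Opens} (h : A ≤ B) : Γ(X, B) →+* Γ(X, A) :=
  (X.presheaf.map (homOfLE h).op).hom

theorem res_res {X : Scheme.{u}} {A B C : X.Opens} (h₁ : A ≤ B) (h₂ : B ≤ C) (s : Γ(X, C)) :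
    res h₁ (res h₂ s) = res (h₁.trans h₂) s := by
  unfold res
  rw [← RingHom.comp_apply, ← CommRingCat.hom_comp, ← Functor.map_comp]
  rfl

/-- sections are determined by their restrictions to the affine opens -/
theorem eq_of_res_affine {X : Scheme.{u}} {W : X.Opens} (s s' : Γ(X, W))
    (h : ∀ (V : X.affineOpens) (hV : V.1 ≤ W), res hV s = res hV s') : s = s' := by
  let ι := {V : X.affineOpens // V.1 ≤ W}
  have hcover : W ≤ ⨆ i : ι, i.1.1 := by
    intro x hx
    obtain ⟨V, hV, hxV, hVW⟩ := exists_isAffineOpen_mem_and_subset hx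
    exact Opens.mem_iSup.2 ⟨⟨⟨V, hV⟩, hVW⟩, hxV⟩
  exact TopCat.Sheaf.eq_of_locally_eq' X.sheaf (fun i : ι => i.1.1) W (fun i => homOfLE i.2)
    hcover s s' (fun i => h i.1 i.2)

/-- the pulled back uniformizer on an open -/
noncomputable def unif {Z : Scheme.{u}} (f : Z ⟶ Spec (CommRingCat.of R)) (ϖ : R)
    (W : Z.Opens) : Γ(Z, W) :=
  (f.appLE ⊤ W (show W ≤ f ⁻¹ᵁ ⊤ from le_top)).hom
    ((Scheme.ΓSpecIso (CommRingCat.of R)).inv.hom ϖ)

theorem res_unif {Z : Scheme.{u}} (f : Z ⟶ Spec (CommRingCat.of R)) (ϖ : R)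
    {W W' : Z.Opens} (h : W' ≤ W) : res h (unif f ϖ W) = unif f ϖ W' := by
  unfold unif res
  rw [← RingHom.comp_apply, ← CommRingCat.hom_comp, Scheme.Hom.appLE_map]

theorem app_unif {X Y : Scheme.{u}} (fX : X ⟶ Spec (CommRingCat.of R)) (π : Y ⟶ X) (ϖ : R)
    (V : X.Opens) : (π.app V).hom (unif fX ϖ V) = unif (π ≫ fX) ϖ (π ⁻¹ᵁ V) := by
  unfold unif
  rw [← RingHom.comp_apply, ← CommRingCat.hom_comp, ← Scheme.Hom.appLE_eq_app,
    Scheme.Hom.appLE_comp_appLE]

theorem basicOpen_unif {Z : Scheme.{u}} (f : Z ⟶ Spec (CommRingCat.of R)) (ϖ : R)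
    (W : Z.Opens) : Z.basicOpen (unif f ϖ W) = W ⊓ f ⁻¹ᵁ ((Spec (CommRingCat.of R)).basicOpen
      ((Scheme.ΓSpecIso (CommRingCat.of R)).inv.hom ϖ)) :=
  Scheme.basicOpen_appLE f W ⊤ _ _

end Sch

section DVR

open Groth.Agent.Helper28 Groth.Agent.Helper28.DVRFibre

variable {R : Type u} [CommRing R] [IsDomain R] [IsDiscreteValuationRing R]

theorem unif_mem_nonZeroDivisors_of_isAffineOpen {Z : Scheme.{u}}
    (f : Z ⟶ Spec (CommRingCat.of R)) [Flat f] (ϖ : R) (hϖ : Irreducible ϖ) (W : Z.Opens)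
    (hW : IsAffineOpen W) : unif f ϖ W ∈ nonZeroDivisors Γ(Z, W) :=
  EffCartierOld.map_mem_nonZeroDivisors_of_flat _
    (HasRingHomProperty.appLE (P := @Flat) f inferInstance ⟨⊤, isAffineOpen_top _⟩ ⟨W, hW⟩ _) _
    (uniformizer_mem_nonZeroDivisors ϖ hϖ)

theorem unif_mem_nonZeroDivisors {Z : Scheme.{u}}
    (f : Z ⟶ Spec (CommRingCat.of R)) [Flat f] (ϖ : R) (hϖ : Irreducible ϖ) (W : Z.Opens) :
    unif f ϖ W ∈ nonZeroDivisors Γ(Z, W) := by
  rw [mem_nonZeroDivisors_iff_right]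
  intro c hc
  apply eq_of_res_affine
  intro W' hW'
  rw [map_zero]
  have h1 : res hW' c * unif f ϖ W'.1 = 0 := by
    rw [← res_unif f ϖ hW', ← map_mul, hc, map_zero]
  exact (mem_nonZeroDivisors_iff_right.mp
    (unif_mem_nonZeroDivisors_of_isAffineOpen f ϖ hϖ W'.1 W'.2)) _ h1

theorem app_nat {X Y : Scheme.{u}} (π : Y ⟶ X) {D V : X.Opens} (h : D ≤ V)
    (h' : π ⁻¹ᵁ D ≤ π ⁻¹ᵁ V) (a : Γ(X, V)) :
    (π.app D).hom (res h a) = res h' ((π.app V).hom a) := by
  have := π.naturality (homOfLE h).op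
  exact congr($(this).hom a)

theorem isIntegral_app_of_isAffineOpen {X Y : Scheme.{u}} (π : Y ⟶ X) [UniversallyClosed π]
    (V : X.Opens) (hV : IsAffineOpen V) : (π.app V).hom.IsIntegral := by
  haveI : IsAffine ↑V := hV
  have h1 : ((π.resLE V (π ⁻¹ᵁ V) le_rfl).appTop).hom.IsIntegral := by
    rw [Scheme.Hom.resLE_eq_morphismRestrict]
    exact isIntegral_appTop_of_universallyClosed _
  have h2 := (RingHom.RespectsIso.arrow_mk_iso_iff RingHom.isIntegral_respectsIso
    (arrowResLEAppIso π V (π ⁻¹ᵁ V) le_rfl)).mp h1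
  rwa [Scheme.Hom.appLE_eq_app] at h2

theorem app_isIso_of_isAffineOpen {X Y : Scheme.{u}} (fX : X ⟶ Spec (CommRingCat.of R))
    (π : Y ⟶ X) [Flat fX] [Flat (π ≫ fX)] [IsProper π] (ϖ : R) (hϖ : Irreducible ϖ)
    (hgen : ∀ W : X.Opens, W ≤ fX ⁻¹ᵁ ((Spec (CommRingCat.of R)).basicOpen
      ((Scheme.ΓSpecIso (CommRingCat.of R)).inv.hom ϖ)) → IsIso (π.app W))
    (hred : AlgebraicGeometry.IsReduced (fX.fiber (IsLocalRing.closedPoint R)))
    (V : X.Opens) (hV : IsAffineOpen V) : IsIso (π.app V) := by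
  rw [ConcreteCategory.isIso_iff_bijective]
  set t := unif fX ϖ V with ht_def
  have hmax : (IsLocalRing.closedPoint R).asIdeal = Ideal.span {ϖ} := hϖ.maximalIdeal_eq
  haveI : (IsLocalRing.closedPoint R).asIdeal.IsMaximal := IsLocalRing.maximalIdeal.isMaximal R
  have ht : t ∈ nonZeroDivisors Γ(X, V) := unif_mem_nonZeroDivisors_of_isAffineOpen fX ϖ hϖ V hV
  have ht' : (π.app V).hom t ∈ nonZeroDivisors Γ(Y, π ⁻¹ᵁ V) := by
    rw [ht_def, app_unif]
    exact unif_mem_nonZeroDivisors (π ≫ fX) ϖ hϖ _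
  have hrad : (Ideal.span {t}).IsRadical :=
    isRadical_of_isReduced_fiber fX (IsLocalRing.closedPoint R) ϖ hmax hred V hV _
  have hint := isIntegral_app_of_isAffineOpen π V hV
  have hDV : X.basicOpen t ≤ V := X.basicOpen_le t
  have hD : X.basicOpen t ≤ fX ⁻¹ᵁ ((Spec (CommRingCat.of R)).basicOpen
      ((Scheme.ΓSpecIso (CommRingCat.of R)).inv.hom ϖ)) := by
    rw [ht_def, basicOpen_unif]
    exact inf_le_right
  haveI := hgen _ hD
  have hpre : π ⁻¹ᵁ X.basicOpen t ≤ π ⁻¹ᵁ V := fun y hy => hDV hy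
  have hbo : Y.basicOpen ((π.app V).hom t) = π ⁻¹ᵁ X.basicOpen t :=
    (Scheme.preimage_basicOpen π t).symm
  have hcpt : IsCompact (π ⁻¹ᵁ V : Set Y) :=
    QuasiCompact.isCompact_preimage (f := π) V.1 V.2 hV.isCompact
  refine bijective_of_integral_of_radical (π.app V).hom t ht ht' hrad hint ?_ ?_
  · intro a ha
    apply exists_pow_mul_eq_zero_of_res_basicOpen_eq_zero_of_isCompact X hV.isCompact a t
    have h1 : (π.app (X.basicOpen t)).hom (res hDV a) = 0 := by
      rw [app_nat π hDV hpre, ha, map_zero]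
    have hinj := (ConcreteCategory.bijective_of_isIso (π.app (X.basicOpen t))).1
    exact hinj (h1.trans (map_zero _).symm)
  · intro b
    obtain ⟨a', ha'⟩ := (ConcreteCategory.bijective_of_isIso (π.app (X.basicOpen t))).2
      (res hpre b)
    haveI := hV.isLocalization_basicOpen t
    obtain ⟨⟨a, ⟨_, n, rfl⟩⟩, hn⟩ := IsLocalization.surj (Submonoid.powers t) a'
    refine ⟨n, a, ?_⟩
    have hn' : a' * res hDV (t ^ n) = res hDV a := hn
    have hres : res hpre ((π.app V).hom a - (π.app V).hom t ^ n * b) = 0 := by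
      rw [map_sub, map_mul, map_pow, ← app_nat π hDV hpre, ← app_nat π hDV hpre, ← hn', map_mul,
        map_pow, map_pow]
      have ha'' : (π.app (X.basicOpen t)).hom a' = res hpre b := ha'
      rw [ha'']
      ring
    have hc : ((π.app V).hom a - (π.app V).hom t ^ n * b) |_ Y.basicOpen ((π.app V).hom t) = 0 := by
      have hle : Y.basicOpen ((π.app V).hom t) ≤ π ⁻¹ᵁ X.basicOpen t := hbo.le
      have : ((π.app V).hom a - (π.app V).hom t ^ n * b) |_ Y.basicOpen ((π.app V).hom t) =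
          res hle (res hpre ((π.app V).hom a - (π.app V).hom t ^ n * b)) := by
        rw [res_res]
        rfl
      rw [this, hres, map_zero]
    obtain ⟨m, hm⟩ := exists_pow_mul_eq_zero_of_res_basicOpen_eq_zero_of_isCompact Y hcpt
      ((π.app V).hom a - (π.app V).hom t ^ n * b) ((π.app V).hom t) hc
    have := (mul_left_mem_nonZeroDivisors_eq_zero_iff (pow_mem ht' m)).mp hm
    exact sub_eq_zero.mp this

theorem isOpenImmersion_genPt (R : Type u) [CommRing R] [IsDomain R]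
    [IsDiscreteValuationRing R] : IsOpenImmersion (Neron.genPt R) := by
  obtain ⟨ϖ, hϖ⟩ := IsDiscreteValuationRing.exists_irreducible R
  haveI : IsLocalization.Away ϖ (FractionRing R) := by
    refine (IsLocalization.iff_of_le_of_exists_dvd (Submonoid.powers ϖ) (nonZeroDivisors R)
      ?_ ?_).2 inferInstance
    · rintro _ ⟨n, rfl⟩
      exact pow_mem (mem_nonZeroDivisors_of_ne_zero hϖ.ne_zero) n
    · intro r hr
      have hr0 : r ≠ 0 := nonZeroDivisors.ne_zero hr
      obtain ⟨n, u, rfl⟩ := IsDiscreteValuationRing.eq_unit_mul_pow_irreducible hr0 hϖ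
      exact ⟨ϖ ^ n, ⟨n, rfl⟩, Dvd.intro_left (↑u⁻¹) (by rw [← mul_assoc, Units.inv_mul, one_mul])⟩
  exact IsOpenImmersion.of_isLocalization ϖ

theorem mem_range_fst_genPt (Z : Over (Spec (CommRingCat.of R))) (ϖ : R) (hϖ : Irreducible ϖ)
    (x : Z.left) (hx : x ∈ Z.hom ⁻¹ᵁ ((Spec (CommRingCat.of R)).basicOpen
      ((Scheme.ΓSpecIso (CommRingCat.of R)).inv.hom ϖ))) :
    x ∈ Set.range (pullback.fst Z.hom (Neron.genPt R)) := by
  rw [Scheme.Pullback.range_fst]
  have h0 : (Z.hom x : PrimeSpectrum R).asIdeal = ⊥ :=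
    (mem_preimage_basicOpen_iff Z.hom ϖ hϖ x).mp hx
  refine ⟨(⟨⊥, Ideal.isPrime_bot⟩ : PrimeSpectrum (FractionRing R)), ?_⟩
  apply PrimeSpectrum.ext
  rw [h0]
  show Ideal.comap (algebraMap R (FractionRing R)) ⊥ = ⊥
  rw [← RingHom.ker_eq_comap_bot, RingHom.ker_eq_bot_iff_eq_zero]
  intro r hr
  exact (IsFractionRing.injective R (FractionRing R)) (hr.trans (map_zero _).symm)

theorem isIso_app_of_le_generic (X Y : Over (Spec (CommRingCat.of R))) (π : Y ⟶ X)
    (hgen : IsIso ((Neron.genericFibre R).map π)) (ϖ : R) (hϖ : Irreducible ϖ)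
    (W : X.left.Opens) (hW : W ≤ X.hom ⁻¹ᵁ ((Spec (CommRingCat.of R)).basicOpen
      ((Scheme.ΓSpecIso (CommRingCat.of R)).inv.hom ϖ))) : IsIso (π.left.app W) := by
  haveI : IsOpenImmersion (Neron.genPt R) := isOpenImmersion_genPt R
  let j := pullback.fst X.hom (Neron.genPt R)
  let j' := pullback.fst Y.hom (Neron.genPt R)
  let πK := ((Neron.genericFibre R).map π).left
  haveI : IsIso πK :=
    inferInstanceAs (IsIso ((Over.forget _).map ((Neron.genericFibre R).map π)))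
  have e : j' ≫ π.left = πK ≫ j := (pullback.lift_fst _ _ _).symm
  haveI : IsOpenImmersion (j' ≫ π.left) := by rw [e]; infer_instance
  have h1 : W ≤ (j' ≫ π.left).opensRange := by
    intro x hx
    obtain ⟨z, hz⟩ := mem_range_fst_genPt X ϖ hϖ x (hW hx)
    refine ⟨(inv πK) z, ?_⟩
    rw [e, ← Scheme.Hom.comp_apply, IsIso.inv_hom_id_assoc]
    exact hz
  have h2 : π.left ⁻¹ᵁ W ≤ j'.opensRange := by
    intro y hy
    apply mem_range_fst_genPt Y ϖ hϖ y
    have h3 : π.left y ∈ X.hom ⁻¹ᵁ ((Spec (CommRingCat.of R)).basicOpen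
      ((Scheme.ΓSpecIso (CommRingCat.of R)).inv.hom ϖ)) := hW hy
    have h4 : Y.hom = π.left ≫ X.hom := (Over.w π).symm
    rw [h4]
    exact h3
  haveI i1 := (j' ≫ π.left).isIso_app W h1
  haveI i2 := j'.isIso_app (π.left ⁻¹ᵁ W) h2
  rw [Scheme.Hom.comp_app] at i1
  exact @IsIso.of_isIso_comp_right _ _ _ _ _ (π.left.app W) (j'.app _) i2 i1

theorem main (X Y : Over (Spec (CommRingCat.of R))) [Flat X.hom] [Flat Y.hom]
    (π : Y ⟶ X) [IsProper π.left]
    (hgen : IsIso ((Neron.genericFibre R).map π))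
    (hred : AlgebraicGeometry.IsReduced (X.hom.fiber (IsLocalRing.closedPoint R))) :
    ∀ V : X.left.Opens, IsIso (π.left.app V) := by
  obtain ⟨ϖ, hϖ⟩ := IsDiscreteValuationRing.exists_irreducible R
  haveI : Flat (π.left ≫ X.hom) := by rw [Over.w π]; infer_instance
  have haff : ∀ V : X.left.affineOpens, IsIso (π.left.app V.1) := fun V =>
    app_isIso_of_isAffineOpen X.hom π.left ϖ hϖ
      (fun W hW => isIso_app_of_le_generic X Y π hgen ϖ hϖ W hW) hred V.1 V.2
  let G : TopCat.Sheaf CommRingCat X.left.toTopCat :=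
    ⟨π.left.base _* Y.left.presheaf, TopCat.Sheaf.pushforward_sheaf_of_sheaf _ Y.left.sheaf.2⟩
  let φ : X.left.sheaf ⟶ G := ⟨π.left.c⟩
  have hbasis : Opens.IsBasis (Set.range (fun V : X.left.affineOpens => (V.1 : Opens X.left))) := by
    rw [Subtype.range_coe_subtype]
    exact X.left.isBasis_affineOpens
  have hφ : IsIso φ := TopCat.Sheaf.isIso_iff_isIso_basis hbasis (fun V => haff V)
  obtain ⟨ψ, h1, h2⟩ := hφ.out
  intro V
  refine ⟨⟨ψ.hom.app (op V), ?_, ?_⟩⟩
  · exact congrArg (fun α : X.left.sheaf ⟶ X.left.sheaf => α.hom.app (op V)) h1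
  · exact congrArg (fun α : G ⟶ G => α.hom.app (op V)) h2

end DVR

end Groth.Agent.Helper23.DvrProperIso
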