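import Mathlib
import Groth.Prelude.Def_Lef
import Groth.Agent.Lib.Helper23.LefConn1

/-!
# Helper23: Lefschetz condition ⇒ connectedness comparison
-/

set_option autoImplicit false
universe u
open CategoryTheory CategoryTheory.Limits AlgebraicGeometry Opposite TopologicalSpace

namespace Groth.Agent.Helper23.LefConn

open Groth.Agent.Helper13.LocFree

variable {Z : Scheme.{u}}

lemma unitToPush_app {X Y : Scheme.{u}} (f : X ⟶ Y) (W : Y.Opens) (s : Γ(Y, W)) :
    (ClSub.unitToPush f).app W (toO W s) = toO (f ⁻¹ᵁ W) (f.app W s) := rfl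

lemma structureModule_map {A B : Z.Opens} (i : A ⟶ B) (s : Γ(Z, B)) :
    (Coh.structureModule Z).presheaf.map i.op (toO B s) = toO A (Z.presheaf.map i.op s) := rfl

lemma toSubscheme_app_one (I : Z.IdealSheafData) (W : Z.Opens) :
    (ClSub.toSubscheme I).app W (toO W 1) = toO (I.subschemeι ⁻¹ᵁ W) 1 := by
  rw [unitToPush_app, map_one]

lemma quotMap_app {I J : Z.IdealSheafData} (h : I ≤ J) (W : Z.Opens) (x : Γ(ClSub.quotMod I, W)) :
    (Lef.quotMap h).app W x =
      ((Scheme.Modules.pushforwardCongr (Scheme.IdealSheafData.inclusion_subschemeι h)).hom.app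
        (Coh.structureModule J.subscheme)).app W
      (((Scheme.Modules.pushforwardComp (Scheme.IdealSheafData.inclusion h) I.subschemeι).hom.app
        (Coh.structureModule J.subscheme)).app W
      (((Scheme.Modules.pushforward I.subschemeι).map
        (ClSub.unitToPush (Scheme.IdealSheafData.inclusion h))).app W x)) := rfl


lemma pushCongr_one {X Y : Scheme.{u}} {f g : X ⟶ Y} (hf : f = g) (W : Y.Opens) :
    ((Scheme.Modules.pushforwardCongr hf).hom.app (Coh.structureModule X)).app W
      (toO (f ⁻¹ᵁ W) 1) = toO (g ⁻¹ᵁ W) 1 := by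
  subst hf
  rw [Scheme.Modules.pushforwardCongr_hom_app_app]
  exact (structureModule_map _ _).trans (congrArg _ (map_one _))

lemma pushMap_one {X Y T : Scheme.{u}} (f : X ⟶ Y) (g : Y ⟶ T) (W : T.Opens) :
    ((Scheme.Modules.pushforward g).map (ClSub.unitToPush f)).app W (toO (g ⁻¹ᵁ W) 1) =
      toO (f ⁻¹ᵁ (g ⁻¹ᵁ W)) 1 := by
  change (ClSub.unitToPush f).app (g ⁻¹ᵁ W) (toO (g ⁻¹ᵁ W) 1) = _
  rw [unitToPush_app, map_one]

lemma pushComp_one {X Y T : Scheme.{u}} (f : X ⟶ Y) (g : Y ⟶ T) (W : T.Opens) :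
    ((Scheme.Modules.pushforwardComp f g).hom.app (Coh.structureModule X)).app W
      (toO (f ⁻¹ᵁ (g ⁻¹ᵁ W)) 1) = toO ((f ≫ g) ⁻¹ᵁ W) 1 := rfl

lemma quotMap_app_one {I J : Z.IdealSheafData} (h : I ≤ J) (W : Z.Opens) :
    (Lef.quotMap h).app W (toO (I.subschemeι ⁻¹ᵁ W) 1) = toO (J.subschemeι ⁻¹ᵁ W) 1 := by
  refine (quotMap_app h W _).trans ?_
  refine (congrArg _ (congrArg _ (pushMap_one _ _ W))).trans ?_
  refine (congrArg _ (pushComp_one _ _ W)).trans ?_
  exact pushCongr_one (Scheme.IdealSheafData.inclusion_subschemeι h) W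


/-- `O → O/I → O/J` is `O → O/J`. -/
lemma toSubscheme_quotMap {I J : Z.IdealSheafData} (h : I ≤ J) :
    ClSub.toSubscheme I ≫ Lef.quotMap h = ClSub.toSubscheme J := by
  apply hom_ext_one
  change (Lef.quotMap h).app ⊤ ((ClSub.toSubscheme I).app ⊤ (toO ⊤ 1)) = _
  refine (congrArg _ (toSubscheme_app_one I ⊤)).trans ?_
  refine (quotMap_app_one h ⊤).trans ?_
  exact (toSubscheme_app_one J ⊤).symm

/-- sections of `O/I` away from the support vanish. -/
lemma subsingleton_quotMod (I : Z.IdealSheafData) (W : Z.Opens)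
    (hW : Disjoint (W : Set Z) (I.support : Set Z)) : Subsingleton Γ(ClSub.quotMod I, W) := by
  have hbot : I.subschemeι ⁻¹ᵁ W = ⊥ := by
    ext y
    simp only [Opens.coe_bot, Set.mem_empty_iff_false, iff_false]
    intro hy
    have h2 : I.subschemeι y ∈ (I.support : Set Z) := by
      rw [← Scheme.IdealSheafData.range_subschemeι]
      exact Set.mem_range_self y
    exact Set.disjoint_left.1 hW hy h2
  change Subsingleton Γ(Coh.structureModule I.subscheme, I.subschemeι ⁻¹ᵁ W)
  rw [hbot]
  change Subsingleton Γ(I.subscheme, ⊥)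
  infer_instance

/-- if the image of `1` in `O/I` vanishes on `W` then `W` misses the support. -/
lemma disjoint_of_toSubscheme_one_eq_zero (I : Z.IdealSheafData) (W : Z.Opens)
    (h : (ClSub.toSubscheme I).app W (toO W 1) = 0) :
    Disjoint (W : Set Z) (I.support : Set Z) := by
  rw [toSubscheme_app_one] at h
  have hbot : I.subschemeι ⁻¹ᵁ W = ⊥ := eq_bot_of_one_eq_zero _ h
  rw [Set.disjoint_left]
  intro z hzW hzI
  rw [← Scheme.IdealSheafData.range_subschemeι] at hzI
  obtain ⟨y, rfl⟩ := hzI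
  have : y ∈ I.subschemeι ⁻¹ᵁ W := hzW
  rw [hbot] at this
  exact this

/-- idempotents of a connected scheme are trivial -/
lemma eq_zero_or_one_of_idem [PreconnectedSpace Z] (e : Γ(Z, ⊤)) (he : e * e = e) :
    e = 0 ∨ e = 1 := by
  have hcov : ∀ x : Z, x ∈ Z.basicOpen e ∨ x ∈ Z.basicOpen (1 - e) := by
    intro x
    rw [Scheme.mem_basicOpen_top, Scheme.mem_basicOpen_top]
    have : (Z.presheaf.germ ⊤ x trivial).hom e + (Z.presheaf.germ ⊤ x trivial).hom (1 - e) = 1 := by
      rw [← map_add]; simp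
    exact IsLocalRing.isUnit_or_isUnit_of_add_one this
  have hmul : e * (1 - e) = 0 := by rw [mul_sub, mul_one, he, sub_self]
  have hdisj : ∀ x : Z, x ∈ Z.basicOpen e → x ∈ Z.basicOpen (1 - e) → False := by
    intro x h1 h2
    have : x ∈ Z.basicOpen (e * (1 - e)) := by rw [Scheme.basicOpen_mul]; exact ⟨h1, h2⟩
    rw [hmul, Scheme.basicOpen_zero] at this
    exact this
  have hclopen : IsClopen (Z.basicOpen e : Set Z) := by
    refine ⟨?_, (Z.basicOpen e).isOpen⟩
    have : (Z.basicOpen e : Set Z)ᶜ = (Z.basicOpen (1 - e) : Set Z) := by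
      ext x; constructor
      · intro hx; exact (hcov x).resolve_left hx
      · intro hx h1; exact hdisj x h1 hx
    rw [← isOpen_compl_iff, this]; exact (Z.basicOpen (1 - e)).isOpen
  rcases isClopen_iff.1 hclopen with h0 | h1
  · left
    have hu : IsUnit (1 - e) := by
      apply Z.toLocallyRingedSpace.toRingedSpace.isUnit_of_isUnit_germ ⊤ (1 - e)
      intro x hx
      have hx' : x ∈ Z.basicOpen (1 - e) := by
        refine (hcov x).resolve_left ?_
        intro hxe
        have : x ∈ (Z.basicOpen e : Set Z) := hxe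
        rw [h0] at this
        exact this
      exact (Z.mem_basicOpen_top (1 - e) x).1 hx'
    exact (hu.mul_left_eq_zero).1 hmul
  · right
    have hu : IsUnit e := by
      apply Z.toLocallyRingedSpace.toRingedSpace.isUnit_of_isUnit_germ ⊤ e
      intro x hx
      have hx' : x ∈ Z.basicOpen e := by
        have : x ∈ (Z.basicOpen e : Set Z) := by rw [h1]; trivial
        exact this
      exact (Z.mem_basicOpen_top e x).1 hx'
    have := (hu.mul_right_eq_zero).1 hmul
    exact (sub_eq_zero.1 this).symm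

end Groth.Agent.Helper23.LefConn
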