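import Mathlib
import Groth.Prelude.Def_ClSub2
import Groth.Prelude.Def_Pic
import Groth.Agent.Lib.Helper23.InvEnd
import Groth.Agent.Lib.Helper23.UnitsSeq
import Groth.Agent.Lib.Helper23.LefConn2

/-!
# On a proper scheme over an algebraically closed field, an invertible ideal sheaf isomorphic (as a
module) to a sub-ideal sheaf equals it (helper23)
-/

set_option autoImplicit false
universe u
open CategoryTheory CategoryTheory.Limits AlgebraicGeometry Opposite TopologicalSpace

namespace Groth.Agent.Helper23.EffCartEq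

/-- In a local ring, an element which is a non-zero-divisor and a root of a product of factors
`α - c` with each `c` zero or a unit is a unit. -/
theorem isUnit_of_prod_eq_zero {A : Type*} [CommRing A] [IsLocalRing A] (α : A)
    (hα : ∀ b : A, α * b = 0 → b = 0) (s : Multiset A) (hs : ∀ c ∈ s, c = 0 ∨ IsUnit c)
    (hprod : (s.map (fun c => α - c)).prod = 0) : IsUnit α := by
  by_contra hnu
  have hmem : (s.map (fun c => α - c)).prod ∈ nonZeroDivisors A := by
    refine Submonoid.multiset_prod_mem _ _ ?_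
    intro t ht
    obtain ⟨c, hc, rfl⟩ := Multiset.mem_map.1 ht
    rcases hs c hc with rfl | hcu
    · rw [sub_zero]
      exact mem_nonZeroDivisors_iff_left.2 hα
    · have hu : IsUnit (α - c) := by
        by_contra hnu'
        have h1 : α ∈ IsLocalRing.maximalIdeal A := (IsLocalRing.mem_maximalIdeal α).2 hnu
        have h2 : α - c ∈ IsLocalRing.maximalIdeal A := (IsLocalRing.mem_maximalIdeal _).2 hnu'
        have h3 : c ∈ IsLocalRing.maximalIdeal A := by
          have := (IsLocalRing.maximalIdeal A).sub_mem h1 h2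
          simpa using this
        exact (IsLocalRing.mem_maximalIdeal c).1 h3 hcu
      exact hu.mem_nonZeroDivisors
  exact nonZeroDivisors.ne_zero hmem hprod

/-- an element of a `k`-algebra (`k` algebraically closed) integral over `k` is a root of a product
of linear factors. -/
theorem exists_multiset_prod_eq_zero {k B : Type*} [Field k] [IsAlgClosed k] [CommRing B]
    (φ : k →+* B) (a : B) (ha : φ.IsIntegralElem a) :
    ∃ s : Multiset k, ((s.map φ).map (fun c => a - c)).prod = 0 := by
  obtain ⟨p, hp, hpa⟩ := ha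
  have hsplit := IsAlgClosed.splits p
  refine ⟨p.roots, ?_⟩
  have h1 : p = (p.roots.map (fun r => Polynomial.X - Polynomial.C r)).prod := by
    have := Polynomial.Splits.eq_prod_roots hsplit
    rw [hp.leadingCoeff, Polynomial.C_1, one_mul] at this
    exact this
  rw [h1, Polynomial.eval₂_multiset_prod] at hpa
  simpa [Multiset.map_map, Function.comp_def] using hpa


open Groth.Agent.Helper13.Inv Groth.Agent.Helper13.QCoh Groth.Agent.Helper23.UnitsSeq
  Groth.Agent.Helper23.LefConn in
/-- **the main statement.** -/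
theorem eq_of_le_of_iso (k : Type u) [Field k] [IsAlgClosed k]
    (M : Scheme.{u}) (f : M ⟶ Spec (CommRingCat.of k)) [UniversallyClosed f]
    (D₁ D₂ : M.IdealSheafData) (hL : PicF.IsInvertible (ClSub.idealMod D₁))
    (hle : D₂ ≤ D₁) (hiso : Nonempty (ClSub.idealMod D₁ ≅ ClSub.idealMod D₂)) :
    D₁ = D₂ := by
  obtain ⟨θ⟩ := hiso
  -- the inclusion `I₂ → I₁`
  have hcond : ClSub.idealModι D₂ ≫ ClSub.toSubscheme D₁ = 0 := by
    have h0 : ClSub.idealModι D₂ ≫ ClSub.toSubscheme D₂ = 0 := kernel.condition _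
    rw [← toSubscheme_quotMap hle, ← Category.assoc, h0, zero_comp]
  let j : ClSub.idealMod D₂ ⟶ ClSub.idealMod D₁ := kernel.lift (ClSub.toSubscheme D₁) _ hcond
  have hj : j ≫ ClSub.idealModι D₁ = ClSub.idealModι D₂ := kernel.lift_ι _ _ _
  haveI hmono2 : Mono (ClSub.idealModι D₂) := by unfold ClSub.idealModι; exact equalizer.ι_mono
  haveI hjmono : Mono j := by
    have : Mono (j ≫ ClSub.idealModι D₁) := by rw [hj]; exact hmono2
    exact mono_of_mono j (ClSub.idealModι D₁)
  let w : ClSub.idealMod D₁ ⟶ ClSub.idealMod D₁ := θ.hom ≫ j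
  haveI hwmono : Mono w := mono_comp _ _
  have hwinj := (mono_iff_app_injective w).1 hwmono
  obtain ⟨a, ha⟩ := Groth.Agent.Helper23.InvEnd.exists_global _ hL w
  -- integrality
  have hint : ((Scheme.ΓSpecIso (CommRingCat.of k)).inv ≫ f.appTop).hom.IsIntegral := by
    apply RingHom.isIntegral_respectsIso.2
      (e := (Scheme.ΓSpecIso (CommRingCat.of k)).symm.commRingCatIsoToRingEquiv)
    exact isIntegral_appTop_of_universallyClosed f
  obtain ⟨s, hs⟩ := exists_multiset_prod_eq_zero
    ((Scheme.ΓSpecIso (CommRingCat.of k)).inv ≫ f.appTop).hom a (hint a)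
  -- all germs of `a` are units
  have hgerm : ∀ (x : M) (hx : x ∈ (⊤ : M.Opens)), IsUnit (M.presheaf.germ ⊤ x hx a) := by
    intro x hx
    set α := M.presheaf.germ ⊤ x hx a with hα
    let ψ : k →+* M.presheaf.stalk x :=
      (M.presheaf.germ ⊤ x hx).hom.comp ((Scheme.ΓSpecIso (CommRingCat.of k)).inv ≫ f.appTop).hom
    refine isUnit_of_prod_eq_zero α ?_ (s.map ψ) ?_ ?_
    · -- `α` is a non-zero-divisor
      intro b hb
      obtain ⟨U₀, hxU₀, e₀, he₀⟩ :=
        (isInvertible_iff_exists_isGen (ClSub.idealMod D₁)).1 hL x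
      obtain ⟨W, hxW, b', rfl⟩ := TopCat.Presheaf.exists_germ_eq M.presheaf b
      let V : M.Opens := W ⊓ U₀
      have hxV : x ∈ V := ⟨hxW, hxU₀⟩
      let m : Γ(ClSub.idealMod D₁, V) :=
        M.presheaf.map (homOfLE (inf_le_left : V ≤ W)).op b' •
          (ClSub.idealMod D₁).presheaf.map (homOfLE (inf_le_right : V ≤ U₀)).op e₀
      have hm : (ClSub.idealMod D₁).presheaf.germ V x hxV m =
          M.presheaf.germ W x hxW b' • (ClSub.idealMod D₁).presheaf.germ U₀ x hxU₀ e₀ := by
        rw [Groth.Agent.Helper13.Tensor.germ_smul, TopCat.Presheaf.germ_res_apply,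
          TopCat.Presheaf.germ_res_apply]
      have h1 : (ClSub.idealMod D₁).presheaf.germ V x hxV (w.app V m) = 0 := by
        rw [ha V m, Groth.Agent.Helper13.Tensor.germ_smul, TopCat.Presheaf.germ_res_apply, hm,
          smul_smul, ← hα, hb, zero_smul]
      obtain ⟨V', hxV', i₁, i₂, hres⟩ := TopCat.Presheaf.germ_eq (ClSub.idealMod D₁).presheaf x hxV
        hxV (w.app V m) 0 (by rw [h1, map_zero])
      have h2 : w.app V' ((ClSub.idealMod D₁).presheaf.map i₁.op m) = 0 := by
        rw [Groth.Agent.Helper23.InvEnd.app_res, hres, map_zero]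
      have h3 : (ClSub.idealMod D₁).presheaf.map i₁.op m = 0 :=
        hwinj V' (by rw [h2, map_zero])
      have h4 : (ClSub.idealMod D₁).presheaf.germ V x hxV m = 0 := by
        rw [← TopCat.Presheaf.germ_res_apply (ClSub.idealMod D₁).presheaf i₁ x hxV' m, h3,
          map_zero]
      rw [hm] at h4
      exact (he₀ x hxU₀).1 (by simp only; rw [h4, zero_smul])
    · intro c hc
      obtain ⟨r, _, rfl⟩ := Multiset.mem_map.1 hc
      by_cases hr : r = 0
      · left; rw [hr, map_zero]
      · right; exact (Ne.isUnit hr).map ψ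
    · have := congrArg (M.presheaf.germ ⊤ x hx).hom hs
      rw [map_zero, map_multiset_prod] at this
      rw [← this]
      simp only [Multiset.map_map, Function.comp_def, map_sub]
      rfl
  have hunit : IsUnit a := M.toRingedSpace.isUnit_of_isUnit_germ ⊤ a hgerm
  -- hence `w` is an isomorphism
  haveI hwiso : IsIso w := by
    rw [Scheme.Modules.Hom.isIso_iff_isIso_app]
    intro U
    rw [ConcreteCategory.isIso_iff_bijective]
    refine ⟨hwinj U, fun y => ?_⟩
    have hu : IsUnit (M.presheaf.map (homOfLE (le_top : U ≤ ⊤)).op a) := hunit.map _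
    obtain ⟨u, hu'⟩ := hu
    refine ⟨(↑u⁻¹ : Γ(M, U)) • y, ?_⟩
    change w.app U _ = y
    rw [ha U, ← hu', smul_smul, Units.mul_inv, one_smul]
  haveI hjiso : IsIso j := IsIso.of_isIso_comp_left θ.hom j
  -- conclude
  refine le_antisymm ?_ hle
  rw [Scheme.IdealSheafData.le_def]
  intro V a' ha'
  have h0 : D₁.subschemeι.app V.1 a' = 0 := by
    rw [← RingHom.mem_ker, Scheme.IdealSheafData.ker_subschemeι_app]
    exact ha'
  obtain ⟨k₁, hk₁⟩ := exists_fn_eq D₁ a' h0
  have h5 : fn D₂ ((inv j).app V.1 k₁) = a' := by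
    rw [← hk₁]
    change (ClSub.idealModι D₂).app V.1 _ = (ClSub.idealModι D₁).app V.1 _
    rw [← hj]
    change (ClSub.idealModι D₁).app V.1 (j.app V.1 ((inv j).app V.1 k₁)) = _
    have : j.app V.1 ((inv j).app V.1 k₁) = k₁ := by
      have h6 : (inv j ≫ j).app V.1 k₁ = k₁ := by rw [IsIso.inv_hom_id]; rfl
      exact h6
    rw [this]
  rw [← h5]
  exact fn_mem_ideal D₂ V _

end Groth.Agent.Helper23.EffCartEq
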