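import Mathlib

/-!
# Effective epimorphic sieves on schemes can be checked on affine schemes (helper23)
-/

set_option autoImplicit false

universe u

open CategoryTheory AlgebraicGeometry TopologicalSpace Opposite Limits

namespace Groth.Agent.Helper23.EffEpiAff

theorem isSheafFor_yoneda_of_affine {Y W : Scheme.{u}} (T : Sieve Y)
    (hT : ∀ (U : Scheme.{u}) (j : U ⟶ Y), IsAffine U →
      Presieve.IsSheafFor (yoneda.obj W) (T.pullback j : Presieve U)) :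
    Presieve.IsSheafFor (yoneda.obj W) (T : Presieve Y) := by
  intro x hx
  have hxs := hx.to_sieveCompatible
  have xcongr : ∀ {Y' : Scheme.{u}} (f f' : Y' ⟶ Y) (h : T f) (h' : T f'), f = f' →
      x f h = x f' h' := by
    intro Y' f f' h h' e
    subst e
    rfl
  have hxs' : ∀ {Y' Z' : Scheme.{u}} (f : Y' ⟶ Y) (g : Z' ⟶ Y') (hf : T f),
      x (g ≫ f) (T.downward_closed hf g) = g ≫ x f hf := fun f g hf => hxs f g hf
  let 𝒰 := Y.affineCover
  have hxa : ∀ a, (x.pullback (𝒰.f a)).Compatible := fun a => hx.pullback _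
  let t : ∀ a, 𝒰.X a ⟶ W := fun a => (hT _ (𝒰.f a) inferInstance).amalgamate _ (hxa a)
  have ht : ∀ a, (x.pullback (𝒰.f a)).IsAmalgamation (t a) :=
    fun a => (hT _ (𝒰.f a) inferInstance).isAmalgamation (hxa a)
  have ht' : ∀ a {Y' : Scheme.{u}} (f' : Y' ⟶ 𝒰.X a) (h : T (f' ≫ 𝒰.f a)),
      f' ≫ t a = x (f' ≫ 𝒰.f a) h := fun a Y' f' h => ht a f' h
  have hcompat : ∀ a b, pullback.fst (𝒰.f a) (𝒰.f b) ≫ t a =
      pullback.snd (𝒰.f a) (𝒰.f b) ≫ t b := by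
    intro a b
    apply Scheme.Cover.hom_ext (pullback (𝒰.f a) (𝒰.f b)).affineCover
    intro c
    obtain ⟨v, hv⟩ : ∃ v, v = (pullback (𝒰.f a) (𝒰.f b)).affineCover.f c := ⟨_, rfl⟩
    rw [← hv]
    have hsep := (hT _ (v ≫ pullback.fst _ _ ≫ 𝒰.f a) (by infer_instance)).isSeparatedFor
    apply hsep.ext
    intro Y'' f'' hf''
    have hf1 : T ((f'' ≫ v ≫ pullback.fst (𝒰.f a) (𝒰.f b)) ≫ 𝒰.f a) := by
      have : (f'' ≫ v ≫ pullback.fst (𝒰.f a) (𝒰.f b)) ≫ 𝒰.f a =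
          f'' ≫ v ≫ pullback.fst (𝒰.f a) (𝒰.f b) ≫ 𝒰.f a := by simp only [Category.assoc]
      rw [this]; exact hf''
    have hf2 : T ((f'' ≫ v ≫ pullback.snd (𝒰.f a) (𝒰.f b)) ≫ 𝒰.f b) := by
      have : (f'' ≫ v ≫ pullback.snd (𝒰.f a) (𝒰.f b)) ≫ 𝒰.f b =
          f'' ≫ v ≫ pullback.fst (𝒰.f a) (𝒰.f b) ≫ 𝒰.f a := by
        simp only [Category.assoc, pullback.condition]
      rw [this]; exact hf''
    show f'' ≫ v ≫ pullback.fst (𝒰.f a) (𝒰.f b) ≫ t a =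
      f'' ≫ v ≫ pullback.snd (𝒰.f a) (𝒰.f b) ≫ t b
    have e1 := ht' a (f'' ≫ v ≫ pullback.fst (𝒰.f a) (𝒰.f b)) hf1
    have e2 := ht' b (f'' ≫ v ≫ pullback.snd (𝒰.f a) (𝒰.f b)) hf2
    simp only [Category.assoc] at e1 e2
    rw [e1, e2]
    apply xcongr
    simp only [Category.assoc, pullback.condition]
  let tt : Y ⟶ W := Scheme.Cover.glueMorphisms 𝒰 t hcompat
  have htt : ∀ a, 𝒰.f a ≫ tt = t a := fun a => Scheme.Cover.ι_glueMorphisms 𝒰 t hcompat a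
  refine ⟨tt, ?_, ?_⟩
  · intro Y' f hf
    show f ≫ tt = x f hf
    apply Scheme.Cover.hom_ext (𝒰.pullback₁ f)
    intro a
    show pullback.fst f (𝒰.f a) ≫ f ≫ tt = pullback.fst f (𝒰.f a) ≫ x f hf
    have h1 : T (pullback.snd f (𝒰.f a) ≫ 𝒰.f a) := by
      rw [← pullback.condition]
      exact T.downward_closed hf _
    calc pullback.fst f (𝒰.f a) ≫ f ≫ tt = pullback.snd f (𝒰.f a) ≫ 𝒰.f a ≫ tt := by
          rw [← Category.assoc, pullback.condition, Category.assoc]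
      _ = pullback.snd f (𝒰.f a) ≫ t a := by rw [htt a]
      _ = x (pullback.snd f (𝒰.f a) ≫ 𝒰.f a) h1 := ht' a _ h1
      _ = x (pullback.fst f (𝒰.f a) ≫ f) (T.downward_closed hf _) :=
          xcongr _ _ _ _ pullback.condition.symm
      _ = pullback.fst f (𝒰.f a) ≫ x f hf := hxs' f _ hf
  · intro t₂ ht₂
    apply Scheme.Cover.hom_ext 𝒰
    intro a
    rw [htt a]
    refine (hT _ (𝒰.f a) inferInstance).isSeparatedFor (x.pullback (𝒰.f a)) _ _ ?_ (ht a)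
    intro Y' f' hf'
    show f' ≫ 𝒰.f a ≫ t₂ = x (f' ≫ 𝒰.f a) hf'
    rw [← Category.assoc]
    exact ht₂ (f' ≫ 𝒰.f a) hf'

theorem effectiveEpimorphic_pullback_of_affine {ι : Type u} {X : Scheme.{u}}
    {Xi : ι → Scheme.{u}} (f : ∀ i, Xi i ⟶ X)
    (h : ∀ (Y : Scheme.{u}) (g : Y ⟶ X), IsAffine Y →
      ((Sieve.ofArrows Xi f).pullback g).EffectiveEpimorphic)
    {Y : Scheme.{u}} (g : Y ⟶ X) : ((Sieve.ofArrows Xi f).pullback g).EffectiveEpimorphic := by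
  rw [Sieve.EffectiveEpimorphic.iff_forall_isSheafFor_yoneda]
  intro W
  apply isSheafFor_yoneda_of_affine
  intro U j hU
  have h1 := h U (j ≫ g) hU
  rw [Sieve.EffectiveEpimorphic.iff_forall_isSheafFor_yoneda] at h1
  have h2 := h1 W
  rwa [Sieve.pullback_comp] at h2

end Groth.Agent.Helper23.EffEpiAff
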