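import Mathlib

/-! helper23: regular linear maps (maps with a generalised inverse), the coboundary map of a graph is
regular. Used for equalizers of finite étale algebras. -/

set_option autoImplicit false
set_option linter.style.haveILetI false
set_option linter.unusedVariables false
universe u v w

namespace Groth.Agent.Helper23.EqAlg
open TensorProduct

section reg

variable {A : Type u} [CommRing A] {B : Type v} {C : Type w} [AddCommGroup B] [Module A B]
  [AddCommGroup C] [Module A C]

/-- a linear map is regular if it has a generalised inverse -/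
def IsReg (d : B →ₗ[A] C) : Prop := ∃ h : C →ₗ[A] B, ∀ b, d (h (d b)) = d b

theorem isReg_of_projective_coker (d : B →ₗ[A] C) [Module.Projective A C]
    [Module.Projective A (C ⧸ LinearMap.range d)] : IsReg d := by
  let π := (LinearMap.range d).mkQ
  obtain ⟨s, hs⟩ := Module.projective_lifting_property π LinearMap.id
    (Submodule.mkQ_surjective _)
  have hs' : ∀ n, π (s n) = n := fun n => LinearMap.congr_fun hs n
  let p : C →ₗ[A] C := LinearMap.id - s ∘ₗ π
  have hp : ∀ c, p c ∈ LinearMap.range d := by
    intro c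
    rw [← Submodule.ker_mkQ (LinearMap.range d), LinearMap.mem_ker]
    change π (c - s (π c)) = 0
    rw [map_sub, hs', sub_self]
  have hp2 : ∀ c ∈ LinearMap.range d, p c = c := by
    intro c hc
    change c - s (π c) = c
    have : π c = 0 := by
      rw [← LinearMap.mem_ker, Submodule.ker_mkQ]; exact hc
    rw [this, map_zero, sub_zero]
  let p' : C →ₗ[A] LinearMap.range d := p.codRestrict _ hp
  haveI : Module.Projective A (LinearMap.range d) := by
    refine Module.Projective.of_split (LinearMap.range d).subtype p' ?_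
    ext ⟨c, hc⟩
    exact hp2 c hc
  obtain ⟨σ, hσ⟩ := Module.projective_lifting_property d.rangeRestrict LinearMap.id
    (LinearMap.surjective_rangeRestrict d)
  have hσ' : ∀ y : LinearMap.range d, d (σ y) = y.1 := fun y =>
    congrArg Subtype.val (LinearMap.congr_fun hσ y)
  refine ⟨σ ∘ₗ p', fun b => ?_⟩
  change d (σ (p' (d b))) = d b
  rw [hσ']
  exact hp2 _ ⟨b, rfl⟩

/-- the retraction onto the kernel -/
noncomputable def IsReg.retr {d : B →ₗ[A] C} (h : C →ₗ[A] B) (hh : ∀ b, d (h (d b)) = d b) :
    B →ₗ[A] LinearMap.ker d :=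
  (LinearMap.id - h ∘ₗ d).codRestrict _ (fun b => by
    rw [LinearMap.mem_ker]
    change d (b - h (d b)) = 0
    rw [map_sub, hh, sub_self])

theorem IsReg.retr_apply {d : B →ₗ[A] C} (h : C →ₗ[A] B) (hh : ∀ b, d (h (d b)) = d b) (b : B) :
    (IsReg.retr h hh b : B) = b - h (d b) := rfl

theorem IsReg.retr_ker {d : B →ₗ[A] C} (h : C →ₗ[A] B) (hh : ∀ b, d (h (d b)) = d b)
    (x : LinearMap.ker d) : IsReg.retr h hh x.1 = x := by
  apply Subtype.ext
  rw [IsReg.retr_apply, x.2, map_zero, sub_zero]

theorem IsReg.finite_ker {d : B →ₗ[A] C} (hd : IsReg d) [Module.Finite A B] :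
    Module.Finite A (LinearMap.ker d) := by
  obtain ⟨h, hh⟩ := hd
  exact Module.Finite.of_surjective (IsReg.retr h hh) (fun x => ⟨x.1, IsReg.retr_ker h hh x⟩)

theorem IsReg.projective_ker {d : B →ₗ[A] C} (hd : IsReg d) [Module.Projective A B] :
    Module.Projective A (LinearMap.ker d) := by
  obtain ⟨h, hh⟩ := hd
  refine Module.Projective.of_split (LinearMap.ker d).subtype (IsReg.retr h hh) ?_
  ext x
  exact congrArg Subtype.val (IsReg.retr_ker h hh x)

/-- universal exactness: injectivity -/
theorem IsReg.lTensor_subtype_injective {d : B →ₗ[A] C} (hd : IsReg d) (M : Type*) [AddCommGroup M]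
    [Module A M] : Function.Injective ((LinearMap.ker d).subtype.lTensor M) := by
  obtain ⟨h, hh⟩ := hd
  have : (IsReg.retr h hh).lTensor M ∘ₗ (LinearMap.ker d).subtype.lTensor M = LinearMap.id := by
    rw [← LinearMap.lTensor_comp]
    have : IsReg.retr h hh ∘ₗ (LinearMap.ker d).subtype = LinearMap.id := by
      ext x
      exact congrArg Subtype.val (IsReg.retr_ker h hh x)
    rw [this, LinearMap.lTensor_id]
  intro x y hxy
  have h2 := congrArg ((IsReg.retr h hh).lTensor M) hxy
  rw [← LinearMap.comp_apply, ← LinearMap.comp_apply, this] at h2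
  exact h2

/-- universal exactness: exactness in the middle -/
theorem IsReg.lTensor_exact {d : B →ₗ[A] C} (hd : IsReg d) (M : Type*) [AddCommGroup M]
    [Module A M] (x : M ⊗[A] B) (hx : d.lTensor M x = 0) :
    x ∈ LinearMap.range ((LinearMap.ker d).subtype.lTensor M) := by
  obtain ⟨h, hh⟩ := hd
  refine ⟨(IsReg.retr h hh).lTensor M x, ?_⟩
  rw [← LinearMap.comp_apply, ← LinearMap.lTensor_comp]
  have : (LinearMap.ker d).subtype ∘ₗ IsReg.retr h hh = LinearMap.id - h ∘ₗ d := by
    ext b
    rfl
  rw [this, LinearMap.lTensor_sub, LinearMap.lTensor_id, LinearMap.lTensor_comp]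
  change x - h.lTensor M (d.lTensor M x) = x
  rw [hx, map_zero, sub_zero]

end reg

section graph

variable (T : Type u) [CommRing T] {V : Type v} {Ed : Type w} (a b : Ed → V)

/-- the coboundary map of a graph -/
def cobd : (V → T) →ₗ[T] (Ed → T) :=
  LinearMap.funLeft T T a - LinearMap.funLeft T T b

theorem cobd_apply (t : V → T) (k : Ed) : cobd T a b t k = t (a k) - t (b k) := rfl

theorem exists_path_functional (x y : V) (hxy : Relation.EqvGen (fun u v => ∃ k, u = a k ∧ v = b k) x y) :
    ∃ P : (Ed → T) →ₗ[T] T, ∀ t : V → T, P (cobd T a b t) = t y - t x := by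
  induction hxy with
  | rel u v huv =>
    obtain ⟨k, rfl, rfl⟩ := huv
    refine ⟨-LinearMap.proj k, fun t => ?_⟩
    change -(t (a k) - t (b k)) = _
    ring
  | refl u => exact ⟨0, fun t => by simp⟩
  | symm u v _ ih =>
    obtain ⟨P, hP⟩ := ih
    exact ⟨-P, fun t => by rw [LinearMap.neg_apply, hP]; ring⟩
  | trans u v w _ _ ih1 ih2 =>
    obtain ⟨P, hP⟩ := ih1
    obtain ⟨Q, hQ⟩ := ih2
    exact ⟨P + Q, fun t => by rw [LinearMap.add_apply, hP, hQ]; ring⟩

theorem isReg_cobd : IsReg (cobd T a b) := by
  classical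
  let r : Setoid V := Relation.EqvGen.setoid (fun u v => ∃ k, u = a k ∧ v = b k)
  let ρ : V → V := fun v => (Quotient.mk r v).out
  have hρ : ∀ v, Relation.EqvGen (fun u v => ∃ k, u = a k ∧ v = b k) (ρ v) v := fun v =>
    Quotient.exact (Quotient.out_eq (Quotient.mk r v))
  have hρ2 : ∀ k, ρ (a k) = ρ (b k) := by
    intro k
    have : Quotient.mk r (a k) = Quotient.mk r (b k) :=
      Quotient.sound (Relation.EqvGen.rel _ _ ⟨k, rfl, rfl⟩)
    change (Quotient.mk r (a k)).out = (Quotient.mk r (b k)).out
    rw [this]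
  choose P hP using fun v => exists_path_functional T a b (ρ v) v (hρ v)
  refine ⟨LinearMap.pi P, fun t => ?_⟩
  funext k
  rw [cobd_apply, cobd_apply]
  change P (a k) (cobd T a b t) - P (b k) (cobd T a b t) = _
  rw [hP, hP, hρ2 k]
  ring

end graph

end Groth.Agent.Helper23.EqAlg
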