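import Groth.Agent.Lib.Helper23.EqAlg1

/-! helper23: base change of cokernels and descent of their flatness. -/

set_option autoImplicit false
set_option linter.style.haveILetI false
set_option linter.unusedVariables false
universe u

namespace Groth.Agent.Helper23.EqAlg
open TensorProduct

section ck

variable {A : Type u} [CommRing A] {B C : Type u} [AddCommGroup B] [Module A B]
  [AddCommGroup C] [Module A C] (d : B →ₗ[A] C)

/-- base change of the cokernel -/
noncomputable def ckBC (A' : Type u) [CommRing A'] [Algebra A A'] :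
    ((A' ⊗[A] C) ⧸ LinearMap.range (d.baseChange A')) ≃ₗ[A']
      A' ⊗[A] (C ⧸ LinearMap.range d) := by
  let g := (LinearMap.range d).mkQ.baseChange A'
  have hsurj : Function.Surjective g :=
    LinearMap.baseChange_surjective A' (Submodule.mkQ_surjective _)
  have hker : LinearMap.ker g = LinearMap.range (d.baseChange A') := by
    ext x
    rw [LinearMap.mem_ker, LinearMap.mem_range]
    have hex := lTensor_exact A' (LinearMap.exact_map_mkQ_range d)
      (Submodule.mkQ_surjective (LinearMap.range d))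
    have h1 := hex x
    change (LinearMap.range d).mkQ.lTensor A' x = 0 ↔ ∃ y, d.lTensor A' y = x
    rw [h1]
    rfl
  exact (Submodule.quotEquivOfEq _ _ hker.symm).trans (g.quotKerEquivOfSurjective hsurj)

theorem flat_ck_of_ff (A' : Type u) [CommRing A'] [Algebra A A'] [Module.FaithfullyFlat A A']
    (h : Module.Flat A' ((A' ⊗[A] C) ⧸ LinearMap.range (d.baseChange A'))) :
    Module.Flat A (C ⧸ LinearMap.range d) := by
  haveI : Module.Flat A' (A' ⊗[A] (C ⧸ LinearMap.range d)) :=
    Module.Flat.of_linearEquiv (ckBC d A').symm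
  exact Module.Flat.of_flat_tensorProduct A _ A'

theorem flat_ck_of_localized
    (h : ∀ (P : Ideal A) [P.IsMaximal], Module.Flat (Localization.AtPrime P)
      ((Localization.AtPrime P ⊗[A] C) ⧸
        LinearMap.range (d.baseChange (Localization.AtPrime P)))) :
    Module.Flat A (C ⧸ LinearMap.range d) := by
  apply Module.flat_of_localized_maximal
  intro P _
  haveI := h P
  haveI : Module.Flat (Localization.AtPrime P)
      (Localization.AtPrime P ⊗[A] (C ⧸ LinearMap.range d)) :=
    Module.Flat.of_linearEquiv (ckBC d (Localization.AtPrime P)).symm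
  haveI : Module.Flat (Localization.AtPrime P)
      (LocalizedModule P.primeCompl (C ⧸ LinearMap.range d)) :=
    Module.Flat.of_linearEquiv (LocalizedModule.equivTensorProduct P.primeCompl _)
  exact Module.Flat.trans A (Localization.AtPrime P) _

theorem flat_ck_congr {B₂ C₂ : Type u} [AddCommGroup B₂] [Module A B₂] [AddCommGroup C₂]
    [Module A C₂] (d₂ : B₂ →ₗ[A] C₂) (eB : B ≃ₗ[A] B₂) (eC : C ≃ₗ[A] C₂)
    (hcomm : ∀ b, d₂ (eB b) = eC (d b)) (h : Module.Flat A (C₂ ⧸ LinearMap.range d₂)) :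
    Module.Flat A (C ⧸ LinearMap.range d) := by
  have hmap : (LinearMap.range d).map (eC : C →ₗ[A] C₂) = LinearMap.range d₂ := by
    ext y
    constructor
    · rintro ⟨c, ⟨b, rfl⟩, rfl⟩
      exact ⟨eB b, hcomm b⟩
    · rintro ⟨b₂, rfl⟩
      refine ⟨d (eB.symm b₂), ⟨_, rfl⟩, ?_⟩
      change eC (d (eB.symm b₂)) = _
      rw [← hcomm, eB.apply_symm_apply]
  exact Module.Flat.of_linearEquiv (Submodule.Quotient.equiv _ _ eC hmap)

end ck

section alg

variable {A : Type u} [CommRing A] {B C : Type u} [CommRing B] [Algebra A B]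
  [CommRing C] [Algebra A C]

/-- the difference of two algebra maps as a linear map -/
def dd (φ ψ : B →ₐ[A] C) : B →ₗ[A] C := φ.toLinearMap - ψ.toLinearMap

theorem dd_apply (φ ψ : B →ₐ[A] C) (b : B) : dd φ ψ b = φ b - ψ b := rfl

/-- base change of an algebra map -/
noncomputable abbrev bcAlg (A' : Type u) [CommRing A'] [Algebra A A'] (φ : B →ₐ[A] C) :
    A' ⊗[A] B →ₐ[A'] A' ⊗[A] C :=
  Algebra.TensorProduct.map (AlgHom.id A' A') φ

theorem dd_bc (A' : Type u) [CommRing A'] [Algebra A A'] (φ ψ : B →ₐ[A] C) :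
    dd (bcAlg A' φ) (bcAlg A' ψ) = (dd φ ψ).baseChange A' := by
  apply TensorProduct.AlgebraTensorModule.curry_injective
  ext b
  simp [dd, bcAlg]

/-- the cokernel of the difference of two algebra maps is flat -/
def CF (φ ψ : B →ₐ[A] C) : Prop := Module.Flat A (C ⧸ LinearMap.range (dd φ ψ))

theorem CF_of_ff (φ ψ : B →ₐ[A] C) (A' : Type u) [CommRing A'] [Algebra A A']
    [Module.FaithfullyFlat A A'] (h : CF (bcAlg A' φ) (bcAlg A' ψ)) : CF φ ψ := by
  unfold CF at h ⊢
  rw [dd_bc] at h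
  exact flat_ck_of_ff _ A' h

theorem CF_of_localized (φ ψ : B →ₐ[A] C)
    (h : ∀ (P : Ideal A) [P.IsMaximal],
      CF (bcAlg (Localization.AtPrime P) φ) (bcAlg (Localization.AtPrime P) ψ)) : CF φ ψ := by
  unfold CF at h ⊢
  apply flat_ck_of_localized
  intro P _
  have := h P
  rwa [dd_bc] at this

theorem CF_congr (φ ψ : B →ₐ[A] C) {B₂ C₂ : Type u} [CommRing B₂] [Algebra A B₂] [CommRing C₂]
    [Algebra A C₂] (φ₂ ψ₂ : B₂ →ₐ[A] C₂) (eB : B ≃ₐ[A] B₂) (eC : C ≃ₐ[A] C₂)
    (hφ : ∀ b, φ₂ (eB b) = eC (φ b)) (hψ : ∀ b, ψ₂ (eB b) = eC (ψ b)) (h : CF φ₂ ψ₂) :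
    CF φ ψ := by
  unfold CF at h ⊢
  refine flat_ck_congr _ (dd φ₂ ψ₂) eB.toLinearEquiv eC.toLinearEquiv (fun b => ?_) h
  change φ₂ (eB b) - ψ₂ (eB b) = eC (φ b - ψ b)
  rw [hφ, hψ, map_sub]

end alg

end Groth.Agent.Helper23.EqAlg
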