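import Groth.Agent.Lib.Helper23.FEtLib
import Mathlib

set_option autoImplicit false
set_option linter.style.haveILetI false
set_option linter.unusedVariables false
universe u

namespace Groth.Agent.Helper23.FEtInv
open TensorProduct SchFin

section descent

/-- étaleness descends along a jointly faithful family of flat algebras -/
theorem etale_of_jointly_ff {R C : Type u} [CommRing R] [CommRing C] [Algebra R C]
    [Algebra.FinitePresentation R C]
    {I : Type u} (T : I → Type u) [∀ α, CommRing (T α)] [∀ α, Algebra R (T α)]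
    [∀ α, Module.Flat R (T α)]
    (hJ : ∀ (M : Type u) [AddCommGroup M] [Module R M],
      (∀ α, Subsingleton (T α ⊗[R] M)) → Subsingleton M)
    (h : ∀ α, Algebra.Etale (T α) (T α ⊗[R] C)) : Algebra.Etale R C := by
  have hunr : Algebra.FormallyUnramified R C := by
    constructor
    apply hJ
    intro α
    let _ : Algebra C (T α ⊗[R] C) := Algebra.TensorProduct.rightAlgebra
    haveI := h α
    haveI : Algebra.FormallyUnramified (T α) (T α ⊗[R] C) := inferInstance
    exact (KaehlerDifferential.tensorKaehlerEquivBase R (T α) C (T α ⊗[R] C)).subsingleton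
  rw [Algebra.Etale.iff_formallyUnramified_and_smooth]
  refine ⟨hunr, ⟨?_, inferInstance⟩⟩
  rw [Algebra.formallySmooth_iff]
  constructor
  · haveI : Subsingleton Ω[C⁄R] := hunr.1
    infer_instance
  · apply hJ
    intro α
    haveI := h α
    haveI : Algebra.FormallySmooth (T α) (T α ⊗[R] C) := inferInstance
    exact (Algebra.tensorH1CotangentOfFlat R C (T α)).subsingleton

end descent


section flatinv

variable {R R' M M' : Type u} [CommRing R] [CommRing R'] [Algebra R R'] [Module.Flat R R']
  [AddCommGroup M] [Module R M] [AddCommGroup M'] [Module R' M']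
  {ι : Type*} [Finite ι] (u : ι → M →ₗ[R] M) (v : ι → M' →ₗ[R'] M')
  (N : Submodule R M) (hN : ∀ m, m ∈ N ↔ ∀ i, u i m = m)
  (e : R' ⊗[R] M ≃ₗ[R'] M') (he : ∀ i r m, v i (e (r ⊗ₜ m)) = e (r ⊗ₜ u i m))

/-- the comparison map from the base change of the fixed submodule -/
noncomputable def fixMap : R' ⊗[R] N →ₗ[R'] M' :=
  e.toLinearMap ∘ₗ AlgebraTensorModule.lTensor R' R' N.subtype

theorem fixMap_tmul (r : R') (n : N) : fixMap N e (r ⊗ₜ n) = e (r ⊗ₜ (n : M)) := rfl

theorem fixMap_injective : Function.Injective (fixMap N e) := by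
  unfold fixMap
  rw [LinearMap.coe_comp]
  exact e.injective.comp
    (Module.Flat.lTensor_preserves_injective_linearMap N.subtype N.injective_subtype)

include hN he in
theorem fixMap_fixed (z : R' ⊗[R] N) (i : ι) : v i (fixMap N e z) = fixMap N e z := by
  induction z using TensorProduct.induction_on with
  | zero => simp
  | tmul r n =>
    rw [fixMap_tmul, he, (hN n.1).1 n.2 i]
  | add a b ha hb => rw [map_add, map_add, ha, hb]

include hN he in
theorem mem_range_fixMap (m' : M') (hm : ∀ i, v i m' = m') :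
    m' ∈ LinearMap.range (fixMap N e) := by
  classical
  letI := Fintype.ofFinite ι
  let w : M →ₗ[R] (ι → M) := LinearMap.pi (fun i => u i - LinearMap.id)
  have hNw : N = LinearMap.ker w := by
    ext m
    rw [hN, LinearMap.mem_ker]
    constructor
    · intro h
      funext i
      change u i m - m = 0
      rw [h i, sub_self]
    · intro h i
      have := congrFun h i
      change u i m - m = 0 at this
      exact sub_eq_zero.1 this
  subst hNw
  let y := e.symm m'
  have key : ∀ y : R' ⊗[R] M, ∀ i, TensorProduct.piRight R R' R' (fun _ : ι => M)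
      (AlgebraTensorModule.lTensor R' R' w y) i = e.symm (v i (e y)) - y := by
    intro y i
    induction y using TensorProduct.induction_on with
    | zero => simp
    | tmul r m =>
      rw [AlgebraTensorModule.lTensor_tmul, TensorProduct.piRight_apply,
        TensorProduct.piRightHom_tmul, he, e.symm_apply_apply]
      change r ⊗ₜ[R] (u i m - m) = _
      rw [TensorProduct.tmul_sub]
    | add a b ha hb =>
      rw [map_add, map_add, Pi.add_apply, ha, hb, map_add, map_add, map_add]
      abel
  have hy : y ∈ LinearMap.ker (AlgebraTensorModule.lTensor R' R' w) := by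
    rw [LinearMap.mem_ker]
    apply (TensorProduct.piRight R R' R' (fun _ : ι => M)).injective
    rw [map_zero]
    funext i
    rw [key y i]
    change e.symm (v i (e (e.symm m'))) - e.symm m' = 0
    rw [e.apply_symm_apply, hm i, sub_self]
  rw [Module.Flat.ker_lTensor_eq R' R' w] at hy
  obtain ⟨z, hz⟩ := hy
  refine ⟨z, ?_⟩
  change e (AlgebraTensorModule.lTensor R' R' (LinearMap.ker w).subtype z) = m'
  rw [hz]
  exact e.apply_symm_apply m'

end flatinv


section invsub

/-- invariants subalgebra of a family of endomorphisms -/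
def invSub {R A : Type u} [CommRing R] [CommRing A] [Algebra R A] {ι : Type*}
    (σ : ι → (A →ₐ[R] A)) : Subalgebra R A where
  carrier := {a | ∀ i, σ i a = a}
  mul_mem' {a b} ha hb i := by rw [map_mul, ha i, hb i]
  add_mem' {a b} ha hb i := by rw [map_add, ha i, hb i]
  one_mem' i := map_one _
  zero_mem' i := map_zero _
  algebraMap_mem' r i := (σ i).commutes r

theorem mem_invSub {R A : Type u} [CommRing R] [CommRing A] [Algebra R A] {ι : Type*}
    (σ : ι → (A →ₐ[R] A)) (a : A) : a ∈ invSub σ ↔ ∀ i, σ i a = a := Iff.rfl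

end invsub

section conn

variable {S : Type u} [CommRing S] [Nontrivial S]
  (hS : ∀ e : S, IsIdempotentElem e → e = 0 ∨ e = 1)

include hS in
theorem algHom_pi_eq_proj {n : ℕ} (φ : (Fin n → S) →ₐ[S] S) : ∃ j, ∀ t, φ t = t j := by
  classical
  have hid : ∀ j, IsIdempotentElem (φ (Pi.single j 1)) := fun j => by
    unfold IsIdempotentElem
    rw [← map_mul, ← Pi.single_mul, mul_one]
  have hsum : ∑ j, φ (Pi.single j 1) = 1 := by
    rw [← map_sum, Finset.univ_sum_single (fun _ : Fin n => (1 : S))]
    exact map_one φ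
  obtain ⟨j, hj⟩ : ∃ j, φ (Pi.single j 1) = 1 := by
    by_contra hcon
    push Not at hcon
    have : ∀ j, φ (Pi.single j 1) = 0 := fun j => (hS _ (hid j)).resolve_right (hcon j)
    rw [Finset.sum_eq_zero (fun j _ => this j)] at hsum
    exact zero_ne_one hsum
  refine ⟨j, fun t => ?_⟩
  have horth : ∀ k, k ≠ j → φ (Pi.single k 1) = 0 := by
    intro k hk
    have : φ (Pi.single k 1) * φ (Pi.single j 1) = 0 := by
      have h0 : (Pi.single k 1 * Pi.single j 1 : Fin n → S) = 0 := by
        funext l
        rw [Pi.mul_apply, Pi.zero_apply]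
        by_cases hl : l = k
        · subst hl
          rw [Pi.single_eq_of_ne hk, mul_zero]
        · rw [Pi.single_eq_of_ne hl, zero_mul]
      rw [← map_mul, h0, map_zero]
    rwa [hj, mul_one] at this
  have hsingle : ∀ k, φ (Pi.single k (t k)) = t k * φ (Pi.single k 1) := by
    intro k
    have : (Pi.single k (t k) : Fin n → S) = t k • Pi.single k 1 := by
      rw [← Pi.single_smul, smul_eq_mul, mul_one]
    rw [this, map_smul, smul_eq_mul]
  conv_lhs => rw [← Finset.univ_sum_single t]
  rw [map_sum, Finset.sum_eq_single j]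
  · rw [hsingle, hj, mul_one]
  · intro k _ hk
    rw [hsingle, horth k hk, mul_zero]
  · intro h
    exact (h (Finset.mem_univ j)).elim

include hS in
theorem etale_inv_pi_conn {n : ℕ} {ι : Type*} (τ : ι → ((Fin n → S) →ₐ[S] (Fin n → S))) :
    Algebra.Etale S (invSub τ) := by
  classical
  have hπ : ∀ i k, ∃ j, ∀ t, τ i t k = t j := fun i k =>
    algHom_pi_eq_proj hS ((Pi.evalAlgHom S (fun _ : Fin n => S) k).comp (τ i))
  choose π hπ using hπ
  let r : Setoid (Fin n) := Relation.EqvGen.setoid (fun k k' => ∃ i, k' = π i k)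
  let Q := Quotient r
  let f : (Q → S) →ₐ[S] (Fin n → S) :=
    { toFun := fun u k => u (Quotient.mk r k)
      map_one' := rfl
      map_mul' := fun _ _ => rfl
      map_zero' := rfl
      map_add' := fun _ _ => rfl
      commutes' := fun _ => rfl }
  have hf : Function.Injective f := by
    intro u u' h
    funext q
    obtain ⟨k, rfl⟩ := Quotient.mk_surjective q
    exact congrFun h k
  have hrange : f.range = invSub τ := by
    ext t
    rw [mem_invSub, AlgHom.mem_range]
    constructor
    · rintro ⟨u, rfl⟩ i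
      funext k
      rw [hπ]
      change u (Quotient.mk r (π i k)) = u (Quotient.mk r k)
      congr 1
      apply Quotient.sound
      exact Relation.EqvGen.symm _ _ (Relation.EqvGen.rel _ _ ⟨i, rfl⟩)
    · intro ht
      have hresp : ∀ k k', r k k' → t k = t k' := by
        intro k k' h
        induction h with
        | rel a b hab =>
          obtain ⟨i, rfl⟩ := hab
          have := congrFun (ht i) a
          rw [hπ] at this
          exact this.symm
        | refl a => rfl
        | symm a b _ ih => exact ih.symm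
        | trans a b c _ _ ih1 ih2 => exact ih1.trans ih2
      refine ⟨Quotient.lift t hresp, ?_⟩
      funext k
      rfl
  have e1 : (Q → S) ≃ₐ[S] f.range := AlgEquiv.ofInjective f hf
  have e2 : (Q → S) ≃ₐ[S] invSub τ := e1.trans (Subalgebra.equivOfEq _ _ hrange)
  haveI : Finite Q := inferInstance
  haveI : Algebra.Etale S (Q → S) := inferInstance
  exact Algebra.Etale.of_equiv e2

end conn


section bcinv

variable {R A R' : Type u} [CommRing R] [CommRing A] [Algebra R A] [CommRing R'] [Algebra R R']
  [Module.Flat R R'] {ι : Type*} [Finite ι] (σ : ι → (A →ₐ[R] A))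
  {T' : Type u} [CommRing T'] [Algebra R' T'] (e : R' ⊗[R] A ≃ₐ[R'] T')
  (τ : ι → (T' →ₐ[R'] T')) (hτ : ∀ i r a, τ i (e (r ⊗ₜ a)) = e (r ⊗ₜ σ i a))

/-- comparison map from the base change of the invariants -/
noncomputable def invMap : R' ⊗[R] invSub σ →ₐ[R'] T' :=
  (e : R' ⊗[R] A →ₐ[R'] T').comp (Algebra.TensorProduct.map (AlgHom.id R' R') (invSub σ).val)

theorem invMap_eq (z : R' ⊗[R] invSub σ) :
    invMap σ e z = fixMap (Subalgebra.toSubmodule (invSub σ)) e.toLinearEquiv z := by
  induction z using TensorProduct.induction_on with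
  | zero => simp
  | tmul r c => rfl
  | add a b ha hb => rw [map_add, map_add, ha, hb]

theorem invMap_injective : Function.Injective (invMap σ e) := by
  intro a b h
  rw [invMap_eq, invMap_eq] at h
  exact fixMap_injective _ _ h

include hτ in
theorem invMap_range : (invMap σ e).range = invSub τ := by
  ext t
  rw [mem_invSub, AlgHom.mem_range]
  have hN : ∀ m, m ∈ Subalgebra.toSubmodule (invSub σ) ↔ ∀ i, (σ i).toLinearMap m = m :=
    fun m => Iff.rfl
  have he : ∀ i (r : R') (m : A), (τ i).toLinearMap (e.toLinearEquiv (r ⊗ₜ m)) =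
      e.toLinearEquiv (r ⊗ₜ (σ i).toLinearMap m) := fun i r m => hτ i r m
  constructor
  · rintro ⟨z, rfl⟩ i
    rw [invMap_eq]
    exact fixMap_fixed (fun i => (σ i).toLinearMap) (fun i => (τ i).toLinearMap) _ hN _ he z i
  · intro ht
    obtain ⟨z, hz⟩ := mem_range_fixMap (fun i => (σ i).toLinearMap) (fun i => (τ i).toLinearMap)
      _ hN _ he t ht
    exact ⟨z, (invMap_eq σ e z).trans hz⟩

/-- base change of invariants is invariants of the base change -/
noncomputable def invEquiv : R' ⊗[R] invSub σ ≃ₐ[R'] invSub τ :=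
  (AlgEquiv.ofInjective (invMap σ e) (invMap_injective σ e)).trans
    (Subalgebra.equivOfEq _ _ (invMap_range σ e τ hτ))

theorem invEquiv_coe (z : R' ⊗[R] invSub σ) : ((invEquiv σ e τ hτ z : invSub τ) : T') = invMap σ e z := rfl

end bcinv

section etinv

theorem etale_bc_inv {R A R' : Type u} [CommRing R] [CommRing A] [Algebra R A] [CommRing R']
    [Algebra R R'] [Module.Flat R R'] [Nontrivial R']
    (hR' : ∀ e : R', IsIdempotentElem e → e = 0 ∨ e = 1) {ι : Type*} [Finite ι]
    (σ : ι → (A →ₐ[R] A)) {n : ℕ} (e : R' ⊗[R] A ≃ₐ[R'] (Fin n → R')) :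
    Algebra.Etale R' (R' ⊗[R] invSub σ) := by
  let σ' : ι → (R' ⊗[R] A →ₐ[R'] R' ⊗[R] A) := fun i =>
    Algebra.TensorProduct.map (AlgHom.id R' R') (σ i)
  let τ : ι → ((Fin n → R') →ₐ[R'] (Fin n → R')) := fun i =>
    (e : R' ⊗[R] A →ₐ[R'] (Fin n → R')).comp ((σ' i).comp (e.symm : (Fin n → R') →ₐ[R'] R' ⊗[R] A))
  have hτ : ∀ i r a, τ i (e (r ⊗ₜ a)) = e (r ⊗ₜ σ i a) := by
    intro i r a
    change e (σ' i (e.symm (e (r ⊗ₜ a)))) = _
    rw [e.symm_apply_apply]
    rfl
  haveI := etale_inv_pi_conn hR' τ
  exact Algebra.Etale.of_equiv (invEquiv σ e τ hτ).symm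

theorem isLocalRing_idem {S : Type u} [CommRing S] [IsLocalRing S] (e : S)
    (he : IsIdempotentElem e) : e = 0 ∨ e = 1 := by
  rcases IsLocalRing.isUnit_or_isUnit_one_sub_self e with h | h
  · right
    have : e * e = e * 1 := by rw [he.eq, mul_one]
    exact h.mul_left_cancel this
  · left
    have : (1 - e) * e = (1 - e) * 0 := by rw [mul_zero, sub_mul, one_mul, he.eq, sub_self]
    exact h.mul_left_cancel this

/-- the trivialization transported to a localization -/
noncomputable def trivLoc {R A S : Type u} [CommRing R] [CommRing A] [Algebra R A] [CommRing S]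
    [Algebra R S] {n : ℕ} (e : S ⊗[R] A ≃ₐ[S] (Fin n → S))
    (T : Type u) [CommRing T] [Algebra S T] [Algebra R T] [IsScalarTower R S T] :
    T ⊗[R] A ≃ₐ[T] (Fin n → T) :=
  ((Algebra.TensorProduct.cancelBaseChange R S T T A).symm.trans
    (Algebra.TensorProduct.congr (AlgEquiv.refl (R := T) (A₁ := T)) e)).trans
    ((Algebra.TensorProduct.piRight S T T (fun _ : Fin n => S)).trans
      (AlgEquiv.piCongrRight (fun _ => Algebra.TensorProduct.rid S T T)))

theorem etale_inv {R A S : Type u} [CommRing R] [IsNoetherianRing R] [CommRing A] [Algebra R A]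
    [Module.Finite R A] [CommRing S] [Algebra R S] [Module.FaithfullyFlat R S]
    {ι : Type*} [Finite ι] (σ : ι → (A →ₐ[R] A)) {n : ℕ} (e : S ⊗[R] A ≃ₐ[S] (Fin n → S)) :
    Algebra.Etale R (invSub σ) := by
  haveI : Module.Finite R (invSub σ) :=
    Module.Finite.of_injective (Subalgebra.toSubmodule (invSub σ)).subtype Subtype.val_injective
  haveI : Algebra.FiniteType R (invSub σ) := inferInstance
  haveI : Algebra.FinitePresentation R (invSub σ) :=
    Algebra.FinitePresentation.of_finiteType.1 inferInstance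
  let T : PrimeSpectrum S → Type u := fun Q => Localization.AtPrime Q.asIdeal
  haveI hflat : ∀ Q, Module.Flat R (T Q) := fun Q =>
    Module.Flat.trans R S (Localization.AtPrime Q.asIdeal)
  refine etale_of_jointly_ff T ?_ ?_
  · intro M _ _ hM
    suffices hsub : Subsingleton (S ⊗[R] M) from
      Module.FaithfullyFlat.lTensor_reflects_triviality R S M
    rw [← Module.support_eq_empty_iff (R := S), Set.eq_empty_iff_forall_notMem]
    intro Q hQ
    rw [Module.mem_support_iff] at hQ
    have e1 : LocalizedModule Q.asIdeal.primeCompl (S ⊗[R] M) ≃ₗ[Localization.AtPrime Q.asIdeal]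
        Localization.AtPrime Q.asIdeal ⊗[S] (S ⊗[R] M) :=
      LocalizedModule.equivTensorProduct _ _
    have e2 : Localization.AtPrime Q.asIdeal ⊗[S] (S ⊗[R] M) ≃ₗ[Localization.AtPrime Q.asIdeal]
        Localization.AtPrime Q.asIdeal ⊗[R] M :=
      TensorProduct.AlgebraTensorModule.cancelBaseChange R S _ _ M
    haveI : Subsingleton (Localization.AtPrime Q.asIdeal ⊗[R] M) := hM Q
    haveI : Subsingleton (LocalizedModule Q.asIdeal.primeCompl (S ⊗[R] M)) :=
      (e1.trans e2).toEquiv.subsingleton
    exact not_subsingleton _ ‹_›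
  · intro Q
    exact etale_bc_inv (R' := T Q) (fun x hx => isLocalRing_idem x hx) σ
      (trivLoc e (Localization.AtPrime Q.asIdeal))

end etinv

section bcalong

theorem isBCAlong_inv {R S : Type u} [CommRing R] [CommRing S] (g : R →+* S) (hflat : g.Flat)
    {A A' : Type u} [CommRing A] [CommRing A'] [Algebra R A] [Algebra S A']
    (φ : A →ₛₗ[g] A') (hφ : IsBCAlong g φ) {ι : Type*} [Finite ι] (σ : ι → (A →ₐ[R] A))
    (σ' : ι → (A' →ₐ[S] A')) (hσ : ∀ i a, σ' i (φ a) = φ (σ i a))
    (φ' : invSub σ →ₛₗ[g] invSub σ') (hφ' : ∀ c, (φ' c : A') = φ c) : IsBCAlong g φ' := by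
  unfold IsBCAlong at hφ ⊢
  letI : Algebra R S := g.toAlgebra
  letI : Module R A' := Module.compHom A' g
  letI : Module R (invSub σ') := Module.compHom _ g
  haveI : IsScalarTower R S A' := IsScalarTower.of_algebraMap_smul fun _ _ => rfl
  haveI : IsScalarTower R S (invSub σ') := IsScalarTower.of_algebraMap_smul fun _ _ => rfl
  haveI : Module.Flat R S := hflat
  let N : Submodule R A := Subalgebra.toSubmodule (invSub σ)
  let N' : Submodule S A' := Subalgebra.toSubmodule (invSub σ')
  have hN : ∀ m, m ∈ N ↔ ∀ i, (σ i).toLinearMap m = m := fun m => Iff.rfl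
  have he : ∀ i (r : S) (m : A), (σ' i).toLinearMap (hφ.equiv (r ⊗ₜ m)) =
      hφ.equiv (r ⊗ₜ (σ i).toLinearMap m) := by
    intro i r m
    rw [IsBaseChange.equiv_tmul, IsBaseChange.equiv_tmul, map_smul]
    congr 1
    exact hσ i m
  let L : S ⊗[R] N →ₗ[S] A' := fixMap N hφ.equiv
  have hL : ∀ z, L z ∈ N' := fun z i =>
    fixMap_fixed (fun i => (σ i).toLinearMap) (fun i => (σ' i).toLinearMap) N hN _ he z i
  let L' : S ⊗[R] N →ₗ[S] N' := L.codRestrict N' hL
  have hbij : Function.Bijective L' := by
    constructor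
    · intro a b hab
      have h1 : (L' a : A') = (L' b : A') := by rw [hab]
      exact fixMap_injective N hφ.equiv h1
    · intro c
      obtain ⟨z, hz⟩ := mem_range_fixMap (fun i => (σ i).toLinearMap)
        (fun i => (σ' i).toLinearMap) N hN _ he c.1 c.2
      exact ⟨z, Subtype.ext hz⟩
  refine IsBaseChange.of_equiv (LinearEquiv.ofBijective L' hbij) ?_
  intro c
  apply Subtype.ext
  change hφ.equiv ((1 : S) ⊗ₜ[R] (c : A)) = _
  rw [IsBaseChange.equiv_tmul, one_smul]
  exact (hφ' c).symm

end bcalong

section fetinv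
open CategoryTheory

variable {X : RSpace.{u}} {ι : Type*}

/-- the pointwise invariants of a family of endomorphisms of an algebra -/
def invAlg (A : Alg X) (σ : ι → (A ⟶ A)) : Alg X where
  carrier p := invSub (fun i => (σ i).app p)
  res {p q} h :=
    { toFun := fun a => ⟨A.res h a.1, fun i => by
        change (σ i).app q (A.res h a.1) = A.res h a.1
        rw [← (σ i).compat h]
        exact congrArg (A.res h) (a.2 i)⟩
      map_one' := Subtype.ext (map_one (A.res h))
      map_mul' := fun a b => Subtype.ext (map_mul (A.res h) a.1 b.1)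
      map_zero' := Subtype.ext (map_zero (A.res h))
      map_add' := fun a b => Subtype.ext (map_add (A.res h) a.1 b.1) }
  res_algebraMap h a := Subtype.ext (A.res_algebraMap h a)
  res_self p b := Subtype.ext (A.res_self p b.1)
  res_comp h h' b := Subtype.ext (A.res_comp h h' b.1)

/-- the inclusion of the invariants -/
def invIncl (A : Alg X) (σ : ι → (A ⟶ A)) : invAlg A σ ⟶ A :=
  ⟨fun p => (invSub (fun i => (σ i).app p)).val, fun h b => rfl⟩

theorem invIncl_comp (A : Alg X) (σ : ι → (A ⟶ A)) (i : ι) : invIncl A σ ≫ σ i = invIncl A σ := by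
  apply Alg.hom_ext
  intro p
  apply AlgHom.ext
  intro a
  exact a.2 i

/-- the universal property of the invariants -/
def invLift (A : Alg X) (σ : ι → (A ⟶ A)) {Z : Alg X} (f : Z ⟶ A) (hf : ∀ i, f ≫ σ i = f) :
    Z ⟶ invAlg A σ :=
  ⟨fun p => AlgHom.codRestrict (f.app p) (invSub (fun i => (σ i).app p)) (fun z i => by
      have := congrArg (fun k : Z ⟶ A => k.app p z) (hf i)
      exact this),
    fun h b => Subtype.ext (f.compat h b)⟩

theorem invLift_incl (A : Alg X) (σ : ι → (A ⟶ A)) {Z : Alg X} (f : Z ⟶ A)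
    (hf : ∀ i, f ≫ σ i = f) : invLift A σ f hf ≫ invIncl A σ = f := by
  apply Alg.hom_ext
  intro p
  apply AlgHom.ext
  intro a
  rfl

theorem invIncl_mono (A : Alg X) (σ : ι → (A ⟶ A)) {Z : Alg X} (f g : Z ⟶ invAlg A σ)
    (h : f ≫ invIncl A σ = g ≫ invIncl A σ) : f = g := by
  apply Alg.hom_ext
  intro p
  apply AlgHom.ext
  intro a
  apply Subtype.ext
  exact congrArg (fun k : Z ⟶ A => k.app p a) h

theorem invAlg_isEtCover [Finite ι] (hX : X.IsFinSp) (A : Alg X) (hA : A.IsEtCover)
    (σ : ι → (A ⟶ A))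
    (hlt : ∃ (B : Alg X) (n : ℕ), B.IsCovering ∧
      ∀ p : X.pt, Nonempty (TensorProduct (X.ring p) (B.carrier p) (A.carrier p) ≃ₐ[B.carrier p] (Fin n → B.carrier p))) :
    (invAlg A σ).IsEtCover := by
  obtain ⟨B, n, hB, hiso⟩ := hlt
  refine ⟨?_, fun p => ?_⟩
  · intro p q h
    exact isBCAlong_inv (A := A.carrier p) (A' := A.carrier q) (X.res h) (hX.2 p q h)
      (A.toMod.res h) (hA.1 p q h)
      (fun i => (σ i).app p) (fun i => (σ i).app q) (fun i a => ((σ i).compat h a).symm)
      ((invAlg A σ).toMod.res h) (fun c => rfl)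
  · haveI := hX.1 p
    haveI := (hA.2 p).1
    haveI := (hB.2 p).2
    obtain ⟨e⟩ := hiso p
    refine ⟨?_, etale_inv (fun i => (σ i).app p) e⟩
    exact Module.Finite.of_injective
      (Subalgebra.toSubmodule (invSub (fun i => (σ i).app p))).subtype Subtype.val_injective

end fetinv

end Groth.Agent.Helper23.FEtInv
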