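import Groth.Agent.Lib.Helper23.EqAlg2
import Groth.Agent.Lib.Helper23.FEtInv

/-! helper23: flatness of the cokernel for split algebras. -/

set_option autoImplicit false
set_option linter.style.haveILetI false
set_option linter.unusedVariables false
universe u

namespace Groth.Agent.Helper23.EqAlg
open TensorProduct

theorem IsReg.projective_coker {A : Type u} [CommRing A] {B C : Type u} [AddCommGroup B]
    [Module A B] [AddCommGroup C] [Module A C] {d : B →ₗ[A] C} (hd : IsReg d)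
    [Module.Projective A C] : Module.Projective A (C ⧸ LinearMap.range d) := by
  obtain ⟨h, hh⟩ := hd
  let q : C →ₗ[A] C := LinearMap.id - d ∘ₗ h
  have hq : LinearMap.range d ≤ LinearMap.ker q := by
    rintro _ ⟨b, rfl⟩
    rw [LinearMap.mem_ker]
    change d b - d (h (d b)) = 0
    rw [hh, sub_self]
  let i : (C ⧸ LinearMap.range d) →ₗ[A] C := (LinearMap.range d).liftQ q hq
  refine Module.Projective.of_split i (LinearMap.range d).mkQ ?_
  apply Submodule.linearMap_qext
  ext c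
  change (LinearMap.range d).mkQ (c - d (h c)) = (LinearMap.range d).mkQ c
  rw [map_sub, sub_eq_self]
  rw [← LinearMap.mem_ker, Submodule.ker_mkQ]
  exact ⟨_, rfl⟩

section conj

variable {A : Type u} [CommRing A] {B C B₂ C₂ : Type u} [CommRing B] [Algebra A B]
  [CommRing C] [Algebra A C] [CommRing B₂] [Algebra A B₂] [CommRing C₂] [Algebra A C₂]

/-- conjugation of an algebra map by isomorphisms -/
noncomputable def conj (eB : B ≃ₐ[A] B₂) (eC : C ≃ₐ[A] C₂) (φ : B →ₐ[A] C) : B₂ →ₐ[A] C₂ :=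
  (eC : C →ₐ[A] C₂).comp (φ.comp (eB.symm : B₂ →ₐ[A] B))

theorem conj_apply (eB : B ≃ₐ[A] B₂) (eC : C ≃ₐ[A] C₂) (φ : B →ₐ[A] C) (b : B) :
    conj eB eC φ (eB b) = eC (φ b) := by
  change eC (φ (eB.symm (eB b))) = _
  rw [eB.symm_apply_apply]

theorem CF_conj (eB : B ≃ₐ[A] B₂) (eC : C ≃ₐ[A] C₂) (φ ψ : B →ₐ[A] C)
    (h : CF (conj eB eC φ) (conj eB eC ψ)) : CF φ ψ :=
  CF_congr φ ψ _ _ eB eC (conj_apply eB eC φ) (conj_apply eB eC ψ) h

end conj

section pi

theorem CF_pi_conn {T : Type u} [CommRing T] [Nontrivial T]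
    (hT : ∀ e : T, IsIdempotentElem e → e = 0 ∨ e = 1) {n m : ℕ}
    (φ ψ : (Fin n → T) →ₐ[T] (Fin m → T)) : CF φ ψ := by
  have ha : ∀ k, ∃ j, ∀ t, φ t k = t j := fun k =>
    FEtInv.algHom_pi_eq_proj hT ((Pi.evalAlgHom T (fun _ : Fin m => T) k).comp φ)
  have hb : ∀ k, ∃ j, ∀ t, ψ t k = t j := fun k =>
    FEtInv.algHom_pi_eq_proj hT ((Pi.evalAlgHom T (fun _ : Fin m => T) k).comp ψ)
  choose a ha using ha
  choose b hb using hb
  have hd : dd φ ψ = cobd T a b := by
    apply LinearMap.ext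
    intro t
    funext k
    rw [dd_apply, cobd_apply, Pi.sub_apply, ha, hb]
  unfold CF
  rw [hd]
  haveI := (isReg_cobd T a b).projective_coker
  infer_instance

/-- the canonical trivialisation of a base changed split algebra -/
noncomputable def piBC (A A' : Type u) [CommRing A] [CommRing A'] [Algebra A A'] (n : ℕ) :
    A' ⊗[A] (Fin n → A) ≃ₐ[A'] (Fin n → A') :=
  (Algebra.TensorProduct.piRight A A' A' (fun _ : Fin n => A)).trans
    (AlgEquiv.piCongrRight (fun _ => Algebra.TensorProduct.rid A A' A'))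

theorem CF_pi {A : Type u} [CommRing A] {n m : ℕ} (φ ψ : (Fin n → A) →ₐ[A] (Fin m → A)) :
    CF φ ψ := by
  apply CF_of_localized
  intro P _
  apply CF_conj (piBC A (Localization.AtPrime P) n) (piBC A (Localization.AtPrime P) m)
  exact CF_pi_conn (fun x hx => FEtInv.isLocalRing_idem x hx) _ _

theorem CF_of_split {A : Type u} [CommRing A] {B C : Type u} [CommRing B] [Algebra A B]
    [CommRing C] [Algebra A C] {n m : ℕ} (eB : B ≃ₐ[A] (Fin n → A)) (eC : C ≃ₐ[A] (Fin m → A))
    (φ ψ : B →ₐ[A] C) : CF φ ψ :=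
  CF_conj eB eC φ ψ (CF_pi _ _)

end pi

end Groth.Agent.Helper23.EqAlg
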