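import Groth.Agent.Lib.Helper23.EqAlg3

/-! helper23: a finite étale algebra of constant rank is split by a faithfully flat extension. -/

set_option autoImplicit false
set_option linter.style.haveILetI false
set_option linter.unusedVariables false
universe u

namespace Groth.Agent.Helper23.EqAlg
open TensorProduct

/-- algebra isomorphism between trivial algebras -/
noncomputable def algEquivOfSubsingleton (R X Y : Type u) [CommRing R] [CommRing X] [CommRing Y]
    [Algebra R X] [Algebra R Y] [Subsingleton X] [Subsingleton Y] : X ≃ₐ[R] Y where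
  toFun _ := 0
  invFun _ := 0
  left_inv _ := Subsingleton.elim _ _
  right_inv _ := Subsingleton.elim _ _
  map_mul' _ _ := Subsingleton.elim _ _
  map_add' _ _ := Subsingleton.elim _ _
  commutes' _ := Subsingleton.elim _ _

/-- `S × Sⁿ ≃ Sⁿ⁺¹` -/
noncomputable def consAlgEquiv (S : Type u) [CommRing S] (n : ℕ) :
    (S × (Fin n → S)) ≃ₐ[S] (Fin (n + 1) → S) :=
  ((AlgEquiv.prodCongr (AlgEquiv.funUnique S (Fin 1) S).symm AlgEquiv.refl).trans
    (AlgEquiv.sumArrowEquivProdArrow (Fin 1) (Fin n) S S).symm).trans
    (AlgEquiv.piCongrLeft S (fun _ : Fin (n + 1) => S)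
      (finSumFinEquiv.trans (finCongr (Nat.add_comm 1 n))))

instance flat_of_finite_etale (A B : Type u) [CommRing A] [CommRing B] [Algebra A B]
    [Algebra.Etale A B] : Module.Flat A B := inferInstance

theorem exists_split (n : ℕ) : ∀ (A B : Type u) [CommRing A] [CommRing B] [Algebra A B]
    [Module.Finite A B] [Algebra.Etale A B],
    (∀ p : PrimeSpectrum A, Module.rankAtStalk (R := A) B p = n) →
    ∃ (A' : Type u) (_ : CommRing A') (_ : Algebra A A'), Module.FaithfullyFlat A A' ∧
      Nonempty (A' ⊗[A] B ≃ₐ[A'] (Fin n → A')) := by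
  induction n with
  | zero =>
    intro A B _ _ _ _ _ hr
    haveI : Subsingleton B := by
      rw [← Module.rankAtStalk_eq_zero_iff_subsingleton (R := A)]
      funext p
      exact hr p
    exact ⟨A, inferInstance, inferInstance, inferInstance,
      ⟨algEquivOfSubsingleton A _ _⟩⟩
  | succ n ih =>
    intro A B _ _ _ _ _ hr
    rcases subsingleton_or_nontrivial A with hA | hA
    · haveI : Subsingleton B := by
        refine ⟨fun x y => ?_⟩
        have h1 : (1 : B) = 0 := by
          rw [← map_one (algebraMap A B), Subsingleton.elim (1 : A) 0, map_zero]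
        rw [← mul_one x, ← mul_one y, h1, mul_zero, mul_zero]
      haveI : Subsingleton (Fin (n + 1) → A) := ⟨fun x y => funext fun i => Subsingleton.elim _ _⟩
      exact ⟨A, inferInstance, inferInstance, inferInstance,
        ⟨algEquivOfSubsingleton A _ _⟩⟩
    have hpos : ∀ p, 0 < Module.rankAtStalk (R := A) B p := fun p => by rw [hr p]; omega
    have hinj : Function.Injective (algebraMap A B) :=
      Module.rankAtStalk_pos_iff_algebraMap_injective.1 hpos
    haveI : Nontrivial B := hinj.nontrivial
    haveI : Module.FaithfullyFlat A B :=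
      Module.FaithfullyFlat.of_comap_surjective
        (PrimeSpectrum.rankAtStalk_pos_iff_comap_surjective.1 hpos)
    obtain ⟨T, _, _, ⟨e⟩⟩ := Algebra.FormallyUnramified.exists_algEquiv_prod A B
    haveI : Module.Finite B (B × T) := Module.Finite.equiv e.toLinearEquiv
    haveI : Module.Finite B T :=
      Module.Finite.of_surjective (LinearMap.snd B B T) LinearMap.snd_surjective
    haveI : Algebra.Etale B (B × T) := Algebra.Etale.of_equiv e
    haveI : Algebra.Etale B T := by
      letI : Algebra (B × T) T := (RingHom.snd B T).toAlgebra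
      haveI : IsScalarTower B (B × T) T := IsScalarTower.of_algebraMap_eq' rfl
      exact Algebra.Etale.comp B (B × T) T
    have hrT : ∀ q : PrimeSpectrum B, Module.rankAtStalk (R := B) T q = n := by
      intro q
      have h1 : Module.rankAtStalk (R := B) (B ⊗[A] B) q = n + 1 := by
        rw [Module.rankAtStalk_baseChange, hr]
      have h2 : Module.rankAtStalk (R := B) (B ⊗[A] B) = Module.rankAtStalk (R := B) (B × T) :=
        Module.rankAtStalk_eq_of_equiv e.toLinearEquiv
      have h3 : Module.rankAtStalk (R := B) (B × T) =
          Module.rankAtStalk (R := B) B + Module.rankAtStalk (R := B) T :=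
        Module.rankAtStalk_prod B T
      have h4 : Module.rankAtStalk (R := B) B q = 1 := by
        rw [Module.rankAtStalk_self]; rfl
      have h5 := congrFun (h2.trans h3) q
      rw [h1, Pi.add_apply, h4] at h5
      omega
    obtain ⟨B', _, _, hff, ⟨e'⟩⟩ := ih B T hrT
    letI : Algebra A B' := ((algebraMap B B').comp (algebraMap A B)).toAlgebra
    haveI : IsScalarTower A B B' := IsScalarTower.of_algebraMap_eq' rfl
    refine ⟨B', inferInstance, inferInstance, Module.FaithfullyFlat.trans A B B', ⟨?_⟩⟩
    exact ((((Algebra.TensorProduct.cancelBaseChange A B B' B' B).symm.trans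
      (Algebra.TensorProduct.congr (AlgEquiv.refl (R := B') (A₁ := B')) e)).trans
      (Algebra.TensorProduct.prodRight B B' B' B T)).trans
      (AlgEquiv.prodCongr (Algebra.TensorProduct.rid B B' B') e')).trans
      (consAlgEquiv B' n)

end Groth.Agent.Helper23.EqAlg
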