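import Groth.Agent.Lib.Helper23.EqAlg4

/-! helper23: the difference of two maps of finite étale algebras is a regular linear map;
equalizers are finite projective and commute with arbitrary base change. -/

set_option autoImplicit false
set_option linter.style.haveILetI false
set_option linter.unusedVariables false
universe u

namespace Groth.Agent.Helper23.EqAlg
open TensorProduct

theorem finitePresentation_of_finite_etale (A C : Type u) [CommRing A] [CommRing C] [Algebra A C]
    [Module.Finite A C] [Algebra.Etale A C] : Module.FinitePresentation A C :=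
  Module.FinitePresentation.of_finite_of_finitePresentation A C

theorem projective_of_finite_etale (A C : Type u) [CommRing A] [CommRing C] [Algebra A C]
    [Module.Finite A C] [Algebra.Etale A C] : Module.Projective A C :=
  haveI := finitePresentation_of_finite_etale A C
  Module.Flat.projective_of_finitePresentation

section cf

variable {A : Type u} [CommRing A] {B C : Type u} [CommRing B] [Algebra A B]
  [CommRing C] [Algebra A C] [Module.Finite A B] [Algebra.Etale A B] [Module.Finite A C]
  [Algebra.Etale A C]

theorem CF_of_constRank (φ ψ : B →ₐ[A] C) (n m : ℕ)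
    (hn : ∀ p : PrimeSpectrum A, Module.rankAtStalk (R := A) B p = n)
    (hm : ∀ p : PrimeSpectrum A, Module.rankAtStalk (R := A) C p = m) : CF φ ψ := by
  obtain ⟨A1, _, _, hff1, ⟨e1⟩⟩ := exists_split n A B hn
  have hm1 : ∀ p : PrimeSpectrum A1, Module.rankAtStalk (R := A1) (A1 ⊗[A] C) p = m := by
    intro p
    rw [Module.rankAtStalk_baseChange, hm]
  obtain ⟨A2, _, _, hff2, ⟨e2⟩⟩ := exists_split m A1 (A1 ⊗[A] C) hm1
  apply CF_of_ff φ ψ A1
  apply CF_of_ff (bcAlg A1 φ) (bcAlg A1 ψ) A2
  exact CF_of_split ((Algebra.TensorProduct.congr (AlgEquiv.refl (R := A2) (A₁ := A2)) e1).trans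
    (piBC A1 A2 n)) e2 _ _

theorem rank_const_of_local (S : Type u) [CommRing S] [IsLocalRing S] (M : Type u) [AddCommGroup M]
    [Module S M] [Module.Finite S M] [Module.Flat S M] (p : PrimeSpectrum S) :
    Module.rankAtStalk (R := S) M p = Module.rankAtStalk (R := S) M (IsLocalRing.closedPoint S) :=
  Module.rankAtStalk_eq_of_le_of_finite_of_flat M
    (IsLocalRing.le_maximalIdeal p.isPrime.ne_top)

theorem CF_finiteEtale (φ ψ : B →ₐ[A] C) : CF φ ψ := by
  apply CF_of_localized
  intro P _
  exact CF_of_constRank _ _ _ _ (fun p => rank_const_of_local _ _ p)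
    (fun p => rank_const_of_local _ _ p)

theorem isReg_dd (φ ψ : B →ₐ[A] C) : IsReg (dd φ ψ) := by
  have hcf : Module.Flat A (C ⧸ LinearMap.range (dd φ ψ)) := CF_finiteEtale φ ψ
  haveI : Module.Projective A C := projective_of_finite_etale A C
  haveI : Module.FinitePresentation A C := finitePresentation_of_finite_etale A C
  haveI : Module.FinitePresentation A (C ⧸ LinearMap.range (dd φ ψ)) := by
    refine Module.finitePresentation_of_surjective (LinearMap.range (dd φ ψ)).mkQ
      (Submodule.mkQ_surjective _) ?_
    rw [Submodule.ker_mkQ, LinearMap.range_eq_map]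
    exact Submodule.FG.map _ Module.Finite.fg_top
  haveI : Module.Projective A (C ⧸ LinearMap.range (dd φ ψ)) :=
    Module.Flat.projective_of_finitePresentation
  exact isReg_of_projective_coker (dd φ ψ)

end cf

section eq

variable {A : Type u} [CommRing A] {B C : Type u} [CommRing B] [Algebra A B]
  [CommRing C] [Algebra A C] (φ ψ : B →ₐ[A] C)

theorem toSubmodule_equalizer :
    Subalgebra.toSubmodule (AlgHom.equalizer φ ψ) = LinearMap.ker (dd φ ψ) := by
  ext x
  rw [LinearMap.mem_ker, dd_apply, sub_eq_zero]
  rfl

/-- the equalizer as the kernel of the difference -/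
noncomputable def eqKer : AlgHom.equalizer φ ψ ≃ₗ[A] LinearMap.ker (dd φ ψ) :=
  LinearEquiv.ofEq _ _ (toSubmodule_equalizer φ ψ)

theorem finite_equalizer (h : IsReg (dd φ ψ)) [Module.Finite A B] :
    Module.Finite A (AlgHom.equalizer φ ψ) :=
  haveI := h.finite_ker
  Module.Finite.equiv (eqKer φ ψ).symm

theorem projective_equalizer (h : IsReg (dd φ ψ)) [Module.Projective A B] :
    Module.Projective A (AlgHom.equalizer φ ψ) :=
  haveI := h.projective_ker
  Module.Projective.of_equiv (eqKer φ ψ).symm

theorem lTensor_injective_of_eq {M : Type*} [AddCommGroup M] [Module A M] {d : B →ₗ[A] C}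
    (hd : IsReg d) (K : Submodule A B) (hK : K = LinearMap.ker d) :
    Function.Injective (K.subtype.lTensor M) := by
  subst hK
  exact hd.lTensor_subtype_injective M

theorem lTensor_exact_of_eq {M : Type*} [AddCommGroup M] [Module A M] {d : B →ₗ[A] C}
    (hd : IsReg d) (K : Submodule A B) (hK : K = LinearMap.ker d) (x : M ⊗[A] B)
    (hx : d.lTensor M x = 0) : x ∈ LinearMap.range (K.subtype.lTensor M) := by
  subst hK
  exact hd.lTensor_exact M x hx

theorem map_val_eq_lTensor (A' : Type u) [CommRing A'] [Algebra A A']
    (z : A' ⊗[A] AlgHom.equalizer φ ψ) :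
    Algebra.TensorProduct.map (AlgHom.id A' A') (AlgHom.equalizer φ ψ).val z =
      (Subalgebra.toSubmodule (AlgHom.equalizer φ ψ)).subtype.lTensor A' z := by
  induction z using TensorProduct.induction_on with
  | zero => simp
  | tmul a x => rfl
  | add x y hx hy => rw [map_add, map_add, hx, hy]

theorem tensorEqualizer_bijective (h : IsReg (dd φ ψ)) (A' : Type u) [CommRing A']
    [Algebra A A'] : Function.Bijective (AlgHom.tensorEqualizer A' A' φ ψ) := by
  constructor
  · intro x y hxy
    have h1 := congrArg Subtype.val hxy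
    rw [AlgHom.coe_tensorEqualizer, AlgHom.coe_tensorEqualizer, map_val_eq_lTensor,
      map_val_eq_lTensor] at h1
    exact lTensor_injective_of_eq h _ (toSubmodule_equalizer φ ψ) h1
  · intro y
    have hy : (dd φ ψ).lTensor A' y.1 = 0 := by
      have h2 : bcAlg A' φ y.1 = bcAlg A' ψ y.1 := y.2
      have h3 : dd (bcAlg A' φ) (bcAlg A' ψ) y.1 = 0 := by
        rw [dd_apply, h2, sub_self]
      rw [dd_bc] at h3
      rw [← LinearMap.baseChange_eq_ltensor]
      exact h3
    obtain ⟨x, hx⟩ := lTensor_exact_of_eq h _ (toSubmodule_equalizer φ ψ) y.1 hy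
    refine ⟨x, Subtype.ext ?_⟩
    rw [AlgHom.coe_tensorEqualizer, map_val_eq_lTensor]
    exact hx

end eq

end Groth.Agent.Helper23.EqAlg
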