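import Groth.Agent.Lib.Helper23.EqAlg5

/-! helper23: equalizers of finite étale algebras are étale. -/

set_option autoImplicit false
set_option linter.style.haveILetI false
set_option linter.unusedVariables false
universe u

namespace Groth.Agent.Helper23.EqAlg
open TensorProduct

section et

variable {A : Type u} [CommRing A] {B C : Type u} [CommRing B] [Algebra A B]
  [CommRing C] [Algebra A C]

/-- the equalizer is étale -/
def ET (φ ψ : B →ₐ[A] C) : Prop := Algebra.Etale A (AlgHom.equalizer φ ψ)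

theorem ET_of_ff (φ ψ : B →ₐ[A] C) (A' : Type u) [CommRing A'] [Algebra A A']
    [Module.FaithfullyFlat A A'] (h : ET (bcAlg A' φ) (bcAlg A' ψ)) : ET φ ψ := by
  unfold ET at h ⊢
  haveI : Algebra.Etale A' (A' ⊗[A] AlgHom.equalizer φ ψ) :=
    Algebra.Etale.of_equiv (AlgHom.tensorEqualizerEquiv A' A' φ ψ).symm
  exact Algebra.Etale.of_etale_tensorProduct_of_faithfullyFlat A'

theorem ET_of_localized (φ ψ : B →ₐ[A] C) [Algebra.FinitePresentation A (AlgHom.equalizer φ ψ)]
    (h : ∀ (P : Ideal A) [P.IsPrime],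
      ET (bcAlg (Localization.AtPrime P) φ) (bcAlg (Localization.AtPrime P) ψ)) : ET φ ψ := by
  unfold ET at h ⊢
  let T : PrimeSpectrum A → Type u := fun Q => Localization.AtPrime Q.asIdeal
  refine FEtInv.etale_of_jointly_ff T ?_ ?_
  · intro M _ _ hM
    rw [← Module.support_eq_empty_iff (R := A), Set.eq_empty_iff_forall_notMem]
    intro Q hQ
    rw [Module.mem_support_iff] at hQ
    have e1 : LocalizedModule Q.asIdeal.primeCompl M ≃ₗ[Localization.AtPrime Q.asIdeal]
        Localization.AtPrime Q.asIdeal ⊗[A] M :=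
      LocalizedModule.equivTensorProduct _ _
    haveI : Subsingleton (Localization.AtPrime Q.asIdeal ⊗[A] M) := hM Q
    haveI : Subsingleton (LocalizedModule Q.asIdeal.primeCompl M) := e1.toEquiv.subsingleton
    exact not_subsingleton _ ‹_›
  · intro Q
    haveI := h Q.asIdeal
    exact Algebra.Etale.of_equiv
      (AlgHom.tensorEqualizerEquiv (Localization.AtPrime Q.asIdeal)
        (Localization.AtPrime Q.asIdeal) φ ψ).symm

theorem map_equalizer {B₂ C₂ : Type u} [CommRing B₂] [Algebra A B₂] [CommRing C₂] [Algebra A C₂]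
    (eB : B ≃ₐ[A] B₂) (eC : C ≃ₐ[A] C₂) (φ ψ : B →ₐ[A] C) :
    (AlgHom.equalizer φ ψ).map (eB : B →ₐ[A] B₂) =
      AlgHom.equalizer (conj eB eC φ) (conj eB eC ψ) := by
  ext y
  rw [Subalgebra.mem_map]
  constructor
  · rintro ⟨x, hx, rfl⟩
    change conj eB eC φ (eB x) = conj eB eC ψ (eB x)
    rw [conj_apply, conj_apply]
    exact congrArg eC hx
  · intro hy
    refine ⟨eB.symm y, ?_, eB.apply_symm_apply y⟩
    have h1 : conj eB eC φ (eB (eB.symm y)) = conj eB eC ψ (eB (eB.symm y)) := by
      rw [eB.apply_symm_apply]; exact hy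
    rw [conj_apply, conj_apply] at h1
    exact eC.injective h1

theorem ET_conj {B₂ C₂ : Type u} [CommRing B₂] [Algebra A B₂] [CommRing C₂] [Algebra A C₂]
    (eB : B ≃ₐ[A] B₂) (eC : C ≃ₐ[A] C₂) (φ ψ : B →ₐ[A] C)
    (h : ET (conj eB eC φ) (conj eB eC ψ)) : ET φ ψ := by
  unfold ET at h ⊢
  have e : AlgHom.equalizer φ ψ ≃ₐ[A] AlgHom.equalizer (conj eB eC φ) (conj eB eC ψ) :=
    ((AlgHom.equalizer φ ψ).equivMapOfInjective (eB : B →ₐ[A] B₂) eB.injective).trans
      (Subalgebra.equivOfEq _ _ (map_equalizer eB eC φ ψ))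
  exact Algebra.Etale.of_equiv e.symm

end et

section pi

theorem ET_pi_conn {T : Type u} [CommRing T] [Nontrivial T]
    (hT : ∀ e : T, IsIdempotentElem e → e = 0 ∨ e = 1) {n m : ℕ}
    (φ ψ : (Fin n → T) →ₐ[T] (Fin m → T)) : ET φ ψ := by
  classical
  have ha : ∀ k, ∃ j, ∀ t, φ t k = t j := fun k =>
    FEtInv.algHom_pi_eq_proj hT ((Pi.evalAlgHom T (fun _ : Fin m => T) k).comp φ)
  have hb : ∀ k, ∃ j, ∀ t, ψ t k = t j := fun k =>
    FEtInv.algHom_pi_eq_proj hT ((Pi.evalAlgHom T (fun _ : Fin m => T) k).comp ψ)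
  choose a ha using ha
  choose b hb using hb
  let r : Setoid (Fin n) := Relation.EqvGen.setoid (fun u v => ∃ k, u = a k ∧ v = b k)
  let Q := Quotient r
  let f : (Q → T) →ₐ[T] (Fin n → T) :=
    { toFun := fun u k => u (Quotient.mk r k)
      map_one' := rfl
      map_mul' := fun _ _ => rfl
      map_zero' := rfl
      map_add' := fun _ _ => rfl
      commutes' := fun _ => rfl }
  have hf : Function.Injective f := by
    intro u u' h
    funext q
    obtain ⟨k, rfl⟩ := Quotient.mk_surjective q
    exact congrFun h k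
  have hrange : f.range = AlgHom.equalizer φ ψ := by
    ext t
    rw [AlgHom.mem_range]
    constructor
    · rintro ⟨u, rfl⟩
      change φ (f u) = ψ (f u)
      funext k
      rw [ha, hb]
      change u (Quotient.mk r (a k)) = u (Quotient.mk r (b k))
      congr 1
      exact Quotient.sound (Relation.EqvGen.rel _ _ ⟨k, rfl, rfl⟩)
    · intro ht
      have ht' : ∀ k, t (a k) = t (b k) := by
        intro k
        have := congrFun (show φ t = ψ t from ht) k
        rwa [ha, hb] at this
      have hresp : ∀ k k', r k k' → t k = t k' := by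
        intro k k' h
        induction h with
        | rel u v huv =>
          obtain ⟨i, rfl, rfl⟩ := huv
          exact ht' i
        | refl u => rfl
        | symm u v _ ih => exact ih.symm
        | trans u v w _ _ ih1 ih2 => exact ih1.trans ih2
      refine ⟨Quotient.lift t hresp, ?_⟩
      funext k
      rfl
  have e1 : (Q → T) ≃ₐ[T] f.range := AlgEquiv.ofInjective f hf
  have e2 : (Q → T) ≃ₐ[T] AlgHom.equalizer φ ψ := e1.trans (Subalgebra.equivOfEq _ _ hrange)
  haveI : Finite Q := inferInstance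
  haveI : Algebra.Etale T (Q → T) := inferInstance
  exact Algebra.Etale.of_equiv e2

theorem fp_equalizer {A : Type u} [CommRing A] {B C : Type u} [CommRing B] [Algebra A B]
    [CommRing C] [Algebra A C] [Module.Finite A B] [Algebra.Etale A B] [Module.Finite A C]
    [Algebra.Etale A C] (φ ψ : B →ₐ[A] C) :
    Algebra.FinitePresentation A (AlgHom.equalizer φ ψ) := by
  have hreg := isReg_dd φ ψ
  haveI : Module.Projective A B := projective_of_finite_etale A B
  haveI := finite_equalizer φ ψ hreg
  haveI := projective_equalizer φ ψ hreg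
  haveI : Module.FinitePresentation A (AlgHom.equalizer φ ψ) :=
    Module.finitePresentation_of_projective A _
  infer_instance

theorem ET_pi {A : Type u} [CommRing A] {n m : ℕ} (φ ψ : (Fin n → A) →ₐ[A] (Fin m → A)) :
    ET φ ψ := by
  haveI := fp_equalizer φ ψ
  apply ET_of_localized
  intro P _
  apply ET_conj (piBC A (Localization.AtPrime P) n) (piBC A (Localization.AtPrime P) m)
  exact ET_pi_conn (fun x hx => FEtInv.isLocalRing_idem x hx) _ _

theorem ET_of_split {A : Type u} [CommRing A] {B C : Type u} [CommRing B] [Algebra A B]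
    [CommRing C] [Algebra A C] {n m : ℕ} (eB : B ≃ₐ[A] (Fin n → A)) (eC : C ≃ₐ[A] (Fin m → A))
    (φ ψ : B →ₐ[A] C) : ET φ ψ :=
  ET_conj eB eC φ ψ (ET_pi _ _)

end pi

section main

variable {A : Type u} [CommRing A] {B C : Type u} [CommRing B] [Algebra A B]
  [CommRing C] [Algebra A C] [Module.Finite A B] [Algebra.Etale A B] [Module.Finite A C]
  [Algebra.Etale A C]

theorem ET_of_constRank (φ ψ : B →ₐ[A] C) (n m : ℕ)
    (hn : ∀ p : PrimeSpectrum A, Module.rankAtStalk (R := A) B p = n)
    (hm : ∀ p : PrimeSpectrum A, Module.rankAtStalk (R := A) C p = m) : ET φ ψ := by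
  obtain ⟨A1, _, _, hff1, ⟨e1⟩⟩ := exists_split n A B hn
  have hm1 : ∀ p : PrimeSpectrum A1, Module.rankAtStalk (R := A1) (A1 ⊗[A] C) p = m := by
    intro p
    rw [Module.rankAtStalk_baseChange, hm]
  obtain ⟨A2, _, _, hff2, ⟨e2⟩⟩ := exists_split m A1 (A1 ⊗[A] C) hm1
  apply ET_of_ff φ ψ A1
  apply ET_of_ff (bcAlg A1 φ) (bcAlg A1 ψ) A2
  exact ET_of_split ((Algebra.TensorProduct.congr (AlgEquiv.refl (R := A2) (A₁ := A2)) e1).trans
    (piBC A1 A2 n)) e2 _ _

/-- the equalizer of two maps of finite étale algebras is étale -/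
theorem etale_equalizer (φ ψ : B →ₐ[A] C) : Algebra.Etale A (AlgHom.equalizer φ ψ) := by
  haveI := fp_equalizer φ ψ
  apply ET_of_localized
  intro P _
  exact ET_of_constRank _ _ _ _ (fun p => rank_const_of_local _ _ p)
    (fun p => rank_const_of_local _ _ p)

/-- the equalizer of two maps of finite étale algebras is finite -/
theorem finite_equalizer' (φ ψ : B →ₐ[A] C) : Module.Finite A (AlgHom.equalizer φ ψ) :=
  finite_equalizer φ ψ (isReg_dd φ ψ)

end main

end Groth.Agent.Helper23.EqAlg
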