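import Mathlib

/-!
# Locally essentially of finite type morphisms: affine communication (helper23)
-/

set_option autoImplicit false

namespace Groth.Agent.Helper23.EssFT
open CategoryTheory AlgebraicGeometry TopologicalSpace Opposite

universe u

variable {X Y : Scheme.{u}}

/-- restriction to an open equal to a basic open of an affine open is essentially of finite type -/
lemma essFT_res {U : X.Opens} (hU : IsAffineOpen U) (f : Γ(X, U)) {V : X.Opens} (i : V ⟶ U)
    (e : V = X.basicOpen f) : (X.presheaf.map i.op).hom.EssFiniteType := by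
  letI := (X.presheaf.map i.op).hom.toAlgebra
  haveI := hU.isLocalization_of_eq_basicOpen f i e
  exact Algebra.EssFiniteType.of_isLocalization _ (Submonoid.powers f)

/-- pointwise form of "locally essentially of finite type over `U`" -/
def GoodAt (f : X ⟶ Y) (U : Y.Opens) (x : X) : Prop :=
  ∃ V : X.affineOpens, x ∈ V.1 ∧ ∃ e : V.1 ≤ f ⁻¹ᵁ U, (f.appLE U V.1 e).hom.EssFiniteType

/-- the cover form used in the statements -/
def Good (f : X ⟶ Y) (U : Y.Opens) : Prop :=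
  ∃ T : Set X.affineOpens, (⋃ V ∈ T, ((V : X.Opens) : Set ↥X)) = ((f ⁻¹ᵁ U : X.Opens) : Set ↥X) ∧
    ∀ V ∈ T, ∃ e : (V : X.Opens) ≤ f ⁻¹ᵁ U, (f.appLE U (V : X.Opens) e).hom.EssFiniteType

lemma good_iff (f : X ⟶ Y) (U : Y.Opens) : Good f U ↔ ∀ x ∈ f ⁻¹ᵁ U, GoodAt f U x := by
  constructor
  · rintro ⟨T, hT, h⟩ x hx
    have hx' : x ∈ ⋃ V ∈ T, ((V : X.Opens) : Set ↥X) := by rw [hT]; exact hx
    simp only [Set.mem_iUnion] at hx'
    obtain ⟨V, hVT, hxV⟩ := hx'
    exact ⟨V, hxV, h V hVT⟩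
  · intro h
    refine ⟨{V | ∃ e : (V : X.Opens) ≤ f ⁻¹ᵁ U, (f.appLE U (V : X.Opens) e).hom.EssFiniteType},
      ?_, fun V hV => hV⟩
    apply Set.Subset.antisymm
    · intro x hx
      simp only [Set.mem_iUnion] at hx
      obtain ⟨V, ⟨e, -⟩, hxV⟩ := hx
      exact e hxV
    · intro x hx
      obtain ⟨V, hxV, e, he⟩ := h x hx
      simp only [Set.mem_iUnion]
      exact ⟨V, ⟨e, he⟩, hxV⟩

/-- transfer of goodness between two affine opens of the target -/
theorem goodAt_transfer (f : X ⟶ Y) {U U' : Y.Opens} (hU : IsAffineOpen U)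
    (hU' : IsAffineOpen U') (x : X) (hxU : f.base x ∈ U) (hxU' : f.base x ∈ U')
    (h : GoodAt f U x) : GoodAt f U' x := by
  obtain ⟨g, g', hgg', hxg⟩ := exists_basicOpen_le_affine_inter hU hU' (f.base x) ⟨hxU, hxU'⟩
  obtain ⟨⟨V, hV⟩, hxV, e, he⟩ := h
  -- the basic open of V
  set hh : Γ(X, V) := f.appLE U V e g with hhdef
  have hV'' : IsAffineOpen (X.basicOpen hh) := hV.basicOpen hh
  have hbo : X.basicOpen hh = V ⊓ f ⁻¹ᵁ (Y.basicOpen g) := Scheme.basicOpen_appLE f V U e g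
  have hxV'' : x ∈ X.basicOpen hh := by
    rw [hbo]
    exact ⟨hxV, hxg⟩
  have eD : X.basicOpen hh ≤ f ⁻¹ᵁ (Y.basicOpen g) := by
    rw [hbo]; exact inf_le_right
  have eD' : X.basicOpen hh ≤ f ⁻¹ᵁ (Y.basicOpen g') := hgg' ▸ eD
  have eU' : X.basicOpen hh ≤ f ⁻¹ᵁ U' :=
    eD'.trans (fun y hy => Y.basicOpen_le g' hy)
  refine ⟨⟨X.basicOpen hh, hV''⟩, hxV'', eU', ?_⟩
  -- appLE D V'' is essentially of finite type
  have h1 : (f.appLE U (X.basicOpen hh) ((X.basicOpen_le hh).trans e)).hom.EssFiniteType := by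
    have := Scheme.Hom.appLE_map f e (homOfLE (X.basicOpen_le hh)).op
    rw [← this, CommRingCat.hom_comp]
    exact he.comp (essFT_res hV hh (homOfLE (X.basicOpen_le hh)) rfl)
  have h2 : (f.appLE (Y.basicOpen g) (X.basicOpen hh) eD).hom.EssFiniteType := by
    have := Scheme.Hom.map_appLE f eD (homOfLE (Y.basicOpen_le g)).op
    have h3 : (Y.presheaf.map (homOfLE (Y.basicOpen_le g)).op ≫
        f.appLE (Y.basicOpen g) (X.basicOpen hh) eD).hom.EssFiniteType := by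
      rw [this]; exact h1
    rw [CommRingCat.hom_comp] at h3
    exact RingHom.EssFiniteType.of_comp _ h3
  have h4 : (f.appLE (Y.basicOpen g') (X.basicOpen hh) eD').hom.EssFiniteType := by
    have := Scheme.Hom.map_appLE' f eD' hgg'
    rw [← this, CommRingCat.hom_comp]
    refine RingHom.EssFiniteType.comp ?_ h2
    apply RingHom.FiniteType.essFiniteType
    apply RingHom.FiniteType.of_surjective
    exact (ConcreteCategory.bijective_of_isIso (Y.presheaf.map (eqToHom hgg').op)).2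
  have := Scheme.Hom.map_appLE f eD' (homOfLE (Y.basicOpen_le g')).op
  rw [← this, CommRingCat.hom_comp]
  exact (essFT_res hU' g' (homOfLE (Y.basicOpen_le g')) rfl).comp h4


theorem good_of_cover (f : X ⟶ Y) (S : Set Y.affineOpens)
    (hS : (⋃ U ∈ S, ((U : Y.Opens) : Set ↥Y)) = Set.univ) (h : ∀ U ∈ S, Good f (U : Y.Opens))
    (U' : Y.affineOpens) : Good f (U' : Y.Opens) := by
  rw [good_iff]
  intro x hx
  have hfx : f.base x ∈ ⋃ U ∈ S, ((U : Y.Opens) : Set ↥Y) := by rw [hS]; trivial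
  simp only [Set.mem_iUnion] at hfx
  obtain ⟨U, hUS, hxU⟩ := hfx
  exact goodAt_transfer f U.2 U'.2 x hxU hx ((good_iff f _).1 (h U hUS) x hxU)

theorem iUnion_affineOpens_eq_univ (Y : Scheme.{u}) :
    (⋃ U ∈ (Set.univ : Set Y.affineOpens), ((U : Y.Opens) : Set ↥Y)) = Set.univ := by
  apply Set.eq_univ_of_forall
  intro y
  obtain ⟨W, hW, hyW, -⟩ := Opens.isBasis_iff_nbhd.1 Y.isBasis_affineOpens
    (show y ∈ (⊤ : Y.Opens) from trivial)
  simp only [Set.mem_iUnion]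
  exact ⟨⟨W, hW⟩, trivial, hyW⟩

theorem main258 (f : X ⟶ Y) :
    (∃ S : Set Y.affineOpens, (⋃ U ∈ S, ((U : Y.Opens) : Set ↥Y)) = Set.univ ∧
      ∀ U ∈ S, Good f (U : Y.Opens)) ↔ ∀ U : Y.affineOpens, Good f (U : Y.Opens) := by
  constructor
  · rintro ⟨S, hS, h⟩ U'
    exact good_of_cover f S hS h U'
  · intro h
    exact ⟨Set.univ, iUnion_affineOpens_eq_univ Y, fun U _ => h U⟩


/-- finite-cover form -/
def GoodFin (f : X ⟶ Y) (U : Y.Opens) : Prop :=
  ∃ T : Set X.affineOpens, T.Finite ∧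
    (⋃ V ∈ T, ((V : X.Opens) : Set ↥X)) = ((f ⁻¹ᵁ U : X.Opens) : Set ↥X) ∧
    ∀ V ∈ T, ∃ e : (V : X.Opens) ≤ f ⁻¹ᵁ U, (f.appLE U (V : X.Opens) e).hom.EssFiniteType

theorem main259 (f : X ⟶ Y) :
    ((∃ S : Set Y.affineOpens, (⋃ U ∈ S, ((U : Y.Opens) : Set ↥Y)) = Set.univ ∧
      ∀ U ∈ S, Good f (U : Y.Opens)) ∧ QuasiCompact f) ↔
      ∀ U : Y.affineOpens, GoodFin f (U : Y.Opens) := by
  constructor
  · rintro ⟨hgood, hqc⟩ U
    obtain ⟨T, hT, h⟩ := (main258 f).1 hgood U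
    have hcomp : IsCompact ((f ⁻¹ᵁ (U : Y.Opens) : X.Opens) : Set ↥X) :=
      quasiCompact_iff_forall_isAffineOpen.1 hqc U U.2
    obtain ⟨T', hT'T, hT'fin, hT'cov⟩ := hcomp.elim_finite_subcover_image
      (b := T) (c := fun V : X.affineOpens => ((V : X.Opens) : Set ↥X))
      (fun V _ => (V : X.Opens).isOpen) (by rw [hT])
    refine ⟨T', hT'fin, ?_, fun V hV => h V (hT'T hV)⟩
    apply Set.Subset.antisymm
    · rw [← hT]
      exact Set.biUnion_subset_biUnion_left hT'T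
    · exact hT'cov
  · intro h
    refine ⟨(main258 f).2 (fun U => ?_), ?_⟩
    · obtain ⟨T, -, hT, hT'⟩ := h U
      exact ⟨T, hT, hT'⟩
    · rw [quasiCompact_iff_forall_isAffineOpen]
      intro U hU
      obtain ⟨T, hTfin, hT, -⟩ := h ⟨U, hU⟩
      rw [← hT]
      exact hTfin.isCompact_biUnion (fun V _ => V.2.isCompact)


open Limits

lemma essFT_of_isIso {A B : CommRingCat.{u}} (φ : A ⟶ B) [IsIso φ] : φ.hom.EssFiniteType := by
  apply RingHom.FiniteType.essFiniteType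
  apply RingHom.FiniteType.of_surjective
  exact (ConcreteCategory.bijective_of_isIso φ).2

lemma snd_appTop_essFT {X Y S : Scheme.{u}} [IsAffine X] [IsAffine Y] [IsAffine S]
    (f : X ⟶ S) (g : Y ⟶ S) (H : f.appTop.hom.EssFiniteType) :
    (pullback.snd f g).appTop.hom.EssFiniteType := by
  have h1 := RingHom.IsStableUnderBaseChange.pullback_fst_appTop _
    RingHom.EssFiniteType.isStableUnderBaseChange RingHom.EssFiniteType.respectsIso g f H
  have h2 : pullback.snd f g = (pullbackSymmetry f g).hom ≫ pullback.fst g f := by simp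
  rw [h2, Scheme.Hom.comp_appTop, CommRingCat.hom_comp]
  haveI : IsIso (Scheme.Hom.appTop (pullbackSymmetry f g).hom) :=
    inferInstanceAs (IsIso ((pullbackSymmetry f g).hom.app ⊤))
  exact h1.comp (essFT_of_isIso _)

theorem main261 {X Y Y' : Scheme.{u}} (f : X ⟶ Y) (g : Y' ⟶ Y)
    (hf : ∀ U : Y.affineOpens, Good f (U : Y.Opens)) (U : Y'.affineOpens) :
    Good (pullback.snd f g) (U : Y'.Opens) := by
  rw [good_iff]
  intro x hx
  -- affine `U₀ ∋ g (p₂ x)`
  obtain ⟨U₀, hU₀, hyU₀, -⟩ := Opens.isBasis_iff_nbhd.1 Y.isBasis_affineOpens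
    (show g.base ((pullback.snd f g).base x) ∈ (⊤ : Y.Opens) from trivial)
  obtain ⟨r, hr, hxr⟩ := U.2.exists_basicOpen_le (V := g ⁻¹ᵁ U₀)
    ⟨(pullback.snd f g).base x, hyU₀⟩ hx
  have hU₁ : IsAffineOpen (Y'.basicOpen r) := U.2.basicOpen r
  have hfx : f.base ((pullback.fst f g).base x) = g.base ((pullback.snd f g).base x) := by
    have := congrArg (fun h => h.base x) (pullback.condition (f := f) (g := g))
    simpa using this
  obtain ⟨⟨V₀, hV₀⟩, hxV₀, e₀, he₀⟩ := (good_iff f U₀).1 (hf ⟨U₀, hU₀⟩)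
    ((pullback.fst f g).base x) (by
      change f.base ((pullback.fst f g).base x) ∈ U₀
      rw [hfx]; exact hyU₀)
  set V : (pullback f g).Opens :=
    (pullback.fst f g) ⁻¹ᵁ V₀ ⊓ (pullback.snd f g) ⁻¹ᵁ (Y'.basicOpen r) with hVdef
  have hsq := Scheme.Hom.isPullback_resLE (IsPullback.of_hasPullback f g)
    (US := U₀) (UT := Y'.basicOpen r) (UX := V₀) hr e₀ (UY := V) rfl
  haveI : IsAffine (V₀ : Scheme) := hV₀
  haveI : IsAffine (U₀ : Scheme) := hU₀
  haveI : IsAffine ((Y'.basicOpen r : Y'.Opens) : Scheme) := hU₁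
  have hVaff : IsAffineOpen V := IsAffine.of_isIso hsq.isoPullback.hom
  have eV₁ : V ≤ (pullback.snd f g) ⁻¹ᵁ (Y'.basicOpen r) := inf_le_right
  have eV : V ≤ (pullback.snd f g) ⁻¹ᵁ (U : Y'.Opens) :=
    eV₁.trans (fun y hy => Y'.basicOpen_le r hy)
  refine ⟨⟨V, hVaff⟩, ⟨hxV₀, hxr⟩, eV, ?_⟩
  have hA : (f.resLE U₀ V₀ e₀).appTop.hom.EssFiniteType :=
    (RingHom.EssFiniteType.respectsIso.arrow_mk_iso_iff (arrowResLEAppIso f U₀ V₀ e₀)).2 he₀
  have hB := snd_appTop_essFT (f.resLE U₀ V₀ e₀) (g.resLE U₀ (Y'.basicOpen r) hr) hA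
  have hC : ((pullback.snd f g).resLE (Y'.basicOpen r) V eV₁).appTop.hom.EssFiniteType := by
    have h3 := hsq.isoPullback_hom_snd
    rw [← h3, Scheme.Hom.comp_appTop, CommRingCat.hom_comp]
    haveI : IsIso (Scheme.Hom.appTop hsq.isoPullback.hom) :=
      inferInstanceAs (IsIso (hsq.isoPullback.hom.app ⊤))
    exact hB.comp (essFT_of_isIso _)
  have hD : ((pullback.snd f g).appLE (Y'.basicOpen r) V eV₁).hom.EssFiniteType :=
    (RingHom.EssFiniteType.respectsIso.arrow_mk_iso_iff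
      (arrowResLEAppIso (pullback.snd f g) (Y'.basicOpen r) V eV₁)).1 hC
  have := Scheme.Hom.map_appLE (pullback.snd f g) eV₁ (homOfLE (Y'.basicOpen_le r)).op
  rw [← this, CommRingCat.hom_comp]
  exact (essFT_res U.2 r (homOfLE (Y'.basicOpen_le r)) rfl).comp hD

end Groth.Agent.Helper23.EssFT
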