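import Mathlib
import Groth.Agent.Lib.Helper22.ArtFlat
import Groth.Agent.Lib.Helper16.AlgSp.FlatSrc
import Groth.Prelude.Def_SGA3x

set_option autoImplicit false
universe u v w
open CategoryTheory CategoryTheory.Limits AlgebraicGeometry TensorProduct IsLocalRing

namespace Groth.Agent.Helper23.EssFree

/-- flat ⇒ free over a local ring with nilpotent maximal ideal -/
theorem free_of_flat_of_nilpotent {R : Type u} [CommRing R] [IsLocalRing R] {M : Type v}
    [AddCommGroup M] [Module R M] [Module.Flat R M] (hm : IsNilpotent (maximalIdeal R)) :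
    Module.Free R M := by
  classical
  let k := ResidueField R
  let b := Module.Free.chooseBasis k (k ⊗[R] M)
  have hm' : ∀ i, ∃ m : M, (1 : k) ⊗ₜ[R] m = b i :=
    fun i => Groth.Agent.Helper22.ArtFlat.exists_one_tmul_eq' (b i)
  choose m hm' using hm'
  let u : (Module.Free.ChooseBasisIndex k (k ⊗[R] M) →₀ R) →ₗ[R] M := Finsupp.linearCombination R m
  let c := (Finsupp.basisSingleOne (R := R)
    (ι := Module.Free.ChooseBasisIndex k (k ⊗[R] M))).baseChange k
  have hu : LinearMap.baseChange k u = (c.equiv b (Equiv.refl _)).toLinearMap := by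
    apply c.ext
    intro i
    have hc : c i = (1 : k) ⊗ₜ[R] (Finsupp.single i (1:R)) := by simp [c]
    rw [LinearEquiv.coe_coe, Module.Basis.equiv_apply, Equiv.refl_apply, hc,
      LinearMap.baseChange_tmul, ← hm']
    simp [u]
  have hbij : Function.Bijective (u.lTensor k) := by
    rw [← LinearMap.baseChange_eq_ltensor, hu]
    exact (c.equiv b (Equiv.refl _)).bijective
  have hinj := Groth.Agent.Helper22.ArtFlat.injective_of_residue hm u hbij.1
  have hsurj := Groth.Agent.Helper22.ArtFlat.surjective_of_residue hm u hbij.2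
  exact Module.Free.of_equiv (LinearEquiv.ofBijective u ⟨hinj, hsurj⟩)

/-- the ring-hom property "target is projective over the source" -/
def Proj {A B : CommRingCat.{u}} (a : A ⟶ B) : Prop :=
  letI := a.hom.toAlgebra
  Module.Projective A B

theorem Proj.comp_iso {A B B' : CommRingCat.{u}} (a : A ⟶ B) (e : B ≅ B') (h : Proj a) :
    Proj (a ≫ e.hom) := by
  letI i1 := a.hom.toAlgebra
  letI i2 := (a ≫ e.hom).hom.toAlgebra
  have h' : Module.Projective A B := h
  let e' : B ≃ₗ[A] B' :=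
    { e.commRingCatIsoToRingEquiv with
      map_smul' := fun r x => by
        simp only [Algebra.smul_def]
        simp [RingHom.algebraMap_toAlgebra, Iso.commRingCatIsoToRingEquiv] }
  exact Module.Projective.of_equiv e'

theorem Proj.of_isPushout {R A B C : CommRingCat.{u}} {a : R ⟶ A} {b : R ⟶ B} {c : A ⟶ C}
    {d : B ⟶ C} (h : IsPushout a b c d) (ha : Proj a) : Proj d := by
  algebraize [a.hom, b.hom, c.hom, d.hom, c.hom.comp a.hom]
  have : IsScalarTower R A C := .of_algebraMap_eq fun x ↦ rfl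
  have : IsScalarTower R B C := .of_algebraMap_eq fun x ↦ congr($(h.1.1).hom x)
  have hp : Algebra.IsPushout R A B C := CommRingCat.isPushout_iff_isPushout.mp h
  have hp' : Algebra.IsPushout R B A C := hp.symm
  have : Module.Projective R A := ha
  exact Module.Projective.of_equiv hp'.out.equiv

theorem flat_of_comp_of_surjective {P Q S : Scheme.{u}} (a : P ⟶ Q) (b : Q ⟶ S) [Flat a]
    [Surjective a] [Flat (a ≫ b)] : Flat b := by
  rw [Flat.iff_flat_stalkMap]
  intro y
  obtain ⟨p, rfl⟩ := a.surjective y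
  have hab := Flat.stalkMap (a ≫ b) p
  rw [Scheme.Hom.stalkMap_comp] at hab
  have h1' : ((a.stalkMap p).hom.comp (b.stalkMap (a p)).hom).Flat := hab
  refine Groth.Agent.Helper16.AS.RingHom.Flat.of_comp_faithfullyFlat _ (a.stalkMap p).hom ?_ h1'
  have ha := Flat.stalkMap a p
  algebraize [(a.stalkMap p).hom]
  haveI : IsLocalHom (algebraMap (Q.presheaf.stalk (a p)) (P.presheaf.stalk p)) :=
    (inferInstance : IsLocalHom (a.stalkMap p).hom)
  exact Module.FaithfullyFlat.of_flat_of_isLocalHom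

theorem flat_of_isEssentiallyFree {X S : Scheme.{u}} (f : X ⟶ S)
    (hf : SGA3x.IsEssentiallyFree f) : Flat f := by
  choose U hsU hU T hT h hflat hsurj hcov using hf
  have hU' : iSup U = ⊤ := by
    rw [eq_top_iff]
    intro s _
    exact TopologicalSpace.Opens.mem_iSup.mpr ⟨s, hsU s⟩
  rw [IsZariskiLocalAtTarget.iff_of_iSup_eq_top (P := @Flat) U hU']
  intro s
  haveI := hT s
  haveI := hflat s
  haveI := hsurj s
  have hp : Flat (pullback.snd f (h s ≫ (U s).ι)) := by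
    choose V hxV hV hproj using hcov s
    have hV' : iSup V = ⊤ := by
      rw [eq_top_iff]
      intro x _
      exact TopologicalSpace.Opens.mem_iSup.mpr ⟨x, hxV x⟩
    rw [IsZariskiLocalAtSource.iff_of_iSup_eq_top (P := @Flat) V hV']
    intro x
    haveI : IsAffine (V x) := hV x
    rw [HasRingHomProperty.iff_of_isAffine (P := @Flat)]
    letI := ((V x).ι ≫ pullback.snd f (h s ≫ (U s).ι)).appTop.hom.toAlgebra
    have : Module.Projective Γ(T s, ⊤) Γ(V x, ⊤) := hproj x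
    show Module.Flat Γ(T s, ⊤) Γ(V x, ⊤)
    infer_instance
  have hpb : IsPullback (pullback.fst (f ∣_ U s) (h s) ≫ (f ⁻¹ᵁ U s).ι)
      (pullback.snd (f ∣_ U s) (h s)) f (h s ≫ (U s).ι) :=
    (IsPullback.of_hasPullback (f ∣_ U s) (h s)).paste_horiz
      (isPullback_morphismRestrict f (U s)).flip
  haveI hsnd : Flat (pullback.snd (f ∣_ U s) (h s)) := by
    have : pullback.snd (f ∣_ U s) (h s) =
        hpb.isoPullback.hom ≫ pullback.snd f (h s ≫ (U s).ι) := by simp
    rw [this]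
    infer_instance
  haveI : Flat (pullback.fst (f ∣_ U s) (h s) ≫ (f ∣_ U s)) := by
    rw [pullback.condition]
    infer_instance
  exact flat_of_comp_of_surjective (pullback.fst (f ∣_ U s) (h s)) (f ∣_ U s)

theorem isLocalRing_of_unique_prime (R : Type u) [CommRing R] [Nonempty (PrimeSpectrum R)]
    [Subsingleton (PrimeSpectrum R)] : IsLocalRing R := by
  haveI : Nontrivial R := PrimeSpectrum.nonempty_iff_nontrivial.mp ‹_›
  obtain ⟨m, hm⟩ := Ideal.exists_maximal R
  have huniq : ∀ I : Ideal R, I.IsPrime → I = m := fun I hI =>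
    congrArg PrimeSpectrum.asIdeal
      (Subsingleton.elim (⟨I, hI⟩ : PrimeSpectrum R) ⟨m, hm.isPrime⟩)
  exact IsLocalRing.of_unique_max_ideal ⟨m, hm, fun I hI => huniq I hI.isPrime⟩

theorem isEssentiallyFree_of_flat_of_isArtinianRing (A : Type u) [CommRing A] [IsArtinianRing A]
    (X : Scheme.{u}) (f : X ⟶ Spec (CommRingCat.of A)) (hf : Flat f) :
    SGA3x.IsEssentiallyFree f := by
  intro s
  haveI : DiscreteTopology (Spec (CommRingCat.of A)) :=
    inferInstanceAs (DiscreteTopology (PrimeSpectrum A))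
  have hopen : IsOpen ({s} : Set (Spec (CommRingCat.of A))) := isOpen_discrete _
  obtain ⟨U, hUaff, hsU, hUle⟩ : ∃ U : (Spec (CommRingCat.of A)).Opens,
      IsAffineOpen U ∧ s ∈ U ∧ ∀ t ∈ U, t = s := by
    obtain ⟨U, hUaff, hsU, hUle⟩ := TopologicalSpace.Opens.isBasis_iff_nbhd.mp
      (Spec (CommRingCat.of A)).isBasis_affineOpens
      (show s ∈ (⟨{s}, hopen⟩ : (Spec (CommRingCat.of A)).Opens) from rfl)
    exact ⟨U, hUaff, hsU, fun t ht => hUle ht⟩
  haveI : IsAffine ↑U := hUaff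
  refine ⟨U, hsU, hUaff, ↑U, hUaff, 𝟙 _, inferInstance, inferInstance, ?_⟩
  intro x
  obtain ⟨V, hVaff, hxV⟩ : ∃ V : (pullback f (𝟙 (↑U : Scheme.{u}) ≫ U.ι)).Opens,
      IsAffineOpen V ∧ x ∈ V := by
    obtain ⟨V, hVaff, hxV, -⟩ := TopologicalSpace.Opens.isBasis_iff_nbhd.mp
      (pullback f (𝟙 (↑U : Scheme.{u}) ≫ U.ι)).isBasis_affineOpens
      (TopologicalSpace.Opens.mem_top x)
    exact ⟨V, hVaff, hxV⟩
  refine ⟨V, hxV, hVaff, ?_⟩
  haveI : IsAffine ↑V := hVaff
  have hflat : (V.ι ≫ pullback.snd f (𝟙 (↑U : Scheme.{u}) ≫ U.ι)).appTop.hom.Flat :=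
    Scheme.Hom.flat_appTop _
  letI := (V.ι ≫ pullback.snd f (𝟙 (↑U : Scheme.{u}) ≫ U.ι)).appTop.hom.toAlgebra
  haveI : Module.Flat Γ(↑U, ⊤) Γ(↑V, ⊤) := hflat
  haveI : Subsingleton ↥(↑U : Scheme.{u}) :=
    ⟨fun a b => Subtype.ext ((hUle a.1 a.2).trans (hUle b.1 b.2).symm)⟩
  haveI : Nonempty ↥(↑U : Scheme.{u}) := ⟨⟨s, hsU⟩⟩
  haveI : Subsingleton (PrimeSpectrum Γ(↑U, ⊤)) :=
    (Scheme.homeoOfIso (↑U : Scheme.{u}).isoSpec).symm.injective.subsingleton
  haveI : Nonempty (PrimeSpectrum Γ(↑U, ⊤)) :=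
    ⟨(Scheme.homeoOfIso (↑U : Scheme.{u}).isoSpec) ⟨s, hsU⟩⟩
  haveI : IsLocalRing Γ(↑U, ⊤) := isLocalRing_of_unique_prime _
  haveI : IsLocallyArtinian (Spec (CommRingCat.of A)) :=
    Scheme.isLocallyArtinianScheme_Spec.mpr ‹_›
  haveI : IsArtinianRing Γ(↑U, ⊤) := inferInstance
  haveI := free_of_flat_of_nilpotent (M := Γ(↑V, ⊤))
    (Groth.Agent.Helper22.ArtFlat.isNilpotent_maximalIdeal Γ(↑U, ⊤))
  infer_instance

theorem isEssentiallyFree_of_field (k : Type u) [Field k] (X : Scheme.{u})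
    (f : X ⟶ Spec (CommRingCat.of k)) : SGA3x.IsEssentiallyFree f :=
  isEssentiallyFree_of_flat_of_isArtinianRing k X f inferInstance

theorem comp_appTop_eq {P T : Scheme.{u}} (p : P ⟶ T) (V : P.Opens)
    (e : V ≤ p ⁻¹ᵁ ⊤) :
    (V.ι ≫ p).appTop = p.appLE ⊤ V e ≫ V.topIso.inv := by
  simp only [Scheme.Hom.appLE, Scheme.Hom.appTop, Scheme.Hom.comp_app, Scheme.Opens.ι_app,
    Scheme.Opens.topIso_inv, Category.assoc]
  congr 1
  exact (congrArg P.presheaf.map (Subsingleton.elim _ _)).trans (P.presheaf.map_comp _ _)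

theorem isEssentiallyFree_baseChange {X S S' : Scheme.{u}} (f : X ⟶ S) (g : S' ⟶ S)
    (hf : SGA3x.IsEssentiallyFree f) : SGA3x.IsEssentiallyFree (pullback.snd f g) := by
  intro s'
  obtain ⟨U, hsU, hU, T, hT, h, hflat, hsurj, hcov⟩ := hf (g s')
  obtain ⟨U', hU', hsU', hle⟩ : ∃ U' : S'.Opens, IsAffineOpen U' ∧ s' ∈ U' ∧ U' ≤ g ⁻¹ᵁ U := by
    obtain ⟨U', hU', hsU', hle⟩ := TopologicalSpace.Opens.isBasis_iff_nbhd.mp
      S'.isBasis_affineOpens (show s' ∈ g ⁻¹ᵁ U from hsU)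
    exact ⟨U', hU', hsU', hle⟩
  haveI : IsAffine ↑U := hU
  haveI : IsAffine ↑U' := hU'
  let gU : (↑U' : Scheme.{u}) ⟶ ↑U := g.resLE U U' hle
  have hgU : gU ≫ U.ι = U'.ι ≫ g := Scheme.Hom.resLE_comp_ι _ _
  haveI : IsAffine (pullback h gU) := inferInstance
  refine ⟨U', hsU', hU', pullback h gU, inferInstance, pullback.snd h gU, inferInstance,
    inferInstance, ?_⟩
  have hw : (pullback.fst (pullback.snd f g) (pullback.snd h gU ≫ U'.ι) ≫ pullback.fst f g) ≫ f =
      (pullback.snd (pullback.snd f g) (pullback.snd h gU ≫ U'.ι) ≫ pullback.fst h gU) ≫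
        (h ≫ U.ι) := by
    rw [Category.assoc, pullback.condition, pullback.condition_assoc, Category.assoc,
      Category.assoc, pullback.condition_assoc, hgU]
  let q : pullback (pullback.snd f g) (pullback.snd h gU ≫ U'.ι) ⟶ pullback f (h ≫ U.ι) :=
    pullback.lift _ _ hw
  have H : IsPullback q (pullback.snd (pullback.snd f g) (pullback.snd h gU ≫ U'.ι))
      (pullback.snd f (h ≫ U.ι)) (pullback.fst h gU) := by
    refine IsPullback.of_right (h₁₂ := pullback.fst f (h ≫ U.ι)) (v₁₃ := f) (h₂₂ := h ≫ U.ι) ?_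
      (pullback.lift_snd _ _ _) (IsPullback.of_hasPullback f (h ≫ U.ι))
    have e1 : q ≫ pullback.fst f (h ≫ U.ι) =
        pullback.fst (pullback.snd f g) (pullback.snd h gU ≫ U'.ι) ≫ pullback.fst f g :=
      pullback.lift_fst _ _ _
    have e2 : pullback.fst h gU ≫ h ≫ U.ι = (pullback.snd h gU ≫ U'.ι) ≫ g := by
      rw [pullback.condition_assoc, hgU, Category.assoc]
    rw [e1, e2]
    exact (IsPullback.of_hasPullback (pullback.snd f g) (pullback.snd h gU ≫ U'.ι)).paste_horiz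
      (IsPullback.of_hasPullback f g)
  intro x
  obtain ⟨V, hxV, hV, hproj⟩ := hcov (q x)
  have hUY : q ⁻¹ᵁ V = q ⁻¹ᵁ V ⊓
      (pullback.snd (pullback.snd f g) (pullback.snd h gU ≫ U'.ι)) ⁻¹ᵁ ⊤ := by simp
  have hUST : (⊤ : (pullback h gU).Opens) ≤ (pullback.fst h gU) ⁻¹ᵁ ⊤ := le_top
  have hUSX : V ≤ (pullback.snd f (h ≫ U.ι)) ⁻¹ᵁ ⊤ := le_top
  have hiso := isIso_pushoutSection_of_isAffineOpen H hUST hUSX hUY (isAffineOpen_top T)
    (isAffineOpen_top (pullback h gU)) hV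
  have hpo := (isIso_pushoutSection_iff H hUST hUSX hUY).mp hiso
  have hV' : IsAffineOpen (q ⁻¹ᵁ V) := by
    haveI : IsAffine ↑V := hV
    haveI : IsAffine ↑(⊤ : T.Opens) := isAffineOpen_top T
    haveI : IsAffine ↑(⊤ : (pullback h gU).Opens) := isAffineOpen_top _
    exact .of_isIso (Scheme.Hom.isPullback_resLE H hUST hUSX hUY).isoPullback.hom
  refine ⟨q ⁻¹ᵁ V, hxV, hV', ?_⟩
  have h0 : Proj ((V.ι ≫ pullback.snd f (h ≫ U.ι)).appTop) := hproj
  have h1 : Proj ((pullback.snd f (h ≫ U.ι)).appLE ⊤ V hUSX) := by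
    have := Proj.comp_iso _ V.topIso h0
    rwa [comp_appTop_eq _ _ hUSX, Category.assoc, Iso.inv_hom_id, Category.comp_id] at this
  have h2 := Proj.of_isPushout hpo h1
  have h3 := Proj.comp_iso _ (q ⁻¹ᵁ V).topIso.symm h2
  rw [Iso.symm_hom, ← comp_appTop_eq] at h3
  exact h3

end Groth.Agent.Helper23.EssFree
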