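import Mathlib

set_option autoImplicit false
set_option linter.style.haveILetI false

open TensorProduct

universe u

namespace Groth.Agent.Helper23.EtNormal

section algebra

variable (R S : Type u) [CommRing R] [IsDomain R] [IsIntegrallyClosed R] [CommRing S] [Algebra R S]
  [Algebra.Smooth R S]

omit [IsDomain R] in
/-- an element of `S ⊗[R] Frac R` integral over `S` (smooth over the normal domain `R`) comes
from `S` -/
theorem exists_eq_of_isIntegral (x : S ⊗[R] FractionRing R) (hx : IsIntegral S x) :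
    ∃ s : S, x = algebraMap S (S ⊗[R] FractionRing R) s := by
  obtain ⟨y, hy⟩ := (TensorProduct.toIntegralClosure_bijective_of_smooth (R := R) (S := S)
    (B := FractionRing R)).2 ⟨x, hx⟩
  have hy' : ((TensorProduct.toIntegralClosure R S (FractionRing R) y : integralClosure S
    (S ⊗[R] FractionRing R)) : S ⊗[R] FractionRing R) = x := congrArg Subtype.val hy
  rw [← hy']
  clear hy hy'
  induction y with
  | zero => exact ⟨0, by simp⟩
  | add a b ha hb =>
    obtain ⟨s, hs⟩ := ha
    obtain ⟨t, ht⟩ := hb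
    exact ⟨s + t, by rw [map_add, map_add, Subalgebra.coe_add, hs, ht]⟩
  | tmul s b =>
    have hb : (b : FractionRing R) ∈ (⊥ : Subalgebra R (FractionRing R)) := by
      rw [← IsIntegrallyClosed.integralClosure_eq_bot (R := R) (K := FractionRing R)]
      exact b.2
    obtain ⟨r, hr⟩ := Algebra.mem_bot.1 hb
    refine ⟨r • s, ?_⟩
    simp only [TensorProduct.toIntegralClosure, AlgHom.coe_codRestrict,
      Algebra.TensorProduct.map_tmul, AlgHom.coe_id, id_eq, Subalgebra.coe_val,
      Algebra.TensorProduct.algebraMap_apply, Algebra.algebraMap_self, RingHom.id_apply]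
    rw [← hr, Algebra.algebraMap_eq_smul_one, TensorProduct.tmul_smul, TensorProduct.smul_tmul']


variable [Module.Finite R S]

omit [Algebra.Smooth R S] [IsIntegrallyClosed R] in
theorem isArtinianRing_tensor : IsArtinianRing (S ⊗[R] FractionRing R) := by
  haveI : Module.Finite (FractionRing R) (FractionRing R ⊗[R] S) := inferInstance
  haveI : IsArtinianRing (FractionRing R ⊗[R] S) :=
    IsArtinianRing.of_finite (FractionRing R) _
  exact (Algebra.TensorProduct.comm R (FractionRing R) S).toRingEquiv.isArtinianRing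

/-- over a normal domain `R`, at most one prime of a finite smooth `R`-algebra lying over `0` is
contained in a given prime -/
theorem eq_of_le_prime (q p₁ p₂ : Ideal S) [q.IsPrime] [p₁.IsPrime] [p₂.IsPrime]
    (h₁ : p₁ ≤ q) (h₂ : p₂ ≤ q)
    (hp₁ : p₁.comap (algebraMap R S) = ⊥) (hp₂ : p₂.comap (algebraMap R S) = ⊥) : p₁ = p₂ := by
  by_contra hne
  haveI : IsLocalization (Algebra.algebraMapSubmonoid S (nonZeroDivisors R))
      (S ⊗[R] FractionRing R) := IsLocalization.tensor (FractionRing R) (nonZeroDivisors R)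
  haveI := isArtinianRing_tensor R S
  have hdisj : ∀ p : Ideal S, p.comap (algebraMap R S) = ⊥ →
      Disjoint (Algebra.algebraMapSubmonoid S (nonZeroDivisors R) : Set S) (p : Set S) := by
    intro p hp
    rw [Set.disjoint_left]
    rintro _ ⟨r, hr, rfl⟩ hrp
    have : r ∈ p.comap (algebraMap R S) := hrp
    rw [hp] at this
    exact nonZeroDivisors.ne_zero hr this
  set φ := algebraMap S (S ⊗[R] FractionRing R) with hφ
  have hc₁ : Ideal.comap φ (Ideal.map φ p₁) = p₁ := IsLocalization.under_map_of_isPrime_disjoint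
    (Algebra.algebraMapSubmonoid S (nonZeroDivisors R)) (S ⊗[R] FractionRing R)
    (inferInstance : p₁.IsPrime) (hdisj p₁ hp₁)
  have hc₂ : Ideal.comap φ (Ideal.map φ p₂) = p₂ := IsLocalization.under_map_of_isPrime_disjoint
    (Algebra.algebraMapSubmonoid S (nonZeroDivisors R)) (S ⊗[R] FractionRing R)
    (inferInstance : p₂.IsPrime) (hdisj p₂ hp₂)
  haveI hP₁ : (Ideal.map φ p₁).IsPrime := IsLocalization.isPrime_of_isPrime_disjoint
    (Algebra.algebraMapSubmonoid S (nonZeroDivisors R)) (S ⊗[R] FractionRing R) p₁ inferInstance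
    (hdisj p₁ hp₁)
  haveI hP₂ : (Ideal.map φ p₂).IsPrime := IsLocalization.isPrime_of_isPrime_disjoint
    (Algebra.algebraMapSubmonoid S (nonZeroDivisors R)) (S ⊗[R] FractionRing R) p₂ inferInstance
    (hdisj p₂ hp₂)
  let P₁ : PrimeSpectrum (S ⊗[R] FractionRing R) := ⟨Ideal.map φ p₁, hP₁⟩
  let P₂ : PrimeSpectrum (S ⊗[R] FractionRing R) := ⟨Ideal.map φ p₂, hP₂⟩
  have hPne : P₁ ≠ P₂ := by
    intro h
    apply hne
    have : Ideal.map φ p₁ = Ideal.map φ p₂ := congrArg PrimeSpectrum.asIdeal h
    rw [← hc₁, ← hc₂, this]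
  obtain ⟨e, he, hs⟩ := PrimeSpectrum.isClopen_iff.1 (isClopen_discrete ({P₁} : Set _))
  have he₁ : e ∉ Ideal.map φ p₁ := by
    have : P₁ ∈ ({P₁} : Set _) := rfl
    rw [hs] at this
    exact this
  have he₂ : e ∈ Ideal.map φ p₂ := by
    have : P₂ ∉ ({P₁} : Set _) := fun h => hPne h.symm
    rw [hs] at this
    by_contra h
    exact this h
  haveI : Nontrivial S := ⟨⟨0, 1, fun h => (Ideal.ne_top_iff_one q).1
    (Ideal.IsPrime.ne_top inferInstance) (h ▸ q.zero_mem)⟩⟩
  have hint : IsIntegral S e := by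
    refine ⟨Polynomial.X ^ 2 - Polynomial.X, Polynomial.monic_X_pow_sub (by
      rw [Polynomial.degree_X]; norm_num), ?_⟩
    simp [pow_two, he.eq]
  obtain ⟨s, hs'⟩ := exists_eq_of_isIntegral R S e hint
  have hs₂ : s ∈ p₂ := by
    rw [← hc₂, Ideal.mem_comap, hφ, ← hs']
    exact he₂
  have hs₁ : 1 - s ∈ p₁ := by
    rw [← hc₁, Ideal.mem_comap, map_sub, map_one, hφ, ← hs']
    have : e * (1 - e) ∈ Ideal.map φ p₁ := by
      rw [mul_sub, mul_one, he.eq, sub_self]
      exact zero_mem _
    exact (hP₁.mem_or_mem this).resolve_left he₁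
  have : (1 : S) ∈ q := by
    have := q.add_mem (h₂ hs₂) (h₁ hs₁)
    simpa using this
  exact (Ideal.ne_top_iff_one q).1 (Ideal.IsPrime.ne_top inferInstance) this

end algebra

end Groth.Agent.Helper23.EtNormal
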