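import Groth.Agent.Lib.Helper23.EtNormal1

set_option autoImplicit false
set_option linter.style.haveILetI false

open CategoryTheory CategoryTheory.Limits AlgebraicGeometry

universe u

namespace Groth.Agent.Helper23.EtNormal

/-- Lemma A for spectra -/
theorem eq_of_specializes_Spec (R : CommRingCat.{u}) [IsDomain R] [IsIntegrallyClosed R]
    (S : CommRingCat.{u}) (φ : R ⟶ S) (hfin : φ.hom.Finite) (het : φ.hom.Etale)
    (y η₁ η₂ : PrimeSpectrum S) (h₁ : η₁ ⤳ y) (h₂ : η₂ ⤳ y)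
    (hc₁ : η₁.asIdeal.comap φ.hom = ⊥) (hc₂ : η₂.asIdeal.comap φ.hom = ⊥) : η₁ = η₂ := by
  algebraize [φ.hom]
  haveI : Algebra.Smooth R S := inferInstance
  have h₁' : η₁.asIdeal ≤ y.asIdeal := (PrimeSpectrum.le_iff_specializes η₁ y).2 h₁
  have h₂' : η₂.asIdeal ≤ y.asIdeal := (PrimeSpectrum.le_iff_specializes η₂ y).2 h₂
  exact PrimeSpectrum.ext (eq_of_le_prime R S y.asIdeal η₁.asIdeal η₂.asIdeal h₁' h₂' hc₁ hc₂)

end Groth.Agent.Helper23.EtNormal

namespace Groth.Agent.Helper23.EtNormal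

theorem eq_of_specializes_over_Spec (R : CommRingCat.{u}) [IsDomain R] [IsIntegrallyClosed R]
    {P : Scheme.{u}} (c : P ⟶ Spec R) [IsFinite c] [Etale c]
    (y η₁ η₂ : P) (h₁ : η₁ ⤳ y) (h₂ : η₂ ⤳ y)
    (hc₁ : c.base η₁ = (⊥ : PrimeSpectrum R)) (hc₂ : c.base η₂ = (⊥ : PrimeSpectrum R)) :
    η₁ = η₂ := by
  haveI : IsAffine P := isAffine_of_isAffineHom c
  let φ : R ⟶ Γ(P, ⊤) := (Scheme.ΓSpecIso R).inv ≫ c.appTop
  have hc : c = P.isoSpec.hom ≫ Spec.map φ := by
    have h := Scheme.isoSpec_hom_naturality c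
    simp only [φ, Spec.map_comp]
    rw [reassoc_of% h, Scheme.isoSpec_Spec_hom, ← Spec.map_comp, Iso.inv_hom_id, Spec.map_id,
      Category.comp_id]
  have hc' : Spec.map φ = P.isoSpec.inv ≫ c := by
    rw [hc, Iso.inv_hom_id_assoc]
  haveI : IsFinite (Spec.map φ) := by
    rw [hc']; infer_instance
  haveI : Etale (Spec.map φ) := by
    rw [hc']; infer_instance
  have hfin : φ.hom.Finite := (IsFinite.SpecMap_iff φ).1 inferInstance
  have het : φ.hom.Etale := (HasRingHomProperty.Spec_iff (P := @Etale)).1 inferInstance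
  have key := eq_of_specializes_Spec R Γ(P, ⊤) φ hfin het (P.isoSpec.hom.base y)
    (P.isoSpec.hom.base η₁) (P.isoSpec.hom.base η₂)
    (h₁.map P.isoSpec.hom.continuous) (h₂.map P.isoSpec.hom.continuous) ?_ ?_
  · exact P.isoSpec.hom.homeomorph.injective key
  · have : (Spec.map φ).base (P.isoSpec.hom.base η₁) = c.base η₁ := by
      rw [hc]; rfl
    rw [hc₁] at this
    exact congrArg PrimeSpectrum.asIdeal this
  · have : (Spec.map φ).base (P.isoSpec.hom.base η₂) = c.base η₂ := by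
      rw [hc]; rfl
    rw [hc₂] at this
    exact congrArg PrimeSpectrum.asIdeal this

end Groth.Agent.Helper23.EtNormal
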