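import Groth.Agent.Lib.Helper23.EtNormal2
import Groth.Prelude

set_option autoImplicit false
set_option linter.style.haveILetI false

open CategoryTheory CategoryTheory.Limits AlgebraicGeometry

universe u

namespace Groth.Agent.Helper23.EtNormal

section CT

variable {X P : Scheme.{u}} [IsIntegral X] (c : P ⟶ X)

/-- (a) every point of a flat `X`-scheme has a generization over the generic point -/
theorem exists_generic_specializes [Flat c] (y : P) :
    ∃ η : P, c.base η = genericPoint X ∧ η ⤳ y := by
  obtain ⟨η, h1, h2⟩ := Flat.generalizingMap c (genericPoint_specializes (c.base y))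
  exact ⟨η, h2, h1⟩

/-- the generic point of the spectrum of the local ring maps to the generic point -/
theorem fromSpecStalk_bot (x : X) [IsDomain (X.presheaf.stalk x)] :
    (X.fromSpecStalk x).base (⊥ : PrimeSpectrum (X.presheaf.stalk x)) = genericPoint X := by
  have hmem : genericPoint X ∈ Set.range (X.fromSpecStalk x) := by
    rw [Scheme.range_fromSpecStalk]
    exact genericPoint_specializes x
  obtain ⟨p, hp⟩ := hmem
  let p' : PrimeSpectrum (X.presheaf.stalk x) := p
  let b : ↥(Spec (X.presheaf.stalk x)) := (⊥ : PrimeSpectrum (X.presheaf.stalk x))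
  have h1 : (⊥ : PrimeSpectrum (X.presheaf.stalk x)) ⤳ p' := by
    rw [← PrimeSpectrum.le_iff_specializes]
    exact bot_le
  have h1' : b ⤳ p := h1
  have h2 : (X.fromSpecStalk x).base b ⤳ genericPoint X := by
    have := h1'.map (X.fromSpecStalk x).continuous
    rwa [hp] at this
  exact (h2.antisymm (genericPoint_specializes _)).eq

variable [IsFinite c] [Etale c]

/-- (b) -/
theorem eq_of_specializes (hX : Pi1.IsNormalScheme X) (y η₁ η₂ : P) (h₁ : η₁ ⤳ y) (h₂ : η₂ ⤳ y)
    (hc₁ : c.base η₁ = genericPoint X) (hc₂ : c.base η₂ = genericPoint X) : η₁ = η₂ := by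
  set x := c.base y with hx
  haveI : IsDomain (X.presheaf.stalk x) := (hX x).1
  haveI : IsIntegrallyClosed (X.presheaf.stalk x) := (hX x).2
  set g := X.fromSpecStalk x with hg
  set q := pullback.fst c g with hq
  haveI : IsPreimmersion q := inferInstance
  have hrange : Set.range q.base = c.base ⁻¹' {z | z ⤳ x} := by
    have := Scheme.Pullback.range_fst c g
    rw [Scheme.range_fromSpecStalk] at this
    exact this
  have hy : y ∈ Set.range q.base := by rw [hrange]; exact specializes_rfl
  have hη₁ : η₁ ∈ Set.range q.base := by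
    rw [hrange]; show c.base η₁ ⤳ x; rw [hc₁]; exact genericPoint_specializes _
  have hη₂ : η₂ ∈ Set.range q.base := by
    rw [hrange]; show c.base η₂ ⤳ x; rw [hc₂]; exact genericPoint_specializes _
  obtain ⟨y', hy'⟩ := hy
  obtain ⟨e₁, he₁⟩ := hη₁
  obtain ⟨e₂, he₂⟩ := hη₂
  rw [← hy'] at h₁ h₂
  rw [← he₁] at h₁ hc₁
  rw [← he₂] at h₂ hc₂
  have hind : Topology.IsInducing q.base := q.isEmbedding.isInducing
  have h₁' : e₁ ⤳ y' := hind.specializes_iff.1 h₁
  have h₂' : e₂ ⤳ y' := hind.specializes_iff.1 h₂
  have hbot := fromSpecStalk_bot (X := X) x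
  have hinj : Function.Injective g.base := g.isEmbedding.injective
  have hs : ∀ e : ↥(pullback c g), c.base (q.base e) = genericPoint X →
      (pullback.snd c g).base e = (⊥ : PrimeSpectrum (X.presheaf.stalk x)) := by
    intro e he
    apply hinj
    rw [hbot, ← he]
    have := congrArg (fun h => h.base e) (pullback.condition (f := c) (g := g))
    simpa using this.symm
  have := eq_of_specializes_over_Spec (X.presheaf.stalk x) (pullback.snd c g) y' e₁ e₂ h₁' h₂'
    (hs e₁ hc₁) (hs e₂ hc₂)
  rw [← he₁, ← he₂, this]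

/-- (d) closures of generic-fibre points are clopen -/
theorem isClopen_closure_generic (hX : Pi1.IsNormalScheme X) (η : P)
    (hη : c.base η = genericPoint X) : IsClopen (closure ({η} : Set P)) := by
  refine ⟨isClosed_closure, ?_⟩
  have hfin : (c.base ⁻¹' {genericPoint X}).Finite := c.finite_preimage_singleton _
  have hcompl : (closure ({η} : Set P))ᶜ =
      ⋃ η' ∈ (c.base ⁻¹' {genericPoint X}) \ {η}, closure ({η'} : Set P) := by
    ext y
    simp only [Set.mem_compl_iff, Set.mem_iUnion, exists_prop]
    constructor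
    · intro hy
      obtain ⟨η', h1, h2⟩ := exists_generic_specializes c y
      refine ⟨η', ⟨h1, ?_⟩, specializes_iff_mem_closure.1 h2⟩
      rintro (rfl : η' = η)
      exact hy (specializes_iff_mem_closure.1 h2)
    · rintro ⟨η', ⟨h1, h3⟩, h2⟩ hy
      exact h3 (eq_of_specializes c hX y η' η (specializes_iff_mem_closure.2 h2)
        (specializes_iff_mem_closure.2 hy) h1 hη)
  rw [← isClosed_compl_iff, hcompl]
  exact (hfin.subset Set.sdiff_subset).isClosed_biUnion fun _ _ => isClosed_closure

/-- the clopen-descent hypothesis `hC` -/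
theorem exists_clopen_preimage (hX : Pi1.IsNormalScheme X) {P₀ : Scheme.{u}} (q : P₀ ⟶ P)
    (hq : ∀ η : P, c.base η = genericPoint X →
      _root_.IsPreconnected (q.base ⁻¹' closure ({η} : Set P)))
    (Z : Set P₀) (hZ : IsClopen Z) : ∃ W : Set P, IsClopen W ∧ q.base ⁻¹' W = Z := by
  have hfin : (c.base ⁻¹' {genericPoint X}).Finite := c.finite_preimage_singleton _
  set I : Set P := {η | c.base η = genericPoint X ∧
    (q.base ⁻¹' closure ({η} : Set P) ∩ Z).Nonempty} with hI
  have hIfin : I.Finite := hfin.subset fun η h => h.1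
  refine ⟨⋃ η ∈ I, closure ({η} : Set P), ?_, ?_⟩
  · exact hIfin.isClopen_biUnion fun η h => isClopen_closure_generic c hX η h.1
  · ext z
    simp only [Set.mem_preimage, Set.mem_iUnion, exists_prop]
    constructor
    · rintro ⟨η, ⟨h1, h2⟩, h3⟩
      obtain ⟨w, hw1, hw2⟩ := h2
      exact (hq η h1).subset_isClopen hZ ⟨w, hw1, hw2⟩ h3
    · intro hz
      obtain ⟨η, h1, h2⟩ := exists_generic_specializes c (q.base z)
      exact ⟨η, ⟨h1, z, specializes_iff_mem_closure.1 h2, hz⟩, specializes_iff_mem_closure.1 h2⟩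

omit [IsFinite c] [Etale c] in
/-- the hypothesis `hE` -/
theorem eq_one_of_locallyConstant [Flat c] {P₀ : Scheme.{u}} (q : P₀ ⟶ P)
    (hq : c.base ⁻¹' {genericPoint X} ⊆ Set.range q.base)
    (d : P → ℕ) (hd : IsLocallyConstant d) (h1 : ∀ z : P₀, d (q.base z) = 1) (x : P) :
    d x = 1 := by
  obtain ⟨η, h2, h3⟩ := exists_generic_specializes c x
  obtain ⟨z, rfl⟩ := hq h2
  have := (h3.map hd.continuous).eq
  rw [← this]
  exact h1 z

end CT

end Groth.Agent.Helper23.EtNormal
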