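import Groth.Agent.Lib.Helper23.EtNormal3
import Groth.Agent.Lib.Helper23.FEtFull
import Groth.Prelude

set_option autoImplicit false
set_option linter.style.haveILetI false

open CategoryTheory CategoryTheory.Limits AlgebraicGeometry Pi1

universe u

namespace Groth.Agent.Helper23.EtNormal

open Groth.Agent.Helper23.FEtFull in
theorem full_of_normal {X X' : Scheme.{u}} [IsIntegral X] (hX : Pi1.IsNormalScheme X)
    (f : X' ⟶ X) (hξ : genericPoint X ∈ Set.range f.base)
    (hpre : ∀ {P : Scheme.{u}} (c : P ⟶ X) [IsFinite c] [Etale c] (η : P),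
      c.base η = genericPoint X →
      _root_.IsPreconnected ((pullback.fst c f).base ⁻¹' closure ({η} : Set P)))
    (A B : FEt.Cat X) (φ : (FEt.restrict f).obj A ⟶ (FEt.restrict f).obj B) :
    ∃ ψ : A ⟶ B, (FEt.restrict f).map ψ = φ := by
  haveI : IsFinite A.hom := A.prop.1
  haveI : Etale A.hom := A.prop.2
  haveI : IsFinite B.hom := B.prop.1
  haveI : Etale B.hom := B.prop.2
  have hφ : φ.left ≫ pullback.snd B.hom f = pullback.snd A.hom f := Over.w φ.hom
  have hC : ∀ Z : Set ↥(pullback (cc A.hom B.hom) f), IsClopen Z →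
      ∃ W : Set ↥(pullback A.hom B.hom), IsClopen W ∧
        (pullback.fst (cc A.hom B.hom) f).base ⁻¹' W = Z := by
    intro Z hZ
    exact exists_clopen_preimage (X := X) (cc A.hom B.hom) hX (pullback.fst (cc A.hom B.hom) f)
      (fun η hη => hpre (cc A.hom B.hom) η hη) Z hZ
  have hE : ∀ d : ↥A.left → ℕ, IsLocallyConstant d →
      (∀ z : ↥(pullback A.hom f), d ((pullback.fst A.hom f).base z) = 1) → ∀ x, d x = 1 := by
    intro d hd hd1 x
    refine eq_one_of_locallyConstant (X := X) A.hom (pullback.fst A.hom f) ?_ d hd hd1 x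
    intro η hη
    have hr := Scheme.Pullback.range_fst A.hom f
    have : η ∈ A.hom.base ⁻¹' Set.range f.base := by
      show A.hom.base η ∈ Set.range f.base
      rw [hη]; exact hξ
    rw [← hr] at this
    exact this
  obtain ⟨ψ, hψ1, hψ2⟩ := exists_descent_of_clopen f A.hom B.hom φ.left hφ hC hE
  refine ⟨MorphismProperty.Over.homMk ψ hψ1, ?_⟩
  ext
  simp only [FEt.restrict, MorphismProperty.Over.pullback, MorphismProperty.Over.homMk_hom,
    Over.homMk_left]
  change pullback.lift _ _ _ = φ.left
  apply pullback.hom_ext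
  · exact (pullback.lift_fst _ _ _).trans hψ2
  · exact (pullback.lift_snd _ _ _).trans hφ.symm

/-- reduction of the preconnectedness hypothesis to a statement inside `P` -/
theorem isPreconnected_preimage_of_inducing {P P₀ : Scheme.{u}} (q : P₀ ⟶ P)
    (hq : Topology.IsInducing q.base) (T : Set P)
    (hT : _root_.IsPreconnected (T ∩ Set.range q.base)) :
    _root_.IsPreconnected (q.base ⁻¹' T) := by
  rw [← hq.isPreconnected_image, Set.image_preimage_eq_inter_range]
  exact hT

end Groth.Agent.Helper23.EtNormal
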