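import Groth.Agent.Lib.Helper23.EtNormal1

set_option autoImplicit false
set_option linter.style.haveILetI false

open TensorProduct

universe u

namespace Groth.Agent.Helper23.EtNormal

section algebra2

variable (R S : Type u) [CommRing R] [IsDomain R] [CommRing S] [Algebra R S]

/-- an étale algebra over a domain is reduced -/
theorem isReduced_of_etale [Algebra.Etale R S] : IsReduced S := by
  let K := FractionRing R
  haveI : Algebra.Etale K (K ⊗[R] S) := inferInstance
  haveI : IsReduced (K ⊗[R] S) := Algebra.FormallyUnramified.isReduced_of_field K _
  haveI : Module.Flat R S := inferInstance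
  have hinj : Function.Injective (Algebra.TensorProduct.includeRight : S →ₐ[R] K ⊗[R] S) :=
    Algebra.TensorProduct.includeRight_injective (IsFractionRing.injective R K)
  exact isReduced_of_injective _ hinj

/-- a domain which is finite and smooth over a normal domain is integrally closed -/
theorem isIntegrallyClosed_of_smooth [IsIntegrallyClosed R] [IsDomain S] [Algebra.Smooth R S]
    [Module.Finite R S] : IsIntegrallyClosed S := by
  haveI : Module.Flat R S := inferInstance
  haveI : FaithfulSMul R S := inferInstance
  have hinjRS : Function.Injective (algebraMap R S) := FaithfulSMul.algebraMap_injective R S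
  set M := Algebra.algebraMapSubmonoid S (nonZeroDivisors R) with hM
  have hM0 : M ≤ nonZeroDivisors S := by
    rintro _ ⟨r, hr, rfl⟩
    rw [mem_nonZeroDivisors_iff_ne_zero]
    intro h0
    exact nonZeroDivisors.ne_zero hr (hinjRS (by rw [h0, map_zero]))
  haveI hloc : IsLocalization M (S ⊗[R] FractionRing R) :=
    IsLocalization.tensor (FractionRing R) (nonZeroDivisors R)
  haveI := isArtinianRing_tensor R S
  haveI : IsDomain (S ⊗[R] FractionRing R) :=
    IsLocalization.isDomain_of_le_nonZeroDivisors (S ⊗[R] FractionRing R) hM0
  have hfield : IsField (S ⊗[R] FractionRing R) := IsArtinianRing.isField_of_isDomain _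
  haveI : IsFractionRing S (S ⊗[R] FractionRing R) := by
    refine IsLocalization.of_le M (nonZeroDivisors S) hM0 ?_
    intro s hs
    have hinj : Function.Injective (algebraMap S (S ⊗[R] FractionRing R)) :=
      IsLocalization.injective _ hM0
    have hne : algebraMap S (S ⊗[R] FractionRing R) s ≠ 0 := by
      intro h0
      exact nonZeroDivisors.ne_zero hs (hinj (by rw [h0, map_zero]))
    letI := hfield.toField
    exact isUnit_iff_ne_zero.2 hne
  rw [isIntegrallyClosed_iff (S ⊗[R] FractionRing R)]
  intro x hx
  obtain ⟨s, hs⟩ := exists_eq_of_isIntegral R S x hx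
  exact ⟨s, hs.symm⟩

end algebra2

end Groth.Agent.Helper23.EtNormal
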