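import Groth.Agent.Lib.Helper23.EtNormal5
import Groth.Agent.Lib.Helper23.EtNormal3
import Groth.Prelude

set_option autoImplicit false
set_option linter.style.haveILetI false

open CategoryTheory CategoryTheory.Limits AlgebraicGeometry

universe u

namespace Groth.Agent.Helper23.EtNormal

section S

variable {X Y : Scheme.{u}} [IsIntegral X]

/-- sections of a normal integral scheme over a nonempty affine open are integrally closed -/
theorem isIntegrallyClosed_section (hX : Pi1.IsNormalScheme X) (V : X.Opens) (hV : IsAffineOpen V)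
    [Nonempty V] : IsIntegrallyClosed Γ(X, V) := by
  apply IsIntegrallyClosed.of_localization_maximal
  intro p _ hp
  haveI hpp : p.IsPrime := hp.isPrime
  letI : Algebra Γ(X, V) (X.presheaf.stalk (hV.fromSpec.base ⟨p, hpp⟩)) :=
    TopCat.Presheaf.algebra_section_stalk X.presheaf _
  haveI : IsLocalization.AtPrime (X.presheaf.stalk (hV.fromSpec.base ⟨p, hpp⟩)) p :=
    hV.isLocalization_stalk' ⟨p, hpp⟩ (hV.isoSpec.inv _).2
  haveI : IsIntegrallyClosed (X.presheaf.stalk (hV.fromSpec.base ⟨p, hpp⟩)) := (hX _).2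
  exact IsIntegrallyClosed.of_equiv
    (IsLocalization.algEquiv p.primeCompl (X.presheaf.stalk (hV.fromSpec.base ⟨p, hpp⟩))
      (Localization.AtPrime p)).toRingEquiv

variable (c : Y ⟶ X) [Etale c] [IsFinite c]

include c in
/-- stalks of a finite étale cover of an integral scheme are reduced -/
theorem isReduced_stalk (y : Y) : _root_.IsReduced (Y.presheaf.stalk y) := by
  obtain ⟨V, hV, hxV, -⟩ := exists_isAffineOpen_mem_and_subset
    (TopologicalSpace.Opens.mem_top (c.base y))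
  have hU : IsAffineOpen (c ⁻¹ᵁ V) := hV.preimage c
  haveI : Nonempty V := ⟨⟨_, hxV⟩⟩
  have hφ : (c.app V).hom.Etale := by
    rw [Scheme.Hom.app_eq_appLE]
    exact HasRingHomProperty.appLE (P := @Etale) c inferInstance ⟨V, hV⟩ ⟨_, hU⟩ _
  algebraize [(c.app V).hom]
  haveI : _root_.IsReduced Γ(Y, c ⁻¹ᵁ V) := isReduced_of_etale Γ(X, V) Γ(Y, c ⁻¹ᵁ V)
  have hy : y ∈ c ⁻¹ᵁ V := hxV
  letI : Algebra Γ(Y, c ⁻¹ᵁ V) (Y.presheaf.stalk y) :=
    TopCat.Presheaf.algebra_section_stalk Y.presheaf ⟨y, hy⟩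
  haveI := hU.isLocalization_stalk ⟨y, hy⟩
  exact isReduced_localizationPreserves (hU.primeIdealOf ⟨y, hy⟩).asIdeal.primeCompl
    (Y.presheaf.stalk y) inferInstance

include c in
/-- stalks of an integral finite étale cover of a normal integral scheme are integrally closed -/
theorem isIntegrallyClosed_stalk (hX : Pi1.IsNormalScheme X) [IsIntegral Y] (y : Y) :
    IsIntegrallyClosed (Y.presheaf.stalk y) := by
  obtain ⟨V, hV, hxV, -⟩ := exists_isAffineOpen_mem_and_subset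
    (TopologicalSpace.Opens.mem_top (c.base y))
  have hU : IsAffineOpen (c ⁻¹ᵁ V) := hV.preimage c
  haveI : Nonempty V := ⟨⟨_, hxV⟩⟩
  have hy : y ∈ c ⁻¹ᵁ V := hxV
  haveI : Nonempty ↥(c ⁻¹ᵁ V) := ⟨⟨y, hy⟩⟩
  haveI : IsDomain Γ(Y, c ⁻¹ᵁ V) :=
    @IsIntegral.component_integral Y _ (c ⁻¹ᵁ V) ⟨⟨y, hy⟩⟩
  have hφ : (c.app V).hom.Etale := by
    rw [Scheme.Hom.app_eq_appLE]
    exact HasRingHomProperty.appLE (P := @Etale) c inferInstance ⟨V, hV⟩ ⟨_, hU⟩ _
  have hfin : (c.app V).hom.Finite := IsFinite.finite_app c V hV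
  algebraize [(c.app V).hom]
  haveI : IsIntegrallyClosed Γ(X, V) := isIntegrallyClosed_section hX V hV
  haveI : Algebra.Smooth Γ(X, V) Γ(Y, c ⁻¹ᵁ V) := inferInstance
  haveI : IsIntegrallyClosed Γ(Y, c ⁻¹ᵁ V) :=
    isIntegrallyClosed_of_smooth Γ(X, V) Γ(Y, c ⁻¹ᵁ V)
  letI : Algebra Γ(Y, c ⁻¹ᵁ V) (Y.presheaf.stalk y) :=
    TopCat.Presheaf.algebra_section_stalk Y.presheaf ⟨y, hy⟩
  haveI := hU.isLocalization_stalk ⟨y, hy⟩
  exact isIntegrallyClosed_of_isLocalization (Y.presheaf.stalk y)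
    (hU.primeIdealOf ⟨y, hy⟩).asIdeal.primeCompl
    (Ideal.primeCompl_le_nonZeroDivisors _)

end S

end Groth.Agent.Helper23.EtNormal
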