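import Mathlib
import Groth.Prelude.Def_Pi1X
import Groth.Agent.Lib.Helper14.FFDescent

/-!
# Étaleness descends along étale surjections on the source (helper23)
-/

set_option autoImplicit false
set_option linter.style.haveILetI false
universe u
open CategoryTheory CategoryTheory.Limits AlgebraicGeometry TopologicalSpace TensorProduct

namespace Groth.Agent.Helper23.EtaleSrc

/-- `A → B → C` with `B → C` étale faithfully flat, `A → C` étale, `A → B` of finite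
presentation: then `A → B` is étale. -/
theorem etale_of_faithfullyFlat (A B C : Type u) [CommRing A] [CommRing B] [CommRing C]
    [Algebra A B] [Algebra B C] [Algebra A C] [IsScalarTower A B C]
    [Algebra.FinitePresentation A B] [Algebra.Etale B C] [Module.FaithfullyFlat B C]
    [Algebra.Etale A C] : Algebra.Etale A B := by
  haveI : Module.Flat A C := inferInstance
  haveI : Module.Flat A B := Groth.Agent.Helper14.FFDescent.flat_of_comp A B C
  haveI : Algebra.FormallyUnramified A B := by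
    constructor
    have e := KaehlerDifferential.tensorKaehlerEquivOfFormallyEtale A B C
    haveI : Subsingleton (C ⊗[B] Ω[B⁄A]) := e.toEquiv.subsingleton
    exact (Module.FaithfullyFlat.subsingleton_tensorProduct_iff_right B C).1 inferInstance
  exact Algebra.Etale.of_formallyUnramified_of_flat

/-- affine scheme version -/
theorem etale_of_comp_of_affine {U V W : Scheme.{u}} [IsAffine U] [IsAffine V] [IsAffine W]
    (p : U ⟶ V) (g : V ⟶ W) [Etale p] [Surjective p] [Etale (p ≫ g)]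
    [LocallyOfFinitePresentation g] : Etale g := by
  rw [HasRingHomProperty.iff_of_isAffine (P := @Etale)]
  have hp : p.appTop.hom.Etale :=
    (HasRingHomProperty.iff_of_isAffine (P := @Etale)).1 inferInstance
  have hpg : (p ≫ g).appTop.hom.Etale :=
    (HasRingHomProperty.iff_of_isAffine (P := @Etale)).1 inferInstance
  have hg : g.appTop.hom.FinitePresentation :=
    (HasRingHomProperty.iff_of_isAffine (P := @LocallyOfFinitePresentation)).1 inferInstance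
  have hff : p.appTop.hom.FaithfullyFlat :=
    (Flat.flat_and_surjective_iff_faithfullyFlat_of_isAffine p).1 ⟨inferInstance, inferInstance⟩
  letI algAB : Algebra Γ(W, ⊤) Γ(V, ⊤) := g.appTop.hom.toAlgebra
  letI algBC : Algebra Γ(V, ⊤) Γ(U, ⊤) := p.appTop.hom.toAlgebra
  letI algAC : Algebra Γ(W, ⊤) Γ(U, ⊤) := (p ≫ g).appTop.hom.toAlgebra
  haveI : IsScalarTower Γ(W, ⊤) Γ(V, ⊤) Γ(U, ⊤) :=
    IsScalarTower.of_algebraMap_eq' (congrArg CommRingCat.Hom.hom (Scheme.Hom.comp_appTop p g))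
  haveI : Algebra.FinitePresentation Γ(W, ⊤) Γ(V, ⊤) := hg
  haveI : Algebra.Etale Γ(V, ⊤) Γ(U, ⊤) := hp
  haveI : Module.FaithfullyFlat Γ(V, ⊤) Γ(U, ⊤) := hff
  haveI : Algebra.Etale Γ(W, ⊤) Γ(U, ⊤) := hpg
  exact etale_of_faithfullyFlat Γ(W, ⊤) Γ(V, ⊤) Γ(U, ⊤)

theorem resLE_val {X Y : Scheme.{u}} (f : X ⟶ Y) (U : Y.Opens) (V : X.Opens) (e : V ≤ f ⁻¹ᵁ U)
    (z : V) : (f.resLE U V e z).1 = f z.1 := by
  have h := congrArg (fun h : (V : Scheme.{u}) ⟶ Y => h z) (Scheme.Hom.resLE_comp_ι f e)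
  simpa [Scheme.Hom.comp_apply] using h

theorem mem_etaleLocus_of_etale {X X' Y : Scheme.{u}} (f : X ⟶ X') (g : X' ⟶ Y)
    [LocallyOfFinitePresentation g] [Etale f] [Etale (f ≫ g)] (x : X) :
    f x ∈ Pi1X.etaleLocus g := by
  obtain ⟨_, ⟨W, hW, rfl⟩, hxW, -⟩ :=
    Y.isBasis_affineOpens.exists_subset_of_mem_open (Set.mem_univ (g (f x))) isOpen_univ
  obtain ⟨_, ⟨V₀, hV₀, rfl⟩, hxV₀, hV₀W⟩ :=
    X'.isBasis_affineOpens.exists_subset_of_mem_open (show f x ∈ g ⁻¹ᵁ W from hxW) (g ⁻¹ᵁ W).isOpen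
  obtain ⟨_, ⟨U₀, hU₀, rfl⟩, hxU₀, hU₀V₀⟩ :=
    X.isBasis_affineOpens.exists_subset_of_mem_open (show x ∈ f ⁻¹ᵁ V₀ from hxV₀) (f ⁻¹ᵁ V₀).isOpen
  have hW : IsAffineOpen W := hW
  have hV₀ : IsAffineOpen V₀ := hV₀
  have hU₀ : IsAffineOpen U₀ := hU₀
  have hV₀W : V₀ ≤ g ⁻¹ᵁ W := hV₀W
  have hU₀V₀ : U₀ ≤ f ⁻¹ᵁ V₀ := hU₀V₀
  have hopen : IsOpen (f '' (U₀ : Set X)) := f.isOpenMap _ U₀.isOpen
  obtain ⟨b, hb1, hb2⟩ := hV₀.exists_basicOpen_le (V := ⟨f '' U₀, hopen⟩)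
    ⟨f x, ⟨x, hxU₀, rfl⟩⟩ hxV₀
  have hVb : IsAffineOpen (X'.basicOpen b) := hV₀.basicOpen b
  have hUb : IsAffineOpen (X.basicOpen (f.appLE V₀ U₀ hU₀V₀ b)) := hU₀.basicOpen _
  have hUb_eq : X.basicOpen (f.appLE V₀ U₀ hU₀V₀ b) = U₀ ⊓ f ⁻¹ᵁ (X'.basicOpen b) :=
    Scheme.basicOpen_appLE f U₀ V₀ hU₀V₀ b
  have e1 : X.basicOpen (f.appLE V₀ U₀ hU₀V₀ b) ≤ f ⁻¹ᵁ (X'.basicOpen b) := by
    rw [hUb_eq]; exact inf_le_right
  have e2 : X'.basicOpen b ≤ g ⁻¹ᵁ W := (X'.basicOpen_le b).trans hV₀W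
  haveI : IsAffine (X.basicOpen (f.appLE V₀ U₀ hU₀V₀ b)) := hUb
  haveI : IsAffine (X'.basicOpen b) := hVb
  haveI : IsAffine W := hW
  haveI : Etale (f.resLE _ _ e1) := IsZariskiLocalAtSource.resLE (P := @Etale) e1 inferInstance
  haveI : Surjective (f.resLE _ _ e1) := by
    constructor
    rintro ⟨y, hy⟩
    obtain ⟨u, hu, rfl⟩ := hb1 hy
    refine ⟨⟨u, by rw [hUb_eq]; exact ⟨hu, hy⟩⟩, ?_⟩
    apply Subtype.ext
    exact resLE_val f _ _ e1 _
  haveI : Etale (f.resLE _ _ e1 ≫ g.resLE _ _ e2) := by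
    rw [Scheme.Hom.resLE_comp_resLE]
    exact IsZariskiLocalAtSource.resLE (P := @Etale) _ inferInstance
  haveI : LocallyOfFinitePresentation (g.resLE _ _ e2) :=
    IsZariskiLocalAtSource.resLE (P := @LocallyOfFinitePresentation) e2 inferInstance
  haveI : Etale (g.resLE _ _ e2) := etale_of_comp_of_affine (f.resLE _ _ e1) (g.resLE _ _ e2)
  have hfin : Etale ((X'.basicOpen b).ι ≫ g) := by
    rw [← Scheme.Hom.resLE_comp_ι g e2]
    infer_instance
  exact (le_sSup (show X'.basicOpen b ∈ {U : X'.Opens | Etale (U.ι ≫ g)} from hfin)) hb2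

end Groth.Agent.Helper23.EtaleSrc
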