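import Mathlib
import Groth.Prelude.Def_W4c3severiratdpLat
import Groth.Agent.Lib.Helper23.DPLat

/-! Exceptional classes in the del Pezzo lattice: bounds, descent and normal forms. -/

namespace Groth.Agent.Helper23.ExcLat

open W4c3severiratdp Groth.Agent.Helper23.DPLat

variable {δ : ℕ}

theorem exc_iff (v : DP δ) : IsExc v ↔
    (v 0 * v 0 + 1 = ∑ i : Fin δ, v i.succ * v i.succ) ∧ (∑ i : Fin δ, v i.succ = 3 * v 0 - 1) := by
  unfold IsExc
  rw [form_canon]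
  unfold form
  constructor
  · rintro ⟨h1, h2⟩
    exact ⟨by linarith, by linarith⟩
  · rintro ⟨h1, h2⟩
    exact ⟨by linarith, by linarith⟩

theorem isWeyl_exc {g : DP δ ≃ₗ[ℤ] DP δ} (hg : IsWeyl g) {v : DP δ} (hv : IsExc v) :
    IsExc (g v) := by
  refine ⟨by rw [hg.1]; exact hv.1, ?_⟩
  have := hg.1 (canon δ) v
  rw [hg.2] at this
  rw [this]; exact hv.2

theorem exc_bounds (hδ : δ ≤ 8) (v : DP δ) (hv : IsExc v) :
    0 ≤ v 0 ∧ v 0 ≤ 7 ∧ ∀ j : Fin δ, -1 ≤ v j.succ ∧ v j.succ ≤ v 0 + 1 := by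
  obtain ⟨h1, h2⟩ := (exc_iff v).mp hv
  have cs := sq_sum_le_card_mul_sum_sq (s := (Finset.univ : Finset (Fin δ)))
    (f := fun i => v i.succ)
  simp only [Finset.card_univ, Fintype.card_fin] at cs
  have hsq : ∑ i : Fin δ, v i.succ ^ 2 = v 0 * v 0 + 1 := by
    rw [h1]; exact Finset.sum_congr rfl fun i _ => by ring
  rw [h2, hsq] at cs
  have hδ' : (δ : ℤ) ≤ 8 := by exact_mod_cast hδ
  have hnn0 : 0 ≤ v 0 * v 0 + 1 := by nlinarith [mul_self_nonneg (v 0)]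
  have cs8 : (3 * v 0 - 1) ^ 2 ≤ 8 * (v 0 * v 0 + 1) := by nlinarith
  -- `∑ b² ≥ -∑ b`
  have hle2 : -∑ i : Fin δ, v i.succ ≤ ∑ i : Fin δ, v i.succ * v i.succ := by
    rw [← Finset.sum_neg_distrib]
    exact Finset.sum_le_sum fun i _ => by
      have := Int.le_self_sq (-v i.succ); nlinarith
  rw [h2, ← h1] at hle2
  have ham1 : -1 ≤ v 0 := by nlinarith
  have ha0 : 0 ≤ v 0 := by
    by_contra hneg
    push Not at hneg
    have : v 0 = -1 := by omega
    rw [this] at hle2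
    norm_num at hle2
  have ha7 : v 0 ≤ 7 := by nlinarith
  refine ⟨ha0, ha7, fun j => ?_⟩
  have e1 := Finset.add_sum_erase Finset.univ (fun i : Fin δ => v i.succ) (Finset.mem_univ j)
  have e2 := Finset.add_sum_erase Finset.univ (fun i : Fin δ => v i.succ ^ 2) (Finset.mem_univ j)
  have cs' := sq_sum_le_card_mul_sum_sq (s := (Finset.univ : Finset (Fin δ)).erase j)
    (f := fun i => v i.succ)
  rw [Finset.card_erase_of_mem (Finset.mem_univ j)] at cs'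
  simp only [Finset.card_univ, Fintype.card_fin] at cs'
  rw [h2] at e1
  rw [hsq] at e2
  have hnn : ∀ i ∈ (Finset.univ : Finset (Fin δ)).erase j, 0 ≤ v i.succ ^ 2 :=
    fun i _ => sq_nonneg _
  have hsn := Finset.sum_nonneg hnn
  have hS : ∑ x ∈ Finset.univ.erase j, v x.succ = 3 * v 0 - 1 - v j.succ := by linarith
  have hQ : ∑ x ∈ Finset.univ.erase j, v x.succ ^ 2 = v 0 * v 0 + 1 - v j.succ ^ 2 := by linarith
  rw [hS, hQ] at cs'
  rw [hQ] at hsn
  have hδ1 : ((δ - 1 : ℕ) : ℤ) ≤ 7 := by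
    have : δ - 1 ≤ 7 := by omega
    exact_mod_cast this
  have cs7 : (3 * v 0 - 1 - v j.succ) ^ 2 ≤ 7 * (v 0 * v 0 + 1 - v j.succ ^ 2) := by nlinarith
  constructor
  · by_contra hneg
    push Not at hneg
    have k1 : 0 ≤ v 0 * (-v j.succ - 2) := mul_nonneg ha0 (by linarith)
    have k2 : 0 ≤ (-v j.succ - 2) * (-v j.succ) := mul_nonneg (by linarith) (by linarith)
    nlinarith
  · by_contra hgt
    push Not at hgt
    nlinarith


/-- shifted natural number coordinates of an exceptional class: `b_i = C i - 1` -/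
theorem exc_nat (hδ : δ ≤ 8) (Q : DP δ) (hQ : IsExc Q) :
    ∃ (A : ℕ) (C : Fin δ → ℕ), Q 0 = A ∧ (∀ i, Q i.succ = (C i : ℤ) - 1) ∧ A ≤ 7 ∧
      (∀ i, C i ≤ A + 2) ∧ ∑ i, C i + 1 = 3 * A + δ ∧ ∑ i, C i ^ 2 + 1 = A ^ 2 + 6 * A + δ := by
  obtain ⟨ha0, ha7, hb⟩ := exc_bounds hδ Q hQ
  obtain ⟨h1, h2⟩ := (exc_iff Q).mp hQ
  obtain ⟨A, hA⟩ := Int.eq_ofNat_of_zero_le ha0
  have hC : ∀ i : Fin δ, ∃ c : ℕ, Q i.succ + 1 = c := fun i =>
    Int.eq_ofNat_of_zero_le (by linarith [(hb i).1])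
  choose C hCe using hC
  have hCe' : ∀ i, Q i.succ = (C i : ℤ) - 1 := fun i => by rw [← hCe i]; ring
  refine ⟨A, C, hA, hCe', ?_, ?_, ?_, ?_⟩
  · rw [hA] at ha7; exact_mod_cast ha7
  · intro i
    have := (hb i).2
    rw [hCe', hA] at this
    have h' : (C i : ℤ) ≤ (A : ℤ) + 2 := by linarith
    exact_mod_cast h'
  · have hs : ∑ i, (C i : ℤ) = ∑ i : Fin δ, Q i.succ + δ := by
      rw [← Finset.sum_congr rfl (fun i _ => hCe i), Finset.sum_add_distrib]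
      simp
    have : ((∑ i, C i + 1 : ℕ) : ℤ) = ((3 * A + δ : ℕ) : ℤ) := by
      push_cast
      rw [hs, h2, hA]
      ring
    exact_mod_cast this
  · have hs : ∑ i, (C i : ℤ) ^ 2 =
        ∑ i : Fin δ, Q i.succ * Q i.succ + 2 * ∑ i : Fin δ, Q i.succ + δ := by
      rw [Finset.mul_sum, ← Finset.sum_add_distrib]
      have : (δ : ℤ) = ∑ _i : Fin δ, (1 : ℤ) := by simp
      rw [this, ← Finset.sum_add_distrib]
      exact Finset.sum_congr rfl fun i _ => by rw [← hCe i]; ring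
    have : ((∑ i, C i ^ 2 + 1 : ℕ) : ℤ) = ((A ^ 2 + 6 * A + δ : ℕ) : ℤ) := by
      push_cast
      rw [hs, ← h1, h2, hA]
      ring
    exact_mod_cast this

/-- descent by Cremona reflections for a class of vectors stable under the Weyl group -/
theorem descent_gen (Cls : DP δ → Prop)
    (hW : ∀ g : DP δ ≃ₗ[ℤ] DP δ, IsWeyl g → ∀ Q, Cls Q → Cls (g Q))
    (lb : ℤ) (hlb : ∀ Q, Cls Q → lb ≤ Q 0)
    (F : Set (DP δ)) (T : Fin δ → Fin δ → Fin δ → Prop)
    (hT : ∀ i j k, T i j k → i ≠ j ∧ i ≠ k ∧ j ≠ k ∧ ∀ q ∈ F, form q (root3 i j k) = 0)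
    (Q : DP δ) (hQ : Cls Q) :
    ∃ Q', WRel F Q Q' ∧ Cls Q' ∧
      ∀ i j k, T i j k → Q' i.succ + Q' j.succ + Q' k.succ ≤ Q' 0 := by
  induction hn : (Q 0 - lb).toNat using Nat.strong_induction_on generalizing Q with
  | _ n ih =>
    by_cases h : ∀ i j k, T i j k → Q i.succ + Q j.succ + Q k.succ ≤ Q 0
    · exact ⟨Q, WRel.refl F Q, hQ, h⟩
    · push Not at h
      obtain ⟨i, j, k, hijk, hlt⟩ := h
      obtain ⟨hij, hik, hjk, hF⟩ := hT i j k hijk
      have hα := root3_self i j k hij hik hjk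
      have hg := refl_isWeyl (root3 i j k) hα (root3_canon i j k)
      set Q' := refl (root3 i j k) hα Q with hQ'
      have hQ'c : Cls Q' := hW _ hg Q hQ
      have h0 : Q' 0 = Q 0 + (Q 0 - (Q i.succ + Q j.succ + Q k.succ)) := by
        rw [hQ', refl_apply, form_root3]
        simp only [Pi.add_apply, Pi.smul_apply, smul_eq_mul, root3_zero, mul_one]
      have hpos := hlb Q' hQ'c
      have hpos0 := hlb Q hQ
      have hlt' : (Q' 0 - lb).toNat < n := by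
        rw [← hn]
        omega
      obtain ⟨Q'', hrel, hc, hred⟩ := ih _ hlt' Q' hQ'c rfl
      refine ⟨Q'', WRel.trans ⟨refl (root3 i j k) hα, hg, fun q hq => ?_, rfl⟩ hrel, hc, hred⟩
      rw [refl_apply, hF q hq, zero_smul, add_zero]

theorem descent_exc (hδ : δ ≤ 8) (F : Set (DP δ)) (T : Fin δ → Fin δ → Fin δ → Prop)
    (hT : ∀ i j k, T i j k → i ≠ j ∧ i ≠ k ∧ j ≠ k ∧ ∀ q ∈ F, form q (root3 i j k) = 0)
    (Q : DP δ) (hQ : IsExc Q) :
    ∃ Q', WRel F Q Q' ∧ IsExc Q' ∧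
      ∀ i j k, T i j k → Q' i.succ + Q' j.succ + Q' k.succ ≤ Q' 0 :=
  descent_gen IsExc (fun _ hg _ hQ => isWeyl_exc hg hQ) 0
    (fun Q hQ => (exc_bounds hδ Q hQ).1) F T hT Q hQ


/-! ### normal forms of exceptional classes -/

theorem normalE0 (hδ : δ ≤ 8) (P : ℕ → List ℕ → Prop)
    (hs : ∀ a, a ≤ 7 → Srch (3 * a + δ - 1) (a ^ 2 + 6 * a + δ - 1)
      (fun l => red3 (a + 3) l → P a l) δ (a + 2) 0 0 [])
    (Q : DP δ) (hQ : IsExc Q) :
    ∃ Q'', WRel ∅ Q Q'' ∧ IsExc Q'' ∧ ∃ (A : ℕ) (C : Fin δ → ℕ),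
      Q'' 0 = A ∧ (∀ i, Q'' i.succ = (C i : ℤ) - 1) ∧ P A (List.ofFn C) := by
  obtain ⟨Q', hrel, hc, hred⟩ := descent_exc hδ ∅ (fun i j k => i ≠ j ∧ i ≠ k ∧ j ≠ k)
    (fun i j k h => ⟨h.1, h.2.1, h.2.2, fun q hq => absurd hq (Set.notMem_empty q)⟩) Q hQ
  let b : Fin δ → ℤ := fun i => Q' i.succ
  let σ : Equiv.Perm (Fin δ) := Fin.revPerm.trans (Tuple.sort b)
  have hQ''s : ∀ i, permL σ Q' i.succ = b (σ i) := fun i => permL_succ σ Q' i
  have hanti : ∀ i j : Fin δ, i ≤ j → permL σ Q' j.succ ≤ permL σ Q' i.succ := by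
    intro i j hij
    rw [hQ''s, hQ''s]
    have := Tuple.monotone_sort b (Fin.rev_le_rev.mpr hij)
    simpa [σ] using this
  have hc'' : IsExc (permL σ Q') := isWeyl_exc (permL_isWeyl σ) hc
  obtain ⟨A, C, hA, hC, hA7, hCA, hsum, hsq⟩ := exc_nat hδ (permL σ Q') hc''
  refine ⟨permL σ Q', hrel.trans ⟨permL σ, permL_isWeyl σ,
    fun q hq => absurd hq (Set.notMem_empty q), rfl⟩, hc'', A, C, hA, hC, ?_⟩
  have hantiC : ∀ i j : Fin δ, i ≤ j → C j ≤ C i := by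
    intro i j hij
    have := hanti i j hij
    rw [hC, hC] at this
    have h' : (C j : ℤ) ≤ C i := by linarith
    exact_mod_cast h'
  have := srch_sound_fn (3 * A + δ - 1) (A ^ 2 + 6 * A + δ - 1) _ δ (A + 2) 0 0 [] C
    (hs A hA7) hantiC hCA (by omega) (by omega)
  simp only [List.reverse_nil, List.nil_append] at this
  apply this
  apply red3_ofFn
  intro h3
  have hr := hred (σ ⟨0, by omega⟩) (σ ⟨1, by omega⟩) (σ ⟨2, by omega⟩)
    ⟨by simp [Fin.ext_iff], by simp [Fin.ext_iff], by simp [Fin.ext_iff]⟩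
  rw [← permL_succ σ Q', ← permL_succ σ Q', ← permL_succ σ Q', ← permL_zero σ Q', hC, hC, hC,
    hA] at hr
  have h' : (C ⟨0, by omega⟩ : ℤ) + C ⟨1, by omega⟩ + C ⟨2, by omega⟩ ≤ (A : ℤ) + 3 := by
    linarith
  exact_mod_cast h'

/-- the exceptional class `e₁` -/
def e1 (d : ℕ) : DP (d + 1) := Pi.single (0 : Fin (d + 1)).succ (-1)

theorem form_e1 (d : ℕ) (v : DP (d + 1)) : form v (e1 d) = v (0 : Fin (d + 1)).succ := by
  unfold e1
  rw [form_single_succ]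
  ring

theorem e1_zero (d : ℕ) : e1 d 0 = 0 := by
  unfold e1
  exact Pi.single_eq_of_ne (Fin.succ_ne_zero _).symm _

theorem e1_one (d : ℕ) : e1 d (0 : Fin (d + 1)).succ = -1 := by
  unfold e1
  exact Pi.single_eq_same _ _

theorem e1_succ_succ (d : ℕ) (i : Fin d) : e1 d i.succ.succ = 0 := by
  unfold e1
  exact Pi.single_eq_of_ne (fun h => Fin.succ_ne_zero i (Fin.succ_injective _ h)) _

theorem normalE1 {d : ℕ} (hδ : d + 1 ≤ 8) (P : ℕ → List ℕ → Prop)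
    (hs : ∀ a, a ≤ 7 → ∀ c, c < a + 3 → Srch (3 * a + (d + 1) - 1) (a ^ 2 + 6 * a + (d + 1) - 1)
      (fun l => red3 (a + 3) (l.drop 1) → P a l) d (a + 2) c (c ^ 2) [c])
    (Q : DP (d + 1)) (hQ : IsExc Q) :
    ∃ Q'', WRel {e1 d} Q Q'' ∧ IsExc Q'' ∧ ∃ (A : ℕ) (C : Fin (d + 1) → ℕ),
      Q'' 0 = A ∧ (∀ i, Q'' i.succ = (C i : ℤ) - 1) ∧ P A (List.ofFn C) := by
  obtain ⟨Q', hrel, hc, hred⟩ := descent_exc hδ {e1 d}
    (fun i j k => i ≠ 0 ∧ j ≠ 0 ∧ k ≠ 0 ∧ i ≠ j ∧ i ≠ k ∧ j ≠ k)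
    (fun i j k h => by
      obtain ⟨hi, hj, hk, hij, hik, hjk⟩ := h
      refine ⟨hij, hik, hjk, fun q hq => ?_⟩
      rw [Set.mem_singleton_iff] at hq
      subst hq
      rw [form_root3, e1_zero]
      obtain ⟨i', rfl⟩ := Fin.exists_succ_eq.mpr hi
      obtain ⟨j', rfl⟩ := Fin.exists_succ_eq.mpr hj
      obtain ⟨k', rfl⟩ := Fin.exists_succ_eq.mpr hk
      rw [e1_succ_succ, e1_succ_succ, e1_succ_succ]
      ring) Q hQ
  let b : Fin d → ℤ := fun i => Q' i.succ.succ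
  let τ : Equiv.Perm (Fin d) := Fin.revPerm.trans (Tuple.sort b)
  let σ : Equiv.Perm (Fin (d + 1)) := Equiv.Perm.decomposeFin.symm (0, τ)
  have hσ0 : σ 0 = 0 := by simp [σ]
  have hσs : ∀ i : Fin d, σ i.succ = (τ i).succ := fun i => by simp [σ]
  have hfix : permL σ (e1 d) = e1 d := by
    funext i
    refine Fin.cases ?_ (fun j => ?_) i
    · rw [permL_zero]
    · rw [permL_succ]
      refine Fin.cases ?_ (fun m => ?_) j
      · rw [hσ0]
      · rw [hσs, e1_succ_succ, e1_succ_succ]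
  have hanti : ∀ i j : Fin d, i ≤ j → permL σ Q' j.succ.succ ≤ permL σ Q' i.succ.succ := by
    intro i j hij
    rw [permL_succ, permL_succ, hσs, hσs]
    have := Tuple.monotone_sort b (Fin.rev_le_rev.mpr hij)
    simpa [τ] using this
  have hc'' : IsExc (permL σ Q') := isWeyl_exc (permL_isWeyl σ) hc
  obtain ⟨A, C, hA, hC, hA7, hCA, hsum, hsq⟩ := exc_nat hδ (permL σ Q') hc''
  refine ⟨permL σ Q', hrel.trans ⟨permL σ, permL_isWeyl σ, fun q hq => ?_, rfl⟩, hc'', A, C, hA,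
    hC, ?_⟩
  · rw [Set.mem_singleton_iff] at hq
    rw [hq, hfix]
  have hantiC : ∀ i j : Fin d, i ≤ j → Fin.tail C j ≤ Fin.tail C i := by
    intro i j hij
    have := hanti i j hij
    rw [hC, hC] at this
    have h' : (C j.succ : ℤ) ≤ C i.succ := by linarith
    exact_mod_cast h'
  rw [Fin.sum_univ_succ] at hsum hsq
  have := srch_sound_fn (3 * A + (d + 1) - 1) (A ^ 2 + 6 * A + (d + 1) - 1) _ d (A + 2) (C 0)
    (C 0 ^ 2) [C 0] (Fin.tail C)
    (hs A hA7 (C 0) (Nat.lt_succ_of_le (hCA 0))) hantiC (fun i => hCA i.succ)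
    (by simp only [Fin.tail]; omega) (by simp only [Fin.tail]; omega)
  have hof : List.ofFn C = [C 0] ++ List.ofFn (Fin.tail C) := by
    rw [List.ofFn_succ]; rfl
  rw [hof]
  simp only [List.reverse_cons, List.reverse_nil, List.nil_append] at this
  apply this
  simp only [List.singleton_append, List.drop_succ_cons, List.drop_zero]
  apply red3_ofFn
  intro h3
  have hne : ∀ x y : Fin d, x ≠ y → σ x.succ ≠ σ y.succ := by
    intro x y hxy h
    rw [hσs, hσs] at h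
    exact hxy (τ.injective (Fin.succ_injective _ h))
  have hr := hred (σ (⟨0, by omega⟩ : Fin d).succ) (σ (⟨1, by omega⟩ : Fin d).succ)
    (σ (⟨2, by omega⟩ : Fin d).succ)
    ⟨by rw [hσs]; exact Fin.succ_ne_zero _, by rw [hσs]; exact Fin.succ_ne_zero _,
      by rw [hσs]; exact Fin.succ_ne_zero _,
      hne _ _ (by simp [Fin.ext_iff]), hne _ _ (by simp [Fin.ext_iff]),
      hne _ _ (by simp [Fin.ext_iff])⟩
  rw [← permL_succ σ Q', ← permL_succ σ Q', ← permL_succ σ Q', ← permL_zero σ Q', hC, hC, hC,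
    hA] at hr
  have h' : (C (⟨0, by omega⟩ : Fin d).succ : ℤ) + C (⟨1, by omega⟩ : Fin d).succ +
      C (⟨2, by omega⟩ : Fin d).succ ≤ (A : ℤ) + 3 := by linarith
  have h'' : C (⟨0, by omega⟩ : Fin d).succ + C (⟨1, by omega⟩ : Fin d).succ +
      C (⟨2, by omega⟩ : Fin d).succ ≤ A + 3 := by exact_mod_cast h'
  exact h''

/-- the exceptional class `e₂` -/
def e2 (d : ℕ) : DP (d + 2) := Pi.single ((0 : Fin (d + 1)).succ).succ (-1)

theorem form_e2 (d : ℕ) (v : DP (d + 2)) :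
    form v (e2 d) = v ((0 : Fin (d + 1)).succ).succ := by
  unfold e2
  rw [form_single_succ]
  ring

theorem e2_zero (d : ℕ) : e2 d 0 = 0 := by
  unfold e2
  exact Pi.single_eq_of_ne (Fin.succ_ne_zero _).symm _

theorem e2_one (d : ℕ) : e2 d (0 : Fin (d + 2)).succ = 0 := by
  unfold e2
  exact Pi.single_eq_of_ne (fun h => (Fin.succ_ne_zero _) (Fin.succ_injective _ h).symm) _

theorem e2_two (d : ℕ) : e2 d ((0 : Fin (d + 1)).succ).succ = -1 := by
  unfold e2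
  exact Pi.single_eq_same _ _

theorem e2_succ3 (d : ℕ) (i : Fin d) : e2 d i.succ.succ.succ = 0 := by
  unfold e2
  exact Pi.single_eq_of_ne
    (fun h => Fin.succ_ne_zero i (Fin.succ_injective _ (Fin.succ_injective _ h))) _

theorem normalE2 {d : ℕ} (hδ : d + 2 ≤ 8) (P : ℕ → List ℕ → Prop)
    (hs : ∀ a, a ≤ 7 → ∀ c₁, c₁ < a + 3 → ∀ c₂, c₂ < a + 3 →
      Srch (3 * a + (d + 2) - 1) (a ^ 2 + 6 * a + (d + 2) - 1)
        (fun l => red3 (a + 3) (l.drop 2) → P a l) d (a + 2) (c₁ + c₂) (c₁ ^ 2 + c₂ ^ 2) [c₂, c₁])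
    (Q : DP (d + 2)) (hQ : IsExc Q) :
    ∃ Q'', WRel {e1 (d + 1), e2 d} Q Q'' ∧ IsExc Q'' ∧ ∃ (A : ℕ) (C : Fin (d + 2) → ℕ),
      Q'' 0 = A ∧ (∀ i, Q'' i.succ = (C i : ℤ) - 1) ∧ P A (List.ofFn C) := by
  obtain ⟨Q', hrel, hc, hred⟩ := descent_exc hδ {e1 (d + 1), e2 d}
    (fun i j k => (∃ i' : Fin d, i = i'.succ.succ) ∧ (∃ j' : Fin d, j = j'.succ.succ) ∧
      (∃ k' : Fin d, k = k'.succ.succ) ∧ i ≠ j ∧ i ≠ k ∧ j ≠ k)
    (fun i j k h => by
      obtain ⟨⟨i', rfl⟩, ⟨j', rfl⟩, ⟨k', rfl⟩, hij, hik, hjk⟩ := h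
      refine ⟨hij, hik, hjk, fun q hq => ?_⟩
      rw [Set.mem_insert_iff, Set.mem_singleton_iff] at hq
      rcases hq with rfl | rfl
      · rw [form_root3, e1_zero, e1_succ_succ, e1_succ_succ, e1_succ_succ]
        ring
      · rw [form_root3, e2_zero, e2_succ3, e2_succ3, e2_succ3]
        ring) Q hQ
  let b : Fin d → ℤ := fun i => Q' i.succ.succ.succ
  let τ : Equiv.Perm (Fin d) := Fin.revPerm.trans (Tuple.sort b)
  let σ₁ : Equiv.Perm (Fin (d + 1)) := Equiv.Perm.decomposeFin.symm (0, τ)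
  let σ : Equiv.Perm (Fin (d + 2)) := Equiv.Perm.decomposeFin.symm (0, σ₁)
  have hσ₁0 : σ₁ 0 = 0 := by simp [σ₁]
  have hσ₁s : ∀ i : Fin d, σ₁ i.succ = (τ i).succ := fun i => by simp [σ₁]
  have hσ0 : σ 0 = 0 := by simp [σ]
  have hσs' : ∀ i : Fin (d + 1), σ i.succ = (σ₁ i).succ := fun i => by simp [σ]
  have hσ1 : σ (0 : Fin (d + 1)).succ = (0 : Fin (d + 1)).succ := by rw [hσs', hσ₁0]
  have hσs : ∀ i : Fin d, σ i.succ.succ = (τ i).succ.succ := fun i => by rw [hσs', hσ₁s]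
  have hfix1 : permL σ (e1 (d + 1)) = e1 (d + 1) := by
    funext i
    refine Fin.cases ?_ (fun j => ?_) i
    · rw [permL_zero]
    · rw [permL_succ]
      refine Fin.cases ?_ (fun m => ?_) j
      · rw [hσ0]
      · rw [hσs', e1_succ_succ, e1_succ_succ]
  have hfix2 : permL σ (e2 d) = e2 d := by
    funext i
    refine Fin.cases ?_ (fun j => ?_) i
    · rw [permL_zero]
    · rw [permL_succ]
      refine Fin.cases ?_ (fun m => ?_) j
      · rw [hσ0]
      · refine Fin.cases ?_ (fun n => ?_) m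
        · rw [hσ1]
        · rw [hσs, e2_succ3, e2_succ3]
  have hanti : ∀ i j : Fin d, i ≤ j →
      permL σ Q' j.succ.succ.succ ≤ permL σ Q' i.succ.succ.succ := by
    intro i j hij
    rw [permL_succ, permL_succ, hσs, hσs]
    have := Tuple.monotone_sort b (Fin.rev_le_rev.mpr hij)
    simpa [τ] using this
  have hc'' : IsExc (permL σ Q') := isWeyl_exc (permL_isWeyl σ) hc
  obtain ⟨A, C, hA, hC, hA7, hCA, hsum, hsq⟩ := exc_nat hδ (permL σ Q') hc''
  refine ⟨permL σ Q', hrel.trans ⟨permL σ, permL_isWeyl σ, fun q hq => ?_, rfl⟩, hc'', A, C, hA,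
    hC, ?_⟩
  · rw [Set.mem_insert_iff, Set.mem_singleton_iff] at hq
    rcases hq with rfl | rfl
    · exact hfix1
    · exact hfix2
  have hantiC : ∀ i j : Fin d, i ≤ j → Fin.tail (Fin.tail C) j ≤ Fin.tail (Fin.tail C) i := by
    intro i j hij
    have := hanti i j hij
    rw [hC, hC] at this
    have h' : (C j.succ.succ : ℤ) ≤ C i.succ.succ := by linarith
    exact_mod_cast h'
  rw [Fin.sum_univ_succ, Fin.sum_univ_succ] at hsum hsq
  have := srch_sound_fn (3 * A + (d + 2) - 1) (A ^ 2 + 6 * A + (d + 2) - 1) _ d (A + 2)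
    (C 0 + C (0 : Fin (d + 1)).succ) (C 0 ^ 2 + C (0 : Fin (d + 1)).succ ^ 2)
    [C (0 : Fin (d + 1)).succ, C 0] (Fin.tail (Fin.tail C))
    (hs A hA7 (C 0) (Nat.lt_succ_of_le (hCA 0)) (C (0 : Fin (d + 1)).succ)
      (Nat.lt_succ_of_le (hCA _))) hantiC (fun i => hCA i.succ.succ)
    (by simp only [Fin.tail]; omega) (by simp only [Fin.tail]; omega)
  have hof : List.ofFn C = [C 0, C (0 : Fin (d + 1)).succ] ++ List.ofFn (Fin.tail (Fin.tail C)) := by
    rw [List.ofFn_succ, List.ofFn_succ]; rfl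
  rw [hof]
  simp only [List.reverse_cons, List.reverse_nil, List.nil_append, List.singleton_append] at this
  apply this
  simp only [List.cons_append, List.nil_append, List.drop_succ_cons, List.drop_zero]
  apply red3_ofFn
  intro h3
  have hne : ∀ x y : Fin d, x ≠ y → σ x.succ.succ ≠ σ y.succ.succ := by
    intro x y hxy h
    rw [hσs, hσs] at h
    exact hxy (τ.injective (Fin.succ_injective _ (Fin.succ_injective _ h)))
  have hr := hred (σ (⟨0, by omega⟩ : Fin d).succ.succ) (σ (⟨1, by omega⟩ : Fin d).succ.succ)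
    (σ (⟨2, by omega⟩ : Fin d).succ.succ)
    ⟨⟨_, hσs _⟩, ⟨_, hσs _⟩, ⟨_, hσs _⟩,
      hne _ _ (by simp [Fin.ext_iff]), hne _ _ (by simp [Fin.ext_iff]),
      hne _ _ (by simp [Fin.ext_iff])⟩
  rw [← permL_succ σ Q', ← permL_succ σ Q', ← permL_succ σ Q', ← permL_zero σ Q', hC, hC, hC,
    hA] at hr
  have h' : (C (⟨0, by omega⟩ : Fin d).succ.succ : ℤ) + C (⟨1, by omega⟩ : Fin d).succ.succ +
      C (⟨2, by omega⟩ : Fin d).succ.succ ≤ (A : ℤ) + 3 := by linarith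
  have h'' : C (⟨0, by omega⟩ : Fin d).succ.succ + C (⟨1, by omega⟩ : Fin d).succ.succ +
      C (⟨2, by omega⟩ : Fin d).succ.succ ≤ A + 3 := by exact_mod_cast h'
  exact h''

end Groth.Agent.Helper23.ExcLat
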