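import Mathlib
import Groth.Prelude.Def_W4c3severiratdpLat
import Groth.Agent.Lib.Helper23.ExcLat

/-! Normal forms of exceptional classes for `δ = 8` under stabilisers. -/

namespace Groth.Agent.Helper23.ExcPair

open W4c3severiratdp Groth.Agent.Helper23.DPLat Groth.Agent.Helper23.ExcLat

/-- normal forms (shifted by one) under the stabiliser of `e₁` -/
def LE1 : List (ℕ × List ℕ) :=
  [(0, [0, 1, 1, 1, 1, 1, 1, 1]), (0, [1, 1, 1, 1, 1, 1, 1, 0]), (1, [2, 2, 1, 1, 1, 1, 1, 1]),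
   (3, [3, 2, 2, 2, 2, 2, 2, 1]), (6, [4, 3, 3, 3, 3, 3, 3, 3])]

/-- normal forms (shifted by one) under the stabiliser of `e₁` and `e₂` -/
def LE2 : List (ℕ × List ℕ) :=
  [(0, [0, 1, 1, 1, 1, 1, 1, 1]), (0, [1, 0, 1, 1, 1, 1, 1, 1]), (0, [1, 1, 1, 1, 1, 1, 1, 0]),
   (1, [1, 2, 2, 1, 1, 1, 1, 1]), (1, [2, 1, 2, 1, 1, 1, 1, 1]), (1, [2, 2, 1, 1, 1, 1, 1, 1]),
   (3, [1, 3, 2, 2, 2, 2, 2, 2]), (3, [2, 3, 2, 2, 2, 2, 2, 1]), (3, [3, 1, 2, 2, 2, 2, 2, 2]),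
   (3, [3, 2, 2, 2, 2, 2, 2, 1]), (4, [3, 3, 3, 2, 2, 2, 2, 2]), (6, [3, 4, 3, 3, 3, 3, 3, 3]),
   (6, [4, 3, 3, 3, 3, 3, 3, 3])]

def PE0 (a : ℕ) (l : List ℕ) : Prop := red3 (a + 3) l → (a, l) = (0, [1, 1, 1, 1, 1, 1, 1, 0])

instance (a : ℕ) : DecidablePred (PE0 a) := fun l => by unfold PE0; infer_instance

def PE1 (a : ℕ) (l : List ℕ) : Prop := red3 (a + 3) (l.drop 1) → (a, l) ∈ LE1

instance (a : ℕ) : DecidablePred (PE1 a) := fun l => by unfold PE1; infer_instance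

def PE2 (a : ℕ) (l : List ℕ) : Prop := red3 (a + 3) (l.drop 2) → (a, l) ∈ LE2

instance (a : ℕ) : DecidablePred (PE2 a) := fun l => by unfold PE2; infer_instance

theorem DE0 : ∀ a : ℕ, a < 8 →
    Srch (3 * a + 8 - 1) (a ^ 2 + 6 * a + 8 - 1) (PE0 a) 8 (a + 2) 0 0 [] := by
  decide +kernel

def DE1body (a : ℕ) : Prop := ∀ c : ℕ, c < a + 3 →
    Srch (3 * a + (7 + 1) - 1) (a ^ 2 + 6 * a + (7 + 1) - 1) (PE1 a) 7 (a + 2) c (c ^ 2) [c]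

instance (a : ℕ) : Decidable (DE1body a) := by unfold DE1body; infer_instance

theorem DE1 : ∀ a : ℕ, a < 8 → DE1body a := by
  decide +kernel

def DE2body (a c₁ : ℕ) : Prop := ∀ c₂ : ℕ, c₂ < a + 3 →
    Srch (3 * a + (6 + 2) - 1) (a ^ 2 + 6 * a + (6 + 2) - 1) (PE2 a) 6 (a + 2) (c₁ + c₂)
      (c₁ ^ 2 + c₂ ^ 2) [c₂, c₁]

instance (a c₁ : ℕ) : Decidable (DE2body a c₁) := by unfold DE2body; infer_instance

theorem DE2 : ∀ a : ℕ, a < 8 → ∀ c₁ : ℕ, c₁ < a + 3 → DE2body a c₁ := by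
  decide +kernel

theorem DE1u : ∀ x ∈ LE1, ∀ y ∈ LE1, x.2.headI = y.2.headI → x = y := by
  decide +kernel

theorem DE2u : ∀ x ∈ LE2, ∀ y ∈ LE2, x.2.headI = y.2.headI →
    x.2.tail.headI = y.2.tail.headI → x = y := by
  decide +kernel


theorem vecE (Q : DP 8) (A : ℕ) (C : Fin 8 → ℕ) (hA : Q 0 = A)
    (hC : ∀ i, Q i.succ = (C i : ℤ) - 1) (l : List ℕ) (h : List.ofFn C = l) :
    Q = Fin.cons (A : ℤ) (fun i : Fin 8 => ((l.getD i 0 : ℕ) : ℤ) - 1) := by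
  funext i
  refine Fin.cases ?_ (fun j => ?_) i
  · rw [hA]; rfl
  · rw [hC, Fin.cons_succ, ← h]
    congr 2
    rw [List.getD_eq_getElem?_getD, List.getElem?_ofFn]
    simp [j.isLt]

theorem to_e1 (Q : DP 8) (hQ : IsExc Q) : WRel ∅ Q (e1 7) := by
  obtain ⟨Q'', hrel, -, A, C, hA, hC, hP⟩ := normalE0 (le_refl 8)
    (fun a l => (a, l) = (0, [1, 1, 1, 1, 1, 1, 1, 0]))
    (fun a ha => DE0 a (by omega)) Q hQ
  rw [Prod.mk.injEq] at hP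
  have hQ'' := vecE Q'' A C hA hC _ hP.2
  rw [hP.1] at hQ''
  refine hrel.trans ⟨permL (Equiv.swap 0 7), permL_isWeyl _,
    fun q hq => absurd hq (Set.notMem_empty q), ?_⟩
  funext i
  refine Fin.cases ?_ (fun j => ?_) i
  · rw [permL_zero, hQ'', e1_zero]; rfl
  · rw [permL_succ, hQ'']
    revert j
    unfold e1
    decide +kernel

theorem stab_normal1 (Q : DP 8) (hQ : IsExc Q) :
    ∃ (Q'' : DP 8) (A : ℕ) (C : Fin 8 → ℕ), WRel {e1 7} Q Q'' ∧ Q'' 0 = A ∧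
      (∀ i, Q'' i.succ = (C i : ℤ) - 1) ∧ (A, List.ofFn C) ∈ LE1 ∧
      form Q (e1 7) = (C 0 : ℤ) - 1 := by
  obtain ⟨Q'', hrel, -, A, C, hA, hC, hP⟩ := normalE1 (d := 7) (le_refl 8)
    (fun a l => (a, l) ∈ LE1) (fun a ha => DE1 a (by omega)) Q hQ
  refine ⟨Q'', A, C, hrel, hA, hC, hP, ?_⟩
  obtain ⟨h, hh, hfix, hQ''⟩ := hrel
  rw [← hh.1 Q (e1 7), hfix _ rfl, hQ'', form_e1, hC]

theorem stab_normal2 (Q : DP 8) (hQ : IsExc Q) :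
    ∃ (Q'' : DP 8) (A : ℕ) (C : Fin 8 → ℕ), WRel {e1 7, e2 6} Q Q'' ∧ Q'' 0 = A ∧
      (∀ i, Q'' i.succ = (C i : ℤ) - 1) ∧ (A, List.ofFn C) ∈ LE2 ∧
      form Q (e1 7) = (C 0 : ℤ) - 1 ∧ form Q (e2 6) = (C 1 : ℤ) - 1 := by
  obtain ⟨Q'', hrel, -, A, C, hA, hC, hP⟩ := normalE2 (d := 6) (le_refl 8)
    (fun a l => (a, l) ∈ LE2) (fun a ha c₁ hc₁ => DE2 a (by omega) c₁ hc₁) Q hQ
  refine ⟨Q'', A, C, hrel, hA, hC, hP, ?_, ?_⟩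
  · obtain ⟨h, hh, hfix, hQ''⟩ := hrel
    rw [← hh.1 Q (e1 7), hfix _ (Set.mem_insert _ _), hQ'', form_e1, hC]
  · obtain ⟨h, hh, hfix, hQ''⟩ := hrel
    rw [← hh.1 Q (e2 6), hfix _ (Set.mem_insert_of_mem _ rfl), hQ'', form_e2, hC]
    rfl

/-- uniqueness of the normal form for the stabiliser of `e₁` -/
theorem stab1_unique (Q₁ Q₂ : DP 8) (h₁ : IsExc Q₁) (h₂ : IsExc Q₂)
    (h : form Q₁ (e1 7) = form Q₂ (e1 7)) : WRel {e1 7} Q₁ Q₂ := by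
  obtain ⟨Q₁'', A₁, C₁, hrel₁, hA₁, hC₁, hm₁, hn₁⟩ := stab_normal1 Q₁ h₁
  obtain ⟨Q₂'', A₂, C₂, hrel₂, hA₂, hC₂, hm₂, hn₂⟩ := stab_normal1 Q₂ h₂
  have hh : ∀ (C : Fin 8 → ℕ), (List.ofFn C).headI = C 0 := fun C => by
    rw [List.ofFn_succ]; rfl
  have key := DE1u _ hm₁ _ hm₂ (by
    simp only [hh]
    have : (C₁ 0 : ℤ) - 1 = (C₂ 0 : ℤ) - 1 := by rw [← hn₁, ← hn₂, h]
    omega)
  rw [Prod.mk.injEq] at key
  have hCC : C₁ = C₂ := List.ofFn_injective key.2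
  have hQQ : Q₁'' = Q₂'' := by
    funext i
    refine Fin.cases ?_ (fun j => ?_) i
    · rw [hA₁, hA₂, key.1]
    · rw [hC₁, hC₂, hCC]
  rw [← hQQ] at hrel₂
  exact hrel₁.trans hrel₂.symm


/-- uniqueness of the normal form for the stabiliser of `e₁` and `e₂` -/
theorem stab2_unique (Q₁ Q₂ : DP 8) (h₁ : IsExc Q₁) (h₂ : IsExc Q₂)
    (h : form Q₁ (e1 7) = form Q₂ (e1 7)) (h' : form Q₁ (e2 6) = form Q₂ (e2 6)) :
    WRel {e1 7, e2 6} Q₁ Q₂ := by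
  obtain ⟨Q₁'', A₁, C₁, hrel₁, hA₁, hC₁, hm₁, hn₁, hn₁'⟩ := stab_normal2 Q₁ h₁
  obtain ⟨Q₂'', A₂, C₂, hrel₂, hA₂, hC₂, hm₂, hn₂, hn₂'⟩ := stab_normal2 Q₂ h₂
  have hh : ∀ (C : Fin 8 → ℕ), (List.ofFn C).headI = C 0 := fun C => by
    rw [List.ofFn_succ]; rfl
  have hh' : ∀ (C : Fin 8 → ℕ), (List.ofFn C).tail.headI = C 1 := fun C => by
    rw [List.ofFn_succ, List.ofFn_succ]; rfl
  have key := DE2u _ hm₁ _ hm₂ (by
    simp only [hh]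
    have : (C₁ 0 : ℤ) - 1 = (C₂ 0 : ℤ) - 1 := by rw [← hn₁, ← hn₂, h]
    omega) (by
    simp only [hh']
    have : (C₁ 1 : ℤ) - 1 = (C₂ 1 : ℤ) - 1 := by rw [← hn₁', ← hn₂', h']
    omega)
  rw [Prod.mk.injEq] at key
  have hCC : C₁ = C₂ := List.ofFn_injective key.2
  have hQQ : Q₁'' = Q₂'' := by
    funext i
    refine Fin.cases ?_ (fun j => ?_) i
    · rw [hA₁, hA₂, key.1]
    · rw [hC₁, hC₂, hCC]
  rw [← hQQ] at hrel₂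
  exact hrel₁.trans hrel₂.symm

/-- the possible values of the product with `e₁` -/
theorem form_e1_mem (Q : DP 8) (hQ : IsExc Q) :
    -1 ≤ form Q (e1 7) ∧ form Q (e1 7) ≤ 3 := by
  obtain ⟨Q'', A, C, -, -, -, hm, hn⟩ := stab_normal1 Q hQ
  have hh : (List.ofFn C).headI = C 0 := by rw [List.ofFn_succ]; rfl
  have : ∀ x ∈ LE1, x.2.headI ≤ 4 := by decide +kernel
  have h4 := this _ hm
  simp only [hh] at h4
  rw [hn]
  constructor <;> omega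

end Groth.Agent.Helper23.ExcPair
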