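import Mathlib

open scoped TensorProduct

namespace Groth.Agent.Helper23.ExtBC

variable {A : Type*} (B : Type*) {N : Type*} [CommRing A] [CommRing B] [Algebra A B]
  [AddCommGroup N] [Module A N]

/-- `E_A(N) → E_B(B ⊗ N)`, an `A`-algebra map. -/
noncomputable def ofAux : ExteriorAlgebra A N →ₐ[A] ExteriorAlgebra B (B ⊗[A] N) :=
  ExteriorAlgebra.lift A
    ⟨(ExteriorAlgebra.ι B).restrictScalars A ∘ₗ TensorProduct.mk A B N 1, fun v => by
      simp⟩

@[simp] theorem ofAux_ι (v : N) :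
    ofAux B (ExteriorAlgebra.ι A v) = ExteriorAlgebra.ι B ((1 : B) ⊗ₜ[A] v) :=
  ExteriorAlgebra.lift_ι_apply ..

noncomputable def ofBC : B ⊗[A] ExteriorAlgebra A N →ₐ[B] ExteriorAlgebra B (B ⊗[A] N) :=
  Algebra.TensorProduct.lift (Algebra.ofId _ _) (ofAux B) fun _ _ => Algebra.commutes _ _

@[simp] theorem ofBC_tmul (b : B) (x : ExteriorAlgebra A N) :
    ofBC B (b ⊗ₜ[A] x) = b • ofAux B x := by
  change algebraMap _ _ b * ofAux B x = _
  rw [Algebra.smul_def]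

variable (N) in
noncomputable def f₀ : B ⊗[A] N →ₗ[B] B ⊗[A] ExteriorAlgebra A N :=
  TensorProduct.AlgebraTensorModule.map (LinearMap.id : B →ₗ[B] B) (ExteriorAlgebra.ι A)

@[simp] theorem f₀_tmul (b : B) (n : N) : f₀ B N (b ⊗ₜ n) = b ⊗ₜ ExteriorAlgebra.ι A n := rfl

theorem f₀_anti (x y : B ⊗[A] N) : f₀ B N x * f₀ B N y + f₀ B N y * f₀ B N x = 0 := by
  induction x with
  | zero => simp
  | add x₁ x₂ h₁ h₂ =>
    rw [map_add, add_mul, mul_add]
    calc _ = (f₀ B N x₁ * f₀ B N y + f₀ B N y * f₀ B N x₁) +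
          (f₀ B N x₂ * f₀ B N y + f₀ B N y * f₀ B N x₂) := by abel
      _ = 0 := by rw [h₁, h₂, add_zero]
  | tmul b n =>
    induction y with
    | zero => simp
    | add y₁ y₂ h₁ h₂ =>
      rw [map_add, add_mul, mul_add]
      calc _ = (f₀ B N (b ⊗ₜ n) * f₀ B N y₁ + f₀ B N y₁ * f₀ B N (b ⊗ₜ n)) +
            (f₀ B N (b ⊗ₜ n) * f₀ B N y₂ + f₀ B N y₂ * f₀ B N (b ⊗ₜ n)) := by abel
        _ = 0 := by rw [h₁, h₂, add_zero]
    | tmul b' n' =>
      simp only [f₀_tmul, Algebra.TensorProduct.tmul_mul_tmul]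
      rw [mul_comm b' b, ← TensorProduct.tmul_add, ExteriorAlgebra.ι_add_mul_swap,
        TensorProduct.tmul_zero]

theorem f₀_sq (x : B ⊗[A] N) : f₀ B N x * f₀ B N x = 0 := by
  induction x with
  | zero => simp
  | add x₁ x₂ h₁ h₂ =>
    rw [map_add, add_mul, mul_add, mul_add, h₁, h₂]
    have := f₀_anti B x₁ x₂
    calc _ = f₀ B N x₁ * f₀ B N x₂ + f₀ B N x₂ * f₀ B N x₁ := by abel
      _ = 0 := this
  | tmul b n =>
    simp only [f₀_tmul, Algebra.TensorProduct.tmul_mul_tmul, ExteriorAlgebra.ι_sq_zero,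
      TensorProduct.tmul_zero]

noncomputable def toBC : ExteriorAlgebra B (B ⊗[A] N) →ₐ[B] B ⊗[A] ExteriorAlgebra A N :=
  ExteriorAlgebra.lift B ⟨f₀ B N, f₀_sq B⟩

@[simp] theorem toBC_ι (b : B) (n : N) :
    toBC B (ExteriorAlgebra.ι B (b ⊗ₜ[A] n)) = b ⊗ₜ ExteriorAlgebra.ι A n :=
  ExteriorAlgebra.lift_ι_apply ..

theorem toBC_comp_ofBC :
    (toBC B (A := A) (N := N)).comp (ofBC B) = AlgHom.id _ _ := by
  ext v
  simp

@[simp] theorem toBC_ofBC (x : B ⊗[A] ExteriorAlgebra A N) : toBC B (ofBC B x) = x :=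
  AlgHom.congr_fun (toBC_comp_ofBC B) x


section degree

variable (p : ℕ)

theorem ofAux_ιMulti (v : Fin p → N) :
    ofAux B (ExteriorAlgebra.ιMulti A p v) =
      ExteriorAlgebra.ιMulti B p (fun i => (1 : B) ⊗ₜ[A] v i) := by
  simp [ExteriorAlgebra.ιMulti_apply, map_list_prod, List.map_ofFn, Function.comp_def]

theorem ofAux_mem (x : ExteriorAlgebra A N) (hx : x ∈ ⋀[A]^p N) :
    ofAux B x ∈ ⋀[B]^p (B ⊗[A] N) := by
  rw [← ExteriorAlgebra.ιMulti_span_fixedDegree A p] at hx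
  induction hx using Submodule.span_induction with
  | mem x hx =>
    obtain ⟨v, rfl⟩ := hx
    rw [ofAux_ιMulti]
    exact ExteriorAlgebra.ιMulti_range B p ⟨_, rfl⟩
  | zero => rw [map_zero]; exact zero_mem _
  | add x y _ _ hx hy => rw [map_add]; exact add_mem hx hy
  | smul a x _ hx =>
    rw [map_smul, ← algebraMap_smul B a (ofAux B x)]
    exact Submodule.smul_mem _ _ hx

/-- The `A`-linear map `⋀^p_A N → ⋀^p_B (B ⊗ N)`. -/
noncomputable def auxP : ↥(⋀[A]^p N) →ₗ[A] ↥(⋀[B]^p (B ⊗[A] N)) where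
  toFun x := ⟨ofAux B x.1, ofAux_mem B p x.1 x.2⟩
  map_add' x y := by ext; simp
  map_smul' a x := by ext; simp

@[simp] theorem auxP_coe (x : ↥(⋀[A]^p N)) : ((auxP B p x : ↥(⋀[B]^p (B ⊗[A] N))) :
    ExteriorAlgebra B (B ⊗[A] N)) = ofAux B x.1 := rfl

theorem auxP_ιMulti (v : Fin p → N) :
    auxP B p (exteriorPower.ιMulti A p v) =
      exteriorPower.ιMulti B p (fun i => (1 : B) ⊗ₜ[A] v i) := by
  ext
  simp [ofAux_ιMulti]

/-- The base change map `B ⊗ ⋀^p_A N → ⋀^p_B (B ⊗ N)`. -/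
noncomputable def FP : B ⊗[A] ↥(⋀[A]^p N) →ₗ[B] ↥(⋀[B]^p (B ⊗[A] N)) :=
  LinearMap.liftBaseChange B (auxP B p)

@[simp] theorem FP_tmul (b : B) (x : ↥(⋀[A]^p N)) : FP B p (b ⊗ₜ[A] x) = b • auxP B p x := by
  simp [FP]

theorem FP_surjective : Function.Surjective (FP B p (A := A) (N := N)) := by
  rw [← LinearMap.range_eq_top, eq_top_iff]
  have hs : Submodule.span B (Set.range fun n : N => (1 : B) ⊗ₜ[A] n) = ⊤ := by
    rw [eq_top_iff]
    rintro x -
    induction x with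
    | zero => exact zero_mem _
    | add x y hx hy => exact add_mem hx hy
    | tmul b n =>
      have : b ⊗ₜ[A] n = b • ((1 : B) ⊗ₜ[A] n) := by
        rw [TensorProduct.smul_tmul', smul_eq_mul, mul_one]
      rw [this]
      exact Submodule.smul_mem _ _ (Submodule.subset_span ⟨n, rfl⟩)
  rw [← exteriorPower.ιMulti_span_of_span B p (B ⊗[A] N) hs, Submodule.span_le]
  rintro _ ⟨a, ha, rfl⟩
  have hch : ∀ i : Fin p, ∃ n : N, (1 : B) ⊗ₜ[A] n = a i := fun i => ha ⟨i, rfl⟩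
  choose v hv using hch
  refine ⟨(1 : B) ⊗ₜ[A] exteriorPower.ιMulti A p v, ?_⟩
  rw [FP_tmul, one_smul, auxP_ιMulti]
  congr 1
  funext i
  exact hv i

/-- A retraction of the inclusion `⋀^p N ⊆ E(N)`. -/
noncomputable def retr : ExteriorAlgebra A N →ₗ[A] ↥(⋀[A]^p N) :=
  letI : DirectSum.Decomposition (fun i : ℕ => ⋀[A]^i N) :=
    (ExteriorAlgebra.gradedAlgebra A N).toDecomposition
  (DirectSum.component A ℕ (fun i => ↥(⋀[A]^i N)) p) ∘ₗ
    (DirectSum.decomposeLinearEquiv (fun i : ℕ => ⋀[A]^i N)).toLinearMap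

theorem retr_coe (x : ↥(⋀[A]^p N)) : retr p (x : ExteriorAlgebra A N) = x := by
  let : DirectSum.Decomposition (fun i : ℕ => ⋀[A]^i N) :=
    (ExteriorAlgebra.gradedAlgebra A N).toDecomposition
  apply Subtype.ext
  simp only [retr, LinearMap.coe_comp, LinearEquiv.coe_coe, Function.comp_apply]
  exact DirectSum.decompose_of_mem_same _ x.2

theorem toBC_FP (x : B ⊗[A] ↥(⋀[A]^p N)) :
    toBC B ((FP B p x : ↥(⋀[B]^p (B ⊗[A] N))) : ExteriorAlgebra B (B ⊗[A] N)) =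
      LinearMap.baseChange B (⋀[A]^p N).subtype x := by
  induction x with
  | zero => simp
  | add x y hx hy => simp only [map_add, Submodule.coe_add, hx, hy]
  | tmul b x =>
    rw [FP_tmul, Submodule.coe_smul, auxP_coe, ← ofBC_tmul, toBC_ofBC]
    simp

theorem FP_injective : Function.Injective (FP B p (A := A) (N := N)) := by
  intro x y hxy
  have h1 : LinearMap.baseChange B (⋀[A]^p N).subtype x =
      LinearMap.baseChange B (⋀[A]^p N).subtype y := by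
    rw [← toBC_FP, ← toBC_FP, hxy]
  have h2 : ∀ z : B ⊗[A] ↥(⋀[A]^p N),
      LinearMap.baseChange B (retr p) (LinearMap.baseChange B (⋀[A]^p N).subtype z) = z := by
    intro z
    rw [← LinearMap.comp_apply, ← LinearMap.baseChange_comp]
    have : retr p ∘ₗ (⋀[A]^p N).subtype = LinearMap.id := by
      refine LinearMap.ext fun x => ?_
      exact retr_coe p x
    rw [this, LinearMap.baseChange_id, LinearMap.id_apply]
  rw [← h2 x, ← h2 y, h1]

/-- The base change isomorphism `B ⊗ ⋀^p_A N ≃ ⋀^p_B (B ⊗ N)`. -/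
noncomputable def equivP : (B ⊗[A] ↥(⋀[A]^p N)) ≃ₗ[B] ↥(⋀[B]^p (B ⊗[A] N)) :=
  LinearEquiv.ofBijective (FP B p) ⟨FP_injective B p, FP_surjective B p⟩

@[simp] theorem equivP_tmul (b : B) (x : ↥(⋀[A]^p N)) :
    equivP B p (b ⊗ₜ[A] x) = b • auxP B p x := FP_tmul B p b x

end degree

end Groth.Agent.Helper23.ExtBC
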