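import Mathlib

open scoped TensorProduct

namespace Groth.Agent.Helper23.ExtKer

variable {A M M' : Type*} [CommRing A] [AddCommGroup M] [AddCommGroup M'] [Module A M] [Module A M']

theorem coe_map (f : M →ₗ[A] M') (n : ℕ) (x : ↥(⋀[A]^n M)) :
    ((exteriorPower.map n f x : ↥(⋀[A]^n M')) : ExteriorAlgebra A M') =
      ExteriorAlgebra.map f (x : ExteriorAlgebra A M) := by
  have : (⋀[A]^n M').subtype ∘ₗ exteriorPower.map n f =
      (ExteriorAlgebra.map f).toLinearMap ∘ₗ (⋀[A]^n M).subtype := by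
    apply exteriorPower.linearMap_ext
    ext m
    simp [ExteriorAlgebra.map_apply_ιMulti]
  exact LinearMap.congr_fun this x

/-- generators of the kernel of `⋀^n f`. -/
def Kset (f : M →ₗ[A] M') (n : ℕ) : Set ↥(⋀[A]^n M) :=
  {x | ∃ m : Fin n → M, (∃ i, m i ∈ LinearMap.ker f) ∧ x = exteriorPower.ιMulti A n m}

theorem Kset_le_ker (f : M →ₗ[A] M') (n : ℕ) :
    Submodule.span A (Kset f n) ≤ LinearMap.ker (exteriorPower.map n f) := by
  rw [Submodule.span_le]
  rintro _ ⟨m, ⟨i, hi⟩, rfl⟩
  rw [SetLike.mem_coe, LinearMap.mem_ker, exteriorPower.map_apply_ιMulti]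
  have h0 : (f ∘ m) i = 0 := hi
  have := (exteriorPower.ιMulti A n (M := M')).toMultilinearMap.map_coord_zero i h0
  exact this

theorem diff_mem (f : M →ₗ[A] M') (n : ℕ) (m k : Fin n → M) (hk : ∀ i, k i ∈ LinearMap.ker f) :
    exteriorPower.ιMulti A n (m + k) - exteriorPower.ιMulti A n m ∈
      Submodule.span A (Kset f n) := by
  have h : exteriorPower.ιMulti A n (m + k) =
      ∑ s : Finset (Fin n), exteriorPower.ιMulti A n (s.piecewise m k) :=
    (exteriorPower.ιMulti A n (M := M)).toMultilinearMap.map_add_univ m k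
  rw [h, ← Finset.add_sum_erase _ _ (Finset.mem_univ Finset.univ)]
  rw [Finset.piecewise_univ, add_sub_cancel_left]
  refine Submodule.sum_mem _ fun s hs => ?_
  have hs' : s ≠ Finset.univ := Finset.ne_of_mem_erase hs
  obtain ⟨i, hi⟩ : ∃ i, i ∉ s := by
    by_contra hcon
    push Not at hcon
    exact hs' (Finset.eq_univ_iff_forall.mpr hcon)
  refine Submodule.subset_span ⟨_, ⟨i, ?_⟩, rfl⟩
  rw [Finset.piecewise_eq_of_notMem _ _ _ hi]
  exact hk i

theorem mk_eq_of_comp_eq (f : M →ₗ[A] M') (n : ℕ) (m m₂ : Fin n → M) (h : f ∘ m = f ∘ m₂) :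
    (Submodule.span A (Kset f n)).mkQ (exteriorPower.ιMulti A n m₂) =
      (Submodule.span A (Kset f n)).mkQ (exteriorPower.ιMulti A n m) := by
  have := diff_mem f n m (m₂ - m) (fun i => by
    rw [LinearMap.mem_ker, Pi.sub_apply, map_sub, sub_eq_zero]
    exact (congrFun h i).symm)
  rw [add_sub_cancel] at this
  rw [← sub_eq_zero, ← map_sub]
  exact (Submodule.Quotient.mk_eq_zero _).mpr this

open Function in
/-- The alternating map on `M'` descended through a surjection. -/
noncomputable def descend (f : M →ₗ[A] M') (hf : Function.Surjective f) (n : ℕ) :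
    M' [⋀^Fin n]→ₗ[A] (↥(⋀[A]^n M) ⧸ Submodule.span A (Kset f n)) where
  toFun m' := (Submodule.span A (Kset f n)).mkQ (exteriorPower.ιMulti A n (surjInv hf ∘ m'))
  map_update_add' := by
    intro _ m' i x y
    have e : ∀ z, f (surjInv hf z) = z := surjInv_eq hf
    rw [mk_eq_of_comp_eq f n (update (surjInv hf ∘ m') i (surjInv hf x + surjInv hf y))
      (surjInv hf ∘ update m' i (x + y))]
    · rw [AlternatingMap.map_update_add, map_add, comp_update, comp_update]
    · funext j
      simp only [comp_apply]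
      by_cases hj : j = i
      · subst hj; simp [e]
      · simp [update_of_ne hj, e]
  map_update_smul' := by
    intro _ m' i c x
    have e : ∀ z, f (surjInv hf z) = z := surjInv_eq hf
    rw [mk_eq_of_comp_eq f n (update (surjInv hf ∘ m') i (c • surjInv hf x))
      (surjInv hf ∘ update m' i (c • x))]
    · rw [AlternatingMap.map_update_smul, map_smul, comp_update]
    · funext j
      simp only [comp_apply]
      by_cases hj : j = i
      · subst hj; simp [e]
      · simp [update_of_ne hj, e]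
  map_eq_zero_of_eq' := by
    intro m' i j hij hne
    have : exteriorPower.ιMulti A n (surjInv hf ∘ m') = 0 :=
      (exteriorPower.ιMulti A n).map_eq_zero_of_eq _ (by simp [hij]) hne
    rw [this, map_zero]

theorem ker_map_le (f : M →ₗ[A] M') (hf : Function.Surjective f) (n : ℕ) :
    LinearMap.ker (exteriorPower.map n f) ≤ Submodule.span A (Kset f n) := by
  let g : ↥(⋀[A]^n M') →ₗ[A] (↥(⋀[A]^n M) ⧸ Submodule.span A (Kset f n)) :=
    exteriorPower.alternatingMapLinearEquiv (descend f hf n)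
  have hg : g ∘ₗ exteriorPower.map n f = (Submodule.span A (Kset f n)).mkQ := by
    apply exteriorPower.linearMap_ext
    ext m
    simp only [LinearMap.compAlternatingMap_apply, LinearMap.comp_apply,
      exteriorPower.map_apply_ιMulti, g, exteriorPower.alternatingMapLinearEquiv_apply_ιMulti]
    change (Submodule.span A (Kset f n)).mkQ _ = _
    apply mk_eq_of_comp_eq
    funext j
    simp [Function.surjInv_eq hf]
  intro x hx
  rw [LinearMap.mem_ker] at hx
  have := LinearMap.congr_fun hg x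
  rw [LinearMap.comp_apply, hx, map_zero] at this
  exact (Submodule.Quotient.mk_eq_zero _).mp this.symm


/-- Left multiplication by a `1`-form, `⋀^p M → ⋀^(p+1) M`. -/
noncomputable def wedge1 (p : ℕ) (ω : M) : ↥(⋀[A]^p M) →ₗ[A] ↥(⋀[A]^(p + 1) M) where
  toFun x := ⟨ExteriorAlgebra.ι A ω * (x : ExteriorAlgebra A M), by
    change _ ∈ (LinearMap.range (ExteriorAlgebra.ι A)) ^ (p + 1)
    rw [pow_succ']
    exact Submodule.mul_mem_mul (LinearMap.mem_range_self _ ω) x.2⟩
  map_add' x y := by ext; simp [mul_add]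
  map_smul' c x := by ext; simp

@[simp] theorem wedge1_coe (p : ℕ) (ω : M) (x : ↥(⋀[A]^p M)) :
    ((wedge1 p ω x : ↥(⋀[A]^(p + 1) M)) : ExteriorAlgebra A M) =
      ExteriorAlgebra.ι A ω * (x : ExteriorAlgebra A M) := rfl

theorem wedge1_add (p : ℕ) (ω₁ ω₂ : M) (x : ↥(⋀[A]^p M)) :
    wedge1 p (ω₁ + ω₂) x = wedge1 p ω₁ x + wedge1 p ω₂ x := by
  ext; simp [add_mul]

theorem wedge1_zero (p : ℕ) (x : ↥(⋀[A]^p M)) : wedge1 p (0 : M) x = 0 := by
  ext; simp

theorem wedge1_smul (p : ℕ) (c : A) (ω : M) (x : ↥(⋀[A]^p M)) :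
    wedge1 p (c • ω) x = wedge1 p ω (c • x) := by
  ext; simp

theorem ιMulti_cons (p : ℕ) (ω : M) (v : Fin p → M) :
    exteriorPower.ιMulti A (p + 1) (Fin.cons ω v) = wedge1 p ω (exteriorPower.ιMulti A p v) := by
  ext
  rw [wedge1_coe, exteriorPower.ιMulti_apply_coe, exteriorPower.ιMulti_apply_coe,
    ExteriorAlgebra.ιMulti_succ_apply]
  simp [Matrix.vecTail, Function.comp_def]

theorem ιMulti_eq_wedge1 (p : ℕ) (m : Fin (p + 1) → M) :
    exteriorPower.ιMulti A (p + 1) m =
      wedge1 p (m 0) (exteriorPower.ιMulti A p (Fin.tail m)) := by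
  rw [← ιMulti_cons, Fin.cons_self_tail]

end Groth.Agent.Helper23.ExtKer
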