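import Groth.Prelude.Def_RelSpec
import Groth.Prelude.Def_AffAlg
import Mathlib

/-! helper23: the equalizer presheaf of two morphisms of schemes over a base; it is a sheaf of rings
and an equalizer in presheaves of rings. -/

set_option autoImplicit false
set_option linter.style.haveILetI false
set_option linter.unusedVariables false
universe u

open CategoryTheory CategoryTheory.Limits AlgebraicGeometry TopologicalSpace Opposite

namespace Groth.Agent.Helper23.FEtCoeq

section general

variable {X : Scheme.{u}} {P Q : TopCat.Presheaf CommRingCat.{u} X.carrier} (a b : P ⟶ Q)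

/-- the equalizer presheaf of two maps of presheaves of rings -/
def eqPsh : TopCat.Presheaf CommRingCat.{u} X.carrier where
  obj V := CommRingCat.of (RingHom.eqLocus (a.app V).hom (b.app V).hom)
  map {V W} i := CommRingCat.ofHom ((P.map i).hom.restrict _ _ (fun x hx => by
    change (a.app W).hom ((P.map i).hom x) = (b.app W).hom ((P.map i).hom x)
    have h1 := congrArg (fun k => k.hom x) (a.naturality i)
    have h2 := congrArg (fun k => k.hom x) (b.naturality i)
    simp only [CommRingCat.hom_comp, RingHom.comp_apply] at h1 h2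
    rw [h1, h2]
    exact congrArg _ hx))
  map_id V := by
    ext x
    change (P.map (𝟙 V)).hom x.1 = x.1
    rw [P.map_id]; rfl
  map_comp i j := by
    ext x
    change (P.map (i ≫ j)).hom x.1 = (P.map j).hom ((P.map i).hom x.1)
    rw [P.map_comp]; rfl

/-- the inclusion of the equalizer presheaf -/
def eqι : eqPsh a b ⟶ P where
  app V := CommRingCat.ofHom (RingHom.eqLocus (a.app V).hom (b.app V).hom).subtype
  naturality V W i := by
    ext x
    rfl

theorem eqι_app_apply (V : (Opens X.carrier)ᵒᵖ) (x : (eqPsh a b).obj V) :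
    ((eqι a b).app V).hom x = x.1 := rfl

theorem eqι_comp : eqι a b ≫ a = eqι a b ≫ b := by
  ext V x
  exact x.2

/-- lifting to the equalizer presheaf -/
def eqLift {R : TopCat.Presheaf CommRingCat.{u} X.carrier} (ω : R ⟶ P) (h : ω ≫ a = ω ≫ b) :
    R ⟶ eqPsh a b where
  app V := CommRingCat.ofHom ((ω.app V).hom.codRestrict _ (fun x => by
    change (a.app V).hom ((ω.app V).hom x) = (b.app V).hom ((ω.app V).hom x)
    have := congrArg (fun k => (k.app V).hom x) h
    simpa using this))
  naturality V W i := by
    ext x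
    apply Subtype.ext
    change (ω.app W).hom ((R.map i).hom x) = (P.map i).hom ((ω.app V).hom x)
    have := congrArg (fun k => k.hom x) (ω.naturality i)
    exact this

theorem eqLift_ι {R : TopCat.Presheaf CommRingCat.{u} X.carrier} (ω : R ⟶ P)
    (h : ω ≫ a = ω ≫ b) : eqLift a b ω h ≫ eqι a b = ω := by
  ext V x
  rfl

theorem eqι_mono {R : TopCat.Presheaf CommRingCat.{u} X.carrier} (s t : R ⟶ eqPsh a b)
    (h : s ≫ eqι a b = t ≫ eqι a b) : s = t := by
  ext V x
  apply Subtype.ext
  have := congrArg (fun k => (k.app (op V)).hom x) h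
  exact this

/-- the equalizer presheaf is an equalizer -/
def eqIsLimit : IsLimit (Fork.ofι (eqι a b) (eqι_comp a b)) :=
  Fork.IsLimit.mk _ (fun s => eqLift a b s.ι s.condition) (fun s => eqLift_ι a b s.ι s.condition)
    (fun s m hm => eqι_mono a b _ _ (by rw [eqLift_ι]; exact hm))

theorem isSheaf_eqPsh (hP : P.IsSheaf) (hQ : Q.IsSheaf) : (eqPsh a b).IsSheaf := by
  let SP : Sheaf (Opens.grothendieckTopology X.carrier) CommRingCat.{u} := ⟨P, hP⟩
  let SQ : Sheaf (Opens.grothendieckTopology X.carrier) CommRingCat.{u} := ⟨Q, hQ⟩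
  let sa : SP ⟶ SQ := ⟨a⟩
  let sb : SP ⟶ SQ := ⟨b⟩
  let G := sheafToPresheaf (Opens.grothendieckTopology X.carrier) CommRingCat.{u}
  have hlim : IsLimit (Fork.ofι (G.map (equalizer.ι sa sb))
      (by rw [← G.map_comp, ← G.map_comp, equalizer.condition]) : Fork (G.map sa) (G.map sb)) :=
    isLimitForkMapOfIsLimit G _ (equalizerIsEqualizer sa sb)
  have e : eqPsh a b ≅ (equalizer sa sb).obj :=
    (eqIsLimit a b).conePointUniqueUpToIso hlim
  exact TopCat.Presheaf.isSheaf_of_iso e.symm (equalizer sa sb).property

end general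

end Groth.Agent.Helper23.FEtCoeq
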