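import Groth.Agent.Lib.Helper23.FEtCoeq1

/-! helper23: the equalizer presheaf of quasi-coherent algebras is quasi-coherent. -/

set_option autoImplicit false
set_option linter.style.haveILetI false
set_option linter.unusedVariables false
universe u

open CategoryTheory CategoryTheory.Limits AlgebraicGeometry TopologicalSpace Opposite

namespace Groth.Agent.Helper23.FEtCoeq

theorem isLocalization_eqLocus {B C B' C' : Type u} [CommRing B] [CommRing C] [CommRing B']
    [CommRing C'] (φ ψ : B →+* C) (φ' ψ' : B' →+* C') (β : B →+* B') (γ : C →+* C')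
    (hφ : ∀ x, γ (φ x) = φ' (β x)) (hψ : ∀ x, γ (ψ x) = ψ' (β x))
    (r : B) (hr : φ r = ψ r)
    (hB : letI := β.toAlgebra; IsLocalization.Away r B')
    (hC : letI := γ.toAlgebra; IsLocalization.Away (φ r) C')
    (ε : φ.eqLocus ψ →+* φ'.eqLocus ψ') (hε : ∀ x, (ε x : B') = β x) :
    letI := ε.toAlgebra; IsLocalization.Away (⟨r, hr⟩ : φ.eqLocus ψ) (φ'.eqLocus ψ') := by
  letI := β.toAlgebra
  letI := γ.toAlgebra
  letI := ε.toAlgebra
  have hc : φ' (β r) = ψ' (β r) := by rw [← hφ, ← hψ, hr]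
  -- the inverse of r
  obtain ⟨u, hu⟩ : ∃ u : B', u * β r = 1 := by
    have := IsLocalization.map_units (M := Submonoid.powers r) B' ⟨r, Submonoid.mem_powers r⟩
    obtain ⟨v, hv⟩ := this.exists_left_inv
    exact ⟨v, hv⟩
  have huE : φ' u = ψ' u := by
    have h1 : φ' u * φ' (β r) = 1 := by rw [← map_mul, hu, map_one]
    have h2 : ψ' u * ψ' (β r) = 1 := by rw [← map_mul, hu, map_one]
    calc φ' u = φ' u * (ψ' (β r) * ψ' u) := by rw [mul_comm (ψ' (β r)), h2, mul_one]
      _ = (φ' u * φ' (β r)) * ψ' u := by rw [hc, mul_assoc]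
      _ = ψ' u := by rw [h1, one_mul]
  rw [IsLocalization.Away, isLocalization_iff]
  refine ⟨?_, ?_, ?_⟩
  · rintro ⟨y, n, rfl⟩
    change IsUnit (ε ((⟨r, hr⟩ : φ.eqLocus ψ) ^ n))
    rw [map_pow]
    apply IsUnit.pow
    refine IsUnit.of_mul_eq_one (⟨u, huE⟩ : φ'.eqLocus ψ') ?_
    apply Subtype.ext
    change (ε ⟨r, hr⟩ : B') * u = 1
    rw [hε, mul_comm]
    exact hu
  · intro z
    obtain ⟨⟨b, ⟨_, n, rfl⟩⟩, hb⟩ := IsLocalization.surj (Submonoid.powers r) (z : B')
    change (z : B') * β (r ^ n) = β b at hb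
    have h1 : γ (φ b) = γ (ψ b) := by
      have hz : φ' (z : B') = ψ' (z : B') := z.2
      rw [hφ, hψ, ← hb, map_mul, map_mul, hz, map_pow, map_pow, map_pow, hc]
    obtain ⟨⟨_, m, rfl⟩, hm⟩ := IsLocalization.exists_of_eq (M := Submonoid.powers (φ r)) h1
    change (φ r) ^ m * φ b = (φ r) ^ m * ψ b at hm
    have he : φ (r ^ m * b) = ψ (r ^ m * b) := by
      rw [map_mul, map_mul, map_pow, map_pow, ← hr, hm]
    refine ⟨(⟨r ^ m * b, he⟩, ⟨(⟨r, hr⟩ : φ.eqLocus ψ) ^ (n + m), n + m, rfl⟩), ?_⟩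
    apply Subtype.ext
    change (z : B') * (ε ((⟨r, hr⟩ : φ.eqLocus ψ) ^ (n + m)) : B') = (ε ⟨r ^ m * b, he⟩ : B')
    rw [hε, hε]
    change (z : B') * β (r ^ (n + m)) = β (r ^ m * b)
    rw [pow_add, map_mul, ← mul_assoc, hb, map_mul, mul_comm]
  · intro x y hxy
    have h1 : β x.1 = β y.1 := by
      have := congrArg Subtype.val hxy
      change (ε x : B') = (ε y : B') at this
      rwa [hε, hε] at this
    obtain ⟨⟨_, n, rfl⟩, hn⟩ := IsLocalization.exists_of_eq (M := Submonoid.powers r) h1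
    refine ⟨⟨(⟨r, hr⟩ : φ.eqLocus ψ) ^ n, n, rfl⟩, ?_⟩
    apply Subtype.ext
    exact hn

section qc

variable {X : Scheme.{u}} {P Q : TopCat.Presheaf CommRingCat.{u} X.carrier} (a b : P ⟶ Q)
  (sP : X.presheaf ⟶ P) (sQ : X.presheaf ⟶ Q) (ha : sP ≫ a = sQ) (hb : sP ≫ b = sQ)

/-- the structure map of the equalizer presheaf -/
def eqStr : X.presheaf ⟶ eqPsh a b := eqLift a b sP (by rw [ha, hb])

theorem eqStr_ι : eqStr a b sP sQ ha hb ≫ eqι a b = sP := eqLift_ι _ _ _ _

include ha hb in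
theorem isQC_eqPsh (hP : RelSpec.IsQC P sP) (hQ : RelSpec.IsQC Q sQ) :
    RelSpec.IsQC (eqPsh a b) (eqStr a b sP sQ ha hb) := by
  intro U hU r
  have hφr : (a.app (op U)).hom ((sP.app (op U)).hom r) = (sQ.app (op U)).hom r := by
    have := congrArg (fun k => (k.app (op U)).hom r) ha
    exact this
  have hψr : (b.app (op U)).hom ((sP.app (op U)).hom r) = (sQ.app (op U)).hom r := by
    have := congrArg (fun k => (k.app (op U)).hom r) hb
    exact this
  have hBloc := hP U hU r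
  have hCloc := hQ U hU r
  rw [← hφr] at hCloc
  exact isLocalization_eqLocus (a.app (op U)).hom (b.app (op U)).hom
    (a.app (op (X.basicOpen r))).hom (b.app (op (X.basicOpen r))).hom
    (P.map (homOfLE (X.basicOpen_le r)).op).hom (Q.map (homOfLE (X.basicOpen_le r)).op).hom
    (fun x => (congrArg (fun k => k.hom x) (a.naturality (homOfLE (X.basicOpen_le r)).op)).symm)
    (fun x => (congrArg (fun k => k.hom x) (b.naturality (homOfLE (X.basicOpen_le r)).op)).symm)
    ((sP.app (op U)).hom r) (hφr.trans hψr.symm) hBloc hCloc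
    ((eqPsh a b).map (homOfLE (X.basicOpen_le r)).op).hom (fun x => rfl)

end qc

section schemes

variable {X Y Z : Scheme.{u}} (p : Z ⟶ X) (q : Y ⟶ X) [QuasiCompact p] [QuasiSeparated p]
  [QuasiCompact q] [QuasiSeparated q] (f g : Y ⟶ Z) (wf : f ≫ p = q) (wg : g ≫ p = q)

/-- the equalizer algebra of two morphisms over a base -/
noncomputable def eqQC : RelSpec.QCAlg X where
  presheaf := eqPsh (AffAlg.algHom p q f wf) (AffAlg.algHom p q g wg)
  isSheaf := isSheaf_eqPsh _ _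
    (TopCat.Sheaf.pushforward_sheaf_of_sheaf _ Z.sheaf.property)
    (TopCat.Sheaf.pushforward_sheaf_of_sheaf _ Y.sheaf.property)
  str := eqStr _ _ p.c q.c (AffAlg.algHom_comm p q f wf) (AffAlg.algHom_comm p q g wg)
  isQC := isQC_eqPsh _ _ p.c q.c (AffAlg.algHom_comm p q f wf) (AffAlg.algHom_comm p q g wg)
    (RelSpec.QCAlg.isQC_pushforward p) (RelSpec.QCAlg.isQC_pushforward q)

/-- the inclusion of the equalizer algebra into the direct image algebra -/
noncomputable def eqQCι : eqQC p q f g wf wg ⟶ RelSpec.QCAlg.directImage p :=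
  ⟨eqι _ _, eqStr_ι _ _ p.c q.c (AffAlg.algHom_comm p q f wf) (AffAlg.algHom_comm p q g wg)⟩

end schemes

end Groth.Agent.Helper23.FEtCoeq
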