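import Groth.Agent.Lib.Helper23.FEtCoeq2
import Groth.Agent.Lib.Helper23.EqAlg6
import Groth.Agent.Lib.Helper18.QCAlgPO2
import Groth.Prelude.Def_FEt

/-! helper23: the relative spectrum of the equalizer algebra of two maps of finite étale covers is
finite étale. -/

set_option autoImplicit false
set_option linter.style.haveILetI false
set_option linter.unusedVariables false
universe u

open CategoryTheory CategoryTheory.Limits AlgebraicGeometry TopologicalSpace Opposite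

namespace Groth.Agent.Helper23.FEtCoeq

theorem algHom_comp {X Y Z S : Scheme.{u}} (f : X ⟶ S) (g : Y ⟶ S) (k : Z ⟶ S) (h : Y ⟶ X)
    (w : h ≫ f = g) (h' : Z ⟶ Y) (w' : h' ≫ g = k) (w'' : (h' ≫ h) ≫ f = k) :
    AffAlg.algHom f k (h' ≫ h) w'' = AffAlg.algHom f g h w ≫ AffAlg.algHom g k h' w' := by
  ext U : 2
  rw [NatTrans.comp_app, Groth.Agent.Helper18.QCAlgPO.algHom_app,
    Groth.Agent.Helper18.QCAlgPO.algHom_app, Groth.Agent.Helper18.QCAlgPO.algHom_app,
    Scheme.Hom.appLE_comp_appLE]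

set_option backward.isDefEq.respectTransparency false in
/-- a property local on the target holds for the relative spectrum if it holds on charts -/
theorem prop_π_of_charts {X : Scheme.{u}} (P : MorphismProperty Scheme.{u})
    [IsZariskiLocalAtTarget P] (A : RelSpec.QCAlg X)
    (h : ∀ U : X.affineOpens, P (Spec.map (A.str.app (op U.1)))) : P A.π := by
  rw [IsZariskiLocalAtTarget.iff_of_iSup_eq_top (P := P) _ (iSup_affineOpens_eq_top _)]
  intro U
  let e := IsOpenImmersion.isoOfRangeEq (A.π ⁻¹ᵁ U).ι (A.ι U.1 U.2)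
      (by simpa using congr($(A.π_preimage U.1 U.2).1))
  rw [← MorphismProperty.cancel_left_of_respectsIso P e.inv,
    ← MorphismProperty.cancel_right_of_respectsIso P _ U.2.isoSpec.hom]
  convert h U
  rw [← cancel_mono U.2.fromSpec]
  simp [IsAffineOpen.isoSpec_hom, e, RelSpec.QCAlg.ι_π]

section chart

variable {X Y Z : Scheme.{u}} (p : Z ⟶ X) (q : Y ⟶ X) [IsFinite p] [Etale p] [IsFinite q]
  [Etale q] (f g : Y ⟶ Z) (wf : f ≫ p = q) (wg : g ≫ p = q)

theorem etale_app {X Z : Scheme.{u}} (p : Z ⟶ X) [IsAffineHom p] [Etale p] (U : X.affineOpens) :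
    (p.app U.1).hom.Etale := by
  have := HasRingHomProperty.appLE (P := @Etale) p inferInstance U
    ⟨p ⁻¹ᵁ U.1, U.2.preimage p⟩ le_rfl
  rwa [Scheme.Hom.appLE_eq_app] at this

theorem chart_finite_etale (U : X.affineOpens) :
    ((eqQC p q f g wf wg).str.app (op U.1)).hom.Finite ∧
      ((eqQC p q f g wf wg).str.app (op U.1)).hom.Etale := by
  letI : Algebra Γ(X, U.1) Γ(Z, p ⁻¹ᵁ U.1) := (p.app U.1).hom.toAlgebra
  letI : Algebra Γ(X, U.1) Γ(Y, q ⁻¹ᵁ U.1) := (q.app U.1).hom.toAlgebra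
  haveI : Module.Finite Γ(X, U.1) Γ(Z, p ⁻¹ᵁ U.1) := IsFinite.finite_app p U.1 U.2
  haveI : Module.Finite Γ(X, U.1) Γ(Y, q ⁻¹ᵁ U.1) := IsFinite.finite_app q U.1 U.2
  haveI : Algebra.Etale Γ(X, U.1) Γ(Z, p ⁻¹ᵁ U.1) := etale_app p U
  haveI : Algebra.Etale Γ(X, U.1) Γ(Y, q ⁻¹ᵁ U.1) := etale_app q U
  let φ : Γ(Z, p ⁻¹ᵁ U.1) →ₐ[Γ(X, U.1)] Γ(Y, q ⁻¹ᵁ U.1) :=
    { toRingHom := ((AffAlg.algHom p q f wf).app (op U.1)).hom
      commutes' := fun r =>
        congrArg (fun k => (k.app (op U.1)).hom r) (AffAlg.algHom_comm p q f wf) }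
  let ψ : Γ(Z, p ⁻¹ᵁ U.1) →ₐ[Γ(X, U.1)] Γ(Y, q ⁻¹ᵁ U.1) :=
    { toRingHom := ((AffAlg.algHom p q g wg).app (op U.1)).hom
      commutes' := fun r =>
        congrArg (fun k => (k.app (op U.1)).hom r) (AffAlg.algHom_comm p q g wg) }
  have h1 := EqAlg.etale_equalizer φ ψ
  have h2 := EqAlg.finite_equalizer' φ ψ
  letI : Algebra Γ(X, U.1) ((eqQC p q f g wf wg).presheaf.obj (op U.1)) :=
    ((eqQC p q f g wf wg).str.app (op U.1)).hom.toAlgebra
  let e : AlgHom.equalizer φ ψ ≃ₐ[Γ(X, U.1)] ((eqQC p q f g wf wg).presheaf.obj (op U.1)) :=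
    { toFun := fun x => ⟨x.1, x.2⟩
      invFun := fun x => ⟨x.1, x.2⟩
      left_inv := fun x => rfl
      right_inv := fun x => rfl
      map_mul' := fun x y => rfl
      map_add' := fun x y => rfl
      commutes' := fun r => rfl }
  exact ⟨Module.Finite.equiv e.toLinearEquiv, Algebra.Etale.of_equiv e⟩

theorem prop_eqQC_π : FEt.prop (eqQC p q f g wf wg).π :=
  ⟨prop_π_of_charts @IsFinite _ (fun U =>
      (IsFinite.SpecMap_iff _).mpr (chart_finite_etale p q f g wf wg U).1),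
    prop_π_of_charts @Etale _ (fun U =>
      (HasRingHomProperty.Spec_iff (P := @Etale)).mpr (chart_finite_etale p q f g wf wg U).2)⟩

end chart

end Groth.Agent.Helper23.FEtCoeq
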