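import Mathlib
import Groth.Prelude.Def_FEt
universe u
open CategoryTheory CategoryTheory.Limits AlgebraicGeometry

set_option linter.style.haveILetI false
set_option linter.unusedVariables false

namespace Groth.Agent.Helper23.FibCard

/-- For a finite étale algebra `B` over an algebraically closed field `Ω`, the number of
`Ω`-algebra homomorphisms `B → Ω` is the dimension of `B`. -/
theorem card_algHom_eq_finrank (Ω B : Type u) [Field Ω] [IsAlgClosed Ω] [CommRing B] [Algebra Ω B]
    [Module.Finite Ω B] [Algebra.Etale Ω B] :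
    Nat.card (B →ₐ[Ω] Ω) = Module.finrank Ω B := by
  classical
  apply le_antisymm (card_algHom_le_finrank Ω B Ω)
  let e := Algebra.FormallyEtale.equivPiOfIsSepClosed Ω B
  haveI : IsArtinianRing B := isArtinian_of_tower Ω inferInstance
  haveI : Finite (PrimeSpectrum B) := inferInstance
  haveI : Fintype (PrimeSpectrum B) := Fintype.ofFinite _
  have h1 : Module.finrank Ω B = Fintype.card (PrimeSpectrum B) := by
    rw [e.toLinearEquiv.finrank_eq, Module.finrank_fintype_fun_eq_card]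
  rw [h1, ← Nat.card_eq_fintype_card]
  haveI : Finite (B →ₐ[Ω] Ω) := inferInstance
  let g : PrimeSpectrum B → (B →ₐ[Ω] Ω) := fun p =>
    (Pi.evalAlgHom Ω (fun _ : PrimeSpectrum B => Ω) p).comp e.toAlgHom
  apply Nat.card_le_card_of_injective g
  intro p q hpq
  by_contra hne
  have := DFunLike.congr_fun hpq (e.symm (Pi.single p 1))
  simp [g, hne] at this


set_option maxHeartbeats 1000000 in
/-- The number of sections of a finite étale scheme over an algebraically closed field is its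
rank. -/
theorem card_sections {Ω : Type u} [Field Ω] [IsAlgClosed Ω] {P : Scheme.{u}}
    (p : P ⟶ Spec (CommRingCat.of Ω)) [IsFinite p] [Etale p] (x : ↥(Spec (CommRingCat.of Ω))) :
    Finite {s : Spec (CommRingCat.of Ω) ⟶ P // s ≫ p = 𝟙 _} ∧
    Nat.card {s : Spec (CommRingCat.of Ω) ⟶ P // s ≫ p = 𝟙 _} = p.finrank x := by
  haveI : IsAffine P := isAffine_of_isAffineHom p
  let B : CommRingCat.{u} := Γ(P, ⊤)
  let ψ : CommRingCat.of Ω ⟶ B := (Scheme.ΓSpecIso (CommRingCat.of Ω)).inv ≫ p.appTop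
  have hp : p = P.isoSpec.hom ≫ Spec.map ψ := by
    have h1 := Scheme.isoSpec_hom_naturality p
    rw [Scheme.isoSpec_Spec_hom] at h1
    have h2 : Spec.map ψ = Spec.map p.appTop ≫ Spec.map (Scheme.ΓSpecIso (CommRingCat.of Ω)).inv := by
      rw [← Spec.map_comp]
    rw [h2, ← Category.assoc, h1, Category.assoc, ← Spec.map_comp, Iso.inv_hom_id, Spec.map_id,
      Category.comp_id]
  have hψ : Spec.map ψ = P.isoSpec.inv ≫ p := by rw [hp, Iso.inv_hom_id_assoc]
  haveI : IsFinite (Spec.map ψ) := by rw [hψ]; infer_instance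
  haveI : Etale (Spec.map ψ) := by rw [hψ]; infer_instance
  have hfin : ψ.hom.Finite := (IsFinite.SpecMap_iff ψ).mp inferInstance
  have het : ψ.hom.Etale := (HasRingHomProperty.Spec_iff (P := @Etale)).mp inferInstance
  algebraize [ψ.hom]
  have hcard := card_algHom_eq_finrank Ω B
  have hrank : p.finrank x = Module.finrank Ω B := by
    rw [hp, Scheme.Hom.finrank_comp_left_of_isIso]
    have := Scheme.Hom.finrank_SpecMap_algebraMap Ω B x
    rw [Module.rankAtStalk_eq_finrank_of_free] at this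
    exact this
  -- the bijection
  let F : {s : Spec (CommRingCat.of Ω) ⟶ P // s ≫ p = 𝟙 _} → (B →ₐ[Ω] Ω) := fun s =>
    { toRingHom := (Spec.preimage (s.1 ≫ P.isoSpec.hom)).hom
      commutes' := by
        intro r
        have h1 : ψ ≫ Spec.preimage (s.1 ≫ P.isoSpec.hom) = 𝟙 _ := by
          apply Spec.map_injective
          rw [Spec.map_comp, Spec.map_preimage, Category.assoc, ← hp, s.2, Spec.map_id]
        exact congrArg (fun f => f.hom r) h1 }
  have hFinj : Function.Injective F := by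
    intro s t hst
    have h1 : (Spec.preimage (s.1 ≫ P.isoSpec.hom)).hom = (Spec.preimage (t.1 ≫ P.isoSpec.hom)).hom :=
      congrArg (fun f : B →ₐ[Ω] Ω => f.toRingHom) hst
    have h2 : Spec.preimage (s.1 ≫ P.isoSpec.hom) = Spec.preimage (t.1 ≫ P.isoSpec.hom) :=
      CommRingCat.hom_ext h1
    have h3 := congrArg Spec.map h2
    rw [Spec.map_preimage, Spec.map_preimage] at h3
    exact Subtype.ext ((cancel_mono P.isoSpec.hom).mp h3)
  have hFsurj : Function.Surjective F := by
    intro σ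
    have h0 : ψ ≫ CommRingCat.ofHom σ.toRingHom = 𝟙 _ := by
      ext r
      exact σ.commutes r
    refine ⟨⟨Spec.map (CommRingCat.ofHom σ.toRingHom) ≫ P.isoSpec.inv, ?_⟩, ?_⟩
    · rw [hp, Category.assoc, Iso.inv_hom_id_assoc, ← Spec.map_comp, h0, Spec.map_id]
    · apply AlgHom.ext
      intro b
      have : Spec.preimage ((Spec.map (CommRingCat.ofHom σ.toRingHom) ≫ P.isoSpec.inv) ≫ P.isoSpec.hom)
          = CommRingCat.ofHom σ.toRingHom := by
        apply Spec.map_injective
        rw [Spec.map_preimage, Category.assoc, Iso.inv_hom_id, Category.comp_id]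
      exact congrArg (fun f => f.hom b) this
  have e := Equiv.ofBijective F ⟨hFinj, hFsurj⟩
  haveI : Finite (B →ₐ[Ω] Ω) := inferInstance
  refine ⟨Finite.of_equiv _ e.symm, ?_⟩
  rw [Nat.card_congr e, hcard, hrank]


instance isFinite_hom {X : Scheme.{u}} (Y : FEt.Cat X) : IsFinite Y.hom := Y.prop.1
instance etale_hom {X : Scheme.{u}} (Y : FEt.Cat X) : Etale Y.hom := Y.prop.2

/-- the geometric fibre as sections of the base change -/
noncomputable def fiberEquiv {X : Scheme.{u}} {Ω : Type u} [Field Ω]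
    (ξ : Spec (CommRingCat.of Ω) ⟶ X) (Y : FEt.Cat X) :
    FEt.fiberObj ξ Y ≃
      {t : Spec (CommRingCat.of Ω) ⟶ pullback Y.hom ξ // t ≫ pullback.snd Y.hom ξ = 𝟙 _} where
  toFun s := ⟨pullback.lift s.1 (𝟙 _) (by rw [s.2, Category.id_comp]), pullback.lift_snd _ _ _⟩
  invFun t := ⟨t.1 ≫ pullback.fst Y.hom ξ, by
    rw [Category.assoc, pullback.condition, ← Category.assoc, t.2, Category.id_comp]⟩
  left_inv s := by
    apply Subtype.ext
    exact pullback.lift_fst _ _ _
  right_inv t := by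
    apply Subtype.ext
    apply pullback.hom_ext
    · exact pullback.lift_fst _ _ _
    · exact (pullback.lift_snd _ _ _).trans t.2.symm

theorem card_fiberObj {X : Scheme.{u}} {Ω : Type u} [Field Ω] [IsAlgClosed Ω]
    (ξ : Spec (CommRingCat.of Ω) ⟶ X) (Y : FEt.Cat X) (x : ↥(Spec (CommRingCat.of Ω))) :
    Finite (FEt.fiberObj ξ Y) ∧ Nat.card (FEt.fiberObj ξ Y) = Y.hom.finrank (ξ.base x) := by
  obtain ⟨h1, h2⟩ := card_sections (pullback.snd Y.hom ξ) x
  refine ⟨Finite.of_equiv _ (fiberEquiv ξ Y).symm, ?_⟩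
  rw [Nat.card_congr (fiberEquiv ξ Y), h2, Scheme.Hom.finrank_pullback_snd]

theorem card_fiberObj_eq {X : Scheme.{u}} [ConnectedSpace X] {Ω Ω' : Type u} [Field Ω]
    [IsAlgClosed Ω] [Field Ω'] [IsAlgClosed Ω']
    (ξ : Spec (CommRingCat.of Ω) ⟶ X) (ξ' : Spec (CommRingCat.of Ω') ⟶ X) (Y : FEt.Cat X) :
    Nat.card (FEt.fiberObj ξ Y) = Nat.card (FEt.fiberObj ξ' Y) := by
  have x : ↥(Spec (CommRingCat.of Ω)) := default
  have x' : ↥(Spec (CommRingCat.of Ω')) := default
  rw [(card_fiberObj ξ Y x).2, (card_fiberObj ξ' Y x').2]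
  haveI : PreconnectedSpace ↥((Functor.fromPUnit X).obj Y.right) :=
    inferInstanceAs (PreconnectedSpace ↥X)
  exact (Scheme.Hom.isLocallyConstant_finrank Y.hom).apply_eq_of_preconnectedSpace _ _


theorem fiber_map_val {X : Scheme.{u}} {Ω : Type u} [Field Ω]
    (ξ : Spec (CommRingCat.of Ω) ⟶ X) {Y Y' : FEt.Cat X} (q : Y ⟶ Y') (s : FEt.fiberObj ξ Y) :
    (((FEt.fiber ξ).map q) s).1 = s.1 ≫ q.left := rfl

theorem naturality_apply {X : Scheme.{u}} {Ω Ω' : Type u} [Field Ω] [Field Ω']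
    (ξ : Spec (CommRingCat.of Ω) ⟶ X) (ξ' : Spec (CommRingCat.of Ω') ⟶ X)
    (φ : FEt.fiber ξ ⟶ FEt.fiber ξ') {Y Y' : FEt.Cat X} (q : Y ⟶ Y') (s : FEt.fiberObj ξ Y) :
    (φ.app Y' ((FEt.fiber ξ).map q s)) = (FEt.fiber ξ').map q (φ.app Y s) :=
  ConcreteCategory.congr_hom (φ.naturality q) s


set_option maxHeartbeats 1000000 in
theorem app_injective {X : Scheme.{u}} {Ω Ω' : Type u} [Field Ω] [Field Ω']
    (ξ : Spec (CommRingCat.of Ω) ⟶ X) (ξ' : Spec (CommRingCat.of Ω') ⟶ X)
    (φ : FEt.fiber ξ ⟶ FEt.fiber ξ') (Y : FEt.Cat X) : Function.Injective (φ.app Y) := by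
  intro s₁ s₂ h
  by_contra hne
  let W : Scheme.{u} := pullback Y.hom Y.hom
  let D : Y.left ⟶ W := pullback.diagonal Y.hom
  haveI : IsOpenImmersion D := inferInstance
  haveI : IsClosedImmersion D := inferInstance
  let Z : W.Opens := ⟨(Set.range D.base)ᶜ, (D.isClosedEmbedding.isClosed_range).isOpen_compl⟩
  haveI : IsClosedImmersion Z.ι := IsClosedImmersion.of_isPreimmersion _ (by
      rw [Scheme.Opens.range_ι]; exact (D.isOpenEmbedding.isOpen_range).isClosed_compl)
  let g : (Z : Scheme.{u}) ⟶ X := Z.ι ≫ pullback.fst Y.hom Y.hom ≫ Y.hom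
  let Zo : FEt.Cat X := MorphismProperty.Over.mk ⊤ g ⟨inferInstance, inferInstance⟩
  let q₁ : Zo ⟶ Y := MorphismProperty.Over.homMk (Z.ι ≫ pullback.fst _ _)
    (by show (Z.ι ≫ pullback.fst Y.hom Y.hom) ≫ Y.hom = g; exact Category.assoc _ _ _) trivial
  let q₂ : Zo ⟶ Y := MorphismProperty.Over.homMk (Z.ι ≫ pullback.snd _ _)
    (by show (Z.ι ≫ pullback.snd Y.hom Y.hom) ≫ Y.hom = g
        rw [Category.assoc, ← pullback.condition]) trivial
  let s : Spec (CommRingCat.of Ω) ⟶ W := pullback.lift s₁.1 s₂.1 (by rw [s₁.2, s₂.2])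
  have hs : Set.range s.base ⊆ Set.range Z.ι.base := by
    rw [Scheme.Opens.range_ι]
    rintro _ ⟨y, rfl⟩ hy
    have hsub : Set.range s.base ⊆ Set.range D.base := by
      rintro _ ⟨y', rfl⟩
      rw [Subsingleton.elim y' y]
      exact hy
    apply hne
    apply Subtype.ext
    have h1 : IsOpenImmersion.lift D s hsub ≫ D = s := IsOpenImmersion.lift_fac _ _ _
    have e1 : s₁.1 = IsOpenImmersion.lift D s hsub := by
      have := congrArg (· ≫ pullback.fst Y.hom Y.hom) h1
      simp only [Category.assoc] at this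
      rw [show D ≫ pullback.fst Y.hom Y.hom = 𝟙 _ from pullback.diagonal_fst _,
        Category.comp_id] at this
      rw [this]
      exact (pullback.lift_fst _ _ _).symm
    have e2 : s₂.1 = IsOpenImmersion.lift D s hsub := by
      have := congrArg (· ≫ pullback.snd Y.hom Y.hom) h1
      simp only [Category.assoc] at this
      rw [show D ≫ pullback.snd Y.hom Y.hom = 𝟙 _ from pullback.diagonal_snd _,
        Category.comp_id] at this
      rw [this]
      exact (pullback.lift_snd _ _ _).symm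
    rw [e1, e2]
  let s' : Spec (CommRingCat.of Ω) ⟶ (Z : Scheme.{u}) := IsOpenImmersion.lift Z.ι s hs
  have hs' : s' ≫ Z.ι = s := IsOpenImmersion.lift_fac _ _ _
  let so : FEt.fiberObj ξ Zo := ⟨s', by
    show s' ≫ Z.ι ≫ pullback.fst Y.hom Y.hom ≫ Y.hom = ξ
    rw [← Category.assoc, hs', ← Category.assoc, pullback.lift_fst, s₁.2]⟩
  have hq1 : (FEt.fiber ξ).map q₁ so = s₁ := by
    apply Subtype.ext
    show s' ≫ Z.ι ≫ pullback.fst Y.hom Y.hom = s₁.1
    rw [← Category.assoc, hs', pullback.lift_fst]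
  have hq2 : (FEt.fiber ξ).map q₂ so = s₂ := by
    apply Subtype.ext
    show s' ≫ Z.ι ≫ pullback.snd Y.hom Y.hom = s₂.1
    rw [← Category.assoc, hs', pullback.lift_snd]
  have n1 := naturality_apply ξ ξ' φ q₁ so
  have n2 := naturality_apply ξ ξ' φ q₂ so
  rw [hq1] at n1
  rw [hq2] at n2
  have h3 : (FEt.fiber ξ').map q₁ (φ.app Zo so) = (FEt.fiber ξ').map q₂ (φ.app Zo so) := by
    rw [← n1, ← n2]; exact h
  have h4 : (φ.app Zo so).1 ≫ Z.ι ≫ pullback.fst Y.hom Y.hom =
      (φ.app Zo so).1 ≫ Z.ι ≫ pullback.snd Y.hom Y.hom := congrArg Subtype.val h3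
  obtain ⟨r, hr⟩ : ∃ r : Spec (CommRingCat.of Ω') ⟶ W, r = (φ.app Zo so).1 ≫ Z.ι := ⟨_, rfl⟩
  have h4' : r ≫ pullback.fst Y.hom Y.hom = r ≫ pullback.snd Y.hom Y.hom := by
    rw [hr, Category.assoc, Category.assoc]; exact h4
  have h5 : r = (r ≫ pullback.fst Y.hom Y.hom) ≫ D := by
    apply pullback.hom_ext
    · rw [Category.assoc, show D ≫ pullback.fst Y.hom Y.hom = 𝟙 _ from pullback.diagonal_fst _]
      exact (Category.comp_id _).symm
    · rw [Category.assoc, show D ≫ pullback.snd Y.hom Y.hom = 𝟙 _ from pullback.diagonal_snd _]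
      exact h4'.symm.trans (Category.comp_id _).symm
  have y : ↥(Spec (CommRingCat.of Ω')) := default
  have h6 : r.base y ∈ Set.range D.base := by
    rw [h5]
    exact ⟨_, rfl⟩
  have h7 : r.base y ∈ (Z : Set W) := by
    rw [hr]
    exact ((φ.app Zo so).1.base y).2
  exact h7 h6


/-- Every natural transformation between fibre functors of a connected scheme is an isomorphism. -/
theorem isIso_of_fiber {X : Scheme.{u}} [ConnectedSpace X] {Ω Ω' : Type u} [Field Ω]
    [IsAlgClosed Ω] [Field Ω'] [IsAlgClosed Ω'] (ξ : Spec (CommRingCat.of Ω) ⟶ X)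
    (ξ' : Spec (CommRingCat.of Ω') ⟶ X) (φ : FEt.fiber ξ ⟶ FEt.fiber ξ') : IsIso φ := by
  haveI : ∀ Y : FEt.Cat X, IsIso (φ.app Y) := by
    intro Y
    rw [isIso_iff_bijective]
    have x : ↥(Spec (CommRingCat.of Ω)) := default
    have x' : ↥(Spec (CommRingCat.of Ω')) := default
    haveI : Finite (FEt.fiberObj ξ Y) := (card_fiberObj ξ Y x).1
    haveI : Finite (FEt.fiberObj ξ' Y) := (card_fiberObj ξ' Y x').1
    let f : FEt.fiberObj ξ Y → FEt.fiberObj ξ' Y := fun s => φ.app Y s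
    have hb : Function.Bijective f :=
      (Nat.bijective_iff_injective_and_card f).mpr
        ⟨app_injective ξ ξ' φ Y, card_fiberObj_eq ξ ξ' Y⟩
    exact hb
  exact NatIso.isIso_of_isIso_app φ

end Groth.Agent.Helper23.FibCard
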