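import Groth.Agent.Lib.Helper23.FEtCoeq3
import Groth.Agent.Lib.Helper23.FibCard
import Groth.Agent.S3569
import Groth.Agent.S8255

/-! helper23: coequalizers in the category of finite étale covers. -/

set_option autoImplicit false
set_option linter.style.haveILetI false
set_option linter.unusedVariables false
universe u

open CategoryTheory CategoryTheory.Limits AlgebraicGeometry TopologicalSpace Opposite

namespace Groth.Agent.Helper23.FEtCoeq
open Groth.Agent.Helper23.FibCard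

/-- morphisms over the base into an affine morphism correspond to algebra maps -/
noncomputable def algEquiv {X Y S : Scheme.{u}} (f : X ⟶ S) [IsAffineHom f] (g : Y ⟶ S) :
    AffAlg.over f g ≃ AffAlg.algHoms f g :=
  Equiv.ofBijective _ (Groth.Agent.S3569.result f g)

theorem algHom_congr {X Y S : Scheme.{u}} (f : X ⟶ S) (g : Y ⟶ S) (h₁ h₂ : Y ⟶ X)
    (w₁ : h₁ ≫ f = g) (w₂ : h₂ ≫ f = g) (h : h₁ = h₂) :
    AffAlg.algHom f g h₁ w₁ = AffAlg.algHom f g h₂ w₂ := by
  subst h; rfl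

theorem hom_eq_of_algHom_eq {X Y S : Scheme.{u}} (f : X ⟶ S) [IsAffineHom f] (g : Y ⟶ S)
    (h₁ h₂ : Y ⟶ X) (w₁ : h₁ ≫ f = g) (w₂ : h₂ ≫ f = g)
    (h : AffAlg.algHom f g h₁ w₁ = AffAlg.algHom f g h₂ w₂) : h₁ = h₂ := by
  have := (Groth.Agent.S3569.result f g).1 (a₁ := ⟨h₁, w₁⟩) (a₂ := ⟨h₂, w₂⟩) (Subtype.ext h)
  exact congrArg Subtype.val this

/-- the morphism attached to an algebra map -/
noncomputable def homOfAlg {X Y S : Scheme.{u}} (f : X ⟶ S) [IsAffineHom f] (g : Y ⟶ S)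
    (ω : AffAlg.alg f ⟶ AffAlg.alg g) (hω : f.c ≫ ω = g.c) : Y ⟶ X :=
  ((algEquiv f g).symm ⟨ω, hω⟩).1

theorem homOfAlg_comp {X Y S : Scheme.{u}} (f : X ⟶ S) [IsAffineHom f] (g : Y ⟶ S)
    (ω : AffAlg.alg f ⟶ AffAlg.alg g) (hω : f.c ≫ ω = g.c) : homOfAlg f g ω hω ≫ f = g :=
  ((algEquiv f g).symm ⟨ω, hω⟩).2

theorem algHom_homOfAlg {X Y S : Scheme.{u}} (f : X ⟶ S) [IsAffineHom f] (g : Y ⟶ S)
    (ω : AffAlg.alg f ⟶ AffAlg.alg g) (hω : f.c ≫ ω = g.c) :
    AffAlg.algHom f g (homOfAlg f g ω hω) (homOfAlg_comp f g ω hω) = ω :=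
  congrArg Subtype.val ((algEquiv f g).apply_symm_apply ⟨ω, hω⟩)

section coeq

variable {X : Scheme.{u}} {Y Z : FEt.Cat X} (f g : Y ⟶ Z)

/-- the equalizer algebra of a pair of maps of finite étale covers -/
noncomputable abbrev QE : RelSpec.QCAlg X :=
  eqQC Z.hom Y.hom f.left g.left (Over.w f.hom) (Over.w g.hom)

instance : IsIso (QE f g).gammaMap := Groth.Agent.S8255.result _

/-- the inclusion of the equalizer algebra -/
noncomputable def qeι : (QE f g).presheaf ⟶ AffAlg.alg Z.hom := eqι _ _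

theorem qeι_comp : qeι f g ≫ AffAlg.algHom Z.hom Y.hom f.left (Over.w f.hom) =
    qeι f g ≫ AffAlg.algHom Z.hom Y.hom g.left (Over.w g.hom) := eqι_comp _ _

/-- lifting to the equalizer algebra -/
noncomputable def qeLift {R : TopCat.Presheaf CommRingCat.{u} X.carrier} (ω : R ⟶ AffAlg.alg Z.hom)
    (h : ω ≫ AffAlg.algHom Z.hom Y.hom f.left (Over.w f.hom) =
      ω ≫ AffAlg.algHom Z.hom Y.hom g.left (Over.w g.hom)) : R ⟶ (QE f g).presheaf :=
  eqLift _ _ ω h

theorem qeLift_ι {R : TopCat.Presheaf CommRingCat.{u} X.carrier} (ω : R ⟶ AffAlg.alg Z.hom)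
    (h : ω ≫ AffAlg.algHom Z.hom Y.hom f.left (Over.w f.hom) =
      ω ≫ AffAlg.algHom Z.hom Y.hom g.left (Over.w g.hom)) : qeLift f g ω h ≫ qeι f g = ω :=
  eqLift_ι _ _ _ _

theorem qeι_mono {R : TopCat.Presheaf CommRingCat.{u} X.carrier} (s t : R ⟶ (QE f g).presheaf)
    (h : s ≫ qeι f g = t ≫ qeι f g) : s = t := eqι_mono _ _ s t h

theorem str_qeι : (QE f g).str ≫ qeι f g = Z.hom.c :=
  eqStr_ι _ _ Z.hom.c Y.hom.c (AffAlg.algHom_comm Z.hom Y.hom f.left (Over.w f.hom))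
    (AffAlg.algHom_comm Z.hom Y.hom g.left (Over.w g.hom))

/-- the coequalizer object -/
noncomputable def coeqObj : FEt.Cat X :=
  MorphismProperty.Over.mk ⊤ (QE f g).π (prop_eqQC_π _ _ _ _ _ _)

/-- the algebra map of the coequalizer projection -/
noncomputable def ωc : AffAlg.alg (QE f g).π ⟶ AffAlg.alg Z.hom :=
  (QE f g).gammaMap ≫ qeι f g

theorem hωc : (QE f g).π.c ≫ ωc f g = Z.hom.c := by
  unfold ωc
  rw [← Category.assoc, RelSpec.QCAlg.π_c_gammaMap]
  exact str_qeι f g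

theorem ωc_comp : ωc f g ≫ AffAlg.algHom Z.hom Y.hom f.left (Over.w f.hom) =
    ωc f g ≫ AffAlg.algHom Z.hom Y.hom g.left (Over.w g.hom) := by
  unfold ωc
  rw [Category.assoc, Category.assoc, qeι_comp]

/-- the underlying morphism of the coequalizer projection -/
noncomputable def c0 : Z.left ⟶ (QE f g).spec := homOfAlg (QE f g).π Z.hom (ωc f g) (hωc f g)

theorem c0_π : c0 f g ≫ (QE f g).π = Z.hom := homOfAlg_comp _ _ _ _

theorem algHom_c0 : AffAlg.algHom (QE f g).π Z.hom (c0 f g) (c0_π f g) = ωc f g :=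
  algHom_homOfAlg _ _ _ _

theorem c0_cond : f.left ≫ c0 f g = g.left ≫ c0 f g := by
  have w1 : (f.left ≫ c0 f g) ≫ (QE f g).π = Y.hom := by
    rw [Category.assoc, c0_π]; exact Over.w f.hom
  have w2 : (g.left ≫ c0 f g) ≫ (QE f g).π = Y.hom := by
    rw [Category.assoc, c0_π]; exact Over.w g.hom
  apply hom_eq_of_algHom_eq (QE f g).π Y.hom _ _ w1 w2
  rw [algHom_comp (QE f g).π Z.hom Y.hom (c0 f g) (c0_π f g) f.left (Over.w f.hom) w1,
    algHom_comp (QE f g).π Z.hom Y.hom (c0 f g) (c0_π f g) g.left (Over.w g.hom) w2, algHom_c0]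
  exact ωc_comp f g

/-- the coequalizer projection -/
noncomputable def coeqπ : Z ⟶ coeqObj f g :=
  MorphismProperty.Over.homMk (c0 f g) (c0_π f g) trivial

theorem coeqπ_cond : f ≫ coeqπ f g = g ≫ coeqπ f g :=
  MorphismProperty.Over.Hom.ext (c0_cond f g)

section desc

variable {T : FEt.Cat X} (h : Z ⟶ T) (hh : f ≫ h = g ≫ h)

/-- the algebra map of a coequalizing morphism -/
noncomputable def ωh : AffAlg.alg T.hom ⟶ AffAlg.alg Z.hom :=
  AffAlg.algHom T.hom Z.hom h.left (Over.w h.hom)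

include hh in
theorem ωh_comp : ωh h ≫ AffAlg.algHom Z.hom Y.hom f.left (Over.w f.hom) =
    ωh h ≫ AffAlg.algHom Z.hom Y.hom g.left (Over.w g.hom) := by
  have w1 : (f.left ≫ h.left) ≫ T.hom = Y.hom := by
    rw [Category.assoc, Over.w h.hom]; exact Over.w f.hom
  have w2 : (g.left ≫ h.left) ≫ T.hom = Y.hom := by
    rw [Category.assoc, Over.w h.hom]; exact Over.w g.hom
  unfold ωh
  rw [← algHom_comp T.hom Z.hom Y.hom h.left (Over.w h.hom) f.left (Over.w f.hom) w1,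
    ← algHom_comp T.hom Z.hom Y.hom h.left (Over.w h.hom) g.left (Over.w g.hom) w2]
  apply algHom_congr
  exact congrArg (fun k : Y ⟶ T => k.left) hh

/-- the lift of the algebra map to the equalizer algebra -/
noncomputable def ℓ : AffAlg.alg T.hom ⟶ (QE f g).presheaf :=
  qeLift f g (ωh h) (ωh_comp f g h hh)

theorem ℓ_ι : ℓ f g h hh ≫ qeι f g = ωh h := qeLift_ι _ _ _ _

/-- the algebra map of the descended morphism -/
noncomputable def ωd : AffAlg.alg T.hom ⟶ AffAlg.alg (QE f g).π :=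
  ℓ f g h hh ≫ inv (QE f g).gammaMap

theorem hωd : T.hom.c ≫ ωd f g h hh = (QE f g).π.c := by
  have h1 : T.hom.c ≫ ℓ f g h hh = (QE f g).str := by
    apply qeι_mono
    rw [Category.assoc, ℓ_ι]
    have e1 : T.hom.c ≫ ωh h = Z.hom.c := AffAlg.algHom_comm T.hom Z.hom h.left (Over.w h.hom)
    rw [e1]
    exact (str_qeι f g).symm
  unfold ωd
  rw [← Category.assoc, h1, ← RelSpec.QCAlg.π_c_gammaMap, Category.assoc, IsIso.hom_inv_id,
    Category.comp_id]

/-- the underlying morphism of the descended map -/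
noncomputable def d0 : (QE f g).spec ⟶ T.left :=
  homOfAlg T.hom (QE f g).π (ωd f g h hh) (hωd f g h hh)

theorem d0_hom : d0 f g h hh ≫ T.hom = (QE f g).π := homOfAlg_comp _ _ _ _

theorem algHom_d0 : AffAlg.algHom T.hom (QE f g).π (d0 f g h hh) (d0_hom f g h hh) = ωd f g h hh :=
  algHom_homOfAlg _ _ _ _

theorem c0_d0 : c0 f g ≫ d0 f g h hh = h.left := by
  have w1 : (c0 f g ≫ d0 f g h hh) ≫ T.hom = Z.hom := by
    rw [Category.assoc, d0_hom, c0_π]
  apply hom_eq_of_algHom_eq T.hom Z.hom _ _ w1 (Over.w h.hom)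
  rw [algHom_comp T.hom (QE f g).π Z.hom (d0 f g h hh) (d0_hom f g h hh) (c0 f g) (c0_π f g) w1,
    algHom_d0, algHom_c0]
  unfold ωd ωc
  rw [Category.assoc, IsIso.inv_hom_id_assoc, ℓ_ι]
  rfl

/-- the descended morphism -/
noncomputable def coeqDesc : coeqObj f g ⟶ T :=
  MorphismProperty.Over.homMk (d0 f g h hh) (d0_hom f g h hh) trivial

theorem coeqπ_desc : coeqπ f g ≫ coeqDesc f g h hh = h :=
  MorphismProperty.Over.Hom.ext (c0_d0 f g h hh)

theorem coeqDesc_uniq (m : coeqObj f g ⟶ T) (hm : coeqπ f g ≫ m = h) : m = coeqDesc f g h hh := by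
  apply MorphismProperty.Over.Hom.ext
  let m0 : (QE f g).spec ⟶ T.left := m.left
  change m0 = d0 f g h hh
  have wm : m0 ≫ T.hom = (QE f g).π := Over.w m.hom
  apply hom_eq_of_algHom_eq T.hom (QE f g).π _ _ wm (d0_hom f g h hh)
  rw [algHom_d0]
  unfold ωd
  rw [IsIso.eq_comp_inv]
  apply qeι_mono
  rw [ℓ_ι, Category.assoc]
  have w1 : (c0 f g ≫ m0) ≫ T.hom = Z.hom := by
    rw [Category.assoc, wm, c0_π]
  have e1 := algHom_comp T.hom (QE f g).π Z.hom m0 wm (c0 f g) (c0_π f g) w1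
  rw [algHom_c0] at e1
  unfold ωc at e1
  rw [← e1]
  apply algHom_congr
  exact congrArg (fun k : Z ⟶ T => k.left) hm

end desc

/-- the coequalizer cofork is a colimit -/
noncomputable def coeqIsColimit : IsColimit (Cofork.ofπ (coeqπ f g) (coeqπ_cond f g)) :=
  Cofork.IsColimit.mk _ (fun s => coeqDesc f g s.π s.condition)
    (fun s => coeqπ_desc f g s.π s.condition)
    (fun s m hm => coeqDesc_uniq f g s.π s.condition m hm)

end coeq

theorem hasCoequalizers (X : Scheme.{u}) : HasCoequalizers (FEt.Cat X) := by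
  haveI : ∀ {Y Z : FEt.Cat X} {f g : Y ⟶ Z}, HasColimit (parallelPair f g) :=
    fun {Y Z} {f g} => ⟨⟨⟨_, coeqIsColimit f g⟩⟩⟩
  exact hasCoequalizers_of_hasColimit_parallelPair _

end Groth.Agent.Helper23.FEtCoeq
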