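import Groth.Agent.Lib.Helper23.FEtCoeq4

/-! helper23: finite limits and finite colimits in the category of finite étale covers. -/

set_option autoImplicit false
set_option linter.style.haveILetI false
set_option linter.unusedVariables false
universe u

open CategoryTheory CategoryTheory.Limits AlgebraicGeometry TopologicalSpace Opposite

namespace Groth.Agent.Helper23.FEtCoeq
open Groth.Agent.Helper23.FibCard

instance hasOfPostcomp_prop : FEt.prop.{u}.HasOfPostcompProperty FEt.prop.{u} where
  of_postcomp f g hg hfg := by
    haveI : IsFinite g := hg.1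
    haveI : Etale g := hg.2
    exact ⟨MorphismProperty.of_postcomp (W := @IsFinite) (W' := @IsSeparated) f g inferInstance hfg.1,
      MorphismProperty.of_postcomp (W := @Etale) (W' := @Etale) f g inferInstance hfg.2⟩

theorem hasFiniteLimits (X : Scheme.{u}) : HasFiniteLimits (FEt.Cat X) := inferInstance

section initial

variable (X : Scheme.{u})

instance isFinite_initial_to : IsFinite (initial.to X) := by
  haveI : IsClosedImmersion (initial.to X) := by
    apply IsClosedImmersion.of_isPreimmersion
    have : Set.range (initial.to X).base = ∅ := by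
      ext x
      simp only [Set.mem_range, Set.mem_empty_iff_false, iff_false]
      rintro ⟨y, -⟩
      exact isEmptyElim y
    rw [this]
    exact isClosed_empty
  infer_instance

/-- the empty cover -/
noncomputable def emptyObj : FEt.Cat X :=
  MorphismProperty.Over.mk ⊤ (initial.to X) ⟨inferInstance, inferInstance⟩

/-- the empty cover is initial -/
noncomputable def emptyIsInitial : IsInitial (emptyObj X) :=
  IsInitial.ofUniqueHom
    (fun T => MorphismProperty.Over.homMk (initial.to T.left) (initial.hom_ext _ _) trivial)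
    (fun T m => MorphismProperty.Over.Hom.ext (initial.hom_ext _ _))

theorem hasInitial : HasInitial (FEt.Cat X) := (emptyIsInitial X).hasInitial

end initial

section coprod

variable {X : Scheme.{u}} (A B : FEt.Cat X)

instance etale_coprod_desc : Etale (coprod.desc A.hom B.hom) := by
  rw [IsZariskiLocalAtSource.iff_of_openCover (P := @Etale) (coprodOpenCover.{_, 0} A.left B.left)]
  rintro (i | i)
  · change Etale (coprod.inl ≫ coprod.desc A.hom B.hom)
    rw [coprod.inl_desc]; infer_instance
  · change Etale (coprod.inr ≫ coprod.desc A.hom B.hom)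
    rw [coprod.inr_desc]; infer_instance

/-- the disjoint union of two covers -/
noncomputable def sumObj : FEt.Cat X :=
  MorphismProperty.Over.mk ⊤ (coprod.desc A.hom B.hom) ⟨inferInstance, inferInstance⟩

/-- the first inclusion -/
noncomputable def sumInl : A ⟶ sumObj A B :=
  MorphismProperty.Over.homMk (coprod.inl : A.left ⟶ A.left ⨿ B.left) (coprod.inl_desc _ _) trivial

/-- the second inclusion -/
noncomputable def sumInr : B ⟶ sumObj A B :=
  MorphismProperty.Over.homMk (coprod.inr : B.left ⟶ A.left ⨿ B.left) (coprod.inr_desc _ _) trivial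

theorem sumDesc_w {T : FEt.Cat X} (a : A ⟶ T) (b : B ⟶ T) :
    (coprod.desc a.left b.left : A.left ⨿ B.left ⟶ T.left) ≫ T.hom =
      coprod.desc A.hom B.hom := by
  apply coprod.hom_ext
  · rw [coprod.inl_desc_assoc, coprod.inl_desc]
    exact Over.w a.hom
  · rw [coprod.inr_desc_assoc, coprod.inr_desc]
    exact Over.w b.hom

/-- the map out of the disjoint union -/
noncomputable def sumDesc {T : FEt.Cat X} (a : A ⟶ T) (b : B ⟶ T) : sumObj A B ⟶ T :=
  MorphismProperty.Over.homMk (coprod.desc a.left b.left : A.left ⨿ B.left ⟶ T.left)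
    (sumDesc_w A B a b) trivial

theorem sumInl_desc {T : FEt.Cat X} (a : A ⟶ T) (b : B ⟶ T) : sumInl A B ≫ sumDesc A B a b = a :=
  MorphismProperty.Over.Hom.ext (coprod.inl_desc _ _)

theorem sumInr_desc {T : FEt.Cat X} (a : A ⟶ T) (b : B ⟶ T) : sumInr A B ≫ sumDesc A B a b = b :=
  MorphismProperty.Over.Hom.ext (coprod.inr_desc _ _)

theorem sumDesc_uniq {T : FEt.Cat X} (a : A ⟶ T) (b : B ⟶ T) (m : sumObj A B ⟶ T)
    (h1 : sumInl A B ≫ m = a) (h2 : sumInr A B ≫ m = b) : m = sumDesc A B a b := by
  apply MorphismProperty.Over.Hom.ext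
  let m0 : A.left ⨿ B.left ⟶ T.left := m.left
  change m0 = coprod.desc a.left b.left
  apply coprod.hom_ext
  · rw [coprod.inl_desc]
    exact congrArg (fun k : A ⟶ T => k.left) h1
  · rw [coprod.inr_desc]
    exact congrArg (fun k : B ⟶ T => k.left) h2

/-- the disjoint union is a coproduct -/
noncomputable def sumIsColimit : IsColimit (BinaryCofan.mk (sumInl A B) (sumInr A B)) :=
  BinaryCofan.isColimitMk (fun s => sumDesc A B s.inl s.inr)
    (fun s => sumInl_desc A B s.inl s.inr) (fun s => sumInr_desc A B s.inl s.inr)
    (fun s m h1 h2 => sumDesc_uniq A B s.inl s.inr m h1 h2)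

end coprod

theorem hasBinaryCoproducts (X : Scheme.{u}) : HasBinaryCoproducts (FEt.Cat X) := by
  haveI : ∀ A B : FEt.Cat X, HasColimit (pair A B) :=
    fun A B => ⟨⟨⟨_, sumIsColimit A B⟩⟩⟩
  exact hasBinaryCoproducts_of_hasColimit_pair _

theorem hasFiniteCoproducts (X : Scheme.{u}) : HasFiniteCoproducts (FEt.Cat X) := by
  haveI := hasBinaryCoproducts X
  haveI := hasInitial X
  exact hasFiniteCoproducts_of_has_binary_and_initial

theorem hasFiniteColimits (X : Scheme.{u}) : HasFiniteColimits (FEt.Cat X) := by
  haveI := hasFiniteCoproducts X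
  haveI := hasCoequalizers X
  exact hasFiniteColimits_of_hasCoequalizers_and_finite_coproducts

end Groth.Agent.Helper23.FEtCoeq
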