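import Groth.Prelude.Def_SchFin2
import Mathlib

/-! helper23: library for étale covers of finite ringed posets (SchFin.FEt): zero/product/quotient
algebras, idempotent kernels of maps of finite étale algebras and their compatibility with
restriction. -/

set_option autoImplicit false
universe u
open SchFin TensorProduct

namespace Groth.Agent.Helper23.FEtLib
open CategoryTheory CategoryTheory.Limits

section bc

theorem isBaseChange_prodMap {R S : Type u} [CommRing R] [CommRing S] [Algebra R S]
    {M N M' N' : Type u} [AddCommGroup M] [AddCommGroup N] [AddCommGroup M'] [AddCommGroup N']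
    [Module R M] [Module R N] [Module R M'] [Module R N'] [Module S M'] [Module S N']
    [IsScalarTower R S M'] [IsScalarTower R S N'] {f : M →ₗ[R] M'} {g : N →ₗ[R] N'}
    (hf : IsBaseChange S f) (hg : IsBaseChange S g) : IsBaseChange S (f.prodMap g) := by
  apply IsBaseChange.of_equiv ((TensorProduct.prodRight R S S M N).trans
    (hf.equiv.prodCongr hg.equiv))
  intro x
  obtain ⟨m, n⟩ := x
  simp [IsBaseChange.equiv_tmul]

theorem isBaseChange_of_subsingleton {R S : Type u} [CommRing R] [CommRing S] [Algebra R S]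
    {M M' : Type u} [AddCommGroup M] [AddCommGroup M']
    [Module R M] [Module R M'] [Module S M'] [IsScalarTower R S M'] [Subsingleton M]
    [Subsingleton M'] (f : M →ₗ[R] M') : IsBaseChange S f := by
  have : Subsingleton (S ⊗[R] M) := inferInstance
  apply IsBaseChange.of_equiv (LinearEquiv.ofSubsingleton _ _)
  intro x
  exact Subsingleton.elim _ _

theorem isBCAlong_prod {R S : Type u} [CommRing R] [CommRing S] (g : R →+* S)
    {M N M' N' : Type u} [AddCommGroup M] [AddCommGroup N] [AddCommGroup M'] [AddCommGroup N']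
    [Module R M] [Module R N] [Module S M'] [Module S N'] (f : M →ₛₗ[g] M') (f' : N →ₛₗ[g] N')
    (hf : IsBCAlong g f) (hf' : IsBCAlong g f') (F : (M × N) →ₛₗ[g] (M' × N'))
    (hF : ∀ x, F x = (f x.1, f' x.2)) : IsBCAlong g F := by
  unfold IsBCAlong at hf hf' ⊢
  letI : Algebra R S := g.toAlgebra
  letI : Module R M' := Module.compHom M' g
  letI : Module R N' := Module.compHom N' g
  letI : Module R (M' × N') := Module.compHom (M' × N') g
  haveI : IsScalarTower R S M' := IsScalarTower.of_algebraMap_smul fun _ _ => rfl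
  haveI : IsScalarTower R S N' := IsScalarTower.of_algebraMap_smul fun _ _ => rfl
  haveI : IsScalarTower R S (M' × N') := IsScalarTower.of_algebraMap_smul fun _ _ => rfl
  apply IsBaseChange.of_equiv ((TensorProduct.prodRight R S S M N).trans
    (hf.equiv.prodCongr hf'.equiv))
  rintro ⟨m, n⟩
  change _ = F (m, n)
  rw [hF]
  simp [IsBaseChange.equiv_tmul]

end bc

section et

theorem etale_punit (R : Type u) [CommRing R] : Algebra.Etale R PUnit.{u+1} := by
  have : Algebra.Etale R (PEmpty.{u+1} → R) := inferInstance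
  let e : (PEmpty.{u+1} → R) ≃ₐ[R] PUnit.{u+1} :=
    { toFun := fun _ => PUnit.unit
      invFun := fun _ => fun x => x.elim
      left_inv := fun f => by ext x; exact x.elim
      right_inv := fun _ => rfl
      map_mul' := fun _ _ => rfl
      map_add' := fun _ _ => rfl
      commutes' := fun _ => rfl }
  exact Algebra.Etale.of_equiv e

theorem etale_prod (R A B : Type u) [CommRing R] [CommRing A] [CommRing B] [Algebra R A]
    [Algebra R B] [Algebra.Etale R A] [Algebra.Etale R B] : Algebra.Etale R (A × B) := by
  let F : Bool → Type u := fun b => cond b A B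
  letI i1 : ∀ i, CommRing (F i) := fun i => by
    cases i
    · exact (inferInstance : CommRing B)
    · exact (inferInstance : CommRing A)
  letI i2 : ∀ i, Algebra R (F i) := fun i => by
    cases i
    · exact (inferInstance : Algebra R B)
    · exact (inferInstance : Algebra R A)
  haveI : ∀ i, Algebra.Etale R (F i) := fun i => by
    cases i
    · exact (inferInstance : Algebra.Etale R B)
    · exact (inferInstance : Algebra.Etale R A)
  have : Algebra.Etale R (Π i, F i) := inferInstance
  let e : (Π i, F i) ≃ₐ[R] (A × B) :=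
    { toFun := fun f => (f true, f false)
      invFun := fun p => fun b => match b with
        | true => p.1
        | false => p.2
      left_inv := fun f => by
        funext b
        cases b <;> rfl
      right_inv := fun _ => rfl
      map_mul' := fun _ _ => rfl
      map_add' := fun _ _ => rfl
      commutes' := fun _ => rfl }
  exact Algebra.Etale.of_equiv e

end et

section algs
variable (X : RSpace.{u})

/-- the zero algebra -/
def zeroAlg : Alg X where
  carrier _ := PUnit.{u+1}
  res _ := RingHom.id _
  res_algebraMap _ _ := rfl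
  res_self _ _ := rfl
  res_comp _ _ _ := rfl

theorem zeroAlg_isEtCover : (zeroAlg X).IsEtCover := by
  refine ⟨?_, fun p => ⟨?_, ?_⟩⟩
  · intro p q h
    unfold IsBCAlong
    exact @isBaseChange_of_subsingleton _ _ _ _ (_) _ _ _ _ _ (_) _ (_)
      (inferInstanceAs (Subsingleton PUnit)) (inferInstanceAs (Subsingleton PUnit)) _
  · exact (inferInstance : Module.Finite (X.ring p) PUnit.{u+1})
  · exact etale_punit _

variable {X}

/-- the product algebra -/
def prodAlg (A B : Alg X) : Alg X where
  carrier p := A.carrier p × B.carrier p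
  res h := RingHom.prodMap (A.res h) (B.res h)
  res_algebraMap h a := by
    change (A.res h (algebraMap _ _ a), B.res h (algebraMap _ _ a)) = _
    rw [A.res_algebraMap, B.res_algebraMap]
    rfl
  res_self p b := by
    change (A.res _ b.1, B.res _ b.2) = b
    rw [A.res_self, B.res_self]
  res_comp h h' b := by
    change (A.res h' (A.res h b.1), B.res h' (B.res h b.2)) = (A.res _ b.1, B.res _ b.2)
    rw [A.res_comp, B.res_comp]

theorem prodAlg_isEtCover (A B : Alg X) (hA : A.IsEtCover) (hB : B.IsEtCover) :
    (prodAlg A B).IsEtCover := by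
  refine ⟨?_, fun p => ⟨?_, ?_⟩⟩
  · intro p q h
    exact isBCAlong_prod (X.res h) (A.toMod.res h) (B.toMod.res h) (hA.1 p q h) (hB.1 p q h)
      ((prodAlg A B).toMod.res h) (fun _ => rfl)
  · haveI := (hA.2 p).1
    haveI := (hB.2 p).1
    exact (inferInstance : Module.Finite (X.ring p) (A.carrier p × B.carrier p))
  · haveI := (hA.2 p).2
    haveI := (hB.2 p).2
    exact etale_prod _ _ _

end algs

section cat
variable (X : RSpace.{u})

def toZero (A : Alg X) : A ⟶ zeroAlg X :=
  ⟨fun p =>
    { toFun := fun _ => PUnit.unit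
      map_one' := rfl
      map_mul' := fun _ _ => rfl
      map_zero' := rfl
      map_add' := fun _ _ => rfl
      commutes' := fun _ => rfl }, fun _ _ => rfl⟩

theorem hasTerminal_FEt : HasTerminal (FEt X) := by
  let T : FEt X := ⟨zeroAlg X, zeroAlg_isEtCover X⟩
  haveI : ∀ Y : FEt X, Unique (Y ⟶ T) := fun Y =>
    { default := ObjectProperty.homMk (toZero X Y.obj)
      uniq := fun f => by
        apply ObjectProperty.hom_ext
        apply Alg.hom_ext
        intro p
        apply AlgHom.ext
        intro c
        exact Subsingleton.elim (α := PUnit) _ _ }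
  exact hasTerminal_of_unique T

variable {X}

def pfst (A B : Alg X) : prodAlg A B ⟶ A :=
  ⟨fun p => AlgHom.fst _ _ _, fun _ _ => rfl⟩

def psnd (A B : Alg X) : prodAlg A B ⟶ B :=
  ⟨fun p => AlgHom.snd _ _ _, fun _ _ => rfl⟩

def plift {A B C : Alg X} (f : C ⟶ A) (g : C ⟶ B) : C ⟶ prodAlg A B :=
  ⟨fun p => AlgHom.prod (f.app p) (g.app p), fun h b => by
    change (A.res h (f.app _ b), B.res h (g.app _ b)) = (f.app _ (C.res h b), g.app _ (C.res h b))
    rw [f.compat, g.compat]⟩

theorem hasBinaryProducts_FEt : HasBinaryProducts (FEt X) := by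
  haveI : ∀ A B : FEt X, HasLimit (pair A B) := by
    intro A B
    let P : FEt X := ⟨prodAlg A.obj B.obj, prodAlg_isEtCover A.obj B.obj A.property B.property⟩
    let fan : BinaryFan A B := BinaryFan.mk (P := P) (ObjectProperty.homMk (pfst A.obj B.obj))
      (ObjectProperty.homMk (psnd A.obj B.obj))
    refine ⟨⟨⟨fan, BinaryFan.IsLimit.mk fan
      (fun {T} f g => ObjectProperty.homMk (plift f.hom g.hom)) ?_ ?_ ?_⟩⟩⟩
    · intro T f g
      apply ObjectProperty.hom_ext
      apply Alg.hom_ext
      intro p
      apply AlgHom.ext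
      intro c
      rfl
    · intro T f g
      apply ObjectProperty.hom_ext
      apply Alg.hom_ext
      intro p
      apply AlgHom.ext
      intro c
      rfl
    · intro T f g m h1 h2
      apply ObjectProperty.hom_ext
      apply Alg.hom_ext
      intro p
      apply AlgHom.ext
      intro c
      have e1 := congrArg (fun k => (k.hom.app p) c) h1
      have e2 := congrArg (fun k => (k.hom.app p) c) h2
      exact Prod.ext e1 e2
  exact hasBinaryProducts_of_hasLimit_pair _

end cat

section idem

theorem idem_unique {A : Type u} [CommRing A] {e e' : A} (he : IsIdempotentElem e)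
    (he' : IsIdempotentElem e') (h : Ideal.span {e} = Ideal.span {e'}) : e = e' := by
  have h1 : e ∈ Ideal.span {e'} := h ▸ Ideal.subset_span rfl
  have h2 : e' ∈ Ideal.span {e} := h.symm ▸ Ideal.subset_span rfl
  obtain ⟨a, ha⟩ := Ideal.mem_span_singleton'.1 h1
  obtain ⟨b, hb⟩ := Ideal.mem_span_singleton'.1 h2
  have e1 : e * e' = e := by rw [← ha, mul_assoc, he'.eq]
  have e2 : e' * e = e' := by rw [← hb, mul_assoc, he.eq]
  rw [← e1, mul_comm, e2]

theorem exists_idem_ker {A B : Type u} [CommRing A] [CommRing B] [Algebra A B]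
    [Module.Finite A B] [Module.Projective A B] :
    ∃ e : A, IsIdempotentElem e ∧ RingHom.ker (algebraMap A B) = Ideal.span {e} := by
  obtain ⟨n, f, g, -, hg, hfg⟩ := Module.Finite.exists_comp_eq_id_of_projective A B
  have hfg' : ∀ b, f (g b) = b := fun b => LinearMap.congr_fun hfg b
  let c : Fin n → Fin n → A := fun i j => g (f (Pi.single j 1)) i
  let T : Ideal A := Ideal.span (Set.range (fun ij : Fin n × Fin n => c ij.1 ij.2))
  have hc : ∀ i j, c i j ∈ T := fun i j => Ideal.subset_span ⟨(i, j), rfl⟩
  have hE : ∀ (x : Fin n → A) (i : Fin n), g (f x) i = ∑ k, x k * c i k := by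
    intro x i
    have : x = ∑ k, x k • (Pi.single k 1 : Fin n → A) := by
      funext j
      simp [Finset.sum_apply, Pi.single_apply]
    conv_lhs => rw [this]
    simp only [map_sum, map_smul, Finset.sum_apply, Pi.smul_apply, smul_eq_mul]
    rfl
  have hTfg : T.FG := Submodule.fg_span (Set.finite_range _)
  have hTT : IsIdempotentElem T := by
    apply le_antisymm Ideal.mul_le_right
    apply Ideal.span_le.2
    rintro _ ⟨⟨i, j⟩, rfl⟩
    have h1 : c i j = ∑ k, c k j * c i k := by
      have := hE (g (f (Pi.single j 1))) i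
      rw [hfg'] at this
      exact this
    change c i j ∈ T * T
    rw [h1]
    exact Ideal.sum_mem _ fun k _ => Ideal.mul_mem_mul (hc k j) (hc i k)
  obtain ⟨t, ht, hTt⟩ := (Ideal.isIdempotentElem_iff_of_fg T hTfg).1 hTT
  refine ⟨1 - t, ht.one_sub, ?_⟩
  have hkill : ∀ b : B, (1 - t) • b = 0 := by
    intro b
    apply hg
    rw [map_smul, map_zero]
    funext i
    have h1 : g b i ∈ T := by
      have := hE (g b) i
      rw [hfg'] at this
      rw [this]
      exact Ideal.sum_mem _ fun k _ => Ideal.mul_mem_left _ _ (hc i k)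
    rw [hTt] at h1
    obtain ⟨a, ha⟩ := Ideal.mem_span_singleton'.1 h1
    change (1 - t) * g b i = 0
    rw [← ha, mul_comm a t, ← mul_assoc, sub_mul, one_mul, ht.eq, sub_self, zero_mul]
  ext a
  rw [RingHom.mem_ker, Ideal.mem_span_singleton']
  constructor
  · intro ha
    have hab : ∀ b : B, a • b = 0 := by
      intro b
      rw [Algebra.smul_def, ha, zero_mul]
    have hat : a * t = 0 := by
      have ht' : t ∈ T := hTt ▸ Ideal.subset_span rfl
      have : ∀ x ∈ T, a * x = 0 := by
        intro x hx
        refine Submodule.span_induction ?_ ?_ ?_ ?_ hx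
        · rintro _ ⟨⟨i, j⟩, rfl⟩
          have h2 := hab (f (Pi.single j 1))
          have h3 : g (a • f (Pi.single j 1)) i = 0 := by rw [h2, map_zero]; rfl
          rw [map_smul] at h3
          exact h3
        · exact mul_zero a
        · intro x y _ _ hx hy
          rw [mul_add, hx, hy, add_zero]
        · intro r x _ hx
          rw [smul_eq_mul, mul_left_comm, hx, mul_zero]
      exact this t ht'
    exact ⟨a, by rw [mul_sub, mul_one, hat, sub_zero]⟩
  · rintro ⟨r, rfl⟩
    rw [map_mul, Algebra.algebraMap_eq_smul_one (1 - t), hkill, mul_zero]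

end idem

section etker

theorem exists_idem_ker_algHom {R A B : Type u} [CommRing R] [CommRing A] [CommRing B]
    [Algebra R A] [Algebra R B] [IsNoetherianRing R] [Module.Finite R A] [Module.Finite R B]
    [Algebra.Etale R A] [Algebra.Etale R B] (f : A →ₐ[R] B) :
    ∃ e : A, IsIdempotentElem e ∧ RingHom.ker f = Ideal.span {e} := by
  letI : Algebra A B := f.toRingHom.toAlgebra
  haveI : IsScalarTower R A B := IsScalarTower.of_algebraMap_eq fun r => (f.commutes r).symm
  haveI : Algebra.Etale A B := Algebra.Etale.of_restrictScalars R A B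
  haveI : Module.Finite A B := Module.Finite.of_restrictScalars_finite R A B
  haveI : IsNoetherianRing A := Algebra.FiniteType.isNoetherianRing R A
  haveI : Module.FinitePresentation A B := Module.finitePresentation_of_finite A B
  haveI : Module.Flat A B := inferInstance
  haveI : Module.Projective A B := Module.Flat.projective_of_finitePresentation
  obtain ⟨e, he, hk⟩ := exists_idem_ker (A := A) (B := B)
  exact ⟨e, he, hk⟩

end etker

section kerbc

theorem ker_bc {R S : Type u} [CommRing R] [CommRing S] (g : R →+* S) (hflat : g.Flat)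
    {M N M' N' : Type u} [AddCommGroup M] [AddCommGroup N] [AddCommGroup M'] [AddCommGroup N']
    [Module R M] [Module R N] [Module S M'] [Module S N'] (φ : M →ₛₗ[g] M') (ψ : N →ₛₗ[g] N')
    (hφ : IsBCAlong g φ) (hψ : IsBCAlong g ψ) (u : M →ₗ[R] N) (u' : M' →ₗ[S] N')
    (hu : ∀ m, u' (φ m) = ψ (u m)) (x : M') (hx : u' x = 0) :
    x ∈ Submodule.span S (φ '' (LinearMap.ker u : Set M)) := by
  unfold IsBCAlong at hφ hψ
  letI : Algebra R S := g.toAlgebra
  letI : Module R M' := Module.compHom M' g
  letI : Module R N' := Module.compHom N' g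
  haveI : IsScalarTower R S M' := IsScalarTower.of_algebraMap_smul fun _ _ => rfl
  haveI : IsScalarTower R S N' := IsScalarTower.of_algebraMap_smul fun _ _ => rfl
  haveI : Module.Flat R S := hflat
  have hsq : ∀ y : S ⊗[R] M, u' (hφ.equiv y) =
      hψ.equiv ((TensorProduct.AlgebraTensorModule.lTensor S S u) y) := by
    intro y
    induction y using TensorProduct.induction_on with
    | zero => simp
    | tmul s m =>
      rw [IsBaseChange.equiv_tmul, TensorProduct.AlgebraTensorModule.lTensor_tmul,
        IsBaseChange.equiv_tmul, map_smul]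
      congr 1
      exact hu m
    | add a b ha hb => rw [map_add, map_add, ha, hb, map_add, map_add]
  have hmem : ∀ z : S ⊗[R] (LinearMap.ker u),
      hφ.equiv ((TensorProduct.AlgebraTensorModule.lTensor S S (LinearMap.ker u).subtype) z) ∈
        Submodule.span S (φ '' (LinearMap.ker u : Set M)) := by
    intro z
    induction z using TensorProduct.induction_on with
    | zero => simp
    | tmul s k =>
      rw [TensorProduct.AlgebraTensorModule.lTensor_tmul, IsBaseChange.equiv_tmul]
      exact Submodule.smul_mem _ _ (Submodule.subset_span ⟨k.1, k.2, rfl⟩)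
    | add a b ha hb =>
      rw [map_add, map_add]
      exact Submodule.add_mem _ ha hb
  obtain ⟨y, rfl⟩ := hφ.equiv.surjective x
  have hy : y ∈ LinearMap.ker (TensorProduct.AlgebraTensorModule.lTensor S S u) := by
    rw [LinearMap.mem_ker]
    apply hψ.equiv.injective
    rw [← hsq, hx, map_zero]
  rw [Module.Flat.ker_lTensor_eq S S u] at hy
  obtain ⟨z, rfl⟩ := hy
  exact hmem z

end kerbc

section family
open CategoryTheory

theorem ker_res_eq (X : RSpace.{u}) (hX : X.IsFinSp) {A B : Alg X} (hA : A.IsQcoh)
    (hB : B.IsQcoh) (f : A ⟶ B) {p q : X.pt} (h : p ≤ q) (e : A.carrier p)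
    (he : RingHom.ker (f.app p) = Ideal.span {e}) :
    RingHom.ker (f.app q) = Ideal.span {A.res h e} := by
  apply le_antisymm
  · intro x hx
    have hx' : (f.app q).toLinearMap x = 0 := hx
    have := ker_bc (X.res h) (hX.2 p q h) (A.toMod.res h) (B.toMod.res h) (hA p q h) (hB p q h)
      (f.app p).toLinearMap (f.app q).toLinearMap (fun m => (f.compat h m).symm) x hx'
    have hle : Submodule.span (X.ring q) ((A.toMod.res h) '' (LinearMap.ker (f.app p).toLinearMap : Set (A.carrier p))) ≤
        (Ideal.span {A.res h e}).restrictScalars (X.ring q) := by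
      apply Submodule.span_le.2
      rintro _ ⟨k, hk, rfl⟩
      have hmem : ∀ k' : A.carrier p, k' ∈ RingHom.ker (f.app p) →
          A.res h k' ∈ Ideal.span {A.res h e} := by
        intro k' hk'
        rw [he] at hk'
        obtain ⟨a, rfl⟩ := Ideal.mem_span_singleton'.1 hk'
        rw [map_mul]
        exact Ideal.mul_mem_left _ _ (Ideal.subset_span rfl)
      exact hmem k hk
    exact hle this
  · rw [Ideal.span_le, Set.singleton_subset_iff]
    change f.app q (A.res h e) = 0
    rw [← f.compat]
    have : e ∈ RingHom.ker (f.app p) := he ▸ Ideal.subset_span rfl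
    change B.res h (f.app p e) = 0
    rw [show f.app p e = 0 from this, map_zero]

theorem exists_idem_family (X : RSpace.{u}) (hX : X.IsFinSp) {A B : Alg X} (hA : A.IsEtCover)
    (hB : B.IsEtCover) (f : A ⟶ B) :
    ∃ e : ∀ p, A.carrier p, (∀ p, IsIdempotentElem (e p)) ∧
      (∀ p, RingHom.ker (f.app p) = Ideal.span {e p}) ∧
      ∀ {p q : X.pt} (h : p ≤ q), A.res h (e p) = e q := by
  have hex : ∀ p, ∃ e : A.carrier p, IsIdempotentElem e ∧ RingHom.ker (f.app p) = Ideal.span {e} := by
    intro p
    haveI := hX.1 p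
    haveI := (hA.2 p).1
    haveI := (hA.2 p).2
    haveI := (hB.2 p).1
    haveI := (hB.2 p).2
    exact exists_idem_ker_algHom (f.app p)
  choose e he hk using hex
  refine ⟨e, he, hk, ?_⟩
  intro p q h
  apply idem_unique ((he p).map (A.res h)) (he q)
  rw [← ker_res_eq X hX hA.1 hB.1 f h (e p) (hk p), hk q]

end family

section quot

theorem isBCAlong_quot {R S : Type u} [CommRing R] [CommRing S] (g : R →+* S)
    {A A' : Type u} [CommRing A] [CommRing A'] [Algebra R A] [Algebra S A'] (ρ : A →+* A')
    (φ : A →ₛₗ[g] A') (hφρ : ∀ a, φ a = ρ a) (hφ : IsBCAlong g φ) (e : A)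
    (φ' : (A ⧸ Ideal.span {e}) →ₛₗ[g] (A' ⧸ Ideal.span {ρ e}))
    (hφ' : ∀ a, φ' (Ideal.Quotient.mk _ a) = Ideal.Quotient.mk _ (ρ a)) : IsBCAlong g φ' := by
  unfold IsBCAlong at hφ ⊢
  letI : Algebra R S := g.toAlgebra
  letI : Module R A' := Module.compHom A' g
  letI : Module R (A' ⧸ Ideal.span {ρ e}) := Module.compHom _ g
  haveI : IsScalarTower R S A' := IsScalarTower.of_algebraMap_smul fun _ _ => rfl
  haveI : IsScalarTower R S (A' ⧸ Ideal.span {ρ e}) :=
    IsScalarTower.of_algebraMap_smul fun _ _ => rfl
  let h₂ : A →ₗ[R] A' := { toFun := φ, map_add' := φ.map_add, map_smul' := φ.map_smulₛₗ }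
  let h₃ : (A ⧸ Ideal.span {e}) →ₗ[R] (A' ⧸ Ideal.span {ρ e}) :=
    { toFun := φ', map_add' := φ'.map_add, map_smul' := φ'.map_smulₛₗ }
  let f : A →ₗ[R] A := LinearMap.mulLeft R e
  let f' : A' →ₗ[S] A' := LinearMap.mulLeft S (ρ e)
  let gq : A →ₗ[R] (A ⧸ Ideal.span {e}) := (Ideal.Quotient.mkₐ R (Ideal.span {e})).toLinearMap
  let gq' : A' →ₗ[S] (A' ⧸ Ideal.span {ρ e}) :=
    (Ideal.Quotient.mkₐ S (Ideal.span {ρ e})).toLinearMap
  have hex : ∀ (B : Type u) [CommRing B] (b : B),
      Function.Exact (fun x : B => b * x) (Ideal.Quotient.mk (Ideal.span {b})) := by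
    intro B _ b y
    rw [Ideal.Quotient.eq_zero_iff_mem, Ideal.mem_span_singleton']
    constructor
    · rintro ⟨a, rfl⟩
      exact ⟨a, mul_comm _ _⟩
    · rintro ⟨a, rfl⟩
      exact ⟨a, mul_comm _ _⟩
  refine IsBaseChange.of_right_exact S h₂ h₂ h₃ (f := f) (g := gq) (f' := f') (g' := gq')
    ?_ ?_ hφ hφ (hex A e) Ideal.Quotient.mk_surjective (hex A' (ρ e))
    Ideal.Quotient.mk_surjective
  · ext a
    change φ (e * a) = ρ e * φ a
    rw [hφρ, hφρ, map_mul]
  · ext a
    change φ' (Ideal.Quotient.mk _ a) = Ideal.Quotient.mk _ (φ a)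
    rw [hφ', hφρ]

end quot

section quotalg
open CategoryTheory
variable {X : RSpace.{u}}

theorem etale_quot_idem {R A : Type u} [CommRing R] [CommRing A] [Algebra R A]
    [Algebra.Etale R A] {e : A} (he : IsIdempotentElem e) :
    Algebra.Etale R (A ⧸ Ideal.span {e}) := by
  haveI : Algebra.FormallyEtale A (A ⧸ Ideal.span {e}) := by
    rw [Algebra.FormallyEtale.iff_of_surjective Ideal.Quotient.mk_surjective]
    rw [Ideal.Quotient.algebraMap_eq, Ideal.mk_ker]
    change Ideal.span {e} * Ideal.span {e} = Ideal.span {e}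
    rw [Ideal.span_singleton_mul_span_singleton, he.eq]
  haveI : Algebra.FinitePresentation A (A ⧸ Ideal.span {e}) :=
    Algebra.FinitePresentation.quotient ⟨{e}, by simp⟩
  haveI : Algebra.Etale A (A ⧸ Ideal.span {e}) := {}
  exact Algebra.Etale.comp R A _

/-- quotient of an algebra by a compatible family of elements -/
def quotAlg (A : Alg X) (e : ∀ p, A.carrier p)
    (he : ∀ {p q : X.pt} (h : p ≤ q), A.res h (e p) = e q) : Alg X where
  carrier p := A.carrier p ⧸ Ideal.span {e p}
  res {p q} h := Ideal.quotientMap (Ideal.span {e q}) (A.res h) (by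
    rw [Ideal.span_le, Set.singleton_subset_iff]
    change A.res h (e p) ∈ Ideal.span {e q}
    rw [he h]
    exact Ideal.subset_span rfl)
  res_algebraMap h a := by
    change Ideal.quotientMap _ _ _ (Ideal.Quotient.mk _ (algebraMap _ _ a)) =
      Ideal.Quotient.mk _ (algebraMap _ _ _)
    rw [Ideal.quotientMap_mk, A.res_algebraMap]
  res_self p b := by
    obtain ⟨b, rfl⟩ := Ideal.Quotient.mk_surjective b
    rw [Ideal.quotientMap_mk, A.res_self]
  res_comp h h' b := by
    obtain ⟨b, rfl⟩ := Ideal.Quotient.mk_surjective b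
    rw [Ideal.quotientMap_mk, Ideal.quotientMap_mk, Ideal.quotientMap_mk, A.res_comp]

theorem quotAlg_isEtCover (A : Alg X) (hA : A.IsEtCover) (e : ∀ p, A.carrier p)
    (he : ∀ {p q : X.pt} (h : p ≤ q), A.res h (e p) = e q) (hid : ∀ p, IsIdempotentElem (e p)) :
    (quotAlg A e he).IsEtCover := by
  refine ⟨?_, fun p => ⟨?_, ?_⟩⟩
  · intro p q h
    have key := isBCAlong_quot (X.res h) (A.res h) (A.toMod.res h) (fun _ => rfl) (hA.1 p q h) (e p)
    rw [he h] at key
    exact key ((quotAlg A e he).toMod.res h) (fun a => rfl)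
  · haveI := (hA.2 p).1
    exact (inferInstance : Module.Finite (X.ring p) (A.carrier p ⧸ Ideal.span {e p}))
  · haveI := (hA.2 p).2
    exact etale_quot_idem (hid p)

/-- the quotient morphism -/
def quotMk (A : Alg X) (e : ∀ p, A.carrier p)
    (he : ∀ {p q : X.pt} (h : p ≤ q), A.res h (e p) = e q) : A ⟶ quotAlg A e he :=
  ⟨fun p => Ideal.Quotient.mkₐ _ _, fun h b => rfl⟩

end quotalg


end Groth.Agent.Helper23.FEtLib
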