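import Groth.Agent.Lib.Helper23.FEtLib
import Mathlib

set_option autoImplicit false
universe u
open SchFin TensorProduct

/-! helper23: pushouts (tensor products) and the initial object in the category of étale covers of a
finite ringed poset. -/

namespace Groth.Agent.Helper23.FEtPush
open CategoryTheory CategoryTheory.Limits Groth.Agent.Helper23.FEtLib

section constr
variable {X : RSpace.{u}}

/-- `A` as an algebra over the ringed poset of `C`, along `f : C ⟶ A` -/
def overAlg {A C : Alg X} (f : C ⟶ A) : Alg C.total where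
  carrier := A.carrier
  instRing := A.instRing
  instAlg := fun p => (f.app p).toRingHom.toAlgebra
  res := fun h => A.res h
  res_algebraMap := fun h a => f.compat h a
  res_self := A.res_self
  res_comp := fun h h' b => A.res_comp h h' b

/-- restriction of scalars of an algebra over `C.total` to `X` -/
def downAlg (C : Alg X) (T : Alg C.total) : Alg X where
  carrier := T.carrier
  instRing := T.instRing
  instAlg := fun p =>
    ((algebraMap (C.total.ring p) (T.carrier p)).comp
      (algebraMap (X.ring p) (C.carrier p) : X.ring p →+* C.total.ring p)).toAlgebra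
  res := fun h => T.res h
  res_algebraMap := fun {p q} h a => by
    change T.res h (algebraMap (C.total.ring p) (T.carrier p)
        (algebraMap (X.ring p) (C.carrier p) a)) =
      algebraMap (C.total.ring q) (T.carrier q) (algebraMap (X.ring q) (C.carrier q) (X.res h a))
    rw [← C.res_algebraMap]
    exact T.res_algebraMap h _
  res_self := T.res_self
  res_comp := fun h h' b => T.res_comp h h' b

end constr

section tens
variable {Y : RSpace.{u}} (A B : Alg Y)

/-- the restriction map of the tensor product -/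
noncomputable def tensRes {p q : Y.pt} (h : p ≤ q) :
    (A.carrier p ⊗[Y.ring p] B.carrier p) →+* (A.carrier q ⊗[Y.ring q] B.carrier q) :=
  letI : Algebra (Y.ring p) (A.carrier q ⊗[Y.ring q] B.carrier q) :=
    ((algebraMap (Y.ring q) (A.carrier q ⊗[Y.ring q] B.carrier q)).comp (Y.res h)).toAlgebra
  let φA : A.carrier p →ₐ[Y.ring p] (A.carrier q ⊗[Y.ring q] B.carrier q) :=
    { toRingHom := (Algebra.TensorProduct.includeLeftRingHom).comp (A.res h)
      commutes' := fun y => by
        change (A.res h (algebraMap _ _ y)) ⊗ₜ[Y.ring q] (1 : B.carrier q) =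
          algebraMap (Y.ring q) _ (Y.res h y)
        rw [A.res_algebraMap, Algebra.TensorProduct.algebraMap_apply] }
  let φB : B.carrier p →ₐ[Y.ring p] (A.carrier q ⊗[Y.ring q] B.carrier q) :=
    { toRingHom := (Algebra.TensorProduct.includeRight.toRingHom).comp (B.res h)
      commutes' := fun y => by
        change (1 : A.carrier q) ⊗ₜ[Y.ring q] (B.res h (algebraMap _ _ y)) =
          algebraMap (Y.ring q) _ (Y.res h y)
        rw [B.res_algebraMap, Algebra.TensorProduct.algebraMap_apply,
          Algebra.TensorProduct.tmul_one_eq_one_tmul] }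
  (Algebra.TensorProduct.productMap φA φB).toRingHom

theorem tensRes_tmul {p q : Y.pt} (h : p ≤ q) (a : A.carrier p) (b : B.carrier p) :
    tensRes A B h (a ⊗ₜ b) = A.res h a ⊗ₜ B.res h b := by
  unfold tensRes
  simp only [AlgHom.toRingHom_eq_coe, RingHom.coe_coe,
    Algebra.TensorProduct.productMap_apply_tmul]
  change (A.res h a ⊗ₜ[Y.ring q] (1 : B.carrier q)) * ((1 : A.carrier q) ⊗ₜ[Y.ring q] B.res h b) = _
  rw [Algebra.TensorProduct.tmul_mul_tmul, mul_one, one_mul]

end tens

section tensalg
variable {Y : RSpace.{u}} (A B : Alg Y)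

/-- the tensor product of two algebras over a ringed poset -/
noncomputable def tensorAlg : Alg Y where
  carrier p := A.carrier p ⊗[Y.ring p] B.carrier p
  res h := tensRes A B h
  res_algebraMap h a := by
    rw [Algebra.TensorProduct.algebraMap_apply, tensRes_tmul, A.res_algebraMap, map_one,
      Algebra.TensorProduct.algebraMap_apply]
  res_self p b := by
    induction b using TensorProduct.induction_on with
    | zero => exact map_zero _
    | tmul a b => rw [tensRes_tmul, A.res_self, B.res_self]
    | add x y hx hy => rw [map_add, hx, hy]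
  res_comp h h' b := by
    induction b using TensorProduct.induction_on with
    | zero => simp
    | tmul a b => rw [tensRes_tmul, tensRes_tmul, tensRes_tmul, A.res_comp, B.res_comp]
    | add x y hx hy => rw [map_add, map_add, map_add, hx, hy]

end tensalg

section sqpo

/-- the square of commutative rings `R → S`, `R → A`, `S → B`, `A → B` is a pushout -/
def SqPO {R S A B : Type u} [CommRing R] [CommRing S] [CommRing A] [CommRing B]
    (g : R →+* S) (a : R →+* A) (b : S →+* B) (ρ : A →+* B) : Prop :=
  CategoryTheory.IsPushout (CommRingCat.ofHom g) (CommRingCat.ofHom a) (CommRingCat.ofHom b)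
    (CommRingCat.ofHom ρ)

variable {R S A B : Type u} [CommRing R] [CommRing S] [CommRing A] [CommRing B]

theorem SqPO.flip {g : R →+* S} {a : R →+* A} {b : S →+* B} {ρ : A →+* B} (h : SqPO g a b ρ) :
    SqPO a g ρ b := CategoryTheory.IsPushout.flip h

theorem SqPO.paste {T C : Type u} [CommRing T] [CommRing C] {g : R →+* S} {g' : S →+* T}
    {a : R →+* A} {b : S →+* B} {c : T →+* C} {ρ : A →+* B} {ρ' : B →+* C}
    (h1 : SqPO g a b ρ) (h2 : SqPO g' b c ρ') : SqPO (g'.comp g) a c (ρ'.comp ρ) := by
  unfold SqPO at *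
  rw [CommRingCat.ofHom_comp, CommRingCat.ofHom_comp]
  exact h1.paste_horiz h2

theorem SqPO.of_right {T C : Type u} [CommRing T] [CommRing C] {g : R →+* S} {g' : S →+* T}
    {a : R →+* A} {b : S →+* B} {c : T →+* C} {ρ : A →+* B} {ρ' : B →+* C}
    (h1 : SqPO g a b ρ) (h : SqPO (g'.comp g) a c (ρ'.comp ρ)) (hc : c.comp g' = ρ'.comp b) :
    SqPO g' b c ρ' := by
  unfold SqPO at *
  rw [CommRingCat.ofHom_comp, CommRingCat.ofHom_comp] at h
  refine CategoryTheory.IsPushout.of_left h ?_ h1
  rw [← CommRingCat.ofHom_comp, ← CommRingCat.ofHom_comp, hc]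

theorem sqPO_tensor (C A B : Type u) [CommRing C] [CommRing A] [CommRing B] [Algebra C A]
    [Algebra C B] : SqPO (algebraMap C A) (algebraMap C B)
      (Algebra.TensorProduct.includeLeftRingHom : A →+* A ⊗[C] B)
      (Algebra.TensorProduct.includeRight.toRingHom : B →+* A ⊗[C] B) :=
  CommRingCat.isPushout_tensorProduct C A B

theorem sqPO_iff_isBCAlong [Algebra R A] [Algebra S B] (g : R →+* S) (ρ : A →+* B)
    (hcomm : ∀ r, ρ (algebraMap R A r) = algebraMap S B (g r)) (φ : A →ₛₗ[g] B)
    (hφ : ∀ x, φ x = ρ x) :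
    IsBCAlong g φ ↔ SqPO g (algebraMap R A) (algebraMap S B) ρ := by
  unfold IsBCAlong SqPO
  letI : Algebra R S := g.toAlgebra
  letI : Algebra A B := ρ.toAlgebra
  letI : Algebra R B := Algebra.compHom B g
  haveI : IsScalarTower R S B := IsScalarTower.of_algebraMap_eq fun r => rfl
  haveI : IsScalarTower R A B := IsScalarTower.of_algebraMap_eq fun r => (hcomm r).symm
  have key := CommRingCat.isPushout_iff_isPushout (R := R) (S := A) (R' := S) (S' := B)
  rw [Algebra.isPushout_iff] at key
  have hlin : ({ toFun := φ, map_add' := φ.map_add, map_smul' := φ.map_smulₛₗ } : A →ₗ[R] B) =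
      (IsScalarTower.toAlgHom R A B).toLinearMap := by
    ext x
    exact hφ x
  rw [hlin]
  exact key.symm

end sqpo

section pushalg
variable {X : RSpace.{u}} {A B C : Alg X} (f : C ⟶ A) (g : C ⟶ B)

/-- the pushout algebra `A ⊗_C B` -/
noncomputable def pushAlg : Alg X := downAlg C (tensorAlg (overAlg f) (overAlg g))

theorem pushAlg_isQcoh (hA : A.IsQcoh) (hB : B.IsQcoh) (hC : C.IsQcoh) : (pushAlg f g).IsQcoh := by
  intro p q h
  refine (sqPO_iff_isBCAlong (X.res h) ((pushAlg f g).res h) ((pushAlg f g).res_algebraMap h)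
    ((pushAlg f g).toMod.res h) (fun _ => rfl)).2 ?_
  -- the ring homs
  let A' := overAlg f
  let B' := overAlg g
  let Y := C.total
  let fp : Y.ring p →+* A'.carrier p := algebraMap (Y.ring p) (A'.carrier p)
  let fq : Y.ring q →+* A'.carrier q := algebraMap (Y.ring q) (A'.carrier q)
  let gp : Y.ring p →+* B'.carrier p := algebraMap (Y.ring p) (B'.carrier p)
  let gq : Y.ring q →+* B'.carrier q := algebraMap (Y.ring q) (B'.carrier q)
  let inlp : A'.carrier p →+* A'.carrier p ⊗[Y.ring p] B'.carrier p :=
    Algebra.TensorProduct.includeLeftRingHom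
  let inrp : B'.carrier p →+* A'.carrier p ⊗[Y.ring p] B'.carrier p :=
    Algebra.TensorProduct.includeRight.toRingHom
  let inlq : A'.carrier q →+* A'.carrier q ⊗[Y.ring q] B'.carrier q :=
    Algebra.TensorProduct.includeLeftRingHom
  let inrq : B'.carrier q →+* A'.carrier q ⊗[Y.ring q] B'.carrier q :=
    Algebra.TensorProduct.includeRight.toRingHom
  let ρT : A'.carrier p ⊗[Y.ring p] B'.carrier p →+* A'.carrier q ⊗[Y.ring q] B'.carrier q :=
    tensRes A' B' h
  have S1 : SqPO (X.res h) (algebraMap (X.ring p) (C.carrier p)) (algebraMap (X.ring q) (C.carrier q))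
      (C.res h) :=
    (sqPO_iff_isBCAlong (X.res h) (C.res h) (C.res_algebraMap h) (C.toMod.res h) (fun _ => rfl)).1
      (hC p q h)
  have S2 : SqPO (X.res h) (algebraMap (X.ring p) (A.carrier p)) (algebraMap (X.ring q) (A.carrier q))
      (A.res h) :=
    (sqPO_iff_isBCAlong (X.res h) (A.res h) (A.res_algebraMap h) (A.toMod.res h) (fun _ => rfl)).1
      (hA p q h)
  have S2B : SqPO (X.res h) (algebraMap (X.ring p) (B.carrier p))
      (algebraMap (X.ring q) (B.carrier q)) (B.res h) :=
    (sqPO_iff_isBCAlong (X.res h) (B.res h) (B.res_algebraMap h) (B.toMod.res h) (fun _ => rfl)).1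
      (hB p q h)
  have eA : ∀ r : X.pt, algebraMap (X.ring r) (A.carrier r) =
      (algebraMap (Y.ring r) (A'.carrier r)).comp (algebraMap (X.ring r) (C.carrier r)) := fun r =>
    RingHom.ext fun x => ((f.app r).commutes x).symm
  have eB : ∀ r : X.pt, algebraMap (X.ring r) (B.carrier r) =
      (algebraMap (Y.ring r) (B'.carrier r)).comp (algebraMap (X.ring r) (C.carrier r)) := fun r =>
    RingHom.ext fun x => ((g.app r).commutes x).symm
  have hcA : (A'.res h).comp fp = fq.comp (Y.res h) := RingHom.ext fun c => f.compat h c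
  have hcB : (B'.res h).comp gp = gq.comp (Y.res h) := RingHom.ext fun c => g.compat h c
  have S3 : SqPO fp (Y.res h) (A'.res h) fq := by
    refine SqPO.of_right S1.flip ?_ hcA
    have := S2.flip
    rw [eA p, eA q] at this
    exact this
  have S3B : SqPO gp (Y.res h) (B'.res h) gq := by
    refine SqPO.of_right S1.flip ?_ hcB
    have := S2B.flip
    rw [eB p, eB q] at this
    exact this
  have TPp : SqPO fp gp inlp inrp := sqPO_tensor (Y.ring p) (A'.carrier p) (B'.carrier p)
  have TPq : SqPO fq gq inlq inrq := sqPO_tensor (Y.ring q) (A'.carrier q) (B'.carrier q)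
  have Big1 : SqPO (fq.comp (Y.res h)) gp inlq (inrq.comp (B'.res h)) := SqPO.paste S3B.flip TPq
  have hinr : inrq.comp (B'.res h) = ρT.comp inrp := by
    ext b
    change (1 : A'.carrier q) ⊗ₜ[Y.ring q] (B'.res h b) =
      tensRes A' B' h ((1 : A'.carrier p) ⊗ₜ[Y.ring p] b)
    rw [tensRes_tmul, map_one]
  have hinl : inlq.comp (A'.res h) = ρT.comp inlp := by
    ext a
    change (A'.res h a) ⊗ₜ[Y.ring q] (1 : B'.carrier q) =
      tensRes A' B' h (a ⊗ₜ[Y.ring p] (1 : B'.carrier p))
    rw [tensRes_tmul, map_one]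
  rw [← hcA, hinr] at Big1
  have S5 : SqPO (A'.res h) inlp inlq ρT := SqPO.of_right TPp Big1 hinl
  have S2' : SqPO (algebraMap (X.ring p) (A.carrier p)) (X.res h) (A'.res h)
      (algebraMap (X.ring q) (A.carrier q)) := S2.flip
  have fin := (SqPO.paste S2' S5.flip).flip
  have e1 : ∀ r : X.pt, algebraMap (X.ring r) ((pushAlg f g).carrier r) =
      (Algebra.TensorProduct.includeLeftRingHom :
        A'.carrier r →+* A'.carrier r ⊗[Y.ring r] B'.carrier r).comp
        (algebraMap (X.ring r) (A.carrier r)) := by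
    intro r
    ext x
    have e2 : ∀ (a a' : A'.carrier r), a = a' →
        a ⊗ₜ[Y.ring r] (1 : B'.carrier r) = a' ⊗ₜ[Y.ring r] (1 : B'.carrier r) :=
      fun a a' h => by rw [h]
    exact e2 _ _ ((f.app r).commutes x)
  rw [e1 p, e1 q]
  exact fin

end pushalg

section fet

theorem finite_etale_baseChange {R C A B : Type u} [CommRing R] [CommRing C] [CommRing A]
    [CommRing B] [Algebra R C] [Algebra R B] [Algebra C A] [Algebra C B]
    [IsScalarTower R C B] [Module.Finite R B] [Algebra.Etale R C] [Algebra.Etale R B] :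
    Module.Finite A (A ⊗[C] B) ∧ Algebra.Etale A (A ⊗[C] B) := by
  haveI : Module.Finite C B := Module.Finite.of_restrictScalars_finite R C B
  haveI : Algebra.Etale C B := Algebra.Etale.of_restrictScalars R C B
  exact ⟨inferInstance, inferInstance⟩

theorem finite_etale_trans {R A T : Type u} [CommRing R] [CommRing A] [CommRing T] [Algebra R A]
    [Algebra R T] [Algebra A T] [IsScalarTower R A T] [Module.Finite R A] [Module.Finite A T]
    [Algebra.Etale R A] [Algebra.Etale A T] : Module.Finite R T ∧ Algebra.Etale R T :=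
  ⟨Module.Finite.trans A T, Algebra.Etale.comp R A T⟩

variable {X : RSpace.{u}} {A B C : Alg X} (f : C ⟶ A) (g : C ⟶ B)

theorem pushAlg_isEtCover (hA : A.IsEtCover) (hB : B.IsEtCover) (hC : C.IsEtCover) :
    (pushAlg f g).IsEtCover := by
  refine ⟨pushAlg_isQcoh f g hA.1 hB.1 hC.1, fun p => ?_⟩
  let A' := overAlg f
  let B' := overAlg g
  let Y := C.total
  haveI := (hA.2 p).1
  haveI := (hA.2 p).2
  haveI := (hB.2 p).1
  haveI := (hB.2 p).2
  haveI := (hC.2 p).1
  haveI := (hC.2 p).2
  letI : Algebra (X.ring p) (Y.ring p) := C.instAlg p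
  letI : Algebra (X.ring p) (B'.carrier p) := B.instAlg p
  haveI : IsScalarTower (X.ring p) (Y.ring p) (B'.carrier p) :=
    IsScalarTower.of_algebraMap_eq fun r => ((g.app p).commutes r).symm
  haveI : Module.Finite (X.ring p) (B'.carrier p) := (hB.2 p).1
  haveI : Algebra.Etale (X.ring p) (Y.ring p) := (hC.2 p).2
  haveI : Algebra.Etale (X.ring p) (B'.carrier p) := (hB.2 p).2
  obtain ⟨h1, h2⟩ := finite_etale_baseChange (R := X.ring p) (C := Y.ring p) (A := A'.carrier p)
    (B := B'.carrier p)
  letI : Algebra (A.carrier p) ((pushAlg f g).carrier p) :=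
    (inferInstance : Algebra (A'.carrier p) (A'.carrier p ⊗[Y.ring p] B'.carrier p))
  haveI : IsScalarTower (X.ring p) (A.carrier p) ((pushAlg f g).carrier p) :=
    IsScalarTower.of_algebraMap_eq fun r => by
      have e2 : ∀ (a a' : A'.carrier p), a = a' →
          a ⊗ₜ[Y.ring p] (1 : B'.carrier p) = a' ⊗ₜ[Y.ring p] (1 : B'.carrier p) :=
        fun a a' h => by rw [h]
      exact e2 _ _ ((f.app p).commutes r)
  haveI : Module.Finite (A.carrier p) ((pushAlg f g).carrier p) := h1
  haveI : Algebra.Etale (A.carrier p) ((pushAlg f g).carrier p) := h2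
  exact finite_etale_trans (R := X.ring p) (A := A.carrier p) (T := (pushAlg f g).carrier p)

end fet

section desc

/-- the ring map out of a tensor product of rings determined by two compatible ring maps -/
noncomputable def descRing {C A B E : Type u} [CommRing C] [CommRing A] [CommRing B] [CommRing E]
    [Algebra C A] [Algebra C B] (k1 : A →+* E) (k2 : B →+* E)
    (hk : ∀ c, k1 (algebraMap C A c) = k2 (algebraMap C B c)) : A ⊗[C] B →+* E :=
  letI : Algebra C E := (k1.comp (algebraMap C A)).toAlgebra
  (Algebra.TensorProduct.productMap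
    ({ toRingHom := k1, commutes' := fun c => rfl } : A →ₐ[C] E)
    ({ toRingHom := k2, commutes' := fun c => (hk c).symm } : B →ₐ[C] E)).toRingHom

theorem descRing_tmul {C A B E : Type u} [CommRing C] [CommRing A] [CommRing B] [CommRing E]
    [Algebra C A] [Algebra C B] (k1 : A →+* E) (k2 : B →+* E)
    (hk : ∀ c, k1 (algebraMap C A c) = k2 (algebraMap C B c)) (a : A) (b : B) :
    descRing k1 k2 hk (a ⊗ₜ b) = k1 a * k2 b := by
  unfold descRing
  simp only [AlgHom.toRingHom_eq_coe, RingHom.coe_coe,
    Algebra.TensorProduct.productMap_apply_tmul]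
  rfl

theorem ringHom_ext_tensor {C A B E : Type u} [CommRing C] [CommRing A] [CommRing B] [CommRing E]
    [Algebra C A] [Algebra C B] (m m' : A ⊗[C] B →+* E)
    (h : ∀ a b, m (a ⊗ₜ b) = m' (a ⊗ₜ b)) : m = m' := by
  apply RingHom.ext
  intro t
  induction t using TensorProduct.induction_on with
  | zero => rw [map_zero, map_zero]
  | tmul a b => exact h a b
  | add x y hx hy => rw [map_add, map_add, hx, hy]

end desc

section univ
variable {X : RSpace.{u}} {A B C : Alg X} (f : C ⟶ A) (g : C ⟶ B)

/-- pure tensors in the pushout algebra -/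
def ptmul {p : X.pt} (a : A.carrier p) (b : B.carrier p) : (pushAlg f g).carrier p :=
  @TensorProduct.tmul (C.total.ring p) _ ((overAlg f).carrier p) ((overAlg g).carrier p) _ _ _ _ a b

theorem pushAlg_algebraMap (p : X.pt) (r : X.ring p) :
    algebraMap (X.ring p) ((pushAlg f g).carrier p) r =
      ptmul f g (algebraMap (X.ring p) (A.carrier p) r) 1 := by
  have e2 : ∀ (a a' : A.carrier p), a = a' → ptmul f g a (1 : B.carrier p) = ptmul f g a' 1 :=
    fun a a' h => by rw [h]
  exact e2 _ _ ((f.app p).commutes r)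

theorem ptmul_mul {p : X.pt} (a a' : A.carrier p) (b b' : B.carrier p) :
    ptmul f g a b * ptmul f g a' b' = ptmul f g (a * a') (b * b') :=
  Algebra.TensorProduct.tmul_mul_tmul (R := C.total.ring p) (A := (overAlg f).carrier p)
    (B := (overAlg g).carrier p) a a' b b'

theorem ptmul_res {p q : X.pt} (h : p ≤ q) (a : A.carrier p) (b : B.carrier p) :
    (pushAlg f g).res h (ptmul f g a b) = ptmul f g (A.res h a) (B.res h b) :=
  tensRes_tmul (overAlg f) (overAlg g) h a b

theorem ptmul_swap {p : X.pt} (c : C.carrier p) :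
    ptmul f g (f.app p c) 1 = ptmul f g 1 (g.app p c) :=
  Algebra.TensorProduct.tmul_one_eq_one_tmul (R := C.total.ring p)
    (A := (overAlg f).carrier p) (B := (overAlg g).carrier p) c

theorem ptmul_induction {p : X.pt} {P : (pushAlg f g).carrier p → Prop} (t : (pushAlg f g).carrier p)
    (h0 : P 0) (h1 : ∀ a b, P (ptmul f g a b)) (h2 : ∀ x y, P x → P y → P (x + y)) : P t :=
  TensorProduct.induction_on (R := C.total.ring p) (M := (overAlg f).carrier p)
    (N := (overAlg g).carrier p) t h0 h1 h2

end univ

section morphisms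
variable {X : RSpace.{u}} {A B C : Alg X} (f : C ⟶ A) (g : C ⟶ B)

noncomputable def pinl : A ⟶ pushAlg f g :=
  ⟨fun p =>
    { toRingHom := (Algebra.TensorProduct.includeLeftRingHom : (overAlg f).carrier p →+*
        (overAlg f).carrier p ⊗[C.total.ring p] (overAlg g).carrier p)
      commutes' := fun r => (pushAlg_algebraMap f g p r).symm },
    fun {p q} h a => by
      change (pushAlg f g).res h (ptmul f g a 1) = ptmul f g (A.res h a) 1
      rw [ptmul_res, map_one]⟩

noncomputable def pinr : B ⟶ pushAlg f g :=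
  ⟨fun p =>
    { toRingHom := (Algebra.TensorProduct.includeRight.toRingHom : (overAlg g).carrier p →+*
        (overAlg f).carrier p ⊗[C.total.ring p] (overAlg g).carrier p)
      commutes' := fun r => by
        change ptmul f g 1 (algebraMap (X.ring p) (B.carrier p) r) = _
        rw [pushAlg_algebraMap, ← (f.app p).commutes, ← (g.app p).commutes, ptmul_swap] },
    fun {p q} h b => by
      change (pushAlg f g).res h (ptmul f g 1 b) = ptmul f g 1 (B.res h b)
      rw [ptmul_res, map_one]⟩

theorem pinl_apply (p : X.pt) (a : A.carrier p) : (pinl f g).app p a = ptmul f g a 1 := rfl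
theorem pinr_apply (p : X.pt) (b : B.carrier p) : (pinr f g).app p b = ptmul f g 1 b := rfl

theorem pinl_pinr : f ≫ pinl f g = g ≫ pinr f g := by
  apply Alg.hom_ext
  intro p
  apply AlgHom.ext
  intro c
  exact ptmul_swap f g c

variable {f g}

theorem pdesc_aux {E : Alg X} (k1 : A ⟶ E) (k2 : B ⟶ E) (hk : f ≫ k1 = g ≫ k2) (p : X.pt)
    (c : C.total.ring p) :
    (k1.app p).toRingHom (algebraMap (C.total.ring p) ((overAlg f).carrier p) c) =
      (k2.app p).toRingHom (algebraMap (C.total.ring p) ((overAlg g).carrier p) c) :=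
  congrArg (fun m => (m.app p) c) hk

/-- the pointwise ring map of the descent morphism -/
noncomputable def pdescRing {E : Alg X} (k1 : A ⟶ E) (k2 : B ⟶ E) (hk : f ≫ k1 = g ≫ k2)
    (p : X.pt) : (pushAlg f g).carrier p →+* E.carrier p :=
  descRing (C := C.total.ring p) (A := (overAlg f).carrier p)
    (B := (overAlg g).carrier p) (k1.app p).toRingHom (k2.app p).toRingHom (pdesc_aux k1 k2 hk p)

theorem pdescRing_ptmul {E : Alg X} (k1 : A ⟶ E) (k2 : B ⟶ E) (hk : f ≫ k1 = g ≫ k2) (p : X.pt)
    (a : A.carrier p) (b : B.carrier p) :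
    pdescRing k1 k2 hk p (ptmul f g a b) = k1.app p a * k2.app p b :=
  descRing_tmul (C := C.total.ring p) (A := (overAlg f).carrier p)
    (B := (overAlg g).carrier p) (k1.app p).toRingHom (k2.app p).toRingHom
    (pdesc_aux k1 k2 hk p) a b

theorem ringHom_ext_push {p : X.pt} {E : Type u} [CommRing E]
    (m m' : (pushAlg f g).carrier p →+* E)
    (h : ∀ a b, m (ptmul f g a b) = m' (ptmul f g a b)) : m = m' :=
  ringHom_ext_tensor (C := C.total.ring p) (A := (overAlg f).carrier p)
    (B := (overAlg g).carrier p) m m' h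

noncomputable def pdesc {E : Alg X} (k1 : A ⟶ E) (k2 : B ⟶ E) (hk : f ≫ k1 = g ≫ k2) :
    pushAlg f g ⟶ E :=
  ⟨fun p =>
    { toRingHom := pdescRing k1 k2 hk p
      commutes' := fun r => by
        rw [pushAlg_algebraMap]
        change pdescRing k1 k2 hk p (ptmul f g _ _) = _
        rw [pdescRing_ptmul, (k1.app p).commutes, map_one, mul_one] },
    fun {p q} h t => by
      have key : (E.res h).comp (pdescRing k1 k2 hk p) =
          (pdescRing k1 k2 hk q).comp ((pushAlg f g).res h) := by
        apply ringHom_ext_push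
        intro a b
        change E.res h (pdescRing k1 k2 hk p (ptmul f g a b)) =
          pdescRing k1 k2 hk q ((pushAlg f g).res h (ptmul f g a b))
        rw [ptmul_res, pdescRing_ptmul, pdescRing_ptmul, map_mul, k1.compat, k2.compat]
      exact RingHom.congr_fun key t⟩

theorem pdesc_ptmul {E : Alg X} (k1 : A ⟶ E) (k2 : B ⟶ E) (hk : f ≫ k1 = g ≫ k2) (p : X.pt)
    (a : A.carrier p) (b : B.carrier p) :
    (pdesc k1 k2 hk).app p (ptmul f g a b) = k1.app p a * k2.app p b :=
  pdescRing_ptmul k1 k2 hk p a b

end morphisms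

section catlevel
variable (X : RSpace.{u})

theorem isBCAlong_self {R S : Type u} [CommRing R] [CommRing S] (g : R →+* S)
    (φ : R →ₛₗ[g] S) (hφ : ∀ r, φ r = g r) : IsBCAlong g φ := by
  unfold IsBCAlong
  letI : Algebra R S := g.toAlgebra
  letI : Module R S := Module.compHom S g
  haveI : IsScalarTower R S S := IsScalarTower.of_algebraMap_smul fun _ _ => rfl
  apply IsBaseChange.of_equiv (TensorProduct.AlgebraTensorModule.rid R S S)
  intro x
  change _ = φ x
  rw [hφ]
  simp [Algebra.smul_def]
  rfl

theorem str_isEtCover : (Alg.str X).IsEtCover := by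
  refine ⟨?_, fun p => ⟨?_, ?_⟩⟩
  · intro p q h
    exact isBCAlong_self (X.res h) _ (fun _ => rfl)
  · exact (inferInstance : Module.Finite (X.ring p) (X.ring p))
  · exact (inferInstance : Algebra.Etale (X.ring p) (X.ring p))

def fromStr (A : Alg X) : Alg.str X ⟶ A :=
  ⟨fun p => Algebra.ofId (X.ring p) (A.carrier p), fun h a => A.res_algebraMap h a⟩

theorem hasInitial_FEt : HasInitial (FEt X) := by
  let I : FEt X := ⟨Alg.str X, str_isEtCover X⟩
  haveI : ∀ Y : FEt X, Unique (I ⟶ Y) := fun Y =>
    { default := ObjectProperty.homMk (fromStr X Y.obj)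
      uniq := fun m => by
        apply ObjectProperty.hom_ext
        apply Alg.hom_ext
        intro p
        apply AlgHom.ext
        intro r
        exact (m.hom.app p).commutes r }
  exact hasInitial_of_unique I

theorem hasColimit_span_FEt {C A B : FEt X} (f : C ⟶ A) (g : C ⟶ B) : HasColimit (span f g) := by
  let P : FEt X := ⟨pushAlg f.hom g.hom,
    pushAlg_isEtCover f.hom g.hom A.property B.property C.property⟩
  let inl : A ⟶ P := ObjectProperty.homMk (pinl f.hom g.hom)
  let inr : B ⟶ P := ObjectProperty.homMk (pinr f.hom g.hom)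
  have w : f ≫ inl = g ≫ inr := by
    apply ObjectProperty.hom_ext
    exact pinl_pinr f.hom g.hom
  have hs : ∀ s : PushoutCocone f g, f.hom ≫ s.inl.hom = g.hom ≫ s.inr.hom := fun s =>
    congrArg (fun m => m.hom) s.condition
  refine ⟨⟨⟨PushoutCocone.mk inl inr w, PushoutCocone.IsColimit.mk w
    (fun s => ObjectProperty.homMk (pdesc s.inl.hom s.inr.hom (hs s))) ?_ ?_ ?_⟩⟩⟩
  · intro s
    apply ObjectProperty.hom_ext
    apply Alg.hom_ext
    intro p
    apply AlgHom.ext
    intro a
    change (pdesc s.inl.hom s.inr.hom (hs s)).app p (ptmul f.hom g.hom a 1) = s.inl.hom.app p a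
    rw [pdesc_ptmul, map_one, mul_one]
  · intro s
    apply ObjectProperty.hom_ext
    apply Alg.hom_ext
    intro p
    apply AlgHom.ext
    intro b
    change (pdesc s.inl.hom s.inr.hom (hs s)).app p (ptmul f.hom g.hom 1 b) = s.inr.hom.app p b
    rw [pdesc_ptmul, map_one, one_mul]
  · intro s m h1 h2
    apply ObjectProperty.hom_ext
    apply Alg.hom_ext
    intro p
    apply AlgHom.ext
    intro t
    have key : (m.hom.app p : (pushAlg f.hom g.hom).carrier p →+* s.pt.obj.carrier p) =
        ((pdesc s.inl.hom s.inr.hom (hs s)).app p : _ →+* _) := by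
      apply ringHom_ext_push
      intro a b
      change m.hom.app p (ptmul f.hom g.hom a b) =
        (pdesc s.inl.hom s.inr.hom (hs s)).app p (ptmul f.hom g.hom a b)
      rw [pdesc_ptmul]
      have e1 : m.hom.app p (ptmul f.hom g.hom a 1) = s.inl.hom.app p a :=
        congrArg (fun k => (k.hom.app p) a) h1
      have e2 : m.hom.app p (ptmul f.hom g.hom 1 b) = s.inr.hom.app p b :=
        congrArg (fun k => (k.hom.app p) b) h2
      rw [← e1, ← e2, ← map_mul, ptmul_mul, mul_one, one_mul]
    exact RingHom.congr_fun key t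

theorem hasPushouts_FEt : HasPushouts (FEt X) := by
  haveI : ∀ {C A B : FEt X} {f : C ⟶ A} {g : C ⟶ B}, HasColimit (span f g) :=
    fun {C A B f g} => hasColimit_span_FEt X f g
  exact hasPushouts_of_hasColimit_span _

end catlevel

end Groth.Agent.Helper23.FEtPush
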