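import Mathlib
import Groth.Prelude.Def_SchFin2
import Groth.Agent.Lib.Helper23.FEtLib
import Groth.Agent.Lib.Helper23.FEtPush

set_option autoImplicit false
set_option linter.style.haveILetI false
set_option linter.unusedVariables false
set_option linter.unusedSectionVars false

namespace Groth.Agent.Helper23.FEtFib

open SchFin TensorProduct CategoryTheory CategoryTheory.Limits

universe u

section primeOf

variable {R Ω : Type u} [CommRing R] [Field Ω] [Algebra R Ω]
  {E E' : Type u} [CommRing E] [Algebra R E] [CommRing E'] [Algebra R E']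

/-- the `Ω`-algebra map `Ω ⊗ E → Ω` attached to an `R`-algebra map `E → Ω` -/
noncomputable def tildeOf (ρ : E →ₐ[R] Ω) : Ω ⊗[R] E →ₐ[Ω] Ω :=
  Algebra.TensorProduct.lift (AlgHom.id Ω Ω) ρ (fun _ _ => Commute.all _ _)

theorem tildeOf_tmul (ρ : E →ₐ[R] Ω) (ω : Ω) (e : E) : tildeOf ρ (ω ⊗ₜ e) = ω * ρ e := by
  simp [tildeOf]

/-- the prime of `Ω ⊗ E` attached to an `R`-algebra map `E → Ω` -/
noncomputable def primeOf (ρ : E →ₐ[R] Ω) : PrimeSpectrum (Ω ⊗[R] E) :=
  ⟨RingHom.ker (tildeOf ρ), RingHom.ker_isPrime _⟩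

theorem primeOf_injective : Function.Injective (primeOf (R := R) (Ω := Ω) (E := E)) := by
  intro ρ₁ ρ₂ h
  have hk : RingHom.ker (tildeOf ρ₁) = RingHom.ker (tildeOf ρ₂) :=
    congrArg PrimeSpectrum.asIdeal h
  have key : ∀ t, tildeOf ρ₂ t = tildeOf ρ₁ t := by
    intro t
    have hmem : t - algebraMap Ω _ (tildeOf ρ₁ t) ∈ RingHom.ker (tildeOf ρ₁) := by
      rw [RingHom.mem_ker, map_sub, AlgHom.commutes]
      simp
    rw [hk, RingHom.mem_ker, map_sub, AlgHom.commutes] at hmem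
    simpa [sub_eq_zero] using hmem
  apply AlgHom.ext
  intro e
  have := key ((1 : Ω) ⊗ₜ e)
  rw [tildeOf_tmul, tildeOf_tmul, one_mul, one_mul] at this
  exact this.symm

theorem primeOf_surjective [IsAlgClosed Ω] [Module.Finite R E] :
    Function.Surjective (primeOf (R := R) (Ω := Ω) (E := E)) := by
  intro 𝔭
  haveI := 𝔭.isPrime
  haveI : Module.Finite Ω (Ω ⊗[R] E) := inferInstance
  haveI : Module.Finite Ω ((Ω ⊗[R] E) ⧸ 𝔭.asIdeal) :=
    Module.Finite.of_surjective (Ideal.Quotient.mkₐ Ω 𝔭.asIdeal).toLinearMap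
      (Ideal.Quotient.mkₐ_surjective Ω 𝔭.asIdeal)
  haveI : Algebra.IsIntegral Ω ((Ω ⊗[R] E) ⧸ 𝔭.asIdeal) := Algebra.IsIntegral.of_finite Ω _
  have hbij : Function.Bijective (algebraMap Ω ((Ω ⊗[R] E) ⧸ 𝔭.asIdeal)) :=
    IsAlgClosed.algebraMap_bijective_of_isIntegral
  let ε : Ω ≃ₐ[Ω] ((Ω ⊗[R] E) ⧸ 𝔭.asIdeal) :=
    AlgEquiv.ofBijective (Algebra.ofId Ω _) hbij
  let ψ : Ω ⊗[R] E →ₐ[Ω] Ω := ε.symm.toAlgHom.comp (Ideal.Quotient.mkₐ Ω 𝔭.asIdeal)
  have hψker : RingHom.ker ψ = 𝔭.asIdeal := by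
    ext t
    rw [RingHom.mem_ker]
    show ε.symm (Ideal.Quotient.mk 𝔭.asIdeal t) = 0 ↔ _
    rw [map_eq_zero_iff ε.symm ε.symm.injective, Ideal.Quotient.eq_zero_iff_mem]
  let ρ : E →ₐ[R] Ω := (ψ.restrictScalars R).comp Algebra.TensorProduct.includeRight
  refine ⟨ρ, ?_⟩
  apply PrimeSpectrum.ext
  show RingHom.ker (tildeOf ρ) = 𝔭.asIdeal
  rw [← hψker]
  congr 1
  apply Algebra.TensorProduct.ext'
  intro ω e
  rw [tildeOf_tmul]
  show ω * ψ ((1 : Ω) ⊗ₜ e) = ψ (ω ⊗ₜ e)
  rw [← smul_eq_mul, ← map_smul, TensorProduct.smul_tmul', smul_eq_mul, mul_one]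

theorem primeOf_comp (h : E →ₐ[R] E') (ρ : E' →ₐ[R] Ω) :
    PrimeSpectrum.comap (Algebra.TensorProduct.map (AlgHom.id Ω Ω) h).toRingHom (primeOf ρ) =
      primeOf (ρ.comp h) := by
  apply PrimeSpectrum.ext
  show Ideal.comap _ (RingHom.ker (tildeOf ρ)) = RingHom.ker (tildeOf (ρ.comp h))
  have : (tildeOf ρ).comp (Algebra.TensorProduct.map (AlgHom.id Ω Ω) h) = tildeOf (ρ.comp h) := by
    apply Algebra.TensorProduct.ext'
    intro ω e
    simp [tildeOf_tmul]
  rw [← this]
  rfl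

end primeOf

section extension

theorem exists_extension {A B Ω : Type u} [CommRing A] [CommRing B] [Field Ω] [IsAlgClosed Ω]
    (f : A →+* B) (hf : Function.Injective f) (hint : f.IsIntegral) (ρ : A →+* Ω) :
    ∃ σ : B →+* Ω, σ.comp f = ρ := by
  letI : Algebra A B := f.toAlgebra
  haveI : Algebra.IsIntegral A B := ⟨hint⟩
  let 𝔭 : Ideal A := RingHom.ker ρ
  haveI : 𝔭.IsPrime := RingHom.ker_isPrime ρ
  obtain ⟨𝔮, -, h𝔮, h𝔮p⟩ := Ideal.exists_ideal_over_prime_of_isIntegral 𝔭 (⊥ : Ideal B) (by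
    intro a ha
    have : f a = 0 := ha
    have : a = 0 := hf (this.trans (map_zero f).symm)
    rw [this]
    exact 𝔭.zero_mem)
  have h𝔮p' : 𝔮.comap f = 𝔭 := h𝔮p
  let φ : A ⧸ 𝔭 →+* B ⧸ 𝔮 := Ideal.quotientMap 𝔮 f h𝔮p'.ge
  have hφinj : Function.Injective φ := Ideal.quotientMap_injective' h𝔮p'.le
  let ρ' : A ⧸ 𝔭 →+* Ω := Ideal.Quotient.lift 𝔭 ρ (fun a ha => ha)
  have hρ'inj : Function.Injective ρ' := by
    rw [injective_iff_map_eq_zero]
    intro x hx
    obtain ⟨a, rfl⟩ := Ideal.Quotient.mk_surjective x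
    rw [Ideal.Quotient.eq_zero_iff_mem]
    exact hx
  letI : Algebra (A ⧸ 𝔭) (B ⧸ 𝔮) := φ.toAlgebra
  letI : Algebra (A ⧸ 𝔭) Ω := ρ'.toAlgebra
  haveI : Module.IsTorsionFree (A ⧸ 𝔭) (B ⧸ 𝔮) :=
    Module.isTorsionFree_iff_algebraMap_injective.mpr hφinj
  haveI : Module.IsTorsionFree (A ⧸ 𝔭) Ω :=
    Module.isTorsionFree_iff_algebraMap_injective.mpr hρ'inj
  haveI : Algebra.IsIntegral (A ⧸ 𝔭) (B ⧸ 𝔮) := ⟨by
    intro x
    obtain ⟨b, rfl⟩ := Ideal.Quotient.mk_surjective x
    obtain ⟨p, p_monic, hpx⟩ := hint b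
    refine ⟨p.map (Ideal.Quotient.mk 𝔭), p_monic.map _, ?_⟩
    rw [Polynomial.eval₂_map]
    have : (algebraMap (A ⧸ 𝔭) (B ⧸ 𝔮)).comp (Ideal.Quotient.mk 𝔭) =
        (Ideal.Quotient.mk 𝔮).comp f := rfl
    rw [this, ← Polynomial.hom_eval₂, hpx, map_zero]⟩
  let σ' : (B ⧸ 𝔮) →ₐ[A ⧸ 𝔭] Ω := IsAlgClosed.lift
  refine ⟨σ'.toRingHom.comp (Ideal.Quotient.mk 𝔮), ?_⟩
  ext a
  show σ' (Ideal.Quotient.mk 𝔮 (f a)) = ρ a
  have : Ideal.Quotient.mk 𝔮 (f a) = algebraMap (A ⧸ 𝔭) (B ⧸ 𝔮) (Ideal.Quotient.mk 𝔭 a) := rfl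
  rw [this, σ'.commutes]
  rfl


end extension

section fib

open Groth.Agent.Helper23.FEtLib Groth.Agent.Helper23.FEtPush

variable {X : RSpace.{u}} {Ω : Type u} [Field Ω] [IsAlgClosed Ω] (ξ : GeomPt X Ω)

@[reducible] def algΩ : Algebra (X.ring ξ.base) Ω := ξ.toField.toAlgebra

attribute [local instance] algΩ

/-- points of the fibre from algebra maps to the field -/
noncomputable def fibOf (A : Alg X) (ρ : A.carrier ξ.base →ₐ[X.ring ξ.base] Ω) : ξ.Fib A :=
  primeOf ρ

theorem fibOf_injective (A : Alg X) : Function.Injective (fibOf ξ A) := primeOf_injective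

theorem fibOf_surjective (A : Alg X) (hfin : Module.Finite (X.ring ξ.base) (A.carrier ξ.base)) :
    Function.Surjective (fibOf ξ A) := primeOf_surjective

theorem fibMap_fibOf {A B : Alg X} (f : A ⟶ B) (ρ : B.carrier ξ.base →ₐ[X.ring ξ.base] Ω) :
    ξ.fibMap f (fibOf ξ B ρ) = fibOf ξ A (ρ.comp (f.app ξ.base)) :=
  primeOf_comp (f.app ξ.base) ρ

/-- the fibre of the structure algebra is a point -/
theorem fib_str_subsingleton : Subsingleton (ξ.Fib (Alg.str X)) := by
  constructor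
  intro a b
  have hfin : Module.Finite (X.ring ξ.base) ((Alg.str X).carrier ξ.base) :=
    (inferInstance : Module.Finite (X.ring ξ.base) (X.ring ξ.base))
  obtain ⟨ρ₁, rfl⟩ := fibOf_surjective ξ (Alg.str X) hfin a
  obtain ⟨ρ₂, rfl⟩ := fibOf_surjective ξ (Alg.str X) hfin b
  congr 1
  apply AlgHom.ext
  intro r
  have h1 := ρ₁.commutes r
  have h2 := ρ₂.commutes r
  exact h1.trans h2.symm

theorem fib_str_nonempty : Nonempty (ξ.Fib (Alg.str X)) :=
  ⟨fibOf ξ (Alg.str X) (Algebra.ofId (X.ring ξ.base) Ω)⟩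

/-- the fibre of the zero algebra is empty -/
theorem fib_zero_isEmpty : IsEmpty (ξ.Fib (zeroAlg X)) := by
  constructor
  intro a
  have hfin : Module.Finite (X.ring ξ.base) ((zeroAlg X).carrier ξ.base) :=
    (inferInstance : Module.Finite (X.ring ξ.base) PUnit.{u+1})
  obtain ⟨ρ, rfl⟩ := fibOf_surjective ξ (zeroAlg X) hfin a
  have h1 : ρ 1 = 1 := map_one ρ
  have h0 : ρ 0 = 0 := map_zero ρ
  have : (1 : (zeroAlg X).carrier ξ.base) = 0 := Subsingleton.elim (α := PUnit) _ _
  rw [this, h0] at h1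
  exact zero_ne_one h1

section prod

variable (A B : Alg X) (hA : Module.Finite (X.ring ξ.base) (A.carrier ξ.base))
  (hB : Module.Finite (X.ring ξ.base) (B.carrier ξ.base))

include hA in
theorem fibMap_pfst_injective : Function.Injective (ξ.fibMap (pfst A B)) := by
  intro a a' h
  obtain ⟨ρ, rfl⟩ := fibOf_surjective ξ A hA a
  obtain ⟨ρ', rfl⟩ := fibOf_surjective ξ A hA a'
  rw [fibMap_fibOf, fibMap_fibOf] at h
  have h2 := fibOf_injective ξ _ h
  congr 1
  apply AlgHom.ext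
  intro x
  have := AlgHom.congr_fun h2 ((x, 0) : A.carrier ξ.base × B.carrier ξ.base)
  exact this

include hB in
theorem fibMap_psnd_injective : Function.Injective (ξ.fibMap (psnd A B)) := by
  intro a a' h
  obtain ⟨ρ, rfl⟩ := fibOf_surjective ξ B hB a
  obtain ⟨ρ', rfl⟩ := fibOf_surjective ξ B hB a'
  rw [fibMap_fibOf, fibMap_fibOf] at h
  have h2 := fibOf_injective ξ _ h
  congr 1
  apply AlgHom.ext
  intro x
  have := AlgHom.congr_fun h2 ((0, x) : A.carrier ξ.base × B.carrier ξ.base)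
  exact this

include hA hB in
theorem fibMap_pfst_ne_psnd (a : ξ.Fib A) (b : ξ.Fib B) :
    ξ.fibMap (pfst A B) a ≠ ξ.fibMap (psnd A B) b := by
  intro h
  obtain ⟨ρ, rfl⟩ := fibOf_surjective ξ A hA a
  obtain ⟨ρ', rfl⟩ := fibOf_surjective ξ B hB b
  rw [fibMap_fibOf, fibMap_fibOf] at h
  have h2 := fibOf_injective ξ _ h
  have := AlgHom.congr_fun h2 ((1, 0) : A.carrier ξ.base × B.carrier ξ.base)
  have e1 : ρ 1 = ρ' 0 := this
  rw [map_one, map_zero] at e1
  exact one_ne_zero e1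

include hA hB in
theorem fibMap_prod_cover (z : ξ.Fib (prodAlg A B)) :
    (∃ a, ξ.fibMap (pfst A B) a = z) ∨ (∃ b, ξ.fibMap (psnd A B) b = z) := by
  have hfin : Module.Finite (X.ring ξ.base) ((prodAlg A B).carrier ξ.base) :=
    (inferInstance : Module.Finite (X.ring ξ.base) (A.carrier ξ.base × B.carrier ξ.base))
  obtain ⟨σ, rfl⟩ := fibOf_surjective ξ _ hfin z
  let σ' : A.carrier ξ.base × B.carrier ξ.base →ₐ[X.ring ξ.base] Ω := σ
  have hsum : σ' (1, 0) + σ' (0, 1) = 1 := by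
    rw [← map_add, Prod.mk_add_mk, add_zero, zero_add]
    exact map_one σ'
  have hprod : σ' (1, 0) * σ' (0, 1) = 0 := by
    rw [← map_mul, Prod.mk_mul_mk, mul_zero, zero_mul]
    exact map_zero σ'
  rcases mul_eq_zero.mp hprod with h0 | h0
  · -- factors through the second projection
    right
    have h1 : σ' (0, 1) = 1 := by rw [h0, zero_add] at hsum; exact hsum
    let ρ : B.carrier ξ.base →ₐ[X.ring ξ.base] Ω :=
      { toFun := fun b => σ' (0, b)
        map_one' := h1
        map_mul' := fun b b' => by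
          rw [← map_mul, Prod.mk_mul_mk, mul_zero]
        map_zero' := map_zero σ'
        map_add' := fun b b' => by
          rw [← map_add, Prod.mk_add_mk, add_zero]
        commutes' := fun r => by
          have : ((0 : A.carrier ξ.base), algebraMap (X.ring ξ.base) (B.carrier ξ.base) r) =
              algebraMap (X.ring ξ.base) (A.carrier ξ.base × B.carrier ξ.base) r * (0, 1) := by
            rw [Prod.algebraMap_apply, Prod.mk_mul_mk, mul_zero, mul_one]
          show σ' (0, algebraMap _ _ r) = _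
          rw [this, map_mul, h1, mul_one, AlgHom.commutes] }
    refine ⟨fibOf ξ B ρ, ?_⟩
    rw [fibMap_fibOf]
    congr 1
    apply AlgHom.ext
    rintro ⟨a, b⟩
    show σ' (0, b) = σ' (a, b)
    have : ((a, b) : A.carrier ξ.base × B.carrier ξ.base) = (a, b) * (1, 0) + (0, b) := by
      rw [Prod.mk_mul_mk, mul_one, mul_zero, Prod.mk_add_mk, add_zero, zero_add]
    conv_rhs => rw [this, map_add, map_mul, h0, mul_zero, zero_add]
  · left
    have h1 : σ' (1, 0) = 1 := by rw [h0, add_zero] at hsum; exact hsum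
    let ρ : A.carrier ξ.base →ₐ[X.ring ξ.base] Ω :=
      { toFun := fun a => σ' (a, 0)
        map_one' := h1
        map_mul' := fun b b' => by
          rw [← map_mul, Prod.mk_mul_mk, mul_zero]
        map_zero' := map_zero σ'
        map_add' := fun b b' => by
          rw [← map_add, Prod.mk_add_mk, add_zero]
        commutes' := fun r => by
          have : (algebraMap (X.ring ξ.base) (A.carrier ξ.base) r, (0 : B.carrier ξ.base)) =
              algebraMap (X.ring ξ.base) (A.carrier ξ.base × B.carrier ξ.base) r * (1, 0) := by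
            rw [Prod.algebraMap_apply, Prod.mk_mul_mk, mul_zero, mul_one]
          show σ' (algebraMap _ _ r, 0) = _
          rw [this, map_mul, h1, mul_one, AlgHom.commutes] }
    refine ⟨fibOf ξ A ρ, ?_⟩
    rw [fibMap_fibOf]
    congr 1
    apply AlgHom.ext
    rintro ⟨a, b⟩
    show σ' (a, 0) = σ' (a, b)
    have : ((a, b) : A.carrier ξ.base × B.carrier ξ.base) = (a, 0) + (a, b) * (0, 1) := by
      rw [Prod.mk_mul_mk, mul_one, mul_zero, Prod.mk_add_mk, add_zero, zero_add]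
    conv_rhs => rw [this, map_add, map_mul, h0, mul_zero, add_zero]

end prod

section push

variable {A B C : Alg X} (f : C ⟶ A) (g : C ⟶ B)
  (hA : Module.Finite (X.ring ξ.base) (A.carrier ξ.base))
  (hB : Module.Finite (X.ring ξ.base) (B.carrier ξ.base))
  (hP : Module.Finite (X.ring ξ.base) ((pushAlg f g).carrier ξ.base))

include hP in
theorem fib_push_ext (z₁ z₂ : ξ.Fib (pushAlg f g))
    (h1 : ξ.fibMap (pinl f g) z₁ = ξ.fibMap (pinl f g) z₂)
    (h2 : ξ.fibMap (pinr f g) z₁ = ξ.fibMap (pinr f g) z₂) : z₁ = z₂ := by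
  obtain ⟨σ₁, rfl⟩ := fibOf_surjective ξ _ hP z₁
  obtain ⟨σ₂, rfl⟩ := fibOf_surjective ξ _ hP z₂
  rw [fibMap_fibOf, fibMap_fibOf] at h1 h2
  have e1 := fibOf_injective ξ _ h1
  have e2 := fibOf_injective ξ _ h2
  congr 1
  have key : (σ₁ : (pushAlg f g).carrier ξ.base →+* Ω) = (σ₂ : _ →+* Ω) := by
    apply ringHom_ext_push
    intro a b
    have hab : ptmul f g a b = (pinl f g).app ξ.base a * (pinr f g).app ξ.base b := by
      rw [pinl_apply, pinr_apply, ptmul_mul, mul_one, one_mul]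
    show σ₁ (ptmul f g a b) = σ₂ (ptmul f g a b)
    rw [hab, map_mul, map_mul]
    have ea := AlgHom.congr_fun e1 a
    have eb := AlgHom.congr_fun e2 b
    simp only [AlgHom.comp_apply] at ea eb
    rw [ea, eb]
  apply AlgHom.ext
  intro t
  exact RingHom.congr_fun key t

include hA hB in
theorem fib_push_exists (a : ξ.Fib A) (b : ξ.Fib B) (h : ξ.fibMap f a = ξ.fibMap g b) :
    ∃ z, ξ.fibMap (pinl f g) z = a ∧ ξ.fibMap (pinr f g) z = b := by
  obtain ⟨ρA, rfl⟩ := fibOf_surjective ξ _ hA a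
  obtain ⟨ρB, rfl⟩ := fibOf_surjective ξ _ hB b
  rw [fibMap_fibOf, fibMap_fibOf] at h
  have e := fibOf_injective ξ _ h
  have hk : ∀ c : C.total.ring ξ.base,
      (ρA : A.carrier ξ.base →+* Ω) (algebraMap (C.total.ring ξ.base) ((overAlg f).carrier ξ.base) c) =
      (ρB : B.carrier ξ.base →+* Ω) (algebraMap (C.total.ring ξ.base) ((overAlg g).carrier ξ.base) c) :=
    fun c => AlgHom.congr_fun e c
  let σ₀ : (pushAlg f g).carrier ξ.base →+* Ω :=
    descRing (C := C.total.ring ξ.base) (A := (overAlg f).carrier ξ.base)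
      (B := (overAlg g).carrier ξ.base) (ρA : A.carrier ξ.base →+* Ω)
      (ρB : B.carrier ξ.base →+* Ω) hk
  have hσ₀ : ∀ a b, σ₀ (ptmul f g a b) = ρA a * ρB b := fun a b =>
    descRing_tmul (C := C.total.ring ξ.base) (A := (overAlg f).carrier ξ.base)
      (B := (overAlg g).carrier ξ.base) _ _ hk a b
  let σ : (pushAlg f g).carrier ξ.base →ₐ[X.ring ξ.base] Ω :=
    { toRingHom := σ₀
      commutes' := fun r => by
        rw [pushAlg_algebraMap]
        show σ₀ (ptmul f g _ _) = _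
        rw [hσ₀, map_one, mul_one, AlgHom.commutes] }
  refine ⟨fibOf ξ _ σ, ?_, ?_⟩
  · rw [fibMap_fibOf]
    congr 1
    apply AlgHom.ext
    intro a
    show σ₀ (ptmul f g a 1) = ρA a
    rw [hσ₀, map_one, mul_one]
  · rw [fibMap_fibOf]
    congr 1
    apply AlgHom.ext
    intro b
    show σ₀ (ptmul f g 1 b) = ρB b
    rw [hσ₀, map_one, one_mul]

end push

section mono

/-- the "glue by an idempotent" endomorphism used to test monomorphisms -/
def glueHom (A : Alg X) (e : ∀ p, A.carrier p) (hid : ∀ p, IsIdempotentElem (e p))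
    (he : ∀ {p q : X.pt} (h : p ≤ q), A.res h (e p) = e q) : prodAlg A A ⟶ A :=
  ⟨fun p =>
    { toFun := fun x => (1 - e p) * x.1 + e p * x.2
      map_one' := by
        show (1 - e p) * 1 + e p * 1 = 1
        ring
      map_mul' := fun x y => by
        show (1 - e p) * (x.1 * y.1) + e p * (x.2 * y.2) =
          ((1 - e p) * x.1 + e p * x.2) * ((1 - e p) * y.1 + e p * y.2)
        have h1 : e p * e p = e p := (hid p).eq
        linear_combination (x.1 * y.1 - x.1 * y.2 - x.2 * y.1 + x.2 * y.2 - x.1 * y.1 - x.2 * y.2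
          + x.1 * y.2 + x.2 * y.1 - (x.1 * y.1 - x.1 * y.2 - x.2 * y.1 + x.2 * y.2)) * h1
          + (-(x.1 * y.1) + x.1 * y.2 + x.2 * y.1 - x.2 * y.2 + x.1 * y.1 + x.2 * y.2
            - x.1 * y.2 - x.2 * y.1 + (x.1 * y.1 - x.1 * y.2 - x.2 * y.1 + x.2 * y.2)) * h1
          - (x.1 * y.1 - x.1 * y.2 - x.2 * y.1 + x.2 * y.2) * h1
      map_zero' := by
        show (1 - e p) * 0 + e p * 0 = 0
        ring
      map_add' := fun x y => by
        show (1 - e p) * (x.1 + y.1) + e p * (x.2 + y.2) =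
          ((1 - e p) * x.1 + e p * x.2) + ((1 - e p) * y.1 + e p * y.2)
        ring
      commutes' := fun r => by
        show (1 - e p) * algebraMap _ _ r + e p * algebraMap _ _ r = algebraMap _ _ r
        ring },
    fun {p q} h x => by
      show A.res h ((1 - e p) * x.1 + e p * x.2) = (1 - e q) * A.res h x.1 + e q * A.res h x.2
      rw [map_add, map_mul, map_mul, map_sub, map_one, he h]⟩

theorem mono_injective (hX : X.IsFinSp) {A B : FEt X} (f : A ⟶ B) [Mono f] (p : X.pt) :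
    Function.Injective (f.hom.app p) := by
  obtain ⟨e, hid, hk, he⟩ := exists_idem_family X hX A.property B.property f.hom
  let T : FEt X := ⟨prodAlg A.obj A.obj, prodAlg_isEtCover A.obj A.obj A.property A.property⟩
  let u : T ⟶ A := ObjectProperty.homMk (pfst A.obj A.obj)
  let v : T ⟶ A := ObjectProperty.homMk (glueHom A.obj e hid he)
  have hfe : ∀ q, f.hom.app q (e q) = 0 := fun q => by
    have : e q ∈ RingHom.ker (f.hom.app q) := by
      rw [hk q]; exact Ideal.subset_span rfl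
    exact this
  have huv : v ≫ f = u ≫ f := by
    apply ObjectProperty.hom_ext
    apply Alg.hom_ext
    intro q
    apply AlgHom.ext
    intro x
    show f.hom.app q ((1 - e q) * x.1 + e q * x.2) = f.hom.app q x.1
    rw [map_add, map_mul, map_mul, map_sub, map_one, hfe q]
    ring
  have huv' : v = u := (cancel_mono f).mp huv
  have hep : e p = 0 := by
    have := congrArg (fun m : T ⟶ A => m.hom.app p ((0, 1) : A.obj.carrier p × A.obj.carrier p)) huv'
    have h2 : (1 - e p) * 0 + e p * 1 = (0 : A.obj.carrier p) := this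
    rw [mul_zero, zero_add, mul_one] at h2
    exact h2
  rw [injective_iff_map_eq_zero]
  intro a ha
  have : a ∈ RingHom.ker (f.hom.app p) := ha
  rw [hk p, hep] at this
  simpa using this

theorem fibMap_surjective_of_injective {A B : Alg X} (f : A ⟶ B)
    (hA : Module.Finite (X.ring ξ.base) (A.carrier ξ.base))
    (hB : Module.Finite (X.ring ξ.base) (B.carrier ξ.base))
    (hinj : Function.Injective (f.app ξ.base)) : Function.Surjective (ξ.fibMap f) := by
  intro a
  obtain ⟨ρ, rfl⟩ := fibOf_surjective ξ A hA a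
  have hint : (f.app ξ.base : A.carrier ξ.base →+* B.carrier ξ.base).IsIntegral := by
    intro b
    have hb : IsIntegral (X.ring ξ.base) b := Algebra.IsIntegral.isIntegral b
    obtain ⟨P, hP, hPb⟩ := hb
    refine ⟨P.map (algebraMap (X.ring ξ.base) (A.carrier ξ.base)), hP.map _, ?_⟩
    rw [Polynomial.eval₂_map]
    have : ((f.app ξ.base : A.carrier ξ.base →+* B.carrier ξ.base)).comp
        (algebraMap (X.ring ξ.base) (A.carrier ξ.base)) =
        algebraMap (X.ring ξ.base) (B.carrier ξ.base) := by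
      ext r
      exact (f.app ξ.base).commutes r
    rw [this]
    exact hPb
  obtain ⟨σ₀, hσ₀⟩ := exists_extension (f.app ξ.base : A.carrier ξ.base →+* B.carrier ξ.base)
    hinj hint (ρ : A.carrier ξ.base →+* Ω)
  let σ : B.carrier ξ.base →ₐ[X.ring ξ.base] Ω :=
    { toRingHom := σ₀
      commutes' := fun r => by
        have h1 : algebraMap (X.ring ξ.base) (B.carrier ξ.base) r =
            f.app ξ.base (algebraMap (X.ring ξ.base) (A.carrier ξ.base) r) :=
          ((f.app ξ.base).commutes r).symm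
        show σ₀ (algebraMap _ _ r) = _
        rw [h1]
        have h2 := RingHom.congr_fun hσ₀ (algebraMap (X.ring ξ.base) (A.carrier ξ.base) r)
        rw [RingHom.comp_apply] at h2
        rw [show σ₀ ((f.app ξ.base) ((algebraMap (X.ring ξ.base) (A.carrier ξ.base)) r)) =
          (ρ : A.carrier ξ.base →+* Ω) ((algebraMap (X.ring ξ.base) (A.carrier ξ.base)) r) from h2]
        exact ρ.commutes r }
  refine ⟨fibOf ξ B σ, ?_⟩
  rw [fibMap_fibOf]
  congr 1
  apply AlgHom.ext
  intro a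
  exact RingHom.congr_fun hσ₀ a

end mono

end fib

end Groth.Agent.Helper23.FEtFib
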