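import Groth.Agent.Lib.Helper23.FEtFull
import Groth.Agent.Lib.Helper23.FEtComp
import Mathlib.AlgebraicGeometry.Morphisms.UniversallyOpen

/-!
# Restriction of finite étale covers along a universally open surjection with geometrically
connected fibres is fully faithful (helper23)
-/

set_option autoImplicit false
set_option linter.style.haveILetI false

open CategoryTheory CategoryTheory.Limits AlgebraicGeometry

universe u

namespace Groth.Agent.Helper23.FEtFibConn

/-- topology: for an open surjective continuous map with preconnected fibres, every clopen subset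
of the source is the preimage of a clopen subset of the target -/
theorem exists_isClopen_preimage {P T : Type*} [TopologicalSpace P] [TopologicalSpace T]
    (q : P → T) (hq : IsOpenMap q) (hs : Function.Surjective q)
    (hfib : ∀ t : T, IsPreconnected (q ⁻¹' {t})) (Z : Set P) (hZ : IsClopen Z) :
    ∃ W : Set T, IsClopen W ∧ q ⁻¹' W = Z := by
  have hsat : ∀ Z' : Set P, IsClopen Z' → q ⁻¹' (q '' Z') = Z' := by
    intro Z' hZ'
    refine Set.Subset.antisymm ?_ (Set.subset_preimage_image q Z')
    rintro y ⟨z, hz, hzy⟩
    have : q ⁻¹' {q z} ⊆ Z' :=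
      (hfib (q z)).subset_isClopen hZ' ⟨z, rfl, hz⟩
    exact this (by simpa using hzy.symm)
  refine ⟨q '' Z, ⟨?_, hq Z hZ.isOpen⟩, hsat Z hZ⟩
  have hc : (q '' Z)ᶜ = q '' Zᶜ := by
    ext t
    constructor
    · intro ht
      obtain ⟨y, rfl⟩ := hs t
      refine ⟨y, ?_, rfl⟩
      intro hy
      exact ht ⟨y, hy, rfl⟩
    · rintro ⟨y, hy, rfl⟩ hqy
      have : y ∈ q ⁻¹' (q '' Z) := hqy
      rw [hsat Z hZ] at this
      exact hy this
  rw [← isOpen_compl_iff, hc]
  exact hq _ hZ.compl.isOpen

variable {X S : Scheme.{u}} (f : X ⟶ S)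

/-- fibres of any base change of `f` are connected if the geometric fibres of `f` are -/
theorem isConnected_fiber
    (hfib : ∀ (Ω : Type u) [Field Ω] [IsAlgClosed Ω] (s : Spec (CommRingCat.of Ω) ⟶ S),
      ConnectedSpace ↥(pullback f s))
    {T : Scheme.{u}} (g : T ⟶ S) (t : T) :
    _root_.IsConnected ((pullback.fst g f).base ⁻¹' {t}) := by
  let Ω := AlgebraicClosure (T.residueField t)
  let st : Spec (CommRingCat.of Ω) ⟶ T :=
    Spec.map (CommRingCat.ofHom (algebraMap (T.residueField t) Ω)) ≫ T.fromSpecResidueField t
  have hrange : Set.range st.base = {t} := by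
    ext y
    constructor
    · rintro ⟨z, rfl⟩
      simp only [st, Scheme.Hom.comp_base, TopCat.hom_comp, ContinuousMap.comp_apply,
        Set.mem_singleton_iff]
      have h2 : (T.fromSpecResidueField t).base
          ((Spec.map (CommRingCat.ofHom (algebraMap (T.residueField t) Ω))).base z) ∈
          Set.range (T.fromSpecResidueField t).base := Set.mem_range_self _
      rw [Scheme.range_fromSpecResidueField t] at h2
      exact h2
    · rintro rfl
      haveI : Nonempty ↥(Spec (CommRingCat.of Ω)) := inferInstance
      obtain ⟨z⟩ := this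
      refine ⟨z, ?_⟩
      simp only [st, Scheme.Hom.comp_base, TopCat.hom_comp, ContinuousMap.comp_apply]
      have := Scheme.range_fromSpecResidueField y
      have h2 : (T.fromSpecResidueField y).base
          ((Spec.map (CommRingCat.ofHom (algebraMap (T.residueField y) Ω))).base z) ∈
          Set.range (T.fromSpecResidueField y).base := Set.mem_range_self _
      rw [this] at h2
      exact h2
  haveI h1 : ConnectedSpace ↥(pullback f (st ≫ g)) := hfib Ω (st ≫ g)
  let e : pullback st (pullback.fst g f) ≅ pullback f (st ≫ g) :=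
    pullbackRightPullbackFstIso g f st ≪≫ pullbackSymmetry _ _
  haveI : ConnectedSpace ↥(pullback st (pullback.fst g f)) :=
    (Scheme.homeoOfIso e.symm).surjective.connectedSpace (Scheme.homeoOfIso e.symm).continuous
  have h2 : Set.range (pullback.snd st (pullback.fst g f)).base =
      (pullback.fst g f).base ⁻¹' {t} := by
    rw [← hrange]
    exact Scheme.Pullback.range_snd st (pullback.fst g f)
  rw [← h2]
  exact isConnected_range (pullback.snd st (pullback.fst g f)).continuous

theorem surjective_of_fibres
    (hfib : ∀ (Ω : Type u) [Field Ω] [IsAlgClosed Ω] (s : Spec (CommRingCat.of Ω) ⟶ S),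
      ConnectedSpace ↥(pullback f s)) : Surjective f := by
  refine ⟨fun s => ?_⟩
  have h : ((pullback.fst (𝟙 S) f).base ⁻¹' {s}).Nonempty :=
    (isConnected_fiber f hfib (𝟙 S) s).nonempty
  obtain ⟨z, hz⟩ := h
  refine ⟨(pullback.snd (𝟙 S) f).base z, ?_⟩
  have hc := congrArg (fun m => m.base z) (pullback.condition (f := 𝟙 S) (g := f))
  simp only [Scheme.Hom.comp_base, TopCat.hom_comp, ContinuousMap.comp_apply] at hc
  rw [← hc]
  simpa using hz

end Groth.Agent.Helper23.FEtFibConn
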