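import Mathlib
import Groth.Prelude.Def_SchFin2
import Groth.Agent.Lib.Helper23.FEtFib

set_option autoImplicit false
set_option linter.style.haveILetI false
set_option linter.unusedVariables false
set_option linter.unusedSectionVars false

namespace Groth.Agent.Helper23.FEtGal
open SchFin TensorProduct CategoryTheory CategoryTheory.Limits
open Groth.Agent.Helper23.FEtLib Groth.Agent.Helper23.FEtPush Groth.Agent.Helper23.FEtFib
universe u

variable {X : RSpace.{u}}

/-- the initial étale cover -/
abbrev strFEt (X : RSpace.{u}) : FEt X := ⟨Alg.str X, str_isEtCover X⟩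

def isInitial_str (X : RSpace.{u}) : IsInitial (strFEt X) :=
  IsInitial.ofUniqueHom (fun Y => ObjectProperty.homMk (fromStr X Y.obj)) (fun Y m => by
    apply ObjectProperty.hom_ext
    apply Alg.hom_ext
    intro p
    apply AlgHom.ext
    intro r
    exact (m.hom.app p).commutes r)

/-- the terminal étale cover -/
abbrev zeroFEt (X : RSpace.{u}) : FEt X := ⟨zeroAlg X, zeroAlg_isEtCover X⟩

def isTerminal_zero (X : RSpace.{u}) : IsTerminal (zeroFEt X) :=
  IsTerminal.ofUniqueHom (fun Y => ObjectProperty.homMk (toZero X Y.obj)) (fun Y m => by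
    apply ObjectProperty.hom_ext
    apply Alg.hom_ext
    intro p
    apply AlgHom.ext
    intro c
    exact Subsingleton.elim (α := PUnit) _ _)

/-- the product étale cover -/
abbrev prodFEt (A B : FEt X) : FEt X :=
  ⟨prodAlg A.obj B.obj, prodAlg_isEtCover A.obj B.obj A.property B.property⟩

abbrev fstFEt (A B : FEt X) : prodFEt A B ⟶ A := ObjectProperty.homMk (pfst A.obj B.obj)
abbrev sndFEt (A B : FEt X) : prodFEt A B ⟶ B := ObjectProperty.homMk (psnd A.obj B.obj)

/-- the pushout étale cover -/
noncomputable abbrev pushFEt {A B C : FEt X} (f : C ⟶ A) (g : C ⟶ B) : FEt X :=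
  ⟨pushAlg f.hom g.hom, pushAlg_isEtCover f.hom g.hom A.property B.property C.property⟩

noncomputable abbrev inlFEt {A B C : FEt X} (f : C ⟶ A) (g : C ⟶ B) : A ⟶ pushFEt f g :=
  ObjectProperty.homMk (pinl f.hom g.hom)
noncomputable abbrev inrFEt {A B C : FEt X} (f : C ⟶ A) (g : C ⟶ B) : B ⟶ pushFEt f g :=
  ObjectProperty.homMk (pinr f.hom g.hom)

theorem isPushout_push {A B C : FEt X} (f : C ⟶ A) (g : C ⟶ B) :
    IsPushout f g (inlFEt f g) (inrFEt f g) := by
  have w : f ≫ inlFEt f g = g ≫ inrFEt f g := by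
    apply ObjectProperty.hom_ext
    exact pinl_pinr f.hom g.hom
  have hs : ∀ s : PushoutCocone f g, f.hom ≫ s.inl.hom = g.hom ≫ s.inr.hom := fun s =>
    congrArg (fun m => m.hom) s.condition
  refine IsPushout.of_isColimit (c := PushoutCocone.mk (inlFEt f g) (inrFEt f g) w)
    (PushoutCocone.IsColimit.mk w
    (fun s => ObjectProperty.homMk (pdesc s.inl.hom s.inr.hom (hs s))) ?_ ?_ ?_)
  · intro s
    apply ObjectProperty.hom_ext
    apply Alg.hom_ext
    intro p
    apply AlgHom.ext
    intro a
    change (pdesc s.inl.hom s.inr.hom (hs s)).app p (ptmul f.hom g.hom a 1) = s.inl.hom.app p a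
    rw [pdesc_ptmul, map_one, mul_one]
  · intro s
    apply ObjectProperty.hom_ext
    apply Alg.hom_ext
    intro p
    apply AlgHom.ext
    intro b
    change (pdesc s.inl.hom s.inr.hom (hs s)).app p (ptmul f.hom g.hom 1 b) = s.inr.hom.app p b
    rw [pdesc_ptmul, map_one, one_mul]
  · intro s m h1 h2
    apply ObjectProperty.hom_ext
    apply Alg.hom_ext
    intro p
    apply AlgHom.ext
    intro t
    have key : ((m.hom.app p).toRingHom : (pushAlg f.hom g.hom).carrier p →+* s.pt.obj.carrier p) =
        ((pdesc s.inl.hom s.inr.hom (hs s)).app p).toRingHom := by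
      apply ringHom_ext_push
      intro a b
      change m.hom.app p (ptmul f.hom g.hom a b) =
        (pdesc s.inl.hom s.inr.hom (hs s)).app p (ptmul f.hom g.hom a b)
      rw [pdesc_ptmul]
      have e1 : m.hom.app p (ptmul f.hom g.hom a 1) = s.inl.hom.app p a :=
        congrArg (fun k => (k.hom.app p) a) h1
      have e2 : m.hom.app p (ptmul f.hom g.hom 1 b) = s.inr.hom.app p b :=
        congrArg (fun k => (k.hom.app p) b) h2
      rw [← e1, ← e2, ← map_mul, ptmul_mul, mul_one, one_mul]
    exact RingHom.congr_fun key t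

section glue

variable {Ω : Type u} [Field Ω] [IsAlgClosed Ω] (ξ : GeomPt X Ω)

theorem preserves_terminal : PreservesLimitsOfShape (Discrete PEmpty.{1}) ξ.fibFunctor := by
  have hT : IsTerminal (Opposite.op (strFEt X)) := terminalOpOfInitial (isInitial_str X)
  haveI : Subsingleton (ξ.Fib (Alg.str X)) := fib_str_subsingleton ξ
  haveI : Nonempty (ξ.Fib (Alg.str X)) := fib_str_nonempty ξ
  have hFT : IsTerminal (ξ.fibFunctor.obj (Opposite.op (strFEt X))) := by
    refine IsTerminal.ofUniqueHom
      (fun Y => FintypeCat.homMk (fun _ => (Classical.arbitrary (ξ.Fib (Alg.str X))))) (fun Y m => ?_)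
    ext y
    exact Subsingleton.elim (α := ξ.Fib (Alg.str X)) _ _
  haveI : PreservesLimit (Functor.empty.{0} (FEt X)ᵒᵖ) ξ.fibFunctor :=
    preservesLimit_of_preserves_limit_cone hT ((isLimitMapConeEmptyConeEquiv _ _).symm hFT)
  exact preservesLimitsOfShape_pempty_of_preservesTerminal _

theorem preservesLimit_cospan {A' B' C' : (FEt X)ᵒᵖ} (f' : A' ⟶ C') (g' : B' ⟶ C') :
    PreservesLimit (cospan f' g') ξ.fibFunctor := by
  have hpo := isPushout_push f'.unop g'.unop
  have hpb : IsPullback (inlFEt f'.unop g'.unop).op (inrFEt f'.unop g'.unop).op f' g' :=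
    hpo.op.flip
  have hA : Module.Finite (X.ring ξ.base) (A'.unop.obj.carrier ξ.base) := (A'.unop.property.2 _).1
  have hB : Module.Finite (X.ring ξ.base) (B'.unop.obj.carrier ξ.base) := (B'.unop.property.2 _).1
  have hP : Module.Finite (X.ring ξ.base) ((pushAlg f'.unop.hom g'.unop.hom).carrier ξ.base) :=
    ((pushFEt f'.unop g'.unop).property.2 _).1
  have himg : IsPullback (ξ.fibFunctor.map (inlFEt f'.unop g'.unop).op)
      (ξ.fibFunctor.map (inrFEt f'.unop g'.unop).op) (ξ.fibFunctor.map f')
      (ξ.fibFunctor.map g') := by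
    apply IsPullback.of_map FintypeCat.incl
    · rw [← Functor.map_comp, ← Functor.map_comp, hpb.w]
    · rw [Types.isPullback_iff]
      refine ⟨?_, ?_, ?_⟩
      · rw [← Functor.map_comp, ← Functor.map_comp, ← Functor.map_comp, ← Functor.map_comp, hpb.w]
      · rintro z₁ z₂ ⟨h1, h2⟩
        exact fib_push_ext ξ f'.unop.hom g'.unop.hom hP z₁ z₂ h1 h2
      · intro a b h
        exact fib_push_exists ξ f'.unop.hom g'.unop.hom hA hB a b h
  exact preservesLimit_of_preserves_limit_cone hpb.isLimit
    ((isLimitMapConePullbackConeEquiv _ hpb.w).symm himg.isLimit)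

theorem preserves_pullbacks : PreservesLimitsOfShape WalkingCospan ξ.fibFunctor := by
  refine ⟨fun {K} => ?_⟩
  haveI := preservesLimit_cospan ξ (K.map WalkingCospan.Hom.inl) (K.map WalkingCospan.Hom.inr)
  exact preservesLimit_of_iso_diagram ξ.fibFunctor (diagramIsoCospan K).symm

theorem preserves_initial : PreservesColimitsOfShape (Discrete PEmpty.{1}) ξ.fibFunctor := by
  have hI : IsInitial (Opposite.op (zeroFEt X)) := initialOpOfTerminal (isTerminal_zero X)
  haveI : IsEmpty (ξ.Fib (zeroAlg X)) := fib_zero_isEmpty ξ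
  have hFI : IsInitial (ξ.fibFunctor.obj (Opposite.op (zeroFEt X))) := by
    refine IsInitial.ofUniqueHom
      (fun Y => FintypeCat.homMk (fun z => isEmptyElim (α := ξ.Fib (zeroAlg X)) z)) (fun Y m => ?_)
    ext z
    exact isEmptyElim (α := ξ.Fib (zeroAlg X)) z
  haveI : PreservesColimit (Functor.empty.{0} (FEt X)ᵒᵖ) ξ.fibFunctor :=
    preservesColimit_of_preserves_colimit_cocone hI
      ((isColimitMapCoconeEmptyCoconeEquiv _ _).symm hFI)
  exact preservesColimitsOfShape_pempty_of_preservesInitial _

/-- the coproduct cofan in the opposite category -/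
def opCofan (A' B' : (FEt X)ᵒᵖ) : BinaryCofan A' B' :=
  BinaryCofan.mk (P := Opposite.op (prodFEt A'.unop B'.unop)) (fstFEt A'.unop B'.unop).op
    (sndFEt A'.unop B'.unop).op

def opCofan_isColimit (A' B' : (FEt X)ᵒᵖ) : IsColimit (opCofan A' B') :=
  BinaryCofan.IsColimit.mk _
    (fun {T} f g => (ObjectProperty.homMk (plift f.unop.hom g.unop.hom) :
      T.unop ⟶ prodFEt A'.unop B'.unop).op)
    (fun {T} f g => by
      apply Quiver.Hom.unop_inj
      apply ObjectProperty.hom_ext
      apply Alg.hom_ext
      intro p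
      apply AlgHom.ext
      intro c
      rfl)
    (fun {T} f g => by
      apply Quiver.Hom.unop_inj
      apply ObjectProperty.hom_ext
      apply Alg.hom_ext
      intro p
      apply AlgHom.ext
      intro c
      rfl)
    (fun {T} f g m h1 h2 => by
      apply Quiver.Hom.unop_inj
      apply ObjectProperty.hom_ext
      apply Alg.hom_ext
      intro p
      apply AlgHom.ext
      intro c
      have e1 := congrArg (fun k : A' ⟶ T => (k.unop.hom.app p) c) h1
      have e2 := congrArg (fun k : B' ⟶ T => (k.unop.hom.app p) c) h2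
      exact Prod.ext e1 e2)

theorem preservesColimit_pair (A' B' : (FEt X)ᵒᵖ) :
    PreservesColimit (pair A' B') ξ.fibFunctor := by
  have hA : Module.Finite (X.ring ξ.base) (A'.unop.obj.carrier ξ.base) := (A'.unop.property.2 _).1
  have hB : Module.Finite (X.ring ξ.base) (B'.unop.obj.carrier ξ.base) := (B'.unop.property.2 _).1
  have himg : IsColimit (BinaryCofan.mk (ξ.fibFunctor.map (fstFEt A'.unop B'.unop).op)
      (ξ.fibFunctor.map (sndFEt A'.unop B'.unop).op)) := by
    apply isColimitOfReflects FintypeCat.incl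
    refine (isColimitMapCoconeBinaryCofanEquiv FintypeCat.incl _ _).symm ?_
    apply Nonempty.some
    rw [Types.binaryCofan_isColimit_iff]
    refine ⟨fibMap_pfst_injective ξ A'.unop.obj B'.unop.obj hA,
      fibMap_psnd_injective ξ A'.unop.obj B'.unop.obj hB, ?_⟩
    refine ⟨Set.disjoint_left.mpr ?_, ?_⟩
    · rintro z ⟨a, rfl⟩ ⟨b, hb⟩
      exact fibMap_pfst_ne_psnd ξ A'.unop.obj B'.unop.obj hA hB a b hb.symm
    · rw [codisjoint_iff]
      apply Set.eq_univ_of_forall
      intro z
      show z ∈ _ ∪ _
      rcases fibMap_prod_cover ξ A'.unop.obj B'.unop.obj hA hB z with ⟨a, ha⟩ | ⟨b, hb⟩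
      · exact Or.inl ⟨a, ha⟩
      · exact Or.inr ⟨b, hb⟩
  exact preservesColimit_of_preserves_colimit_cocone (opCofan_isColimit A' B')
    ((isColimitMapCoconeBinaryCofanEquiv _ _ _).symm himg)

theorem preserves_binary_coproducts :
    PreservesColimitsOfShape (Discrete WalkingPair) ξ.fibFunctor := by
  refine ⟨fun {K} => ?_⟩
  haveI := preservesColimit_pair ξ (K.obj ⟨WalkingPair.left⟩) (K.obj ⟨WalkingPair.right⟩)
  exact preservesColimit_of_iso_diagram ξ.fibFunctor (diagramIsoPair K).symm

theorem preserves_finite_coproducts : PreservesFiniteCoproducts ξ.fibFunctor := by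
  haveI := hasBinaryProducts_FEt (X := X)
  haveI := hasTerminal_FEt X
  haveI : HasFiniteProducts (FEt X) := hasFiniteProducts_of_has_binary_and_terminal
  haveI : HasFiniteCoproducts (FEt X)ᵒᵖ := inferInstance
  haveI := preserves_binary_coproducts ξ
  haveI := preserves_initial ξ
  exact ⟨fun n => preservesShape_fin_of_preserves_binary_and_initial ξ.fibFunctor n⟩

theorem preserves_epis (hX : X.IsFinSp) : ξ.fibFunctor.PreservesEpimorphisms := by
  refine ⟨fun {A' B'} f' hf' => ?_⟩
  haveI : Mono f'.unop := unop_mono_of_epi f'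
  have hinj := mono_injective hX f'.unop ξ.base
  have hA : Module.Finite (X.ring ξ.base) (A'.unop.obj.carrier ξ.base) := (A'.unop.property.2 _).1
  have hB : Module.Finite (X.ring ξ.base) (B'.unop.obj.carrier ξ.base) := (B'.unop.property.2 _).1
  have hsurj := fibMap_surjective_of_injective ξ f'.unop.hom hB hA hinj
  exact ConcreteCategory.epi_of_surjective _ hsurj

theorem main (hX : X.IsSchematic) :
    PreservesLimitsOfShape (Discrete PEmpty.{1}) ξ.fibFunctor ∧ PreservesLimitsOfShape WalkingCospan ξ.fibFunctor ∧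
      PreservesFiniteCoproducts ξ.fibFunctor ∧ ξ.fibFunctor.PreservesEpimorphisms :=
  ⟨preserves_terminal ξ, preserves_pullbacks ξ, preserves_finite_coproducts ξ, preserves_epis ξ hX.1⟩

end glue

end Groth.Agent.Helper23.FEtGal
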