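import Groth.Agent.Lib.Helper23.FEtFull

/-!
# Finite étale covers of a geometrically connected scheme over a field (helper23)
-/

set_option autoImplicit false
set_option linter.style.haveILetI false

open CategoryTheory CategoryTheory.Limits AlgebraicGeometry

universe u

namespace Groth.Agent.Helper23.FEtGeo

/-- a finite scheme over a field has the discrete topology -/
theorem discreteTopology_of_isFinite (k : Type u) [Field k] {P : Scheme.{u}}
    (c : P ⟶ Spec (CommRingCat.of k)) [IsFinite c] : DiscreteTopology ↥P := by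
  rw [← isDiscrete_univ_iff]
  have h := Scheme.Hom.isDiscrete_preimage_singleton c
    (show ↥(Spec (CommRingCat.of k)) from IsLocalRing.closedPoint k)
  have : c.base ⁻¹' {(show ↥(Spec (CommRingCat.of k)) from IsLocalRing.closedPoint k)} =
      Set.univ := by
    ext x
    simp only [Set.mem_preimage, Set.mem_univ, iff_true]
    exact Subsingleton.elim _ _
  rwa [this] at h


set_option maxHeartbeats 800000 in
theorem isPreconnected_fibre (k : Type u) [Field k] {X : Scheme.{u}}
    (f : X ⟶ Spec (CommRingCat.of k))
    [ConnectedSpace ↥(pullback f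
      (Spec.map (CommRingCat.ofHom (algebraMap k (AlgebraicClosure k)))))]
    {P : Scheme.{u}} (c : P ⟶ Spec (CommRingCat.of k)) [IsFinite c] (p : P) :
    _root_.IsPreconnected ((pullback.fst c f).base ⁻¹' {p}) := by
  haveI := discreteTopology_of_isFinite k c
  have hpcl : IsClosed ({p} : Set P) := isClosed_discrete _
  haveI : IsClosedImmersion (P.fromSpecResidueField p) :=
    isClosed_singleton_iff_isClosedImmersion.1 hpcl
  -- the residue field is algebraic over `k`
  obtain ⟨ρr, hρr⟩ : ∃ ρr : CommRingCat.of k ⟶ P.residueField p,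
      Spec.map ρr = P.fromSpecResidueField p ≫ c := Spec.map_surjective _
  have hfin : ρr.hom.Finite := by
    rw [← IsFinite.SpecMap_iff, hρr]
    infer_instance
  algebraize [ρr.hom]
  haveI : Algebra.IsAlgebraic k (P.residueField p) := Algebra.IsAlgebraic.of_finite k _
  let ε₀ : P.residueField p →ₐ[k] AlgebraicClosure k := IsAlgClosed.lift
  let ε : P.residueField p ⟶ CommRingCat.of (AlgebraicClosure k) :=
    CommRingCat.ofHom ε₀.toRingHom
  have hε : ρr ≫ ε = CommRingCat.ofHom (algebraMap k (AlgebraicClosure k)) := by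
    ext x
    exact ε₀.commutes x
  have hε' : Spec.map ε ≫ P.fromSpecResidueField p ≫ c =
      Spec.map (CommRingCat.ofHom (algebraMap k (AlgebraicClosure k))) := by
    rw [← hρr, ← Spec.map_comp, hε]
  -- notation
  obtain ⟨alg, halg⟩ : ∃ alg, alg =
      Spec.map (CommRingCat.ofHom (algebraMap k (AlgebraicClosure k))) := ⟨_, rfl⟩
  rw [← halg] at hε'
  have hconn : ConnectedSpace ↥(pullback f alg) := by rw [halg]; infer_instance
  obtain ⟨e, he⟩ : ∃ e, e = Spec.map ε := ⟨_, rfl⟩
  rw [← he] at hε'
  haveI : Surjective e := by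
    rw [he]
    exact ⟨fun y => ⟨(show ↥(Spec (CommRingCat.of (AlgebraicClosure k))) from
      IsLocalRing.closedPoint (AlgebraicClosure k)), Subsingleton.elim _ _⟩⟩
  clear_value ε
  set q := pullback.fst c f with hq
  set r := P.fromSpecResidueField p with hr
  -- θ
  have h1 : (pullback.snd f alg ≫ e ≫ r) ≫ c = pullback.fst f alg ≫ f := by
    rw [Category.assoc, Category.assoc, hε', pullback.condition]
  let θ₀ : pullback f alg ⟶ pullback c f :=
    pullback.lift (pullback.snd f alg ≫ e ≫ r) (pullback.fst f alg) h1
  have hθ₀1 : θ₀ ≫ q = pullback.snd f alg ≫ e ≫ r := pullback.lift_fst _ _ _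
  have hθ₀2 : θ₀ ≫ pullback.snd c f = pullback.fst f alg := pullback.lift_snd _ _ _
  let θ : pullback f alg ⟶ pullback q r :=
    pullback.lift θ₀ (pullback.snd f alg ≫ e) (by rw [hθ₀1, Category.assoc])
  have hθ1 : θ ≫ pullback.fst q r = θ₀ := pullback.lift_fst _ _ _
  have hθ2 : θ ≫ pullback.snd q r = pullback.snd f alg ≫ e := pullback.lift_snd _ _ _
  -- G
  have h3 : (pullback.fst (pullback.snd q r) e ≫ pullback.fst q r ≫ pullback.snd c f) ≫ f =
      pullback.snd (pullback.snd q r) e ≫ alg := by
    rw [Category.assoc, Category.assoc, ← pullback.condition (f := c) (g := f), ← hq,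
      pullback.condition_assoc (f := q) (g := r), pullback.condition_assoc, hε']
  let η : pullback (pullback.snd q r) e ⟶ pullback f alg :=
    pullback.lift (pullback.fst (pullback.snd q r) e ≫ pullback.fst q r ≫ pullback.snd c f)
      (pullback.snd (pullback.snd q r) e) h3
  have hη1 : η ≫ pullback.fst f alg =
      pullback.fst (pullback.snd q r) e ≫ pullback.fst q r ≫ pullback.snd c f :=
    pullback.lift_fst _ _ _
  have hη2 : η ≫ pullback.snd f alg = pullback.snd (pullback.snd q r) e := pullback.lift_snd _ _ _
  let ζ : pullback f alg ⟶ pullback (pullback.snd q r) e :=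
    pullback.lift θ (pullback.snd f alg) hθ2
  have hζ1 : ζ ≫ pullback.fst (pullback.snd q r) e = θ := pullback.lift_fst _ _ _
  have hζ2 : ζ ≫ pullback.snd (pullback.snd q r) e = pullback.snd f alg := pullback.lift_snd _ _ _
  have hηζ : η ≫ ζ = 𝟙 _ := by
    apply pullback.hom_ext
    · rw [Category.assoc, hζ1, Category.id_comp]
      apply pullback.hom_ext
      · rw [Category.assoc, hθ1]
        apply pullback.hom_ext
        · rw [Category.assoc, ← hq, hθ₀1, reassoc_of% hη2, Category.assoc,
            pullback.condition (f := q) (g := r), pullback.condition_assoc]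
        · rw [Category.assoc, hθ₀2, hη1, Category.assoc]
      · rw [Category.assoc, hθ2, reassoc_of% hη2, pullback.condition]
    · rw [Category.assoc, hζ2, hη2, Category.id_comp]
  -- conclusion
  have hrange : (pullback.fst c f).base ⁻¹' {p} =
      Set.range (ζ ≫ pullback.fst (pullback.snd q r) e ≫ pullback.fst q r).base := by
    rw [← hq, ← Scheme.Hom.range_fiberι q p]
    apply Set.Subset.antisymm
    · rintro _ ⟨t, rfl⟩
      obtain ⟨g, rfl⟩ := (pullback.fst (pullback.snd q r) e).surjective t
      refine ⟨η.base g, ?_⟩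
      have := congrArg (fun m => (m ≫ pullback.fst (pullback.snd q r) e ≫ pullback.fst q r).base g)
        hηζ
      exact this
    · rintro _ ⟨x, rfl⟩
      exact ⟨(ζ ≫ pullback.fst (pullback.snd q r) e).base x, rfl⟩
  rw [hrange]
  exact isPreconnected_range
    (ζ ≫ pullback.fst (pullback.snd q r) e ≫ pullback.fst q r).continuous


end Groth.Agent.Helper23.FEtGeo
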