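import Groth.Agent.Lib.Helper23.FEtInv
import Mathlib

set_option autoImplicit false
set_option linter.style.haveILetI false
set_option linter.unusedVariables false
universe u
open SchFin

namespace Groth.Agent.Helper23.FEtInvCat
open CategoryTheory CategoryTheory.Limits TensorProduct Groth.Agent.Helper23.FEtInv

/-- local triviality hypothesis -/
def LT (X : RSpace.{u}) : Prop :=
  ∀ A : FEt X, ∃ (B : Alg X) (n : ℕ), B.IsCovering ∧
      ∀ p : X.pt, Nonempty (TensorProduct (X.ring p) (B.carrier p) (A.obj.carrier p) ≃ₐ[B.carrier p] (Fin n → B.carrier p))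

variable {X : RSpace.{u}} (hX : X.IsFinSp) (hlt : LT X)

/-- invariants of a finite family of endomorphisms of an étale cover -/
def invFEt (A : FEt X) {ι : Type*} [Finite ι] (σ : ι → (A ⟶ A)) : FEt X :=
  ⟨invAlg A.obj (fun i => (σ i).hom), invAlg_isEtCover hX A.obj A.property _ (hlt A)⟩

/-- inclusion of invariants -/
def invι (A : FEt X) {ι : Type*} [Finite ι] (σ : ι → (A ⟶ A)) : invFEt hX hlt A σ ⟶ A :=
  ObjectProperty.homMk (invIncl A.obj (fun i => (σ i).hom))

theorem invι_comp (A : FEt X) {ι : Type*} [Finite ι] (σ : ι → (A ⟶ A)) (i : ι) :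
    invι hX hlt A σ ≫ σ i = invι hX hlt A σ := by
  apply ObjectProperty.hom_ext
  exact invIncl_comp A.obj (fun i => (σ i).hom) i

/-- lifting to invariants -/
def invLiftFEt (A : FEt X) {ι : Type*} [Finite ι] (σ : ι → (A ⟶ A)) {Z : FEt X} (f : Z ⟶ A)
    (hf : ∀ i, f ≫ σ i = f) : Z ⟶ invFEt hX hlt A σ :=
  ObjectProperty.homMk (invLift A.obj (fun i => (σ i).hom) f.hom
    (fun i => congrArg (fun k : Z ⟶ A => k.hom) (hf i)))

theorem invLiftFEt_ι (A : FEt X) {ι : Type*} [Finite ι] (σ : ι → (A ⟶ A)) {Z : FEt X} (f : Z ⟶ A)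
    (hf : ∀ i, f ≫ σ i = f) : invLiftFEt hX hlt A σ f hf ≫ invι hX hlt A σ = f := by
  apply ObjectProperty.hom_ext
  exact invLift_incl A.obj (fun i => (σ i).hom) f.hom
    (fun i => congrArg (fun k : Z ⟶ A => k.hom) (hf i))

theorem invι_mono (A : FEt X) {ι : Type*} [Finite ι] (σ : ι → (A ⟶ A)) {Z : FEt X}
    (f g : Z ⟶ invFEt hX hlt A σ) (h : f ≫ invι hX hlt A σ = g ≫ invι hX hlt A σ) : f = g := by
  apply ObjectProperty.hom_ext
  apply invIncl_mono A.obj (fun i => (σ i).hom)
  exact congrArg (fun k : Z ⟶ A => k.hom) h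

section lim
variable {G : Type u} [Group G] [Finite G] (K : SingleObj G ⥤ FEt X)

/-- the action maps of a diagram -/
def act (g : G) : K.obj (SingleObj.star G) ⟶ K.obj (SingleObj.star G) :=
  K.map (X := SingleObj.star G) (Y := SingleObj.star G) g

/-- the limit cone of a diagram indexed by a finite group -/
def limCone : Cone K where
  pt := invFEt hX hlt (K.obj (SingleObj.star G)) (act K)
  π :=
    { app := fun _ => invι hX hlt (K.obj (SingleObj.star G)) (act K)
      naturality := fun j j' g => by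
        change 𝟙 _ ≫ invι hX hlt (K.obj (SingleObj.star G)) (act K) =
          invι hX hlt (K.obj (SingleObj.star G)) (act K) ≫ act K g
        rw [Category.id_comp, invι_comp] }

/-- the cone is a limit -/
def limCone_isLimit : IsLimit (limCone hX hlt K) where
  lift s := invLiftFEt hX hlt (K.obj (SingleObj.star G)) (act K) (s.π.app (SingleObj.star G))
    (fun g => by
      have := s.π.naturality (X := SingleObj.star G) (Y := SingleObj.star G) g
      exact this.symm.trans (Category.id_comp _))
  fac s j := invLiftFEt_ι hX hlt (K.obj (SingleObj.star G)) (act K) _ _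
  uniq s m hm := by
    apply invι_mono hX hlt (K.obj (SingleObj.star G)) (act K)
    rw [invLiftFEt_ι]
    exact hm (SingleObj.star G)

include hX hlt in
theorem main : HasLimitsOfShape (SingleObj G) (FEt X) :=
  ⟨fun K => ⟨⟨⟨limCone hX hlt K, limCone_isLimit hX hlt K⟩⟩⟩⟩

end lim

end Groth.Agent.Helper23.FEtInvCat
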