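import Groth.Agent.Lib.Helper23.FEtInvCat
import Groth.Agent.Lib.Helper23.FEtGal
import Mathlib

set_option autoImplicit false
set_option linter.style.haveILetI false
set_option linter.unusedVariables false
set_option linter.unusedSectionVars false
universe u
open SchFin

namespace Groth.Agent.Helper23.FEtOrb
open CategoryTheory CategoryTheory.Limits TensorProduct Groth.Agent.Helper23.FEtInv
  Groth.Agent.Helper23.FEtInvCat Groth.Agent.Helper23.FEtFib

section orbit
open Polynomial

variable {B L : Type u} [CommRing B] [CommRing L] [IsDomain L] {G : Type*} [Group G] [Fintype G]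
  (τ : G → (B →+* B)) (hτ1 : τ 1 = RingHom.id B) (hτmul : ∀ g h, τ (g * h) = (τ h).comp (τ g))
  (ρ₁ ρ₂ : B →+* L) (hρ : ∀ b, (∀ g, τ g b = b) → ρ₁ b = ρ₂ b)

include hτ1 hτmul hρ in
theorem exists_orbit_poly (f : B[X]) : ∃ g, ∀ k, ρ₂ (f.coeff k) = ρ₁ (τ g (f.coeff k)) := by
  classical
  let τ' : G → (B[X] →+* B[X]) := fun g => Polynomial.mapRingHom (τ g)
  let F : B[X][X] := ∏ g : G, (X - C (τ' g f))
  have hFinv : ∀ h, F.map (τ' h) = F := by
    intro h
    change (∏ g : G, (X - C (τ' g f))).map (τ' h) = ∏ g : G, (X - C (τ' g f))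
    rw [Polynomial.map_prod]
    refine Fintype.prod_equiv (Equiv.mulRight h) _ _ (fun g => ?_)
    rw [Polynomial.map_sub, Polynomial.map_X, Polynomial.map_C]
    congr 2
    change (Polynomial.mapRingHom (τ h)) ((Polynomial.mapRingHom (τ g)) f) =
      Polynomial.mapRingHom (τ (g * h)) f
    rw [hτmul, Polynomial.coe_mapRingHom, Polynomial.coe_mapRingHom, Polynomial.coe_mapRingHom,
      Polynomial.map_map]
  have hcoeff : ∀ j k, ρ₁ ((F.coeff j).coeff k) = ρ₂ ((F.coeff j).coeff k) := by
    intro j k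
    apply hρ
    intro g
    have h1 := congrArg (fun P : B[X][X] => (P.coeff j).coeff k) (hFinv g)
    simp only [Polynomial.coeff_map] at h1
    change ((Polynomial.mapRingHom (τ g)) (F.coeff j)).coeff k = _ at h1
    rw [Polynomial.coe_mapRingHom, Polynomial.coeff_map] at h1
    exact h1
  let ρ₁' : B[X] →+* L[X] := Polynomial.mapRingHom ρ₁
  let ρ₂' : B[X] →+* L[X] := Polynomial.mapRingHom ρ₂
  have hFmap : F.map ρ₁' = F.map ρ₂' := by
    ext j k
    rw [Polynomial.coeff_map, Polynomial.coeff_map]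
    change ((F.coeff j).map ρ₁).coeff k = ((F.coeff j).map ρ₂).coeff k
    rw [Polynomial.coeff_map, Polynomial.coeff_map, hcoeff]
  have hFf : F.eval f = 0 := by
    change (∏ g : G, (X - C (τ' g f))).eval f = 0
    rw [Polynomial.eval_prod]
    apply Finset.prod_eq_zero (Finset.mem_univ (1 : G))
    rw [Polynomial.eval_sub, Polynomial.eval_X, Polynomial.eval_C]
    change f - (Polynomial.mapRingHom (τ 1)) f = 0
    rw [hτ1, Polynomial.coe_mapRingHom, Polynomial.map_id, sub_self]
  have h2 : (F.map ρ₂').eval (ρ₂' f) = 0 := by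
    rw [Polynomial.eval_map_apply, hFf, map_zero]
  rw [← hFmap] at h2
  change ((∏ g : G, (X - C (τ' g f))).map ρ₁').eval (ρ₂' f) = 0 at h2
  rw [Polynomial.map_prod, Polynomial.eval_prod, Finset.prod_eq_zero_iff] at h2
  obtain ⟨g, -, hg⟩ := h2
  rw [Polynomial.map_sub, Polynomial.map_X, Polynomial.map_C, Polynomial.eval_sub,
    Polynomial.eval_X, Polynomial.eval_C, sub_eq_zero] at hg
  refine ⟨g, fun k => ?_⟩
  have := congrArg (fun P : L[X] => P.coeff k) hg
  change (f.map ρ₂).coeff k = (((f.map (τ g))).map ρ₁).coeff k at this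
  rw [Polynomial.coeff_map, Polynomial.coeff_map, Polynomial.coeff_map] at this
  exact this

include hτ1 hτmul hρ in
theorem exists_orbit_finset (s : Finset B) : ∃ g, ∀ b ∈ s, ρ₂ b = ρ₁ (τ g b) := by
  classical
  obtain ⟨m, ⟨e⟩⟩ : ∃ m, Nonempty (s ≃ Fin m) := ⟨_, ⟨s.equivFin⟩⟩
  let bf : ℕ → B := fun k => if h : k < m then (e.symm ⟨k, h⟩ : B) else 0
  let f : B[X] := ∑ k ∈ Finset.range m, Polynomial.monomial k (bf k)
  have hf : ∀ k, k < m → f.coeff k = bf k := by
    intro k hk
    change (∑ k ∈ Finset.range m, Polynomial.monomial k (bf k)).coeff k = _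
    rw [Polynomial.finsetSum_coeff]
    simp only [Polynomial.coeff_monomial]
    rw [Finset.sum_ite_eq' (Finset.range m) k, if_pos (Finset.mem_range.2 hk)]
  obtain ⟨g, hg⟩ := exists_orbit_poly τ hτ1 hτmul ρ₁ ρ₂ hρ f
  refine ⟨g, fun b hb => ?_⟩
  have h1 := hg (e ⟨b, hb⟩).1
  rw [hf _ (e ⟨b, hb⟩).2] at h1
  have h2 : bf (e ⟨b, hb⟩).1 = b := by
    change (if h : (e ⟨b, hb⟩).1 < m then (e.symm ⟨(e ⟨b, hb⟩).1, h⟩ : B) else 0) = b
    rw [dif_pos (e ⟨b, hb⟩).2]
    simp
  rw [h2] at h1
  exact h1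

end orbit


section fiborbit

variable {X : RSpace.{u}} {F : Type u} [Field F] [IsAlgClosed F] (ξ : GeomPt X F)

attribute [local instance] algΩ

theorem fib_orbit (A : Alg X) (hfin : Module.Finite (X.ring ξ.base) (A.carrier ξ.base))
    {G : Type*} [Group G] [Finite G] (σ : G → (A ⟶ A)) (hσ1 : σ 1 = 𝟙 A)
    (hσmul : ∀ g h, σ (g * h) = σ g ≫ σ h) (x₁ x₂ : ξ.Fib A)
    (h : ξ.fibMap (invIncl A σ) x₁ = ξ.fibMap (invIncl A σ) x₂) :
    ∃ g, x₂ = ξ.fibMap (σ g) x₁ := by
  classical
  letI := Fintype.ofFinite G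
  obtain ⟨ρ₁, rfl⟩ := fibOf_surjective ξ A hfin x₁
  obtain ⟨ρ₂, rfl⟩ := fibOf_surjective ξ A hfin x₂
  rw [fibMap_fibOf, fibMap_fibOf] at h
  have h2 := fibOf_injective ξ _ h
  let τ : G → (A.carrier ξ.base →+* A.carrier ξ.base) := fun g => ((σ g).app ξ.base : _ →+* _)
  have hτ1 : τ 1 = RingHom.id _ := by
    change (AlgHom.toRingHom ((σ 1).app ξ.base)) = _
    rw [hσ1]
    rfl
  have hτmul : ∀ g h, τ (g * h) = (τ h).comp (τ g) := by
    intro g h
    change (AlgHom.toRingHom ((σ (g * h)).app ξ.base)) = _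
    rw [hσmul]
    rfl
  have hρ : ∀ b, (∀ g, τ g b = b) → (ρ₁ : A.carrier ξ.base →+* F) b = (ρ₂ : A.carrier ξ.base →+* F) b := by
    intro b hb
    exact AlgHom.congr_fun h2 (⟨b, hb⟩ : invSub (fun i => (σ i).app ξ.base))
  obtain ⟨s, hs⟩ := (Module.Finite.fg_top : (⊤ : Submodule (X.ring ξ.base) (A.carrier ξ.base)).FG)
  obtain ⟨g, hg⟩ := exists_orbit_finset τ hτ1 hτmul (ρ₁ : A.carrier ξ.base →+* F)
    (ρ₂ : A.carrier ξ.base →+* F) hρ s
  refine ⟨g, ?_⟩
  rw [fibMap_fibOf]
  congr 1
  apply AlgHom.toLinearMap_injective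
  apply LinearMap.ext_on hs
  intro b hb
  exact hg b hb

end fiborbit

section colim

variable {X : RSpace.{u}} (hX : X.IsFinSp) (hlt : LT X) {G : Type u} [Group G] [Finite G]
  (K : SingleObj G ⥤ (FEt X)ᵒᵖ)

/-- the underlying object -/
abbrev objA : FEt X := (K.obj (SingleObj.star G)).unop

/-- the action maps -/
def actOp (g : G) : objA K ⟶ objA K :=
  (K.map (X := SingleObj.star G) (Y := SingleObj.star G) g).unop

theorem actOp_one : actOp K 1 = 𝟙 _ := by
  change (K.map (𝟙 (SingleObj.star G))).unop = _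
  rw [K.map_id]
  rfl

theorem actOp_mul (g h : G) : actOp K (g * h) = actOp K g ≫ actOp K h := by
  have : (K.map (X := SingleObj.star G) (Y := SingleObj.star G) (g * h)) =
      K.map (X := SingleObj.star G) (Y := SingleObj.star G) h ≫
        K.map (X := SingleObj.star G) (Y := SingleObj.star G) g := by
    rw [← K.map_comp]
    rfl
  change (K.map (X := SingleObj.star G) (Y := SingleObj.star G) (g * h)).unop = _
  rw [this]
  rfl

/-- the colimit cocone: the invariants -/
def colimCocone : Cocone K where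
  pt := Opposite.op (invFEt hX hlt (objA K) (actOp K))
  ι :=
    { app := fun _ => (invι hX hlt (objA K) (actOp K)).op
      naturality := fun j j' g => by
        apply Quiver.Hom.unop_inj
        change invι hX hlt (objA K) (actOp K) ≫ actOp K g = (𝟙 _ ≫ invι hX hlt (objA K) (actOp K))
        rw [Category.id_comp, invι_comp] }

theorem cocone_inv (s : Cocone K) (g : G) :
    (s.ι.app (SingleObj.star G)).unop ≫ actOp K g = (s.ι.app (SingleObj.star G)).unop := by
  have := s.ι.naturality (X := SingleObj.star G) (Y := SingleObj.star G) g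
  have h2 := congrArg Quiver.Hom.unop this
  exact h2.trans (Category.id_comp _)

def colimCocone_isColimit : IsColimit (colimCocone hX hlt K) where
  desc s := (invLiftFEt hX hlt (objA K) (actOp K) (s.ι.app (SingleObj.star G)).unop
    (cocone_inv K s)).op
  fac s j := by
    apply Quiver.Hom.unop_inj
    exact invLiftFEt_ι hX hlt (objA K) (actOp K) (s.ι.app (SingleObj.star G)).unop (cocone_inv K s)
  uniq s m hm := by
    apply Quiver.Hom.unop_inj
    apply invι_mono hX hlt (objA K) (actOp K)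
    change _ = invLiftFEt hX hlt (objA K) (actOp K) (s.ι.app (SingleObj.star G)).unop
      (cocone_inv K s) ≫ _
    rw [invLiftFEt_ι]
    exact congrArg Quiver.Hom.unop (hm (SingleObj.star G))

section pres

variable {F : Type u} [Field F] [IsAlgClosed F] (ξ : GeomPt X F)

/-- the quotient map on fibres -/
def quo : ξ.Fib (objA K).obj → ξ.Fib (invFEt hX hlt (objA K) (actOp K)).obj :=
  ξ.fibMap (invι hX hlt (objA K) (actOp K)).hom

theorem quo_surjective : Function.Surjective (quo hX hlt K ξ) := by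
  have hA : Module.Finite (X.ring ξ.base) ((objA K).obj.carrier ξ.base) := ((objA K).property.2 _).1
  have hI : Module.Finite (X.ring ξ.base)
      ((invFEt hX hlt (objA K) (actOp K)).obj.carrier ξ.base) :=
    ((invFEt hX hlt (objA K) (actOp K)).property.2 _).1
  exact fibMap_surjective_of_injective ξ (invι hX hlt (objA K) (actOp K)).hom hI hA
    Subtype.val_injective

theorem quo_orbit (x₁ x₂ : ξ.Fib (objA K).obj) (h : quo hX hlt K ξ x₁ = quo hX hlt K ξ x₂) :
    ∃ g, x₂ = ξ.fibMap (actOp K g).hom x₁ := by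
  have hA : Module.Finite (X.ring ξ.base) ((objA K).obj.carrier ξ.base) := ((objA K).property.2 _).1
  exact fib_orbit ξ (objA K).obj hA (fun g => (actOp K g).hom)
    (congrArg (fun k : objA K ⟶ objA K => k.hom) (actOp_one K))
    (fun g h => congrArg (fun k : objA K ⟶ objA K => k.hom) (actOp_mul K g h)) x₁ x₂ h

theorem cocone_fib_inv (s : Cocone (K ⋙ ξ.fibFunctor)) (g : G) (x : ξ.Fib (objA K).obj) :
    (s.ι.app (SingleObj.star G)) (ξ.fibMap (actOp K g).hom x) = (s.ι.app (SingleObj.star G)) x := by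
  have := s.ι.naturality (X := SingleObj.star G) (Y := SingleObj.star G) g
  have h2 := congrArg (fun k => k x) this
  exact h2

theorem cocone_fib_wd (s : Cocone (K ⋙ ξ.fibFunctor)) (x x' : ξ.Fib (objA K).obj)
    (h : quo hX hlt K ξ x' = quo hX hlt K ξ x) :
    (s.ι.app (SingleObj.star G)) x' = (s.ι.app (SingleObj.star G)) x := by
  obtain ⟨g, hg⟩ := quo_orbit hX hlt K ξ x' x h
  rw [hg, cocone_fib_inv]

noncomputable def mapCocone_isColimit :
    IsColimit (ξ.fibFunctor.mapCocone (colimCocone hX hlt K)) where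
  desc s := FintypeCat.homMk (fun y =>
    (s.ι.app (SingleObj.star G)) (Classical.choose (quo_surjective hX hlt K ξ y)))
  fac s j := by
    ext x
    change (s.ι.app (SingleObj.star G))
      (Classical.choose (quo_surjective hX hlt K ξ (quo hX hlt K ξ x))) = (s.ι.app (SingleObj.star G)) x
    exact cocone_fib_wd hX hlt K ξ s x _
      (Classical.choose_spec (quo_surjective hX hlt K ξ (quo hX hlt K ξ x)))
  uniq s m hm := by
    ext y
    obtain ⟨x, rfl⟩ := quo_surjective hX hlt K ξ y
    have h1 := congrArg (fun k => k x) (hm (SingleObj.star G))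
    change m (quo hX hlt K ξ x) = (s.ι.app (SingleObj.star G))
      (Classical.choose (quo_surjective hX hlt K ξ (quo hX hlt K ξ x)))
    exact h1.trans (cocone_fib_wd hX hlt K ξ s x _
      (Classical.choose_spec (quo_surjective hX hlt K ξ (quo hX hlt K ξ x)))).symm

end pres

include hX hlt in
theorem preserves_singleObj {F : Type u} [Field F] [IsAlgClosed F] (ξ : GeomPt X F) :
    PreservesColimitsOfShape (SingleObj G) ξ.fibFunctor :=
  ⟨fun {K} => preservesColimit_of_preserves_colimit_cocone (colimCocone_isColimit hX hlt K)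
    (mapCocone_isColimit hX hlt K ξ)⟩

include hX hlt in
theorem hasColimits_singleObj : HasColimitsOfShape (SingleObj G) (FEt X)ᵒᵖ :=
  ⟨fun K => ⟨⟨⟨colimCocone hX hlt K, colimCocone_isColimit hX hlt K⟩⟩⟩⟩

end colim

end Groth.Agent.Helper23.FEtOrb
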