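import Mathlib

/-!
# Maps of finite flat modules which are fibrewise bijective in codimension `≤ 1`

Helper library of helper23 (for S15809).
-/

set_option autoImplicit false
universe u

open TensorProduct

namespace Groth.Agent.Helper23.FFib

/-- Free case: a linear map between finite free modules over a Noetherian ring which becomes
bijective after base change to a field "at" every prime of height `≤ 1` is bijective. -/
theorem bij_of_free {R : Type u} [CommRing R] [IsNoetherianRing R] {M N : Type u}
    [AddCommGroup M] [Module R M] [AddCommGroup N] [Module R N]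
    [Module.Free R M] [Module.Finite R M] [Module.Free R N] [Module.Finite R N]
    (φ : M →ₗ[R] N)
    (H : ∀ (p : Ideal R) [p.IsPrime], p.height ≤ 1 →
      ∃ (K : Type u) (_ : Field K) (_ : Algebra R K),
        p ≤ RingHom.ker (algebraMap R K) ∧ Function.Bijective (φ.baseChange K)) :
    Function.Bijective φ := by
  rcases subsingleton_or_nontrivial R with hR | hR
  · haveI : Subsingleton M := Module.subsingleton R M
    haveI : Subsingleton N := Module.subsingleton R N
    exact ⟨fun _ _ _ => Subsingleton.elim _ _, fun y => ⟨0, Subsingleton.elim _ _⟩⟩
  -- rank equality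
  have hrank : Module.finrank R M = Module.finrank R N := by
    obtain ⟨p₀, hp₀⟩ := Ideal.nonempty_minimalPrimes (I := (⊥ : Ideal R)) (by simp)
    haveI : p₀.IsPrime := hp₀.1.1
    have hh : p₀.height ≤ 1 :=
      Ideal.height_le_one_of_isPrincipal_of_mem_minimalPrimes (⊥ : Ideal R) p₀ hp₀
    obtain ⟨K, _, _, -, hb⟩ := H p₀ hh
    have e := LinearEquiv.ofBijective (φ.baseChange K) hb
    have := e.finrank_eq
    rwa [Module.finrank_baseChange, Module.finrank_baseChange] at this
  let e : N ≃ₗ[R] M := (LinearEquiv.ofFinrankEq M N hrank).symm
  let f : M →ₗ[R] M := e.toLinearMap ∘ₗ φ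
  have hd : IsUnit (LinearMap.det f) := by
    by_contra hd
    have hne : Ideal.span {LinearMap.det f} ≠ ⊤ := by
      rwa [Ne, Ideal.span_singleton_eq_top]
    obtain ⟨p, hp⟩ := Ideal.nonempty_minimalPrimes hne
    haveI : p.IsPrime := hp.1.1
    have hh : p.height ≤ 1 :=
      Ideal.height_le_one_of_isPrincipal_of_mem_minimalPrimes _ p hp
    obtain ⟨K, _, _, hker, hb⟩ := H p hh
    have hfK : f.baseChange K = (e.toLinearMap.baseChange K) ∘ₗ (φ.baseChange K) :=
      LinearMap.baseChange_comp _ _
    have hbe : Function.Bijective (e.toLinearMap.baseChange K) := by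
      rw [LinearMap.baseChange_eq_ltensor]
      exact (e.lTensor K).bijective
    have hbf : Function.Bijective (f.baseChange K) := by
      rw [hfK]
      exact hbe.comp hb
    have hu : IsUnit (LinearMap.det (f.baseChange K)) :=
      (LinearEquiv.ofBijective _ hbf).isUnit_det'
    rw [LinearMap.det_baseChange] at hu
    have hmem : LinearMap.det f ∈ p := hp.1.2 (Ideal.mem_span_singleton_self _)
    have h0 : algebraMap R K (LinearMap.det f) = 0 := hker hmem
    rw [h0] at hu
    exact not_isUnit_zero hu
  have hbf : Function.Bijective f :=
    (Module.End.isUnit_iff f).mp ((LinearMap.isUnit_iff_isUnit_det f).mpr hd)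
  have hφ : (φ : M → N) = e.symm ∘ f := by
    funext x
    simp [f]
  rw [hφ]
  exact e.symm.bijective.comp hbf

end Groth.Agent.Helper23.FFib

namespace Groth.Agent.Helper23.FFib

/-- Bijectivity can be checked after base change to the localizations at all maximal ideals. -/
theorem bij_of_baseChange_localization {R : Type u} [CommRing R] {M N : Type u}
    [AddCommGroup M] [Module R M] [AddCommGroup N] [Module R N] (φ : M →ₗ[R] N)
    (H : ∀ (J : Ideal R) [J.IsMaximal],
      Function.Bijective (φ.baseChange (Localization.AtPrime J))) :
    Function.Bijective φ := by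
  apply bijective_of_isLocalized_maximal
    (fun P _ => Localization.AtPrime P ⊗[R] M) (fun P _ => TensorProduct.mk R _ M 1)
    (fun P _ => Localization.AtPrime P ⊗[R] N) (fun P _ => TensorProduct.mk R _ N 1) φ
  intro P _
  have : IsLocalizedModule.map P.primeCompl (TensorProduct.mk R (Localization.AtPrime P) M 1)
      (TensorProduct.mk R (Localization.AtPrime P) N 1) φ =
      (φ.baseChange (Localization.AtPrime P)).restrictScalars R := by
    apply IsLocalizedModule.linearMap_ext P.primeCompl
      (TensorProduct.mk R (Localization.AtPrime P) M 1)
      (TensorProduct.mk R (Localization.AtPrime P) N 1)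
    ext x
    have := IsLocalizedModule.map_apply P.primeCompl
      (TensorProduct.mk R (Localization.AtPrime P) M 1)
      (TensorProduct.mk R (Localization.AtPrime P) N 1) φ x
    simpa using this
  rw [this]
  exact H P

end Groth.Agent.Helper23.FFib

namespace Groth.Agent.Helper23.FFib

/-- Flat case: a linear map between finite flat modules over a Noetherian ring which becomes
bijective after base change to a field "at" every prime of height `≤ 1` is bijective. -/
theorem bij_of_flat {R : Type u} [CommRing R] [IsNoetherianRing R] {M N : Type u}
    [AddCommGroup M] [Module R M] [AddCommGroup N] [Module R N]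
    [Module.Flat R M] [Module.Finite R M] [Module.Flat R N] [Module.Finite R N]
    (φ : M →ₗ[R] N)
    (H : ∀ (p : Ideal R) [p.IsPrime], p.height ≤ 1 →
      ∃ (K : Type u) (_ : Field K) (_ : Algebra R K),
        RingHom.ker (algebraMap R K) = p ∧ Function.Bijective (φ.baseChange K)) :
    Function.Bijective φ := by
  apply bij_of_baseChange_localization
  intro J _
  haveI : IsNoetherianRing (Localization.AtPrime J) :=
    IsLocalization.isNoetherianRing J.primeCompl _ inferInstance
  haveI : Module.Free (Localization.AtPrime J) (Localization.AtPrime J ⊗[R] M) :=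
    Module.free_of_flat_of_isLocalRing
  haveI : Module.Free (Localization.AtPrime J) (Localization.AtPrime J ⊗[R] N) :=
    Module.free_of_flat_of_isLocalRing
  apply bij_of_free
  intro q _ hq
  have hp : (q.under R).height ≤ 1 := by
    rw [IsLocalization.height_under J.primeCompl]; exact hq
  obtain ⟨K, _, _, hker, hb⟩ := H (q.under R) hp
  have hpJ : q.under R ≤ J := by
    have h1 : q ≤ IsLocalRing.maximalIdeal (Localization.AtPrime J) :=
      IsLocalRing.le_maximalIdeal (Ideal.IsPrime.ne_top inferInstance)
    have h2 : q.under R ≤ (IsLocalRing.maximalIdeal (Localization.AtPrime J)).under R :=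
      Ideal.comap_mono (f := algebraMap R (Localization.AtPrime J)) h1
    rwa [IsLocalization.AtPrime.under_maximalIdeal (Localization.AtPrime J) J] at h2
  have hunits : ∀ y : J.primeCompl, IsUnit (algebraMap R K y) := by
    intro y
    rw [isUnit_iff_ne_zero]
    intro h0
    have : (y : R) ∈ q.under R := by rw [← hker]; exact h0
    exact y.2 (hpJ this)
  let ρ : Localization.AtPrime J →+* K := IsLocalization.lift hunits
  letI : Algebra (Localization.AtPrime J) K := ρ.toAlgebra
  haveI : IsScalarTower R (Localization.AtPrime J) K :=
    IsScalarTower.of_algebraMap_eq (fun x => (IsLocalization.lift_eq hunits x).symm)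
  refine ⟨K, inferInstance, inferInstance, ?_, ?_⟩
  · intro y hy
    obtain ⟨r, s, rfl⟩ := IsLocalization.exists_mk'_eq J.primeCompl y
    have hr : r ∈ q.under R := (IsLocalization.mk'_mem_iff).mp hy
    have h0 : algebraMap R K r = 0 := by rw [← RingHom.mem_ker, hker]; exact hr
    rw [RingHom.mem_ker]
    change ρ _ = 0
    rw [IsLocalization.lift_mk', h0]
    simp
  · let eM := AlgebraTensorModule.cancelBaseChange R (Localization.AtPrime J) K K M
    let eN := AlgebraTensorModule.cancelBaseChange R (Localization.AtPrime J) K K N
    have hcomm : ∀ z, eN (((φ.baseChange (Localization.AtPrime J)).baseChange K) z) =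
        (φ.baseChange K) (eM z) := by
      intro z
      induction z using TensorProduct.induction_on with
      | zero => simp
      | tmul k w =>
        induction w using TensorProduct.induction_on with
        | zero => simp
        | tmul a m => simp [eM, eN]
        | add x y hx hy => simp only [tmul_add, map_add, hx, hy]
      | add x y hx hy => simp only [map_add, hx, hy]
    have hfun : (((φ.baseChange (Localization.AtPrime J)).baseChange K) : _ → _) =
        eN.symm ∘ (φ.baseChange K) ∘ eM := by
      funext z
      simp only [Function.comp_apply]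
      rw [← hcomm, LinearEquiv.symm_apply_apply]
    rw [hfun]
    exact eN.symm.bijective.comp (hb.comp eM.bijective)

end Groth.Agent.Helper23.FFib
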