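import Mathlib

/-!
# Fibres of morphisms of affine-over-the-base schemes, in terms of tensor products

Helper library of helper23 (for S15809).
-/

set_option autoImplicit false
universe u

open CategoryTheory CategoryTheory.Limits AlgebraicGeometry TensorProduct

namespace Groth.Agent.Helper23.FFib

section core

variable {R A B K : Type u} [CommRing R] [CommRing A] [CommRing B] [CommRing K]
  [Algebra R A] [Algebra R B] [Algebra R K]

/-- The big pullback square `Spec (K ⊗ A) → P`, `Spec K → S`. -/
theorem isPullback_big {S P : Scheme.{u}} (p : P ⟶ S)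
    (jS : Spec (.of R) ⟶ S) (jP : Spec (.of A) ⟶ P)
    (hP : IsPullback jP (Spec.map (CommRingCat.ofHom (algebraMap R A))) p jS) :
    IsPullback
      (Spec.map (CommRingCat.ofHom
        (Algebra.TensorProduct.includeRight (R := R) (A := K) (B := A)).toRingHom) ≫ jP)
      (Spec.map (CommRingCat.ofHom
        (Algebra.TensorProduct.includeLeftRingHom (R := R) (A := K) (B := A))))
      p
      (Spec.map (CommRingCat.ofHom (algebraMap R K)) ≫ jS) := by
  have sq2 := isPullback_SpecMap_of_isPushout _ _ _ _ (CommRingCat.isPushout_tensorProduct R K A)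
  exact sq2.flip.paste_horiz hP

/-- Core translation: if the base change of `ψ : P ⟶ Q` (over `S`) along
`Spec K ⟶ Spec R ⟶ S` is an isomorphism, then `K ⊗ B → K ⊗ A` is bijective. -/
theorem bijective_of_isIso_fibre {S P Q : Scheme.{u}} (p : P ⟶ S) (q : Q ⟶ S) (ψ : P ⟶ Q)
    (jS : Spec (.of R) ⟶ S) (jP : Spec (.of A) ⟶ P) (jQ : Spec (.of B) ⟶ Q)
    (hP : IsPullback jP (Spec.map (CommRingCat.ofHom (algebraMap R A))) p jS)
    (hQ : IsPullback jQ (Spec.map (CommRingCat.ofHom (algebraMap R B))) q jS)
    (φ : B →ₐ[R] A) (hφ : Spec.map (CommRingCat.ofHom φ.toRingHom) ≫ jQ = jP ≫ ψ)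
    (g : Spec (.of K) ⟶ S) (hg : g = Spec.map (CommRingCat.ofHom (algebraMap R K)) ≫ jS)
    (h1 : ψ ≫ q = 𝟙 P ≫ p) (h2 : g ≫ 𝟙 S = 𝟙 _ ≫ g)
    (h : IsIso (pullback.map p g q g ψ (𝟙 _) (𝟙 S) (by simpa using h1.symm) (by simp))) :
    Function.Bijective (φ.toLinearMap.baseChange K) := by
  subst hg
  have bP := isPullback_big (K := K) p jS jP hP
  have bQ := isPullback_big (K := K) q jS jQ hQ
  let ψ' : Spec (.of (K ⊗[R] A)) ⟶ Spec (.of (K ⊗[R] B)) :=
    Spec.map (CommRingCat.ofHom (Algebra.TensorProduct.map (AlgHom.id K K) φ).toRingHom)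
  have hcomm : bP.isoPullback.hom ≫ pullback.map p _ q _ ψ (𝟙 _) (𝟙 S)
      (by simpa using h1.symm) (by simp) = ψ' ≫ bQ.isoPullback.hom := by
    apply pullback.hom_ext
    · simp only [Category.assoc, pullback.lift_fst, IsPullback.isoPullback_hom_fst,
        IsPullback.isoPullback_hom_fst_assoc]
      rw [← hφ, ← Spec.map_comp_assoc, ← Spec.map_comp_assoc]
      congr 2
    · simp only [Category.assoc, pullback.lift_snd, IsPullback.isoPullback_hom_snd,
        Category.comp_id]
      rw [← Spec.map_comp]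
      congr 1
      ext k
      simp
  have hiso : IsIso ψ' := by
    have : ψ' = bP.isoPullback.hom ≫ pullback.map p _ q _ ψ (𝟙 _) (𝟙 S)
        (by simpa using h1.symm) (by simp) ≫ bQ.isoPullback.inv := by
      rw [← Category.assoc, hcomm, Category.assoc, Iso.hom_inv_id, Category.comp_id]
    rw [this]
    infer_instance
  have hb := isIso_SpecMap_iff.mp hiso
  exact hb

end core

end Groth.Agent.Helper23.FFib
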