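import Mathlib
import Groth.Agent.Lib.Helper23.FFib1
import Groth.Agent.Lib.Helper23.FFib2

/-!
# Finite flat morphisms: isomorphism can be checked on fibres in codimension `≤ 1`

Helper library of helper23 (for S15809).
-/

set_option autoImplicit false
universe u

open CategoryTheory CategoryTheory.Limits AlgebraicGeometry TensorProduct

namespace Groth.Agent.Helper23.FFib

theorem isPullback_fromSpec {X Y : Scheme.{u}} (f : X ⟶ Y) {U : Y.Opens} (hU : IsAffineOpen U)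
    (hV : IsAffineOpen (f ⁻¹ᵁ U)) :
    IsPullback hV.fromSpec (Spec.map (f.app U)) f hU.fromSpec := by
  refine (IsOpenImmersion.isPullback (Spec.map (f.app U)) hV.fromSpec hU.fromSpec f ?_ ?_).flip
  · rw [← IsAffineOpen.SpecMap_appLE_fromSpec f hU hV le_rfl, Scheme.Hom.appLE_eq_app]
  · simp [IsAffineOpen.opensRange_fromSpec]

theorem fromSpec_mem {X : Scheme.{u}} {U : X.Opens} (hU : IsAffineOpen U)
    (P : PrimeSpectrum Γ(X, U)) : hU.fromSpec P ∈ U := by
  rw [← SetLike.mem_coe, ← hU.range_fromSpec]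
  exact ⟨P, rfl⟩

theorem primeIdealOf_fromSpec {X : Scheme.{u}} {U : X.Opens} (hU : IsAffineOpen U)
    (P : PrimeSpectrum Γ(X, U)) :
    hU.primeIdealOf ⟨hU.fromSpec P, fromSpec_mem hU P⟩ = P := by
  apply hU.fromSpec.isOpenEmbedding.injective
  exact hU.fromSpec_primeIdealOf ⟨_, fromSpec_mem hU P⟩

theorem ringKrullDim_stalk_eq_height {Y : Scheme.{u}} {V : Y.Opens} (hV : IsAffineOpen V)
    (y : V) : ringKrullDim (Y.presheaf.stalk (y : Y)) = (hV.primeIdealOf y).asIdeal.height := by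
  haveI := hV.isLocalization_stalk y
  exact IsLocalization.AtPrime.ringKrullDim_eq_height (hV.primeIdealOf y).asIdeal
    (Y.presheaf.stalk (y : Y))

theorem fromSpecResidueField_eq {X : Scheme.{u}} {U : X.Opens} (hU : IsAffineOpen U) (x : X)
    (hx : x ∈ U) :
    X.fromSpecResidueField x = Spec.map (X.presheaf.germ U x hx ≫ X.residue x) ≫ hU.fromSpec := by
  rw [Scheme.fromSpecResidueField, ← hU.fromSpecStalk_eq_fromSpecStalk hx,
    IsAffineOpen.fromSpecStalk, Spec.map_comp, Category.assoc]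

theorem ker_germ_residue {X : Scheme.{u}} {U : X.Opens} (hU : IsAffineOpen U) (x : X)
    (hx : x ∈ U) :
    RingHom.ker (X.presheaf.germ U x hx ≫ X.residue x).hom = (hU.primeIdealOf ⟨x, hx⟩).asIdeal := by
  letI : Algebra Γ(X, U) (X.presheaf.stalk x) := (X.presheaf.germ U x hx).hom.toAlgebra
  haveI := hU.isLocalization_stalk ⟨x, hx⟩
  have h1 : RingHom.ker (X.presheaf.germ U x hx ≫ X.residue x).hom =
      (RingHom.ker (X.residue x).hom).comap (X.presheaf.germ U x hx).hom := by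
    ext r
    simp [RingHom.mem_ker]
  rw [h1]
  have h2 : RingHom.ker (X.residue x).hom = IsLocalRing.maximalIdeal (X.presheaf.stalk x) :=
    IsLocalRing.ker_residue
  rw [h2]
  exact IsLocalization.AtPrime.under_maximalIdeal (X.presheaf.stalk x)
    (hU.primeIdealOf ⟨x, hx⟩).asIdeal

/-- A morphism `ψ : P ⟶ Q` of affine-over-`S` schemes is an isomorphism as soon as
`Γ(Q, q⁻¹U) → Γ(P, ψ⁻¹q⁻¹U)` is bijective for all affine opens `U` of `S`. -/
theorem isIso_of_app_bijective {S P Q : Scheme.{u}} (q : Q ⟶ S) (ψ : P ⟶ Q)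
    [IsAffineHom q] [IsAffineHom (ψ ≫ q)]
    (H : ∀ U : S.affineOpens, Function.Bijective (ψ.app (q ⁻¹ᵁ U.1)).hom) : IsIso ψ := by
  rw [← MorphismProperty.isomorphisms.iff]
  rw [HasAffineProperty.iff_of_iSup_eq_top (P := MorphismProperty.isomorphisms Scheme)
    (fun U : S.affineOpens => ⟨q ⁻¹ᵁ U.1, U.2.preimage q⟩) ?_]
  · intro U
    dsimp only
    refine ⟨?_, ?_⟩
    · exact U.2.preimage (ψ ≫ q)
    · rw [morphismRestrict_appTop]
      have h1 : IsIso (ψ.app (q ⁻¹ᵁ U.1)) :=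
        (ConcreteCategory.isIso_iff_bijective _).mpr (H U)
      have h2 : (q ⁻¹ᵁ U.1).ι ''ᵁ ⊤ = q ⁻¹ᵁ U.1 := by simp
      have h3 : IsIso (ψ.app ((q ⁻¹ᵁ U.1).ι ''ᵁ ⊤)) := by
        rw [h2]; exact h1
      have h4 : IsIso (P.presheaf.map
          (eqToHom (image_morphismRestrict_preimage ψ (q ⁻¹ᵁ U.1) ⊤)).op) := by
        rw [eqToHom_op, eqToHom_map]
        infer_instance
      exact @IsIso.comp_isIso _ _ _ _ _ _ _ h3 h4
  · dsimp only
    rw [eq_top_iff]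
    intro x _
    have hx : q x ∈ (⨆ i : S.affineOpens, (i : S.Opens)) := by
      rw [iSup_affineOpens_eq_top S]; trivial
    rw [TopologicalSpace.Opens.mem_iSup] at hx ⊢
    obtain ⟨i, hi⟩ := hx
    exact ⟨i, hi⟩

/-- **Fibrewise isomorphism criterion in codimension `≤ 1`.**  Let `S` be locally Noetherian,
`q : Q ⟶ S` and `ψ ≫ q : P ⟶ S` finite flat.  If the base change of `ψ` to `Spec κ(s)` is an
isomorphism for all points `s` of codimension `≤ 1`, then `ψ` is an isomorphism. -/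
theorem isIso_of_fibres' {S P Q : Scheme.{u}} [IsLocallyNoetherian S] (q : Q ⟶ S) (ψ : P ⟶ Q)
    [IsFinite (ψ ≫ q)] [Flat (ψ ≫ q)] [IsFinite q] [Flat q]
    (H : ∀ s : S, ringKrullDim (S.presheaf.stalk s) ≤ 1 →
      IsIso (pullback.map (ψ ≫ q) (S.fromSpecResidueField s) q (S.fromSpecResidueField s) ψ
        (𝟙 _) (𝟙 S) (by simp) (by simp))) : IsIso ψ := by
  apply isIso_of_app_bijective q ψ
  intro U
  have hU := U.2
  have hVQ : IsAffineOpen (q ⁻¹ᵁ U.1) := hU.preimage q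
  have hVP : IsAffineOpen ((ψ ≫ q) ⁻¹ᵁ U.1) := hU.preimage (ψ ≫ q)
  haveI : IsNoetherianRing Γ(S, U.1) := IsLocallyNoetherian.component_noetherian U
  letI : Algebra Γ(S, U.1) Γ(Q, q ⁻¹ᵁ U.1) := (q.app U.1).hom.toAlgebra
  letI : Algebra Γ(S, U.1) Γ(P, (ψ ≫ q) ⁻¹ᵁ U.1) := ((ψ ≫ q).app U.1).hom.toAlgebra
  haveI : Module.Finite Γ(S, U.1) Γ(Q, q ⁻¹ᵁ U.1) := IsFinite.finite_app q U.1 hU
  haveI : Module.Finite Γ(S, U.1) Γ(P, (ψ ≫ q) ⁻¹ᵁ U.1) := IsFinite.finite_app (ψ ≫ q) U.1 hU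
  haveI : Module.Flat Γ(S, U.1) Γ(Q, q ⁻¹ᵁ U.1) := by
    have := HasRingHomProperty.appLE (P := @Flat) q inferInstance U ⟨_, hVQ⟩ le_rfl
    rwa [Scheme.Hom.appLE_eq_app] at this
  haveI : Module.Flat Γ(S, U.1) Γ(P, (ψ ≫ q) ⁻¹ᵁ U.1) := by
    have := HasRingHomProperty.appLE (P := @Flat) (ψ ≫ q) inferInstance U ⟨_, hVP⟩ le_rfl
    rwa [Scheme.Hom.appLE_eq_app] at this
  let φ : Γ(Q, q ⁻¹ᵁ U.1) →ₐ[Γ(S, U.1)] Γ(P, (ψ ≫ q) ⁻¹ᵁ U.1) :=
    { (ψ.app (q ⁻¹ᵁ U.1)).hom with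
      commutes' := fun r => by
        change (ψ.app (q ⁻¹ᵁ U.1)).hom ((q.app U.1).hom r) = ((ψ ≫ q).app U.1).hom r
        rw [Scheme.Hom.comp_app]
        rfl }
  have hb : Function.Bijective φ.toLinearMap := by
    apply bij_of_flat
    intro 𝔭 _ h𝔭
    let x : PrimeSpectrum Γ(S, U.1) := ⟨𝔭, inferInstance⟩
    let s : S := hU.fromSpec x
    have hs : s ∈ U.1 := fromSpec_mem hU x
    have hprime : hU.primeIdealOf ⟨s, hs⟩ = x := primeIdealOf_fromSpec hU x
    have hdim : ringKrullDim (S.presheaf.stalk s) ≤ 1 := by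
      rw [ringKrullDim_stalk_eq_height hU ⟨s, hs⟩, hprime]
      exact_mod_cast h𝔭
    letI : Algebra Γ(S, U.1) (S.residueField s) :=
      (S.presheaf.germ U.1 s hs ≫ S.residue s).hom.toAlgebra
    refine ⟨S.residueField s, inferInstance, inferInstance, ?_, ?_⟩
    · have := ker_germ_residue hU s hs
      rw [hprime] at this
      exact this
    · refine bijective_of_isIso_fibre (R := Γ(S, U.1)) (A := Γ(P, (ψ ≫ q) ⁻¹ᵁ U.1))
        (B := Γ(Q, q ⁻¹ᵁ U.1)) (K := S.residueField s) (ψ ≫ q) q ψ hU.fromSpec hVP.fromSpec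
        hVQ.fromSpec (isPullback_fromSpec (ψ ≫ q) hU hVP) (isPullback_fromSpec q hU hVQ) φ ?_
        (S.fromSpecResidueField s) (fromSpecResidueField_eq hU s hs) (by simp) (by simp)
        (H s hdim)
      have := IsAffineOpen.SpecMap_appLE_fromSpec ψ hVQ hVP le_rfl
      have h5 : ψ.appLE (q ⁻¹ᵁ U.1) ((ψ ≫ q) ⁻¹ᵁ U.1) le_rfl = ψ.app (q ⁻¹ᵁ U.1) :=
        Scheme.Hom.appLE_eq_app ψ
      rw [h5] at this
      exact this
  exact hb

theorem isIso_of_fibres {S P Q : Scheme.{u}} [IsLocallyNoetherian S] (p : P ⟶ S) (q : Q ⟶ S)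
    (ψ : P ⟶ Q) (hψ : ψ ≫ q = p)
    [IsFinite p] [Flat p] [IsFinite q] [Flat q]
    (H : ∀ s : S, ringKrullDim (S.presheaf.stalk s) ≤ 1 →
      IsIso (pullback.map p (S.fromSpecResidueField s) q (S.fromSpecResidueField s) ψ
        (𝟙 _) (𝟙 S) (by simp [hψ]) (by simp))) : IsIso ψ := by
  subst hψ
  exact isIso_of_fibres' q ψ H

/-- A closed map to a locally Noetherian scheme whose image contains all points of codimension
`≤ 1` is surjective. -/
theorem surjective_of_codim_le_one {S Y : Scheme.{u}} [IsLocallyNoetherian S] (f : Y ⟶ S)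
    (hf : IsClosedMap f.base)
    (H : ∀ s : S, ringKrullDim (S.presheaf.stalk s) ≤ 1 → s ∈ Set.range f.base) :
    Function.Surjective f.base := by
  intro s
  have hcl : IsClosed (Set.range f.base) := hf.isClosed_range
  obtain ⟨_, ⟨U, hU : IsAffineOpen U, rfl⟩, hs, -⟩ :=
    (S.isBasis_affineOpens).exists_subset_of_mem_open (Set.mem_univ s) isOpen_univ
  haveI : IsNoetherianRing Γ(S, U) := IsLocallyNoetherian.component_noetherian ⟨U, hU⟩
  let x := hU.primeIdealOf ⟨s, hs⟩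
  obtain ⟨p₀, hp₀, hle⟩ := Ideal.exists_minimalPrimes_le (bot_le : ⊥ ≤ x.asIdeal)
  haveI : p₀.IsPrime := hp₀.1.1
  let y : PrimeSpectrum Γ(S, U) := ⟨p₀, inferInstance⟩
  have hh : p₀.height ≤ 1 :=
    Ideal.height_le_one_of_isPrincipal_of_mem_minimalPrimes (⊥ : Ideal Γ(S, U)) p₀ hp₀
  have hdim : ringKrullDim (S.presheaf.stalk (hU.fromSpec y)) ≤ 1 := by
    rw [ringKrullDim_stalk_eq_height hU ⟨hU.fromSpec y, fromSpec_mem hU y⟩,
      primeIdealOf_fromSpec hU y]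
    exact_mod_cast hh
  have hmem := H _ hdim
  have hspec : y ⤳ x := (PrimeSpectrum.le_iff_specializes y x).mp hle
  have hspec' : hU.fromSpec y ⤳ hU.fromSpec x := hspec.map hU.fromSpec.continuous
  have hx : hU.fromSpec x = s := hU.fromSpec_primeIdealOf ⟨s, hs⟩
  rw [hx] at hspec'
  exact hspec'.mem_closed hcl hmem

end Groth.Agent.Helper23.FFib
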