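import Groth.Agent.Lib.Helper23.EqAlg6
import Groth.Agent.Lib.Helper23.FEtFib

/-! helper23: the algebra behind "the fibre functor preserves coequalizers". -/

set_option autoImplicit false
set_option linter.style.haveILetI false
set_option linter.unusedVariables false
universe u

namespace Groth.Agent.Helper23.FibCoeq
open TensorProduct Groth.Agent.Helper23.EqAlg Groth.Agent.Helper23.FEtFib

section L0

variable {Ω : Type u} [Field Ω] [IsAlgClosed Ω] {B' : Type u} [CommRing B'] [Algebra Ω B']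
  [Algebra.EssFiniteType Ω B'] [Algebra.FormallyEtale Ω B']

theorem algHom_eq_eval (f : B' →ₐ[Ω] Ω) :
    ∃ p : PrimeSpectrum B', ∀ x, f x = Algebra.FormallyEtale.equivPiOfIsSepClosed Ω B' x p := by
  let p0 : PrimeSpectrum Ω := ⊥
  refine ⟨p0.comap f, fun x => ?_⟩
  rw [Algebra.FormallyEtale.equivPiOfIsSepClosed_comap f x p0,
    Algebra.FormallyEtale.equivPiOfIsSepClosed_self_apply]

end L0

section gen

variable {A B C Ω : Type u} [CommRing A] [CommRing B] [CommRing C] [Algebra A B] [Algebra A C]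
  [Field Ω] [Algebra A Ω]

theorem tildeOf_comp_map (φ : B →ₐ[A] C) (θ : C →ₐ[A] Ω) (x : Ω ⊗[A] B) :
    tildeOf θ (Algebra.TensorProduct.map (AlgHom.id Ω Ω) φ x) = tildeOf (θ.comp φ) x := by
  induction x using TensorProduct.induction_on with
  | zero => simp
  | tmul a b => simp [tildeOf_tmul]
  | add x y hx hy => rw [map_add, map_add, map_add, hx, hy]

/-- restriction of an `Ω`-algebra map on `Ω ⊗ B` to `B` -/
noncomputable def restr (f : Ω ⊗[A] B →ₐ[Ω] Ω) : B →ₐ[A] Ω :=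
  (f.restrictScalars A).comp (Algebra.TensorProduct.includeRight)

theorem tildeOf_restr (f : Ω ⊗[A] B →ₐ[Ω] Ω) (x : Ω ⊗[A] B) : tildeOf (restr f) x = f x := by
  induction x using TensorProduct.induction_on with
  | zero => simp
  | tmul a b =>
    rw [tildeOf_tmul]
    have h1 : (a ⊗ₜ[A] b : Ω ⊗[A] B) = a • ((1 : Ω) ⊗ₜ[A] b) := by
      rw [TensorProduct.smul_tmul', smul_eq_mul, mul_one]
    rw [h1, map_smul, smul_eq_mul]
    rfl
  | add x y hx hy => rw [map_add, map_add, hx, hy]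

theorem restr_tildeOf (σ : B →ₐ[A] Ω) : restr (tildeOf σ) = σ := by
  apply AlgHom.ext
  intro b
  change tildeOf σ ((1 : Ω) ⊗ₜ[A] b) = σ b
  rw [tildeOf_tmul, one_mul]

end gen

section alg

variable {A B C Ω : Type u} [CommRing A] [CommRing B] [CommRing C] [Algebra A B] [Algebra A C]
  [Module.Finite A B] [Algebra.Etale A B] [Module.Finite A C] [Algebra.Etale A C]
  [Field Ω] [IsAlgClosed Ω] [Algebra A Ω]

theorem exists_extend (φ ψ : B →ₐ[A] C) (ρ : AlgHom.equalizer φ ψ →ₐ[A] Ω) :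
    ∃ σ : B →ₐ[A] Ω, ∀ e : AlgHom.equalizer φ ψ, σ e = ρ e := by
  let f : AlgHom.equalizer φ ψ →+* B := (AlgHom.equalizer φ ψ).val.toRingHom
  have hinj : Function.Injective f := Subtype.val_injective
  have hint : f.IsIntegral := by
    intro b
    have hb : IsIntegral A b := Algebra.IsIntegral.isIntegral b
    exact hb.tower_top (A := AlgHom.equalizer φ ψ)
  obtain ⟨σ, hσ⟩ := exists_extension f hinj hint ρ.toRingHom
  have hσ' : ∀ e : AlgHom.equalizer φ ψ, σ e = ρ e := fun e => RingHom.congr_fun hσ e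
  refine ⟨{ σ with commutes' := fun a => ?_ }, hσ'⟩
  have h1 : algebraMap A B a = ((algebraMap A (AlgHom.equalizer φ ψ) a : AlgHom.equalizer φ ψ) : B) := rfl
  change σ (algebraMap A B a) = _
  rw [h1, hσ', ρ.commutes]

/-- the evaluation maps are jointly injective on `Ω ⊗ C` -/
theorem eq_of_tildeOf_eq (c c' : Ω ⊗[A] C) (h : ∀ θ : C →ₐ[A] Ω, tildeOf θ c = tildeOf θ c') :
    c = c' := by
  let eC := Algebra.FormallyEtale.equivPiOfIsSepClosed Ω (Ω ⊗[A] C)
  apply eC.injective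
  funext q
  let θq : Ω ⊗[A] C →ₐ[Ω] Ω := (Pi.evalAlgHom Ω (fun _ : PrimeSpectrum (Ω ⊗[A] C) => Ω) q).comp eC.toAlgHom
  have h1 := h (restr θq)
  rw [tildeOf_restr, tildeOf_restr] at h1
  exact h1

theorem eqvGen_of_eq_on (φ ψ : B →ₐ[A] C) (σ₁ σ₂ : B →ₐ[A] Ω)
    (h : ∀ e : AlgHom.equalizer φ ψ, σ₁ e = σ₂ e) :
    Relation.EqvGen (fun s t : B →ₐ[A] Ω => ∃ θ : C →ₐ[A] Ω, s = θ.comp φ ∧ t = θ.comp ψ)
      σ₁ σ₂ := by
  classical
  by_contra hne
  set r : (B →ₐ[A] Ω) → (B →ₐ[A] Ω) → Prop :=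
    fun s t => ∃ θ : C →ₐ[A] Ω, s = θ.comp φ ∧ t = θ.comp ψ with hr
  let K : Set (B →ₐ[A] Ω) := {σ | Relation.EqvGen r σ₁ σ}
  let eB := Algebra.FormallyEtale.equivPiOfIsSepClosed Ω (Ω ⊗[A] B)
  let ev : PrimeSpectrum (Ω ⊗[A] B) → (Ω ⊗[A] B →ₐ[Ω] Ω) := fun p =>
    (Pi.evalAlgHom Ω (fun _ : PrimeSpectrum (Ω ⊗[A] B) => Ω) p).comp eB.toAlgHom
  let χ : PrimeSpectrum (Ω ⊗[A] B) → Ω := fun p => if restr (ev p) ∈ K then 1 else 0
  let eK : Ω ⊗[A] B := eB.symm χ
  have hi : ∀ σ : B →ₐ[A] Ω, tildeOf σ eK = if σ ∈ K then 1 else 0 := by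
    intro σ
    obtain ⟨p, hp⟩ := algHom_eq_eval (tildeOf σ)
    have h1 : ev p = tildeOf σ := by
      apply AlgHom.ext
      intro x
      exact (hp x).symm
    rw [hp eK]
    change eB (eB.symm χ) p = _
    rw [AlgEquiv.apply_symm_apply]
    change (if restr (ev p) ∈ K then (1 : Ω) else 0) = _
    rw [h1, restr_tildeOf]
  have hii : Algebra.TensorProduct.map (AlgHom.id Ω Ω) φ eK =
      Algebra.TensorProduct.map (AlgHom.id Ω Ω) ψ eK := by
    apply eq_of_tildeOf_eq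
    intro θ
    rw [tildeOf_comp_map, tildeOf_comp_map, hi, hi]
    have hrel : r (θ.comp φ) (θ.comp ψ) := ⟨θ, rfl, rfl⟩
    have hiff : (θ.comp φ ∈ K) ↔ (θ.comp ψ ∈ K) := by
      constructor
      · intro h1
        exact Relation.EqvGen.trans _ _ _ h1 (Relation.EqvGen.rel _ _ hrel)
      · intro h1
        exact Relation.EqvGen.trans _ _ _ h1
          (Relation.EqvGen.symm _ _ (Relation.EqvGen.rel _ _ hrel))
    by_cases hk : θ.comp φ ∈ K
    · rw [if_pos hk, if_pos (hiff.mp hk)]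
    · rw [if_neg hk, if_neg (fun h2 => hk (hiff.mpr h2))]
  have hmem : eK ∈ AlgHom.equalizer (Algebra.TensorProduct.map (AlgHom.id Ω Ω) φ)
      (Algebra.TensorProduct.map (AlgHom.id Ω Ω) ψ) := hii
  obtain ⟨z, hz⟩ := (tensorEqualizer_bijective φ ψ (isReg_dd φ ψ) Ω).2 ⟨eK, hmem⟩
  have hz' : Algebra.TensorProduct.map (AlgHom.id Ω Ω) (AlgHom.equalizer φ ψ).val z = eK := by
    rw [← AlgHom.coe_tensorEqualizer Ω Ω φ ψ z, hz]
  have hcomp : σ₁.comp (AlgHom.equalizer φ ψ).val = σ₂.comp (AlgHom.equalizer φ ψ).val := by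
    apply AlgHom.ext
    intro e
    exact h e
  have h1 : tildeOf σ₁ eK = tildeOf σ₂ eK := by
    rw [← hz', tildeOf_comp_map, tildeOf_comp_map, hcomp]
  rw [hi, hi, if_pos (show σ₁ ∈ K from Relation.EqvGen.refl _), if_neg (show σ₂ ∉ K from hne)] at h1
  exact one_ne_zero h1

end alg

end Groth.Agent.Helper23.FibCoeq
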