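import Groth.Agent.Lib.Helper23.FEtCoeq5
import Groth.Agent.Lib.Helper23.FibCoeq1

/-! helper23: morphisms from an affine scheme into a scheme affine over the base, in a chart. -/

set_option autoImplicit false
set_option linter.style.haveILetI false
set_option linter.unusedVariables false
universe u

open CategoryTheory CategoryTheory.Limits AlgebraicGeometry TopologicalSpace Opposite

namespace Groth.Agent.Helper23.FibCoeq
open Groth.Agent.Helper23.FEtCoeq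

section chart

variable {X W T : Scheme.{u}} (ξ : T ⟶ X) (p : W ⟶ X) (U : X.Opens) (hU : IsAffineOpen U)
  (hV : IsAffineOpen (ξ ⁻¹ᵁ U)) (hx : ξ ⁻¹ᵁ U = ⊤) (hW : IsAffineOpen (p ⁻¹ᵁ U))

include hx in
theorem isIso_fromSpec : IsIso hV.fromSpec := by
  apply isIso_of_isOpenImmersion_of_opensRange_eq_top
  rw [IsAffineOpen.opensRange_fromSpec, hx]

include hV hx hW in
theorem hom_ext_of_chart (s₁ s₂ : T ⟶ W) (w₁ : s₁ ≫ p = ξ) (w₂ : s₂ ≫ p = ξ)
    (h : (AffAlg.algHom p ξ s₁ w₁).app (op U) = (AffAlg.algHom p ξ s₂ w₂).app (op U)) :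
    s₁ = s₂ := by
  rw [Groth.Agent.Helper18.QCAlgPO.algHom_app, Groth.Agent.Helper18.QCAlgPO.algHom_app] at h
  have e1 := IsAffineOpen.SpecMap_appLE_fromSpec s₁ hW hV (by subst w₁; exact le_rfl)
  have e2 := IsAffineOpen.SpecMap_appLE_fromSpec s₂ hW hV (by subst w₂; exact le_rfl)
  rw [h, e2] at e1
  haveI := isIso_fromSpec ξ U hV hx
  exact ((cancel_epi hV.fromSpec).mp e1).symm

include hU hV hx hW in
theorem exists_of_chart (ρ : Γ(W, p ⁻¹ᵁ U) ⟶ Γ(T, ξ ⁻¹ᵁ U)) (hρ : p.app U ≫ ρ = ξ.app U) :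
    ∃ (s : T ⟶ W) (w : s ≫ p = ξ), (AffAlg.algHom p ξ s w).app (op U) = ρ := by
  haveI := isIso_fromSpec ξ U hV hx
  have e0 := IsAffineOpen.SpecMap_appLE_fromSpec p hU hW le_rfl
  have e0' := IsAffineOpen.SpecMap_appLE_fromSpec ξ hU hV le_rfl
  rw [← Scheme.Hom.app_eq_appLE] at e0 e0'
  have w : (inv hV.fromSpec ≫ Spec.map ρ ≫ hW.fromSpec) ≫ p = ξ := by
    rw [Category.assoc, Category.assoc, ← e0, ← Spec.map_comp_assoc, hρ, e0', IsIso.inv_hom_id_assoc]
  refine ⟨inv hV.fromSpec ≫ Spec.map ρ ≫ hW.fromSpec, w, ?_⟩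
  rw [Groth.Agent.Helper18.QCAlgPO.algHom_app]
  apply Spec.map_injective
  rw [← cancel_mono hW.fromSpec, IsAffineOpen.SpecMap_appLE_fromSpec _ hW hV, IsIso.hom_inv_id_assoc]

end chart

end Groth.Agent.Helper23.FibCoeq
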