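import Groth.Agent.Lib.Helper23.FibCoeq2

/-! helper23: ring-hom versions of the algebra core and a criterion for coequalizers of types. -/

set_option autoImplicit false
set_option linter.style.haveILetI false
set_option linter.unusedVariables false
universe u

open CategoryTheory CategoryTheory.Limits

namespace Groth.Agent.Helper23.FibCoeq
open Groth.Agent.Helper23.FEtFib

section core

variable {A B C Ω : Type u} [CommRing A] [CommRing B] [CommRing C] [Field Ω] [IsAlgClosed Ω]
  (a : A →+* B) (c : A →+* C) (φ ψ : B →+* C) (hφ : φ.comp a = c) (hψ : ψ.comp a = c)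

include hφ hψ in
theorem core_surj (ha : a.Finite) (ρ : RingHom.eqLocus φ ψ →+* Ω) :
    ∃ σ : B →+* Ω, σ.comp (RingHom.eqLocus φ ψ).subtype = ρ := by
  have hmem : ∀ x, a x ∈ RingHom.eqLocus φ ψ := fun x => by
    change φ (a x) = ψ (a x)
    have h1 := RingHom.congr_fun hφ x
    have h2 := RingHom.congr_fun hψ x
    simp only [RingHom.comp_apply] at h1 h2
    rw [h1, h2]
  let a' : A →+* RingHom.eqLocus φ ψ := a.codRestrict _ hmem
  have hint : ((RingHom.eqLocus φ ψ).subtype.comp a').IsIntegral := by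
    have : (RingHom.eqLocus φ ψ).subtype.comp a' = a := by
      ext x; rfl
    rw [this]
    exact ha.to_isIntegral
  exact exists_extension (RingHom.eqLocus φ ψ).subtype Subtype.val_injective
    (RingHom.IsIntegral.tower_top a' _ hint) ρ

include hφ hψ in
theorem core_fib (ha : a.Finite) (ha' : a.Etale) (hc : c.Finite) (hc' : c.Etale)
    (ω : A →+* Ω) (σ₁ σ₂ : B →+* Ω) (h₁ : σ₁.comp a = ω) (h₂ : σ₂.comp a = ω)
    (h : ∀ e ∈ RingHom.eqLocus φ ψ, σ₁ e = σ₂ e) :
    Relation.EqvGen (fun s t : B →+* Ω =>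
      ∃ θ : C →+* Ω, θ.comp c = ω ∧ s = θ.comp φ ∧ t = θ.comp ψ) σ₁ σ₂ := by
  letI : Algebra A B := a.toAlgebra
  letI : Algebra A C := c.toAlgebra
  letI : Algebra A Ω := ω.toAlgebra
  haveI : Module.Finite A B := ha
  haveI : Algebra.Etale A B := ha'
  haveI : Module.Finite A C := hc
  haveI : Algebra.Etale A C := hc'
  let φ' : B →ₐ[A] C := { φ with commutes' := fun r => RingHom.congr_fun hφ r }
  let ψ' : B →ₐ[A] C := { ψ with commutes' := fun r => RingHom.congr_fun hψ r }
  let σ₁' : B →ₐ[A] Ω := { σ₁ with commutes' := fun r => RingHom.congr_fun h₁ r }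
  let σ₂' : B →ₐ[A] Ω := { σ₂ with commutes' := fun r => RingHom.congr_fun h₂ r }
  have hE := eqvGen_of_eq_on φ' ψ' σ₁' σ₂' (fun e => h e.1 e.2)
  have key : ∀ s t : B →ₐ[A] Ω,
      Relation.EqvGen (fun s t : B →ₐ[A] Ω => ∃ θ : C →ₐ[A] Ω, s = θ.comp φ' ∧ t = θ.comp ψ') s t →
      Relation.EqvGen (fun s t : B →+* Ω =>
        ∃ θ : C →+* Ω, θ.comp c = ω ∧ s = θ.comp φ ∧ t = θ.comp ψ) s.toRingHom t.toRingHom := by
    intro s t hst
    induction hst with
    | rel x y hxy =>
      obtain ⟨θ, rfl, rfl⟩ := hxy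
      refine Relation.EqvGen.rel _ _ ⟨θ.toRingHom, ?_, rfl, rfl⟩
      ext r
      exact θ.commutes r
    | refl x => exact Relation.EqvGen.refl _
    | symm x y _ ih => exact Relation.EqvGen.symm _ _ ih
    | trans x y z _ _ ih1 ih2 => exact Relation.EqvGen.trans _ _ _ ih1 ih2
  exact key σ₁' σ₂' hE

end core

section types

variable {X Y Z : Type u} (f g : X ⟶ Y) (π : Y ⟶ Z) (e : f ≫ π = g ≫ π)

/-- a cofork of types is a coequalizer if the projection is surjective with the right fibres -/
noncomputable def isColimitOfSurj (hs : Function.Surjective π)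
    (hk : ∀ a b : Y, π a = π b → Relation.EqvGen (fun a b => ∃ x, a = f x ∧ b = g x) a b) :
    IsColimit (Cofork.ofπ π e) := by
  have key : ∀ (s : Cofork f g) (a b : Y),
      Relation.EqvGen (fun a b => ∃ x, a = f x ∧ b = g x) a b → s.π a = s.π b := by
    intro s a b hab
    induction hab with
    | rel x y hxy =>
      obtain ⟨x0, rfl, rfl⟩ := hxy
      exact ConcreteCategory.congr_hom s.condition x0
    | refl x => rfl
    | symm x y _ ih => exact ih.symm
    | trans x y z _ _ ih1 ih2 => exact ih1.trans ih2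
  refine Cofork.IsColimit.mk _ (fun s => TypeCat.ofHom (fun z => s.π (Function.surjInv hs z)))
    (fun s => ?_) (fun s m hm => ?_)
  · apply ConcreteCategory.hom_ext
    intro y
    change s.π (Function.surjInv hs (π y)) = s.π y
    exact key s _ _ (hk _ _ (Function.surjInv_eq hs (π y)))
  · apply ConcreteCategory.hom_ext
    intro z
    change m z = s.π (Function.surjInv hs z)
    have h1 : m (π (Function.surjInv hs z)) = s.π (Function.surjInv hs z) :=
      ConcreteCategory.congr_hom hm (Function.surjInv hs z)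
    rw [Function.surjInv_eq hs z] at h1
    exact h1

end types

end Groth.Agent.Helper23.FibCoeq
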