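import Groth.Agent.Lib.Helper23.FibCoeq3

/-! helper23: the fibre functor at a geometric point preserves coequalizers. -/

set_option autoImplicit false
set_option linter.style.haveILetI false
set_option linter.unusedVariables false
universe u

open CategoryTheory CategoryTheory.Limits AlgebraicGeometry TopologicalSpace Opposite

namespace Groth.Agent.Helper23.FibCoeq
open Groth.Agent.Helper23.FEtCoeq Groth.Agent.Helper23.FibCard

section chartΩ

variable {X : Scheme.{u}} {Ω : Type u} [Field Ω] (ξ : Spec (CommRingCat.of Ω) ⟶ X)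

theorem exists_affine_chart : ∃ U : X.Opens, IsAffineOpen U ∧ ξ ⁻¹ᵁ U = ⊤ := by
  obtain ⟨U, hU, hxU, -⟩ := Opens.isBasis_iff_nbhd.mp X.isBasis_affineOpens
    (show ξ.base default ∈ (⊤ : X.Opens) from trivial)
  refine ⟨U, hU, eq_top_iff.mpr fun y _ => ?_⟩
  have : y = default := Subsingleton.elim _ _
  rw [this]
  exact hxU

variable (U : X.Opens) (hU : IsAffineOpen U) (hx : ξ ⁻¹ᵁ U = ⊤)

/-- identification of the sections over the preimage of the chart with `Ω` -/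
noncomputable def iΩ : Γ(Spec (CommRingCat.of Ω), ξ ⁻¹ᵁ U) ≅ CommRingCat.of Ω :=
  (Spec (CommRingCat.of Ω)).presheaf.mapIso (eqToIso hx.symm).op ≪≫ Scheme.ΓSpecIso _

/-- the structure map of `Ω` over the chart -/
noncomputable def ωΩ : Γ(X, U) →+* Ω := (ξ.app U ≫ (iΩ ξ U hx).hom).hom

/-- the algebra map in the chart attached to a point of the fibre -/
noncomputable def ρΩ (W : FEt.Cat X) (s : FEt.fiberObj ξ W) : Γ(W.left, W.hom ⁻¹ᵁ U) →+* Ω :=
  ((AffAlg.algHom W.hom ξ s.1 s.2).app (op U) ≫ (iΩ ξ U hx).hom).hom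

theorem ρΩ_comp (W : FEt.Cat X) (s : FEt.fiberObj ξ W) :
    (ρΩ ξ U hx W s).comp (W.hom.app U).hom = ωΩ ξ U hx := by
  have h1 := congrArg (fun k => (k.app (op U) ≫ (iΩ ξ U hx).hom).hom)
    (AffAlg.algHom_comm W.hom ξ s.1 s.2)
  exact h1

include hU in
theorem ρΩ_injective (W : FEt.Cat X) : Function.Injective (ρΩ ξ U hx W) := by
  intro s₁ s₂ h
  have hV : IsAffineOpen (ξ ⁻¹ᵁ U) := by rw [hx]; exact isAffineOpen_top _
  have hW : IsAffineOpen (W.hom ⁻¹ᵁ U) := hU.preimage W.hom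
  have h1 : (AffAlg.algHom W.hom ξ s₁.1 s₁.2).app (op U) ≫ (iΩ ξ U hx).hom =
      (AffAlg.algHom W.hom ξ s₂.1 s₂.2).app (op U) ≫ (iΩ ξ U hx).hom := CommRingCat.hom_ext h
  have h2 := (cancel_mono (iΩ ξ U hx).hom).mp h1
  exact Subtype.ext (hom_ext_of_chart ξ W.hom U hV hx hW s₁.1 s₂.1 s₁.2 s₂.2 h2)

include hU in
theorem ρΩ_surj (W : FEt.Cat X) (ρ : Γ(W.left, W.hom ⁻¹ᵁ U) →+* Ω)
    (h : ρ.comp (W.hom.app U).hom = ωΩ ξ U hx) : ∃ s, ρΩ ξ U hx W s = ρ := by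
  have hV : IsAffineOpen (ξ ⁻¹ᵁ U) := by rw [hx]; exact isAffineOpen_top _
  have hW : IsAffineOpen (W.hom ⁻¹ᵁ U) := hU.preimage W.hom
  have h0 : W.hom.app U ≫ (CommRingCat.ofHom ρ ≫ (iΩ ξ U hx).inv) = ξ.app U := by
    have h1 : W.hom.app U ≫ CommRingCat.ofHom ρ = ξ.app U ≫ (iΩ ξ U hx).hom :=
      CommRingCat.hom_ext h
    rw [← Category.assoc, h1, Category.assoc, Iso.hom_inv_id, Category.comp_id]
  obtain ⟨s, w, hs⟩ := exists_of_chart ξ W.hom U hU hV hx hW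
    (CommRingCat.ofHom ρ ≫ (iΩ ξ U hx).inv) h0
  refine ⟨⟨s, w⟩, ?_⟩
  unfold ρΩ
  rw [hs, Category.assoc, Iso.inv_hom_id, Category.comp_id]
  rfl

theorem ρΩ_map {W W' : FEt.Cat X} (h : W ⟶ W') (s : FEt.fiberObj ξ W) :
    ρΩ ξ U hx W' ((FEt.fiber ξ).map h s) =
      (ρΩ ξ U hx W s).comp
        ((AffAlg.algHom W'.hom W.hom h.left (Over.w h.hom)).app (op U)).hom := by
  have w'' : (s.1 ≫ h.left) ≫ W'.hom = ξ := ((FEt.fiber ξ).map h s).2
  have h1 := algHom_comp W'.hom W.hom ξ h.left (Over.w h.hom) s.1 s.2 w''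
  have h2 : AffAlg.algHom W'.hom ξ ((FEt.fiber ξ).map h s).1 ((FEt.fiber ξ).map h s).2 =
      AffAlg.algHom W'.hom ξ (s.1 ≫ h.left) w'' := rfl
  unfold ρΩ
  rw [h2, h1, NatTrans.comp_app, Category.assoc]
  rfl

end chartΩ

end Groth.Agent.Helper23.FibCoeq
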