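import Groth.Agent.Lib.Helper23.FibCoeq4

/-! helper23: the fibre functor at a geometric point preserves coequalizers (main part). -/

set_option autoImplicit false
set_option linter.style.haveILetI false
set_option linter.unusedVariables false
universe u

open CategoryTheory CategoryTheory.Limits AlgebraicGeometry TopologicalSpace Opposite

namespace Groth.Agent.Helper23.FibCoeq
open Groth.Agent.Helper23.FEtCoeq Groth.Agent.Helper23.FibCard

section main

variable {X : Scheme.{u}} {Ω : Type u} [Field Ω] [IsAlgClosed Ω]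
  (ξ : Spec (CommRingCat.of Ω) ⟶ X) {Y Z : FEt.Cat X} (f g : Y ⟶ Z)

section fixU

variable (U : X.Opens) (hU : IsAffineOpen U) (hx : ξ ⁻¹ᵁ U = ⊤)

/-- the chart maps -/
noncomputable abbrev φU : Γ(Z.left, Z.hom ⁻¹ᵁ U) ⟶ Γ(Y.left, Y.hom ⁻¹ᵁ U) :=
  (AffAlg.algHom Z.hom Y.hom f.left (Over.w f.hom)).app (op U)

theorem φU_comp : (φU f U).hom.comp (Z.hom.app U).hom = (Y.hom.app U).hom :=
  congrArg (fun k => (k.app (op U)).hom) (AffAlg.algHom_comm Z.hom Y.hom f.left (Over.w f.hom))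

/-- the comparison in the chart -/
noncomputable abbrev γU : Γ((QE f g).spec, (QE f g).π ⁻¹ᵁ U) ⟶ (QE f g).presheaf.obj (op U) :=
  (QE f g).gammaMap.app (op U)

instance : IsIso (γU f g U) := by
  unfold γU
  haveI : IsIso (QE f g).gammaMap := Groth.Agent.S8255.result _
  exact NatIso.isIso_app_of_isIso (QE f g).gammaMap (op U)

theorem coeqπ_chart :
    (AffAlg.algHom (coeqObj f g).hom Z.hom (coeqπ f g).left (Over.w (coeqπ f g).hom)).app (op U) =
      γU f g U ≫ (qeι f g).app (op U) := by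
  have h1 : AffAlg.algHom (coeqObj f g).hom Z.hom (coeqπ f g).left (Over.w (coeqπ f g).hom) =
      AffAlg.algHom (QE f g).π Z.hom (c0 f g) (c0_π f g) := rfl
  rw [h1, algHom_c0]
  rfl

theorem γU_str (r : Γ(X, U)) :
    (γU f g U).hom (((QE f g).π.app U).hom r) = ((QE f g).str.app (op U)).hom r := by
  have h1 := congrArg (fun k => (k.app (op U)).hom r) (QE f g).π_c_gammaMap
  exact h1

theorem inv_γU_apply (q : Γ((QE f g).spec, (QE f g).π ⁻¹ᵁ U)) :
    (inv (γU f g U)).hom ((γU f g U).hom q) = q :=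
  congrArg (fun k => k.hom q) (IsIso.hom_inv_id (γU f g U))

theorem γU_inv_apply (e : (QE f g).presheaf.obj (op U)) :
    (γU f g U).hom ((inv (γU f g U)).hom e) = e :=
  congrArg (fun k => k.hom e) (IsIso.inv_hom_id (γU f g U))

include hU hx in
theorem surj_aux (t : FEt.fiberObj ξ (coeqObj f g)) :
    ∃ s : FEt.fiberObj ξ Z, (FEt.fiber ξ).map (coeqπ f g) s = t := by
  let ρ' : Γ((QE f g).spec, (QE f g).π ⁻¹ᵁ U) →+* Ω := ρΩ ξ U hx (coeqObj f g) t
  have hρ' : ∀ r : Γ(X, U), ρ' (((QE f g).π.app U).hom r) = ωΩ ξ U hx r := fun r =>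
    RingHom.congr_fun (ρΩ_comp ξ U hx (coeqObj f g) t) r
  let ρE : RingHom.eqLocus (φU f U).hom (φU g U).hom →+* Ω := ρ'.comp (inv (γU f g U)).hom
  have ha : (Z.hom.app U).hom.Finite := IsFinite.finite_app Z.hom U hU
  obtain ⟨σ, hσ⟩ := core_surj (Z.hom.app U).hom (Y.hom.app U).hom (φU f U).hom (φU g U).hom
    (φU_comp f U) (φU_comp g U) ha ρE
  have hσ' : ∀ e : RingHom.eqLocus (φU f U).hom (φU g U).hom, σ e.1 = ρE e := fun e =>
    RingHom.congr_fun hσ e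
  have hσω : σ.comp (Z.hom.app U).hom = ωΩ ξ U hx := by
    ext r
    have h1 : (Z.hom.app U).hom r = (((QE f g).str.app (op U)).hom r).1 := rfl
    change σ ((Z.hom.app U).hom r) = _
    rw [h1, hσ', ← γU_str f g U r]
    change ρ' ((inv (γU f g U)).hom ((γU f g U).hom (((QE f g).π.app U).hom r))) = _
    rw [inv_γU_apply, hρ']
  obtain ⟨s, hs⟩ := ρΩ_surj ξ U hU hx Z σ hσω
  refine ⟨s, ρΩ_injective ξ U hU hx (coeqObj f g) ?_⟩
  rw [ρΩ_map, coeqπ_chart, hs]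
  ext q
  change σ (((γU f g U).hom q).1) = ρ' q
  rw [hσ']
  change ρ' ((inv (γU f g U)).hom ((γU f g U).hom q)) = _
  rw [inv_γU_apply]

include hU hx in
theorem fib_aux (s₁ s₂ : FEt.fiberObj ξ Z)
    (h : (FEt.fiber ξ).map (coeqπ f g) s₁ = (FEt.fiber ξ).map (coeqπ f g) s₂) :
    Relation.EqvGen (fun a b : FEt.fiberObj ξ Z =>
      ∃ y : FEt.fiberObj ξ Y, a = (FEt.fiber ξ).map f y ∧ b = (FEt.fiber ξ).map g y) s₁ s₂ := by
  have ha : (Z.hom.app U).hom.Finite := IsFinite.finite_app Z.hom U hU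
  have ha' : (Z.hom.app U).hom.Etale := etale_app Z.hom ⟨U, hU⟩
  have hc : (Y.hom.app U).hom.Finite := IsFinite.finite_app Y.hom U hU
  have hc' : (Y.hom.app U).hom.Etale := etale_app Y.hom ⟨U, hU⟩
  have h1 := congrArg (ρΩ ξ U hx (coeqObj f g)) h
  rw [ρΩ_map, ρΩ_map, coeqπ_chart] at h1
  have hon : ∀ e ∈ RingHom.eqLocus (φU f U).hom (φU g U).hom,
      ρΩ ξ U hx Z s₁ e = ρΩ ξ U hx Z s₂ e := by
    intro e he
    have h2 := RingHom.congr_fun h1 ((inv (γU f g U)).hom ⟨e, he⟩)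
    change ρΩ ξ U hx Z s₁ (((γU f g U).hom ((inv (γU f g U)).hom ⟨e, he⟩)).1) =
      ρΩ ξ U hx Z s₂ (((γU f g U).hom ((inv (γU f g U)).hom ⟨e, he⟩)).1) at h2
    rw [γU_inv_apply] at h2
    exact h2
  have hE := core_fib (Z.hom.app U).hom (Y.hom.app U).hom (φU f U).hom (φU g U).hom
    (φU_comp f U) (φU_comp g U) ha ha' hc hc' (ωΩ ξ U hx) (ρΩ ξ U hx Z s₁) (ρΩ ξ U hx Z s₂)
    (ρΩ_comp ξ U hx Z s₁) (ρΩ_comp ξ U hx Z s₂) hon
  have key : ∀ σ σ' : Γ(Z.left, Z.hom ⁻¹ᵁ U) →+* Ω,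
      Relation.EqvGen (fun s t : Γ(Z.left, Z.hom ⁻¹ᵁ U) →+* Ω =>
        ∃ θ : Γ(Y.left, Y.hom ⁻¹ᵁ U) →+* Ω, θ.comp (Y.hom.app U).hom = ωΩ ξ U hx ∧
          s = θ.comp (φU f U).hom ∧ t = θ.comp (φU g U).hom) σ σ' →
      ((σ.comp (Z.hom.app U).hom = ωΩ ξ U hx ↔ σ'.comp (Z.hom.app U).hom = ωΩ ξ U hx) ∧
      ∀ s s' : FEt.fiberObj ξ Z, ρΩ ξ U hx Z s = σ → ρΩ ξ U hx Z s' = σ' →
      Relation.EqvGen (fun a b : FEt.fiberObj ξ Z =>
        ∃ y : FEt.fiberObj ξ Y, a = (FEt.fiber ξ).map f y ∧ b = (FEt.fiber ξ).map g y) s s') := by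
    intro σ σ' hσ
    induction hσ with
    | rel x y hxy =>
      obtain ⟨θ, hθ, rfl, rfl⟩ := hxy
      refine ⟨?_, ?_⟩
      · rw [RingHom.comp_assoc, RingHom.comp_assoc, φU_comp, φU_comp]
      · intro s s' hs hs'
        obtain ⟨y0, hy0⟩ := ρΩ_surj ξ U hU hx Y θ hθ
        refine Relation.EqvGen.rel _ _ ⟨y0, ?_, ?_⟩
        · apply ρΩ_injective ξ U hU hx Z
          rw [hs, ρΩ_map, hy0]
        · apply ρΩ_injective ξ U hU hx Z
          rw [hs', ρΩ_map, hy0]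
    | refl x =>
      refine ⟨Iff.rfl, ?_⟩
      intro s s' hs hs'
      have : s = s' := ρΩ_injective ξ U hU hx Z (hs.trans hs'.symm)
      rw [this]
      exact Relation.EqvGen.refl _
    | symm x y _ ih =>
      refine ⟨ih.1.symm, ?_⟩
      intro s s' hs hs'
      exact Relation.EqvGen.symm _ _ (ih.2 s' s hs' hs)
    | trans x y z _ _ ih1 ih2 =>
      refine ⟨ih1.1.trans ih2.1, ?_⟩
      intro s s' hs hs'
      have hxω : x.comp (Z.hom.app U).hom = ωΩ ξ U hx := by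
        rw [← hs]; exact ρΩ_comp ξ U hx Z s
      obtain ⟨sy, hsy⟩ := ρΩ_surj ξ U hU hx Z y (ih1.1.mp hxω)
      exact Relation.EqvGen.trans _ _ _ (ih1.2 s sy hs hsy) (ih2.2 sy s' hsy hs')
  exact (key _ _ hE).2 s₁ s₂ rfl rfl

end fixU

theorem fiber_coeqπ_surjective : Function.Surjective ((FEt.fiber ξ).map (coeqπ f g)) := by
  obtain ⟨U, hU, hx⟩ := exists_affine_chart ξ
  exact surj_aux ξ f g U hU hx

theorem fiber_coeqπ_eqvGen (s₁ s₂ : FEt.fiberObj ξ Z)
    (h : (FEt.fiber ξ).map (coeqπ f g) s₁ = (FEt.fiber ξ).map (coeqπ f g) s₂) :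
    Relation.EqvGen (fun a b : FEt.fiberObj ξ Z =>
      ∃ y : FEt.fiberObj ξ Y, a = (FEt.fiber ξ).map f y ∧ b = (FEt.fiber ξ).map g y) s₁ s₂ := by
  obtain ⟨U, hU, hx⟩ := exists_affine_chart ξ
  exact fib_aux ξ f g U hU hx s₁ s₂ h

/-- the fibre functor maps the coequalizer cofork to a coequalizer cofork -/
noncomputable def fiberCoeqIsColimit :
    IsColimit ((FEt.fiber ξ).mapCocone (Cofork.ofπ (coeqπ f g) (coeqπ_cond f g))) :=
  (isColimitMapCoconeCoforkEquiv (FEt.fiber ξ) (coeqπ_cond f g)).symm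
    (isColimitOfSurj _ _ _ _ (fiber_coeqπ_surjective ξ f g) (fiber_coeqπ_eqvGen ξ f g))

theorem preservesCoeq : PreservesColimit (parallelPair f g) (FEt.fiber ξ) :=
  preservesColimit_of_preserves_colimit_cocone (coeqIsColimit f g) (fiberCoeqIsColimit ξ f g)

theorem preservesCoequalizers :
    PreservesColimitsOfShape WalkingParallelPair (FEt.fiber ξ) := by
  constructor
  intro K
  haveI := preservesCoeq ξ (K.map WalkingParallelPairHom.left) (K.map WalkingParallelPairHom.right)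
  exact preservesColimit_of_iso_diagram (FEt.fiber ξ) (diagramIsoParallelPair K).symm

end main

end Groth.Agent.Helper23.FibCoeq
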