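import Groth.Agent.Lib.Helper23.FibCoeq5

/-! helper23: the fibre functor at a geometric point preserves finite colimits. -/

set_option autoImplicit false
set_option linter.style.haveILetI false
set_option linter.unusedVariables false
universe u

open CategoryTheory CategoryTheory.Limits AlgebraicGeometry TopologicalSpace Opposite

namespace Groth.Agent.Helper23.FibColim
open Groth.Agent.Helper23.FEtCoeq Groth.Agent.Helper23.FibCard Groth.Agent.Helper23.FibCoeq

section

variable {X : Scheme.{u}} {Ω : Type u} [Field Ω] (ξ : Spec (CommRingCat.of Ω) ⟶ X)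

theorem isEmpty_fiber_empty : IsEmpty (FEt.fiberObj ξ (emptyObj X)) :=
  ⟨fun s => by
    have y : ↥(⊥_ Scheme.{u}) := s.1.base default
    exact isEmptyElim y⟩

theorem preservesInitial : PreservesColimit (Functor.empty.{0} (FEt.Cat X)) (FEt.fiber ξ) :=
  preservesColimit_of_preserves_colimit_cocone (emptyIsInitial X)
    ((isColimitMapCoconeEmptyCoconeEquiv _ _).symm
      (Classical.choice ((Types.initial_iff_empty _).mpr (isEmpty_fiber_empty ξ))))

variable (A B : FEt.Cat X)

theorem fiber_sum_isColimit :
    Nonempty (IsColimit (BinaryCofan.mk ((FEt.fiber ξ).map (sumInl A B))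
      ((FEt.fiber ξ).map (sumInr A B)))) := by
  rw [Types.binaryCofan_isColimit_iff]
  refine ⟨?_, ?_, ?_⟩
  · intro s₁ s₂ h
    have h1 : s₁.1 ≫ (coprod.inl : A.left ⟶ A.left ⨿ B.left) =
        s₂.1 ≫ (coprod.inl : A.left ⟶ A.left ⨿ B.left) := congrArg Subtype.val h
    exact Subtype.ext ((cancel_mono _).mp h1)
  · intro s₁ s₂ h
    have h1 : s₁.1 ≫ (coprod.inr : B.left ⟶ A.left ⨿ B.left) =
        s₂.1 ≫ (coprod.inr : B.left ⟶ A.left ⨿ B.left) := congrArg Subtype.val h
    exact Subtype.ext ((cancel_mono _).mp h1)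
  · constructor
    · rw [Set.disjoint_iff_forall_ne]
      rintro _ ⟨s, rfl⟩ _ ⟨s', rfl⟩ h
      have h1 : s.1 ≫ (coprod.inl : A.left ⟶ A.left ⨿ B.left) =
          s'.1 ≫ (coprod.inr : B.left ⟶ A.left ⨿ B.left) := congrArg Subtype.val h
      have h2 := congrArg (fun k : Spec (CommRingCat.of Ω) ⟶ A.left ⨿ B.left => k.base default) h1
      exact inl_ne_inr A.left B.left (s.1.base default) (s'.1.base default) h2
    · rw [codisjoint_iff]
      apply top_unique
      intro t _
      change t ∈ Set.range _ ∪ Set.range _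
      let t0 : Spec (CommRingCat.of Ω) ⟶ A.left ⨿ B.left := t.1
      have ht0 : t0 ≫ coprod.desc A.hom B.hom = ξ := t.2
      have hz : t0.base default ∈ Set.range (coprod.inl : A.left ⟶ A.left ⨿ B.left).base ∪
          Set.range (coprod.inr : B.left ⟶ A.left ⨿ B.left).base := by
        have := (isCompl_range_inl_inr A.left B.left).sup_eq_top
        change _ ∈ Set.range _ ⊔ Set.range _
        rw [this]
        exact Set.mem_univ _
      have hrange : ∀ S : Set ↥(A.left ⨿ B.left), t0.base default ∈ S → Set.range t0.base ⊆ S := by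
        rintro S hS _ ⟨y, rfl⟩
        have : y = default := Subsingleton.elim _ _
        rw [this]
        exact hS
      rcases hz with hz | hz
      · refine Or.inl ?_
        let s0 := IsOpenImmersion.lift (coprod.inl : A.left ⟶ A.left ⨿ B.left) t0 (hrange _ hz)
        have hs0 : s0 ≫ (coprod.inl : A.left ⟶ A.left ⨿ B.left) = t0 :=
          IsOpenImmersion.lift_fac _ _ _
        refine ⟨⟨s0, ?_⟩, Subtype.ext hs0⟩
        rw [← ht0, ← hs0, Category.assoc, coprod.inl_desc]
      · refine Or.inr ?_
        let s0 := IsOpenImmersion.lift (coprod.inr : B.left ⟶ A.left ⨿ B.left) t0 (hrange _ hz)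
        have hs0 : s0 ≫ (coprod.inr : B.left ⟶ A.left ⨿ B.left) = t0 :=
          IsOpenImmersion.lift_fac _ _ _
        refine ⟨⟨s0, ?_⟩, Subtype.ext hs0⟩
        rw [← ht0, ← hs0, Category.assoc, coprod.inr_desc]

theorem preservesPair : PreservesColimit (pair A B) (FEt.fiber ξ) :=
  preservesColimit_of_preserves_colimit_cocone (sumIsColimit A B)
    ((isColimitMapCoconeBinaryCofanEquiv _ _ _).symm (fiber_sum_isColimit ξ A B).some)

theorem preservesBinaryCoproducts :
    PreservesColimitsOfShape (Discrete WalkingPair) (FEt.fiber ξ) := by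
  constructor
  intro K
  haveI := preservesPair ξ (K.obj ⟨WalkingPair.left⟩) (K.obj ⟨WalkingPair.right⟩)
  exact preservesColimit_of_iso_diagram (FEt.fiber ξ) (diagramIsoPair K).symm

theorem preservesFiniteCoproducts : PreservesFiniteCoproducts (FEt.fiber ξ) := by
  haveI := hasFiniteCoproducts X
  haveI := preservesBinaryCoproducts ξ
  haveI : PreservesColimit (Functor.empty.{0} (FEt.Cat X)) (FEt.fiber ξ) := preservesInitial ξ
  haveI : PreservesColimitsOfShape (Discrete.{0} PEmpty) (FEt.fiber ξ) :=
    preservesColimitsOfShape_pempty_of_preservesInitial _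
  refine ⟨fun n => ?_⟩
  exact PreservesFiniteCoproducts.of_preserves_binary_and_initial (FEt.fiber ξ) _

theorem preservesFiniteColimits [IsAlgClosed Ω] : PreservesFiniteColimits (FEt.fiber ξ) := by
  haveI := hasFiniteCoproducts X
  haveI := hasCoequalizers X
  haveI := preservesFiniteCoproducts ξ
  haveI := preservesCoequalizers ξ
  exact preservesFiniteColimits_of_preservesCoequalizers_and_finiteCoproducts _

end

end Groth.Agent.Helper23.FibColim
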