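import Groth.Agent.Lib.Helper23.FibColim2

/-! helper23: base change of finite étale covers preserves finite limits and colimits. -/

set_option autoImplicit false
set_option linter.style.haveILetI false
set_option linter.unusedVariables false
universe u

open CategoryTheory CategoryTheory.Limits AlgebraicGeometry TopologicalSpace Opposite

namespace Groth.Agent.Helper23.FibColim
open Groth.Agent.Helper23.FEtCoeq Groth.Agent.Helper23.FibCard Groth.Agent.Helper23.FibCoeq

section restrict

variable {X Y : Scheme.{u}} (f : X ⟶ Y)

/-- the fibre of a base change is the fibre at the composite point -/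
noncomputable def restrictFiberIso {Ω : Type u} [Field Ω] (ξ' : Spec (CommRingCat.of Ω) ⟶ X) :
    FEt.restrict f ⋙ FEt.fiber ξ' ≅ FEt.fiber (ξ' ≫ f) :=
  NatIso.ofComponents (fun W => Equiv.toIso
    { toFun := fun s => (⟨(s.1 : Spec (CommRingCat.of Ω) ⟶ pullback W.hom f) ≫ pullback.fst W.hom f, by
          have h2 : (s.1 : Spec (CommRingCat.of Ω) ⟶ pullback W.hom f) ≫ pullback.snd W.hom f = ξ' := s.2
          have hc : pullback.fst W.hom f ≫ W.hom = pullback.snd W.hom f ≫ f := pullback.condition
          exact (Category.assoc _ _ _).trans ((congrArg (fun k => (s.1 : Spec (CommRingCat.of Ω) ⟶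
            pullback W.hom f) ≫ k) hc).trans ((Category.assoc _ _ _).symm.trans
              (congrArg (fun k => k ≫ f) h2)))⟩ : FEt.fiberObj (ξ' ≫ f) W)
      invFun := fun t => (⟨(pullback.lift t.1 ξ' t.2 : Spec (CommRingCat.of Ω) ⟶ pullback W.hom f),
          pullback.lift_snd _ _ _⟩ : FEt.fiberObj ξ' ((FEt.restrict f).obj W))
      left_inv := fun s => by
        apply Subtype.ext
        have h2 : (s.1 : Spec (CommRingCat.of Ω) ⟶ pullback W.hom f) ≫ pullback.snd W.hom f = ξ' := s.2
        apply pullback.hom_ext
        · exact pullback.lift_fst _ _ _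
        · exact (pullback.lift_snd _ _ _).trans h2.symm
      right_inv := fun t => Subtype.ext (pullback.lift_fst _ _ _) }) (by
    intro W W' q
    apply ConcreteCategory.hom_ext
    intro s
    apply Subtype.ext
    change ((s.1 : Spec (CommRingCat.of Ω) ⟶ pullback W.hom f) ≫
      pullback.lift (pullback.fst W.hom f ≫ q.left) (pullback.snd W.hom f) _) ≫
        pullback.fst W'.hom f =
      ((s.1 : Spec (CommRingCat.of Ω) ⟶ pullback W.hom f) ≫ pullback.fst W.hom f) ≫ q.left
    rw [Category.assoc, pullback.lift_fst, Category.assoc])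

theorem preservesFiniteLimits_restrict : PreservesFiniteLimits (FEt.restrict f) := by
  unfold FEt.restrict
  infer_instance

theorem preservesColimit_restrict {J : Type} [SmallCategory J] [FinCategory J]
    (K : J ⥤ FEt.Cat Y) : PreservesColimit K (FEt.restrict f) := by
  haveI := hasFiniteColimits Y
  haveI := hasFiniteColimits X
  apply preservesColimit_of_preserves_colimit_cocone (colimit.isColimit K)
  let c := colimit.cocone K
  let hc' := colimit.isColimit (K ⋙ FEt.restrict f)
  let d := hc'.desc ((FEt.restrict f).mapCocone c)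
  haveI : IsIso d := by
    apply isIso_of_fiber_bijective
    intro Ω _ _ ξ'
    haveI := preservesFiniteColimits ξ'
    haveI := preservesFiniteColimits (ξ' ≫ f)
    haveI : PreservesColimit K (FEt.restrict f ⋙ FEt.fiber ξ') :=
      preservesColimit_of_natIso K (restrictFiberIso f ξ').symm
    have hP : IsColimit ((FEt.fiber ξ').mapCocone (colimit.cocone (K ⋙ FEt.restrict f))) :=
      isColimitOfPreserves (FEt.fiber ξ') hc'
    have hQ : IsColimit ((FEt.fiber ξ').mapCocone ((FEt.restrict f).mapCocone c)) :=
      isColimitOfPreserves (FEt.restrict f ⋙ FEt.fiber ξ') (colimit.isColimit K)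
    have hd : (FEt.fiber ξ').map d = (hP.coconePointUniqueUpToIso hQ).hom := by
      apply hP.hom_ext
      intro j
      rw [IsColimit.comp_coconePointUniqueUpToIso_hom]
      change (FEt.fiber ξ').map ((colimit.cocone (K ⋙ FEt.restrict f)).ι.app j) ≫
        (FEt.fiber ξ').map d = (FEt.fiber ξ').map (((FEt.restrict f).mapCocone c).ι.app j)
      rw [← Functor.map_comp, hc'.fac]
    rw [hd]
    exact (isIso_iff_bijective _).mp inferInstance
  exact IsColimit.ofPointIso hc'

theorem preservesFiniteColimits_restrict : PreservesFiniteColimits (FEt.restrict f) :=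
  ⟨fun J _ _ => ⟨fun {K} => preservesColimit_restrict f K⟩⟩

end restrict

end Groth.Agent.Helper23.FibColim
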