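import Mathlib

/-!
# Extending a finite cover of a quasi-compact open of an affine scheme

Algebraic core: given a ring map `A → B'` and finitely many `f ∈ A` such that `B'_f` is finite
over `A_f`, there is a finite `A`-subalgebra `B ⊆ B'` with `B_f = B'_f` for all these `f`.
-/

namespace Groth.Agent.Lib.Helper23.FinExt

universe u

section Alg

variable {A B' Af Bf : Type*} [CommRing A] [CommRing B'] [CommRing Af] [CommRing Bf]
    [Algebra A B'] [Algebra A Af] [Algebra B' Bf] [Algebra Af Bf] [Algebra A Bf]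
    [IsScalarTower A Af Bf] [IsScalarTower A B' Bf]

/-- Every element of `Bf` has a multiple by a power of `f` that lifts to an `A`-integral
element of `B'`. -/
theorem exists_integral_lift (f : A) [IsLocalization.Away f Af]
    [IsLocalization.Away (algebraMap A B' f) Bf] [Algebra.IsIntegral Af Bf] (γ : Bf) :
    ∃ c : B', IsIntegral A c ∧
      ∃ k : ℕ, γ * algebraMap B' Bf (algebraMap A B' f) ^ k = algebraMap B' Bf c := by
  obtain ⟨k₀, b₀, h₀⟩ := IsLocalization.Away.surj (algebraMap A B' f) γ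
  have h1 : IsIntegral Af (algebraMap B' Bf b₀) := Algebra.IsIntegral.isIntegral _
  obtain ⟨⟨_, m, rfl⟩, hm⟩ :=
    IsIntegral.exists_multiple_integral_of_isLocalization (Submonoid.powers f) _ h1
  have hm' : IsIntegral A (algebraMap B' Bf (algebraMap A B' f ^ m * b₀)) := by
    convert hm using 1
    rw [Submonoid.smul_def, Algebra.smul_def, map_mul, map_pow, map_pow,
      ← IsScalarTower.algebraMap_apply]
  obtain ⟨n, hn⟩ := IsLocalization.Away.exists_isIntegral_mul_of_isIntegral_algebraMap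
    (R := A) (r := algebraMap A B' f) isIntegral_algebraMap hm'
  refine ⟨algebraMap A B' f ^ n * (algebraMap A B' f ^ m * b₀), hn, k₀ + (n + m), ?_⟩
  rw [map_mul, map_mul, map_pow, map_pow, ← h₀, pow_add, pow_add]
  ring

/-- If a subalgebra `B ⊆ B'` contains lifts of multiples of generators of `Bf` over `Af`, then
every element of `B'` has a multiple by a power of `f` lying in `B`. -/
theorem exists_pow_mul_mem (f : A) [IsLocalization.Away f Af]
    [IsLocalization.Away (algebraMap A B' f) Bf] (G : Set Bf) (hG : Submodule.span Af G = ⊤)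
    (B : Subalgebra A B')
    (hB : ∀ γ ∈ G, ∃ c ∈ B, ∃ k : ℕ,
      γ * algebraMap B' Bf (algebraMap A B' f) ^ k = algebraMap B' Bf c) (b' : B') :
    ∃ n : ℕ, algebraMap A B' f ^ n * b' ∈ B := by
  have hu' : algebraMap B' Bf (algebraMap A B' f) = algebraMap Af Bf (algebraMap A Af f) := by
    rw [← IsScalarTower.algebraMap_apply, ← IsScalarTower.algebraMap_apply]
  have key : ∀ x : Bf, ∃ c ∈ B, ∃ k : ℕ,
      x * algebraMap B' Bf (algebraMap A B' f) ^ k = algebraMap B' Bf c := by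
    intro x
    have hx : x ∈ Submodule.span Af G := hG ▸ Submodule.mem_top
    induction hx using Submodule.span_induction with
    | mem x hx => exact hB x hx
    | zero => exact ⟨0, B.zero_mem, 0, by simp⟩
    | add x y _ _ hx hy =>
      obtain ⟨c, hc, k, hk⟩ := hx
      obtain ⟨d, hd, l, hl⟩ := hy
      refine ⟨algebraMap A B' f ^ l * c + algebraMap A B' f ^ k * d, ?_, k + l, ?_⟩
      · exact B.add_mem (B.mul_mem (B.pow_mem (B.algebraMap_mem _) _) hc)
          (B.mul_mem (B.pow_mem (B.algebraMap_mem _) _) hd)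
      · rw [map_add, map_mul, map_mul, map_pow, map_pow, ← hk, ← hl, pow_add]; ring
    | smul a x _ hx =>
      obtain ⟨c, hc, k, hk⟩ := hx
      obtain ⟨j, a', ha'⟩ := IsLocalization.Away.surj f a
      refine ⟨algebraMap A B' a' * c, B.mul_mem (B.algebraMap_mem _) hc, k + j, ?_⟩
      have e1 : algebraMap B' Bf (algebraMap A B' a') =
          algebraMap Af Bf (a * algebraMap A Af f ^ j) := by
        rw [ha', ← IsScalarTower.algebraMap_apply, ← IsScalarTower.algebraMap_apply]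
      rw [Algebra.smul_def, map_mul, e1, map_mul, map_pow, ← hu', ← hk, pow_add]
      ring
  obtain ⟨c, hc, k, hk⟩ := key (algebraMap B' Bf b')
  have h2 : algebraMap B' Bf (b' * algebraMap A B' f ^ k) = algebraMap B' Bf c := by
    rw [map_mul, map_pow, hk]
  obtain ⟨n, hn⟩ := IsLocalization.Away.exists_of_eq (algebraMap A B' f) h2
  refine ⟨n + k, ?_⟩
  have h3 : algebraMap A B' f ^ (n + k) * b' = algebraMap A B' f ^ n * c := by
    rw [← hn, pow_add]; ring
  rw [h3]
  exact B.mul_mem (B.pow_mem (B.algebraMap_mem _) _) hc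

/-- One `f`: a finite set of integral elements of `B'` such that any subalgebra containing it
becomes equal to `B'` after inverting `f`. -/
theorem alg_one (f : A) [IsLocalization.Away f Af]
    [IsLocalization.Away (algebraMap A B' f) Bf] [Module.Finite Af Bf] :
    ∃ T : Finset B', (∀ t ∈ T, IsIntegral A t) ∧
      ∀ B : Subalgebra A B', (↑T : Set B') ⊆ B →
        ∀ b' : B', ∃ n : ℕ, algebraMap A B' f ^ n * b' ∈ B := by
  classical
  obtain ⟨G, hG⟩ := (Module.Finite.fg_top (R := Af) (M := Bf))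
  choose c hc hk using fun γ : Bf => exists_integral_lift (A := A) (B' := B') (Af := Af) f γ
  refine ⟨G.image c, ?_, ?_⟩
  · intro t ht
    obtain ⟨γ, -, rfl⟩ := Finset.mem_image.mp ht
    exact hc γ
  · intro B hTB b'
    refine exists_pow_mul_mem (Af := Af) (Bf := Bf) f (↑G) hG B ?_ b'
    intro γ hγ
    exact ⟨c γ, hTB (Finset.mem_coe.mpr (Finset.mem_image_of_mem c hγ)), hk γ⟩

end Alg

/-- The algebraic core. -/
theorem alg_core {A B' : Type u} [CommRing A] [CommRing B'] [Algebra A B'] (s : Finset A)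
    (H : ∀ f ∈ s, ∃ (Af Bf : Type u) (_ : CommRing Af) (_ : CommRing Bf) (_ : Algebra A Af)
      (_ : Algebra B' Bf) (_ : Algebra Af Bf) (_ : Algebra A Bf) (_ : IsScalarTower A Af Bf)
      (_ : IsScalarTower A B' Bf), IsLocalization.Away f Af ∧
        IsLocalization.Away (algebraMap A B' f) Bf ∧ Module.Finite Af Bf) :
    ∃ B : Subalgebra A B', Module.Finite A B ∧
      ∀ f ∈ s, ∀ b' : B', ∃ n : ℕ, algebraMap A B' f ^ n * b' ∈ B := by
  classical
  have H' : ∀ f ∈ s, ∃ T : Finset B', (∀ t ∈ T, IsIntegral A t) ∧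
      ∀ B : Subalgebra A B', (↑T : Set B') ⊆ B →
        ∀ b' : B', ∃ n : ℕ, algebraMap A B' f ^ n * b' ∈ B := by
    intro f hf
    obtain ⟨Af, Bf, _, _, _, _, _, _, _, _, h1, h2, h3⟩ := H f hf
    exact alg_one (Af := Af) (Bf := Bf) f
  choose T hT1 hT2 using H'
  let Ttot : Finset B' := s.attach.biUnion fun f => T f.1 f.2
  refine ⟨Algebra.adjoin A (↑Ttot : Set B'), ?_, ?_⟩
  · refine Algebra.finite_adjoin_of_finite_of_isIntegral Ttot.finite_toSet ?_
    intro x hx
    obtain ⟨f, -, hxf⟩ := Finset.mem_biUnion.mp (Finset.mem_coe.mp hx)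
    exact hT1 f.1 f.2 x hxf
  · intro f hf b'
    refine hT2 f hf _ ?_ b'
    intro t ht
    refine Algebra.subset_adjoin (Finset.mem_coe.mpr (Finset.mem_biUnion.mpr ?_))
    exact ⟨⟨f, hf⟩, Finset.mem_attach _ _, Finset.mem_coe.mp ht⟩

/-- If `R → R'` is injective and every element of `R'` has a multiple by a power of `r` in `R`,
then a localization of `R'` away from `r` is a localization of `R` away from `r`. -/
theorem isLocalization_of_sub {R R' L : Type*} [CommRing R] [CommRing R'] [CommRing L]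
    [Algebra R R'] [Algebra R' L] [Algebra R L]
    (hcomp : ∀ x : R, algebraMap R L x = algebraMap R' L (algebraMap R R' x))
    (hinj : Function.Injective (algebraMap R R')) (r : R)
    [IsLocalization.Away (algebraMap R R' r) L]
    (h : ∀ x : R', ∃ n : ℕ, ∃ y : R, algebraMap R R' y = algebraMap R R' r ^ n * x) :
    IsLocalization.Away r L := by
  haveI : IsScalarTower R R' L := .of_algebraMap_eq hcomp
  refine IsLocalization.Away.mk r ?_ ?_ ?_
  · rw [IsScalarTower.algebraMap_apply R R' L]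
    exact IsLocalization.Away.algebraMap_isUnit _
  · intro z
    obtain ⟨n, a', ha'⟩ := IsLocalization.Away.surj (algebraMap R R' r) z
    obtain ⟨m, y, hy⟩ := h a'
    refine ⟨n + m, y, ?_⟩
    rw [IsScalarTower.algebraMap_apply R R' L, IsScalarTower.algebraMap_apply R R' L y, hy,
      map_mul, ← ha', pow_add, map_pow]
    ring
  · intro a b hab
    rw [IsScalarTower.algebraMap_apply R R' L, IsScalarTower.algebraMap_apply R R' L b] at hab
    obtain ⟨n, hn⟩ := IsLocalization.Away.exists_of_eq (algebraMap R R' r) hab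
    refine ⟨n, hinj ?_⟩
    rw [map_mul, map_mul, map_pow, hn]


section Sch

open AlgebraicGeometry CategoryTheory Limits TopologicalSpace Opposite

variable {X : Scheme.{u}}

theorem preimage_basicOpen_eq {R : CommRingCat.{u}} (ψ : R ⟶ Γ(X, ⊤)) (f : R) :
    (X.toSpecΓ ≫ Spec.map ψ) ⁻¹ᵁ PrimeSpectrum.basicOpen f = X.basicOpen (ψ f) := by
  rw [Scheme.Hom.comp_preimage, SpecMap_preimage_basicOpen, Scheme.toSpecΓ_preimage_basicOpen]

theorem ι_comp_eq {R : CommRingCat.{u}} (ψ : R ⟶ Γ(X, ⊤)) (f : R) :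
    (X.basicOpen (ψ f)).ι ≫ X.toSpecΓ ≫ Spec.map ψ =
      (X.basicOpen (ψ f)).toSpecΓ ≫
        Spec.map (ψ ≫ X.presheaf.map (homOfLE (X.basicOpen_le (ψ f))).op) := by
  rw [Spec.map_comp, ← Scheme.Opens.toSpecΓ_SpecMap_presheaf_map_top_assoc]

/-- A morphism to an affine scheme which is, over finitely many (or any set of) basic opens
covering the source, given by localizations, is an open immersion. -/
theorem isOpenImmersion_of_cover {R : CommRingCat.{u}} (ψ : R ⟶ Γ(X, ⊤)) (s : Set R)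
    (hcov : ∀ x : X, ∃ f ∈ s, x ∈ X.basicOpen (ψ f))
    (haff : ∀ f ∈ s, IsAffineOpen (X.basicOpen (ψ f)))
    (hloc : ∀ f ∈ s, @IsLocalization.Away R _ f Γ(X, X.basicOpen (ψ f)) _
      (ψ ≫ X.presheaf.map (homOfLE (X.basicOpen_le (ψ f))).op).hom.toAlgebra) :
    IsOpenImmersion (X.toSpecΓ ≫ Spec.map ψ) := by
  refine IsZariskiLocalAtTarget.of_forall_source_exists_preimage _ fun x ↦ ?_
  obtain ⟨f, hf, hxf⟩ := hcov x
  refine ⟨PrimeSpectrum.basicOpen f, (preimage_basicOpen_eq ψ f).ge hxf, ?_⟩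
  suffices IsOpenImmersion ((X.basicOpen (ψ f)).ι ≫ X.toSpecΓ ≫ Spec.map ψ) by
    convert! this <;> rw [preimage_basicOpen_eq]
  rw [ι_comp_eq]
  letI := (ψ ≫ X.presheaf.map (homOfLE (X.basicOpen_le (ψ f))).op).hom.toAlgebra
  haveI := hloc f hf
  exact MorphismProperty.comp_mem _ (haff f hf).isoSpec.hom _ inferInstance
    (.of_isLocalization f)

theorem mem_range_iff_of_cover {R : CommRingCat.{u}} (ψ : R ⟶ Γ(X, ⊤)) (s : Set R)
    (hcov : ∀ x : X, ∃ f ∈ s, x ∈ X.basicOpen (ψ f))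
    (haff : ∀ f ∈ s, IsAffineOpen (X.basicOpen (ψ f)))
    (hloc : ∀ f ∈ s, @IsLocalization.Away R _ f Γ(X, X.basicOpen (ψ f)) _
      (ψ ≫ X.presheaf.map (homOfLE (X.basicOpen_le (ψ f))).op).hom.toAlgebra)
    (y : Spec R) :
    y ∈ Set.range (X.toSpecΓ ≫ Spec.map ψ) ↔ ∃ f ∈ s, y ∈ PrimeSpectrum.basicOpen f := by
  constructor
  · rintro ⟨x, rfl⟩
    obtain ⟨f, hf, hxf⟩ := hcov x
    exact ⟨f, hf, (preimage_basicOpen_eq ψ f).ge hxf⟩
  · rintro ⟨f, hf, hy⟩
    letI := (ψ ≫ X.presheaf.map (homOfLE (X.basicOpen_le (ψ f))).op).hom.toAlgebra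
    haveI := hloc f hf
    have h1 := PrimeSpectrum.localization_away_comap_range Γ(X, X.basicOpen (ψ f)) f
    have hy' : y ∈ Set.range (PrimeSpectrum.comap (algebraMap R Γ(X, X.basicOpen (ψ f)))) := by
      rw [h1]; exact hy
    obtain ⟨z, hz⟩ := hy'
    haveI : IsIso (X.basicOpen (ψ f)).toSpecΓ := (haff f hf).isoSpec.isIso_hom
    obtain ⟨w, hw⟩ := (X.basicOpen (ψ f)).toSpecΓ.surjective z
    refine ⟨(X.basicOpen (ψ f)).ι w, ?_⟩
    rw [← Scheme.Hom.comp_apply, ι_comp_eq, Scheme.Hom.comp_apply, hw]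
    exact hz

end Sch


section Main

open AlgebraicGeometry CategoryTheory Limits TopologicalSpace Opposite

/-- restriction along an equality/inequality-free iso is finite -/
theorem finite_of_isIso {R S : CommRingCat.{u}} (φ : R ⟶ S) [IsIso φ] : φ.hom.Finite :=
  RingHom.Finite.of_surjective _ (ConcreteCategory.bijective_of_isIso φ).2

theorem qcqs_loc {X : Scheme.{u}} [CompactSpace X] [QuasiSeparatedSpace X] (r : Γ(X, ⊤)) :
    IsLocalization.Away r Γ(X, X.basicOpen r) :=
  isLocalization_basicOpen_of_qcqs isCompact_univ isQuasiSeparated_univ r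

theorem finite_appLE_of_eq {X Y : Scheme.{u}} (g : X ⟶ Y) [IsFinite g] (W : Y.Opens)
    (hW : IsAffineOpen W) (V : X.Opens) (e : V = g ⁻¹ᵁ W) : (g.appLE W V e.le).hom.Finite := by
  subst e
  rw [Scheme.Hom.appLE_eq_app]
  exact IsFinite.finite_app g W hW

theorem main' (R : CommRingCat.{u}) (U : (Spec R).Opens)
    (hU : IsCompact (U : Set (Spec R)))
    (U' : Scheme.{u}) (g : U' ⟶ (U : Scheme.{u})) [IsFinite g] :
    ∃ (B : Type u) (_ : CommRing B) (_ : Algebra R B) (i : U' ⟶ Spec (CommRingCat.of B)),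
      Module.Finite R B ∧
        IsPullback i g (Spec.map (CommRingCat.ofHom (algebraMap R B))) U.ι := by
  classical
  haveI : CompactSpace (U : Scheme.{u}) := isCompact_iff_compactSpace.mp hU
  haveI : Scheme.IsQuasiAffine (U : Scheme.{u}) := .of_isImmersion U.ι
  haveI : Scheme.IsQuasiAffine U' := .of_isAffineHom g
  -- the structure map
  let h : U' ⟶ Spec R := g ≫ U.ι
  let ψ₀ : R ⟶ Γ(U', ⊤) := (Scheme.ΓSpecIso R).inv ≫ h.appTop
  have hh : h = U'.toSpecΓ ≫ Spec.map ψ₀ := by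
    rw [Spec.map_comp, ← Scheme.toSpecΓ_naturality_assoc, toSpecΓ_SpecMap_ΓSpecIso_inv,
      Category.comp_id]
  -- finite cover by basic opens
  obtain ⟨t, ht⟩ := PrimeSpectrum.isCompact_isOpen_iff.mp ⟨hU, U.isOpen⟩
  have hsub : ∀ f ∈ t, (PrimeSpectrum.basicOpen f : (Spec R).Opens) ≤ U := by
    intro f hf x hx
    have h1 : x ∈ (PrimeSpectrum.zeroLocus (t : Set R))ᶜ := fun hx' => hx (hx' hf)
    exact (Set.ext_iff.mp ht x).mp h1
  have hcovU : ∀ x ∈ U,
      ∃ f ∈ t, x ∈ (PrimeSpectrum.basicOpen f : (Spec R).Opens) := by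
    intro x hx
    have h1 : x ∈ (PrimeSpectrum.zeroLocus (t : Set R))ᶜ := (Set.ext_iff.mp ht x).mpr hx
    by_contra hcon
    push Not at hcon
    refine h1 fun f hf => ?_
    by_contra hf'
    exact hcon f hf hf'
  -- the basic opens of `U'`
  have hpre : ∀ f : R, h ⁻¹ᵁ (PrimeSpectrum.basicOpen f) = U'.basicOpen (ψ₀ f) := by
    intro f
    rw [hh]
    exact preimage_basicOpen_eq ψ₀ f
  have haff : ∀ f ∈ t, IsAffineOpen (U'.basicOpen (ψ₀ f)) := by
    intro f hf
    rw [← hpre f]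
    have h1 : IsAffineOpen (U.ι ⁻¹ᵁ (PrimeSpectrum.basicOpen f)) :=
      (IsAffineOpen.Spec_basicOpen (R := R) f).preimage_of_isOpenImmersion U.ι
        (by rw [Scheme.Opens.opensRange_ι]; exact hsub f hf)
    exact h1.preimage g
  have hcov : ∀ x : U', ∃ f ∈ t, x ∈ U'.basicOpen (ψ₀ f) := by
    intro x
    obtain ⟨f, hf, hx⟩ := hcovU (h x) (by
      change (U.ι (g x)) ∈ U
      exact (g x).2)
    exact ⟨f, hf, (hpre f).le hx⟩
  have hfin : ∀ f ∈ t, (h.appLE (PrimeSpectrum.basicOpen f) (U'.basicOpen (ψ₀ f))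
      (hpre f).ge).hom.Finite := by
    intro f hf
    have h1 : IsAffineOpen (U.ι ⁻¹ᵁ (PrimeSpectrum.basicOpen f)) :=
      (IsAffineOpen.Spec_basicOpen (R := R) f).preimage_of_isOpenImmersion U.ι
        (by rw [Scheme.Opens.opensRange_ι]; exact hsub f hf)
    have h2 := finite_appLE_of_eq g _ h1 (U'.basicOpen (ψ₀ f)) (hpre f).symm
    haveI : IsIso (U.ι.app (PrimeSpectrum.basicOpen f)) :=
      U.ι.isIso_app _ (by rw [Scheme.Opens.opensRange_ι]; exact hsub f hf)
    have h3 : h.appLE (PrimeSpectrum.basicOpen f) (U'.basicOpen (ψ₀ f)) (hpre f).ge =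
        U.ι.app (PrimeSpectrum.basicOpen f) ≫ g.appLE _ _ (hpre f).symm.le :=
      Scheme.Hom.comp_appLE g U.ι _ _ _
    rw [h3, CommRingCat.hom_comp]
    exact h2.comp (finite_of_isIso _)
  letI algAB' : Algebra R Γ(U', ⊤) := ψ₀.hom.toAlgebra
  obtain ⟨B, hBfin, hBpow⟩ := alg_core (A := R) (B' := Γ(U', ⊤)) t (by
    intro f hf
    letI iAfBf : Algebra Γ(Spec R, PrimeSpectrum.basicOpen f)
        Γ(U', U'.basicOpen (ψ₀ f)) := (h.appLE _ _ (hpre f).ge).hom.toAlgebra
    letI iABf : Algebra R Γ(U', U'.basicOpen (ψ₀ f)) :=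
      ((algebraMap Γ(U', ⊤) Γ(U', U'.basicOpen (ψ₀ f))).comp (algebraMap R Γ(U', ⊤))).toAlgebra
    have t1 : IsScalarTower R Γ(U', ⊤) Γ(U', U'.basicOpen (ψ₀ f)) :=
      .of_algebraMap_eq fun _ => rfl
    have e1 : ψ₀ ≫ U'.presheaf.map (homOfLE (U'.basicOpen_le (ψ₀ f))).op =
        ((Scheme.ΓSpecIso R).inv ≫
          (Spec R).presheaf.map (homOfLE le_top).op) ≫
            h.appLE _ _ (hpre f).ge := by
      rw [Category.assoc, Category.assoc, Scheme.Hom.map_appLE]
      rfl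
    have t2 : IsScalarTower R Γ(Spec R, PrimeSpectrum.basicOpen f)
        Γ(U', U'.basicOpen (ψ₀ f)) :=
      .of_algebraMap_eq fun a => ConcreteCategory.congr_hom e1 a
    have l1 : IsLocalization.Away f Γ(Spec R, PrimeSpectrum.basicOpen f) := inferInstance
    have l2 : IsLocalization.Away (algebraMap R Γ(U', ⊤) f) Γ(U', U'.basicOpen (ψ₀ f)) :=
      qcqs_loc (ψ₀ f)
    have l3 : Module.Finite Γ(Spec R, PrimeSpectrum.basicOpen f)
        Γ(U', U'.basicOpen (ψ₀ f)) := hfin f hf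
    exact ⟨_, _, inferInstance, inferInstance, inferInstance, inferInstance, iAfBf, iABf, t2, t1,
      l1, l2, l3⟩)
  -- the finite algebra and the morphism
  let ψB : CommRingCat.of B ⟶ Γ(U', ⊤) := CommRingCat.ofHom (algebraMap B Γ(U', ⊤))
  let sB : Set (CommRingCat.of B) := (fun f => algebraMap R B f) '' (t : Set R)
  have hcov' : ∀ x : U', ∃ f ∈ sB, x ∈ U'.basicOpen (ψB f) := by
    intro x
    obtain ⟨f, hf, hx⟩ := hcov x
    exact ⟨algebraMap R B f, ⟨f, hf, rfl⟩, hx⟩
  have haff' : ∀ f ∈ sB, IsAffineOpen (U'.basicOpen (ψB f)) := by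
    rintro _ ⟨f, hf, rfl⟩
    exact haff f hf
  have hloc' : ∀ f ∈ sB, @IsLocalization.Away (CommRingCat.of B) _ f
      Γ(U', U'.basicOpen (ψB f)) _
      (ψB ≫ U'.presheaf.map (homOfLE (U'.basicOpen_le (ψB f))).op).hom.toAlgebra := by
    rintro _ ⟨f, hf, rfl⟩
    letI : Algebra B Γ(U', U'.basicOpen (ψ₀ f)) :=
      (ψB ≫ U'.presheaf.map (homOfLE (U'.basicOpen_le (ψ₀ f))).op).hom.toAlgebra
    haveI : IsLocalization.Away (algebraMap B Γ(U', ⊤) (algebraMap R B f))
        Γ(U', U'.basicOpen (ψ₀ f)) := qcqs_loc (ψ₀ f)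
    exact isLocalization_of_sub (R := B) (R' := Γ(U', ⊤)) (L := Γ(U', U'.basicOpen (ψ₀ f)))
      (fun _ => rfl) Subtype.val_injective (algebraMap R B f) (fun x => by
        obtain ⟨n, hn⟩ := hBpow f hf x
        exact ⟨n, ⟨_, hn⟩, rfl⟩)
  let i : U' ⟶ Spec (CommRingCat.of B) := U'.toSpecΓ ≫ Spec.map ψB
  haveI hi : IsOpenImmersion i := isOpenImmersion_of_cover ψB sB hcov' haff' hloc'
  have hrange := mem_range_iff_of_cover ψB sB hcov' haff' hloc'
  have H : i ≫ Spec.map (CommRingCat.ofHom (algebraMap R B)) = g ≫ U.ι := by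
    change (U'.toSpecΓ ≫ Spec.map ψB) ≫ _ = h
    rw [hh, Category.assoc, ← Spec.map_comp]
    rfl
  have H' : Spec.map (CommRingCat.ofHom (algebraMap R B)) ⁻¹ᵁ U.ι.opensRange =
      i.opensRange := by
    rw [Scheme.Opens.opensRange_ι]
    ext y
    change Spec.map (CommRingCat.ofHom (algebraMap R B)) y ∈ U ↔ y ∈ Set.range i
    rw [hrange]
    constructor
    · intro hy
      obtain ⟨f, hf, hfy⟩ := hcovU _ hy
      exact ⟨algebraMap R B f, ⟨f, hf, rfl⟩, hfy⟩
    · rintro ⟨_, ⟨f, hf, rfl⟩, hy⟩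
      exact hsub f hf hy
  exact ⟨B, inferInstance, inferInstance, i, hBfin,
    (IsOpenImmersion.isPullback g i U.ι _ H H').flip⟩

theorem main (A : Type u) [CommRing A] (U : (Spec (CommRingCat.of A)).Opens)
    (hU : IsCompact (U : Set (Spec (CommRingCat.of A))))
    (U' : Scheme.{u}) (g : U' ⟶ (U : Scheme.{u})) [IsFinite g] :
    ∃ (B : Type u) (_ : CommRing B) (_ : Algebra A B) (i : U' ⟶ Spec (CommRingCat.of B)),
      Module.Finite A B ∧
        IsPullback i g (Spec.map (CommRingCat.ofHom (algebraMap A B))) U.ι :=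
  main' (CommRingCat.of A) U hU U' g

end Main

end Groth.Agent.Lib.Helper23.FinExt
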