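import Mathlib

/-!
# Fibres of a finite morphism and maximal ideals of the stalk of the direct image (helper23)
-/

set_option autoImplicit false

universe u

open CategoryTheory AlgebraicGeometry TopologicalSpace Opposite

namespace Groth.Agent.Helper23.FinFib

variable {Z X : Scheme.{u}} (g : Z ⟶ X)

/-- the comparison map `(g_* O_Z)_x ⟶ O_{Z,z}` for `g z = x`. -/
noncomputable def phi (x : X) (z : Z) (hz : g.base z = x) :
    (g.base _* Z.presheaf).stalk x ⟶ Z.presheaf.stalk z :=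
  ((g.base _* Z.presheaf).stalkCongr (Inseparable.of_eq hz)).inv ≫
    TopCat.Presheaf.stalkPushforward CommRingCat g.base Z.presheaf z

lemma germ_phi (x : X) (z : Z) (hz : g.base z = x) (V : X.Opens) (hx : x ∈ V) :
    (g.base _* Z.presheaf).germ V x hx ≫ phi g x z hz =
      Z.presheaf.germ (g ⁻¹ᵁ V) z (show g.base z ∈ V by rw [hz]; exact hx) := by
  subst hz
  unfold phi
  simp only [TopCat.Presheaf.stalkCongr]
  rw [← Category.assoc, TopCat.Presheaf.germ_stalkSpecializes]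
  exact TopCat.Presheaf.stalkPushforward_germ _ _ _ _ _ _

lemma phi_germ_apply (x : X) (z : Z) (hz : g.base z = x) (V : X.Opens) (hx : x ∈ V)
    (s : Γ(Z, g ⁻¹ᵁ V)) :
    (phi g x z hz).hom (((g.base _* Z.presheaf).germ V x hx).hom s) =
      (Z.presheaf.germ (g ⁻¹ᵁ V) z (show g.base z ∈ V by rw [hz]; exact hx)).hom s := by
  rw [← germ_phi g x z hz V hx]
  rfl

/-- the ideal attached to a point of the fibre -/
noncomputable def q (x : X) (z : Z) (hz : g.base z = x) :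
    Ideal ((g.base _* Z.presheaf).stalk x) :=
  Ideal.comap (phi g x z hz).hom (IsLocalRing.maximalIdeal (Z.presheaf.stalk z))

lemma germ_mem_q_iff (x : X) (z : Z) (hz : g.base z = x) (V : X.Opens) (hx : x ∈ V)
    (s : Γ(Z, g ⁻¹ᵁ V)) :
    ((g.base _* Z.presheaf).germ V x hx).hom s ∈ q g x z hz ↔ z ∉ Z.basicOpen s := by
  have hz' : z ∈ g ⁻¹ᵁ V := show g.base z ∈ V by rw [hz]; exact hx
  rw [q, Ideal.mem_comap, phi_germ_apply, IsLocalRing.mem_maximalIdeal, mem_nonunits_iff,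
    Z.mem_basicOpen s z hz']


lemma q_ne_top (x : X) (z : Z) (hz : g.base z = x) : q g x z hz ≠ ⊤ := by
  haveI : (q g x z hz).IsPrime := by
    unfold q
    exact Ideal.comap_isPrime _ _
  exact Ideal.IsPrime.ne_top inferInstance

section finite

variable [IsFinite g]

lemma exists_sep (x : X) (U : X.Opens) (hU : IsAffineOpen U) (hxU : x ∈ U) (z z₁ : Z)
    (hz : g.base z = x) (hz₁ : g.base z₁ = x) (hne : z ≠ z₁) :
    ∃ b : Γ(Z, g ⁻¹ᵁ U), z ∉ Z.basicOpen b ∧ z₁ ∈ Z.basicOpen b := by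
  have hW : IsAffineOpen (g ⁻¹ᵁ U) := hU.preimage g
  have hdisc := g.isDiscrete_preimage_singleton x
  rw [isDiscrete_iff_forall_mem_exists_isOpen] at hdisc
  obtain ⟨W', hW'o, hW'⟩ := hdisc z₁ (by simpa using hz₁)
  have hz₁W' : z₁ ∈ W' := by
    have : z₁ ∈ W' ∩ g.base ⁻¹' {x} := by rw [hW']; rfl
    exact this.1
  have hzW' : z ∉ W' := by
    intro h
    have : z ∈ W' ∩ g.base ⁻¹' {x} := ⟨h, by simpa using hz⟩
    rw [hW'] at this
    exact hne this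
  have hz₁W : z₁ ∈ g ⁻¹ᵁ U := show g.base z₁ ∈ U by rw [hz₁]; exact hxU
  obtain ⟨b, hb1, hb2⟩ := hW.exists_basicOpen_le (V := ⟨W', hW'o⟩) ⟨z₁, hz₁W'⟩ hz₁W
  exact ⟨b, fun h => hzW' (hb1 h), hb2⟩

lemma germ_sep (x : X) (U : X.Opens) (hU : IsAffineOpen U) (hxU : x ∈ U) (z z₁ : Z)
    (hz : g.base z = x) (hz₁ : g.base z₁ = x) (hne : z ≠ z₁) :
    ∃ c, c ∈ q g x z hz ∧ c ∉ q g x z₁ hz₁ := by
  obtain ⟨b, hb1, hb2⟩ := exists_sep g x U hU hxU z z₁ hz hz₁ hne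
  refine ⟨((g.base _* Z.presheaf).germ U x hxU).hom b, ?_, ?_⟩
  · rw [germ_mem_q_iff]; exact hb1
  · rw [germ_mem_q_iff]; exact fun h => h hb2


instance q_isPrime (x : X) (z : Z) (hz : g.base z = x) : (q g x z hz).IsPrime := by
  unfold q
  exact Ideal.comap_isPrime _ _

lemma exists_of_isMaximal (x : X) (U : X.Opens) (hU : IsAffineOpen U) (hxU : x ∈ U)
    (M : Ideal ((g.base _* Z.presheaf).stalk x)) (hM : M.IsMaximal) :
    ∃ (z : Z) (hz : g.base z = x), q g x z hz = M := by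
  have hW : IsAffineOpen (g ⁻¹ᵁ U) := hU.preimage g
  obtain ⟨β, hβ⟩ : ∃ β : Γ(Z, g ⁻¹ᵁ U) →+* (g.base _* Z.presheaf).stalk x,
      β = ((g.base _* Z.presheaf).germ U x hxU).hom := ⟨_, rfl⟩
  obtain ⟨qq, hqq⟩ : ∃ qq : Ideal Γ(Z, g ⁻¹ᵁ U), qq = Ideal.comap β M := ⟨_, rfl⟩
  haveI : qq.IsPrime := by rw [hqq]; exact Ideal.comap_isPrime _ _
  obtain ⟨z₀, hz₀def⟩ : ∃ z₀ : Z, z₀ = hW.fromSpec
      (⟨qq, inferInstance⟩ : PrimeSpectrum Γ(Z, g ⁻¹ᵁ U)) := ⟨_, rfl⟩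
  have hz₀ : ∀ b : Γ(Z, g ⁻¹ᵁ U), z₀ ∈ Z.basicOpen b ↔ b ∉ qq := by
    intro b
    have h1 := hW.fromSpec_preimage_basicOpen b
    have h2 : z₀ ∈ Z.basicOpen b ↔ (⟨qq, inferInstance⟩ : PrimeSpectrum Γ(Z, g ⁻¹ᵁ U)) ∈
        hW.fromSpec ⁻¹ᵁ Z.basicOpen b := by rw [hz₀def]; rfl
    rw [h2, h1]
    rfl
  have hunit : ∀ a : Γ(X, U), x ∈ X.basicOpen a → IsUnit (β (g.app U a)) := by
    intro a ha
    have h1 : β (g.app U a) = ((TopCat.Presheaf.stalkFunctor CommRingCat x).map g.c).hom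
        ((X.presheaf.germ U x hxU).hom a) := by
      rw [hβ]
      have := TopCat.Presheaf.stalkFunctor_map_germ U x hxU g.c
      have h2 := congrArg (fun k => k.hom a) this
      exact h2.symm
    rw [h1]
    exact ((X.mem_basicOpen a x hxU).mp ha).map _
  have hsp : g.base z₀ ⤳ x := by
    rw [specializes_iff_forall_open]
    intro V' hV'o hxV'
    obtain ⟨a, ha1, ha2⟩ := hU.exists_basicOpen_le (V := ⟨V', hV'o⟩) ⟨x, hxV'⟩ hxU
    apply ha1
    show z₀ ∈ g ⁻¹ᵁ X.basicOpen a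
    rw [Scheme.preimage_basicOpen, hz₀, hqq, Ideal.mem_comap]
    intro hmem
    exact hM.ne_top (Ideal.eq_top_of_isUnit_mem _ hmem (hunit a ha2))
  have hcl : IsClosedMap g.base := g.isClosedMap
  obtain ⟨z₁, hz₁cl, hz₁⟩ : ∃ z₁ ∈ closure ({z₀} : Set Z), g.base z₁ = x := by
    have h1 : x ∈ closure ({g.base z₀} : Set X) := hsp.mem_closure
    have h2 : closure (g.base '' {z₀}) ⊆ g.base '' closure {z₀} := hcl.closure_image_subset _
    rw [Set.image_singleton] at h2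
    exact h2 h1
  have hsp₁ : z₀ ⤳ z₁ := specializes_iff_mem_closure.mpr hz₁cl
  refine ⟨z₁, hz₁, ?_⟩
  symm
  apply hM.eq_of_le (q_ne_top g x z₁ hz₁)
  intro c hc
  by_contra hcq
  obtain ⟨V, hxV, s, rfl⟩ := TopCat.Presheaf.exists_germ_eq (g.base _* Z.presheaf) c
  obtain ⟨a, ha1, ha2⟩ := hU.exists_basicOpen_le (V := V) ⟨x, hxV⟩ hxU
  obtain ⟨D, hD⟩ : ∃ D : X.Opens, D = X.basicOpen a := ⟨_, rfl⟩
  rw [← hD] at ha1 ha2
  have hDU : D ≤ U := by rw [hD]; exact X.basicOpen_le a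
  obtain ⟨a', ha'⟩ : ∃ a' : Γ(Z, g ⁻¹ᵁ U), a' = g.app U a := ⟨_, rfl⟩
  have e : g ⁻¹ᵁ D = Z.basicOpen a' := by rw [hD, ha']; exact Scheme.preimage_basicOpen g a
  have hle : g ⁻¹ᵁ D ≤ g ⁻¹ᵁ U := fun _ h => hDU h
  have hloc := hW.isLocalization_of_eq_basicOpen a' (homOfLE hle) e
  letI := (Z.presheaf.map (homOfLE hle).op).hom.toAlgebra
  have hleV : g ⁻¹ᵁ D ≤ g ⁻¹ᵁ V := fun _ h => ha1 h
  obtain ⟨s₁, hs₁⟩ : ∃ s₁ : Γ(Z, g ⁻¹ᵁ D), s₁ = (Z.presheaf.map (homOfLE hleV).op).hom s :=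
    ⟨_, rfl⟩
  obtain ⟨⟨b, m⟩, hbm⟩ := IsLocalization.surj (Submonoid.powers a') s₁
  obtain ⟨n, hn⟩ := m.2
  -- germ identities
  have hc1 : ((g.base _* Z.presheaf).germ V x hxV).hom s =
      ((g.base _* Z.presheaf).germ D x ha2).hom s₁ := by
    rw [hs₁]
    exact ((g.base _* Z.presheaf).germ_res_apply (homOfLE ha1) x ha2 s).symm
  have hb1 : ∀ t : Γ(Z, g ⁻¹ᵁ U), β t =
      ((g.base _* Z.presheaf).germ D x ha2).hom ((Z.presheaf.map (homOfLE hle).op).hom t) := by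
    intro t
    rw [hβ]
    exact ((g.base _* Z.presheaf).germ_res_apply (homOfLE hDU) x ha2 t).symm
  have hβb : β b = ((g.base _* Z.presheaf).germ V x hxV).hom s * β (m : Γ(Z, g ⁻¹ᵁ U)) := by
    rw [hb1 b, hb1 (m : Γ(Z, g ⁻¹ᵁ U)), hc1, ← map_mul]
    congr 1
    exact hbm.symm
  have hbq : b ∈ qq := by
    rw [hqq, Ideal.mem_comap, hβb]
    exact M.mul_mem_right _ hc
  have hz₀b : z₀ ∉ Z.basicOpen b := by rw [hz₀]; exact fun h => h hbq
  apply hz₀b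
  refine hsp₁.mem_open (Z.basicOpen b).isOpen ?_
  have h3 : β b ∉ q g x z₁ hz₁ := by
    rw [hβb]
    intro hmem
    rcases (q_isPrime g x z₁ hz₁).mem_or_mem hmem with h | h
    · exact hcq h
    · rw [← hn, map_pow] at h
      have h4 := (q_isPrime g x z₁ hz₁).mem_of_pow_mem _ h
      rw [hβ, germ_mem_q_iff] at h4
      apply h4
      rw [← e]
      show g.base z₁ ∈ D
      rw [hz₁]; exact ha2
  rw [hβ, germ_mem_q_iff] at h3
  exact not_not.mp h3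


theorem bijOn (x : X) :
    Set.BijOn (fun z : {z : Z // g.base z = x} =>
        Ideal.comap (((g.base _* Z.presheaf).stalkCongr (Inseparable.of_eq z.2)).inv ≫
            TopCat.Presheaf.stalkPushforward CommRingCat g.base Z.presheaf z.1).hom
          (IsLocalRing.maximalIdeal (Z.presheaf.stalk z.1)))
      Set.univ {I : Ideal ((g.base _* Z.presheaf).stalk x) | I.IsMaximal} := by
  obtain ⟨_, ⟨U, hU, rfl⟩, hxU, -⟩ :=
    X.isBasis_affineOpens.exists_subset_of_mem_open (Set.mem_univ x) isOpen_univ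
  refine ⟨?_, ?_, ?_⟩
  · intro z _
    show (q g x z.1 z.2).IsMaximal
    obtain ⟨M, hM, hle⟩ := Ideal.exists_le_maximal _ (q_ne_top g x z.1 z.2)
    obtain ⟨z₁, hz₁, rfl⟩ := exists_of_isMaximal g x U hU hxU M hM
    by_cases h : z.1 = z₁
    · subst h; exact hM
    · obtain ⟨c, hc1, hc2⟩ := germ_sep g x U hU hxU z.1 z₁ z.2 hz₁ h
      exact absurd (hle hc1) hc2
  · intro z _ z' _ heq
    change q g x z.1 z.2 = q g x z'.1 z'.2 at heq
    by_contra hne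
    have hne' : z.1 ≠ z'.1 := fun h => hne (Subtype.ext h)
    obtain ⟨c, hc1, hc2⟩ := germ_sep g x U hU hxU z.1 z'.1 z.2 z'.2 hne'
    rw [heq] at hc1
    exact hc2 hc1
  · intro M hM
    obtain ⟨z₁, hz₁, h⟩ := exists_of_isMaximal g x U hU hxU M hM
    exact ⟨⟨z₁, hz₁⟩, Set.mem_univ _, h⟩

end finite

end Groth.Agent.Helper23.FinFib
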