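import Mathlib
import Groth.Prelude.Def_CurvBase
import Groth.Prelude.Def_Coh
import Groth.Agent.Lib.Helper26.FlatAssDim1
import Groth.Agent.Lib.Helper13.PushFinLocFree

/-!
# Flatness over a base with regular local rings of dimension ≤ 1, non-integral version (helper23)
-/

set_option autoImplicit false
set_option linter.style.haveILetI false
universe u
open CategoryTheory CategoryTheory.Limits AlgebraicGeometry TopologicalSpace IsLocalRing

namespace Groth.Agent.Helper23.FinFlat

/-- an associated prime of the ring of sections of an affine open of a locally Noetherian scheme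
gives an associated point. -/
theorem isAssPoint_fromSpec {X : Scheme.{u}} [IsLocallyNoetherian X] {V : X.Opens}
    (hV : IsAffineOpen V) (q : PrimeSpectrum Γ(X, V))
    (hq : q.asIdeal ∈ associatedPrimes Γ(X, V) Γ(X, V)) :
    Curv2.IsAssPoint (Coh.structureModule X) (hV.fromSpec q) := by
  haveI : IsNoetherianRing Γ(X, V) := IsLocallyNoetherian.component_noetherian ⟨V, hV⟩
  rw [Groth.Agent.Helper26.FlatAssDim1.isAssPoint_iff_exists_killed]
  obtain ⟨hqprime, x, hx⟩ := (isAssociatedPrime_iff).1 hq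
  have hann : ∀ r : Γ(X, V), r ∈ q.asIdeal ↔ r * x = 0 := by
    intro r
    rw [hx, Submodule.mem_colon_singleton, Submodule.mem_bot, smul_eq_mul]
  have hy : hV.fromSpec q ∈ V := by
    have : hV.fromSpec q ∈ Set.range hV.fromSpec := Set.mem_range_self _
    rw [hV.range_fromSpec] at this
    exact this
  letI := TopCat.Presheaf.algebra_section_stalk X.presheaf ⟨hV.fromSpec q, hy⟩
  haveI hloc : IsLocalization.AtPrime (X.presheaf.stalk (hV.fromSpec q)) q.asIdeal :=
    hV.isLocalization_stalk' q hy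
  refine ⟨X.presheaf.germ V _ hy x, ?_, ?_⟩
  · intro h0
    have h1 : algebraMap Γ(X, V) (X.presheaf.stalk (hV.fromSpec q)) x = 0 := h0
    rw [IsLocalization.map_eq_zero_iff q.asIdeal.primeCompl] at h1
    obtain ⟨m, hm⟩ := h1
    exact m.2 ((hann m).2 hm)
  · intro z hz
    obtain ⟨s, r, rfl⟩ := IsLocalization.exists_mk'_eq q.asIdeal.primeCompl z
    rw [IsLocalization.AtPrime.mk'_mem_maximal_iff (X.presheaf.stalk (hV.fromSpec q)) q.asIdeal s r
      inferInstance] at hz
    have hunit : IsUnit (algebraMap Γ(X, V) (X.presheaf.stalk (hV.fromSpec q)) r) :=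
      IsLocalization.map_units _ r
    have h2 : IsLocalization.mk' (X.presheaf.stalk (hV.fromSpec q)) s r *
        algebraMap Γ(X, V) (X.presheaf.stalk (hV.fromSpec q)) x *
        algebraMap Γ(X, V) (X.presheaf.stalk (hV.fromSpec q)) r = 0 := by
      rw [mul_right_comm, IsLocalization.mk'_spec, ← map_mul, (hann s).1 hz, map_zero]
    exact (hunit.mul_left_eq_zero).1 h2

/-- vanishing of a germ on an affine open: killed by a section invertible at the point. -/
theorem exists_isUnit_germ_mul_eq_zero {Y : Scheme.{u}} {W : Y.Opens} (hW : IsAffineOpen W)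
    (y : Y) (hy : y ∈ W) (s : Γ(Y, W)) (hs : Y.presheaf.germ W y hy s = 0) :
    ∃ t : Γ(Y, W), IsUnit (Y.presheaf.germ W y hy t) ∧ t * s = 0 := by
  letI := TopCat.Presheaf.algebra_section_stalk Y.presheaf (⟨y, hy⟩ : W)
  haveI := hW.isLocalization_stalk ⟨y, hy⟩
  have h1 : algebraMap Γ(Y, W) (Y.presheaf.stalk y) s = 0 := hs
  rw [IsLocalization.map_eq_zero_iff (hW.primeIdealOf ⟨y, hy⟩).asIdeal.primeCompl] at h1
  obtain ⟨m, hm⟩ := h1
  exact ⟨m, IsLocalization.map_units (Y.presheaf.stalk y) m, hm⟩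

/-- if `y' ⤳ y` and the stalk at `y` is a domain, then a section vanishing at `y'` vanishes
at `y`. -/
theorem germ_eq_zero_of_specializes {Y : Scheme.{u}} {W : Y.Opens} (hW : IsAffineOpen W)
    (y y' : Y) (hy : y ∈ W) (hy' : y' ∈ W) (hsp : y' ⤳ y) [IsDomain (Y.presheaf.stalk y)]
    (s : Γ(Y, W)) (hs : Y.presheaf.germ W y' hy' s = 0) : Y.presheaf.germ W y hy s = 0 := by
  obtain ⟨t, ht, hts⟩ := exists_isUnit_germ_mul_eq_zero hW y' hy' s hs
  have h1 : Y.presheaf.germ W y hy t * Y.presheaf.germ W y hy s = 0 := by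
    rw [← map_mul, hts, map_zero]
  rcases mul_eq_zero.1 h1 with h2 | h2
  · exfalso
    obtain ⟨t', ht', htt⟩ := exists_isUnit_germ_mul_eq_zero hW y hy t h2
    have hyb : y ∈ Y.basicOpen t' := (Y.mem_basicOpen t' y hy).2 ht'
    have hy'b : y' ∈ Y.basicOpen t' := hsp.mem_open (Y.basicOpen t').isOpen hyb
    have ht'' : IsUnit (Y.presheaf.germ W y' hy' t') := (Y.mem_basicOpen t' y' hy').1 hy'b
    have h3 : IsUnit (Y.presheaf.germ W y' hy' (t' * t)) := by
      rw [map_mul]; exact ht''.mul ht
    rw [htt, map_zero] at h3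
    exact not_isUnit_zero h3
  · exact h2

/-- Key lemma: a section on the base whose pullback lies in an associated prime of the stalk
vanishes at the image point, provided associated points map to points with zero maximal ideal. -/
theorem germ_eq_zero_of_mem_assPrime {X Y : Scheme.{u}} (f : X ⟶ Y) [IsLocallyNoetherian X]
    (h : ∀ x' : X, Curv2.IsAssPoint (Coh.structureModule X) x' →
      maximalIdeal (Y.presheaf.stalk (f x')) = ⊥)
    {W : Y.Opens} (hW : IsAffineOpen W) {V : X.Opens} (hV : IsAffineOpen V) (e : V ≤ f ⁻¹ᵁ W)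
    (x : X) (hxV : x ∈ V) [IsDomain (Y.presheaf.stalk (f x))]
    (P : Ideal (X.presheaf.stalk x)) (hP : IsAssociatedPrime P (X.presheaf.stalk x))
    (s : Γ(Y, W)) (hs : X.presheaf.germ V x hxV (f.appLE W V e s) ∈ P) :
    Y.presheaf.germ W (f x) (e hxV) s = 0 := by
  haveI : IsNoetherianRing Γ(X, V) := IsLocallyNoetherian.component_noetherian ⟨V, hV⟩
  letI algX := TopCat.Presheaf.algebra_section_stalk X.presheaf (⟨x, hxV⟩ : V)
  haveI locX := hV.isLocalization_stalk ⟨x, hxV⟩
  haveI hPprime : P.IsPrime := hP.isPrime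
  have hq' : P.comap (algebraMap Γ(X, V) (X.presheaf.stalk x)) ∈
      associatedPrimes Γ(X, V) Γ(X, V) :=
    Module.associatedPrimes.comap_mem_associatedPrimes_of_mem_associatedPrimes_of_isLocalizedModule_of_fg
      (hV.primeIdealOf ⟨x, hxV⟩).asIdeal.primeCompl
      (Algebra.linearMap Γ(X, V) (X.presheaf.stalk x)) P hP
      ((isNoetherianRing_iff_ideal_fg _).mp inferInstance _)
  let q' : PrimeSpectrum Γ(X, V) :=
    ⟨P.comap (algebraMap Γ(X, V) (X.presheaf.stalk x)), inferInstance⟩
  have hx'V : hV.fromSpec q' ∈ V := by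
    have : hV.fromSpec q' ∈ Set.range hV.fromSpec := Set.mem_range_self _
    rw [hV.range_fromSpec] at this
    exact this
  have hass := isAssPoint_fromSpec hV q' hq'
  have hm := h _ hass
  -- the germ of `φ s` at `x'` is in the maximal ideal
  have hmem : X.presheaf.germ V _ hx'V (f.appLE W V e s) ∈
      maximalIdeal (X.presheaf.stalk (hV.fromSpec q')) := by
    letI := TopCat.Presheaf.algebra_section_stalk X.presheaf ⟨hV.fromSpec q', hx'V⟩
    haveI hloc : IsLocalization.AtPrime (X.presheaf.stalk (hV.fromSpec q')) q'.asIdeal :=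
      hV.isLocalization_stalk' q' hx'V
    have : algebraMap Γ(X, V) (X.presheaf.stalk (hV.fromSpec q')) (f.appLE W V e s) ∈
        maximalIdeal (X.presheaf.stalk (hV.fromSpec q')) := by
      rw [IsLocalization.AtPrime.to_map_mem_maximal_iff _ q'.asIdeal]
      exact hs
    exact this
  have hfx'W : f (hV.fromSpec q') ∈ W := e hx'V
  have hzero : Y.presheaf.germ W (f (hV.fromSpec q')) hfx'W s = 0 := by
    rw [Groth.Agent.Helper26.FlatAssDim1.germ_appLE f W V e _ hx'V hfx'W] at hmem
    have h1 : Y.presheaf.germ W (f (hV.fromSpec q')) hfx'W s ∈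
        maximalIdeal (Y.presheaf.stalk (f (hV.fromSpec q'))) := by
      rw [mem_maximalIdeal, mem_nonunits_iff] at hmem ⊢
      intro hu
      exact hmem (hu.map _)
    rw [hm, Submodule.mem_bot] at h1
    exact h1
  -- specialization
  have hsp : hV.fromSpec q' ⤳ x := by
    have hle : q' ≤ hV.primeIdealOf ⟨x, hxV⟩ := by
      change P.comap (algebraMap Γ(X, V) (X.presheaf.stalk x)) ≤ (hV.primeIdealOf ⟨x, hxV⟩).asIdeal
      rw [← IsLocalization.AtPrime.comap_maximalIdeal (X.presheaf.stalk x)
        (hV.primeIdealOf ⟨x, hxV⟩).asIdeal]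
      exact Ideal.comap_mono (le_maximalIdeal hPprime.ne_top)
    have h1 := ((PrimeSpectrum.le_iff_specializes _ _).1 hle).map hV.fromSpec.continuous
    rwa [hV.fromSpec_primeIdealOf ⟨x, hxV⟩] at h1
  exact germ_eq_zero_of_specializes hW (f x) (f (hV.fromSpec q')) (e hxV) hfx'W
    (hsp.map f.continuous) s hzero

end Groth.Agent.Helper23.FinFlat
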