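import Mathlib
import Groth.Agent.Lib.Helper23.FinFlat1

/-!
# Finite morphisms to a base with regular local rings of dimension ≤ 1 (helper23)
-/

set_option autoImplicit false
set_option linter.style.haveILetI false
universe u
open CategoryTheory CategoryTheory.Limits AlgebraicGeometry TopologicalSpace IsLocalRing

namespace Groth.Agent.Helper23.FinFlat

/-- The stalk map is flat. -/
theorem flat_stalkMap {X Y : Scheme.{u}} (f : X ⟶ Y) [IsLocallyNoetherian X]
    (h : ∀ x' : X, Curv2.IsAssPoint (Coh.structureModule X) x' →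
      maximalIdeal (Y.presheaf.stalk (f x')) = ⊥)
    (x : X) [IsRegularLocalRing (Y.presheaf.stalk (f x))]
    (hdim : ringKrullDim (Y.presheaf.stalk (f x)) ≤ 1) : (f.stalkMap x).hom.Flat := by
  obtain ⟨hdom, hval⟩ := Groth.Agent.Helper4.CurveExt.valuationRing_of_regular _ hdim
  obtain ⟨_, ⟨W, hW, rfl⟩, hyW, -⟩ :=
    Y.isBasis_affineOpens.exists_subset_of_mem_open (Set.mem_univ (f x)) isOpen_univ
  obtain ⟨_, ⟨V, hV, rfl⟩, hxV, hVW⟩ :=
    X.isBasis_affineOpens.exists_subset_of_mem_open (show x ∈ f ⁻¹ᵁ W from hyW) (f ⁻¹ᵁ W).isOpen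
  have hW : IsAffineOpen W := hW
  have hV : IsAffineOpen V := hV
  have e : V ≤ f ⁻¹ᵁ W := hVW
  letI algY := TopCat.Presheaf.algebra_section_stalk Y.presheaf (⟨f x, hyW⟩ : W)
  haveI locY := hW.isLocalization_stalk ⟨f x, hyW⟩
  apply Groth.Agent.Helper26.FlatAssDim1.flat_of_torsionFree
  intro a ha b hab
  by_contra hb
  obtain ⟨P, hP, hle⟩ := exists_le_isAssociatedPrime_of_isNoetherianRing
    (X.presheaf.stalk x) b hb
  have haP : (f.stalkMap x).hom a ∈ P := by
    apply hle
    rw [Submodule.mem_colon_singleton, Submodule.mem_bot, smul_eq_mul]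
    exact hab
  obtain ⟨⟨s, t⟩, hst⟩ := IsLocalization.surj (hW.primeIdealOf ⟨f x, hyW⟩).asIdeal.primeCompl a
  simp only at hst
  have hs0 : Y.presheaf.germ W (f x) hyW s ≠ 0 := by
    intro h0
    have h1 : algebraMap Γ(Y, W) (Y.presheaf.stalk (f x)) s = 0 := h0
    rw [h1] at hst
    have hu : IsUnit (algebraMap Γ(Y, W) (Y.presheaf.stalk (f x)) t) :=
      IsLocalization.map_units _ t
    exact ha (hu.mul_left_eq_zero.1 hst)
  apply hs0
  apply germ_eq_zero_of_mem_assPrime f h hW hV e x hxV P hP s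
  rw [Groth.Agent.Helper26.FlatAssDim1.germ_appLE f W V e x hxV hyW s]
  have h2 : Y.presheaf.germ W (f x) hyW s =
      a * algebraMap Γ(Y, W) (Y.presheaf.stalk (f x)) t := hst.symm
  rw [h2, map_mul]
  exact Ideal.mul_mem_right _ _ haP

/-- a regular local ring of dimension zero has zero maximal ideal. -/
theorem maximalIdeal_eq_bot_of_regular (R : Type u) [CommRing R] [IsRegularLocalRing R]
    (h : ringKrullDim R = 0) : maximalIdeal R = ⊥ := by
  obtain ⟨hdom, -⟩ := Groth.Agent.Helper4.CurveExt.valuationRing_of_regular R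
    (h.le.trans (by norm_num))
  haveI : Ring.KrullDimLE 0 R := (Ring.krullDimLE_iff).2 h.le
  exact IsLocalRing.isField_iff_maximalIdeal_eq.1 Ring.KrullDimLE.isField_of_isDomain

/-- Main flatness theorem. -/
theorem flat_of_assPoints {X Y : Scheme.{u}} (f : X ⟶ Y) [IsLocallyNoetherian X]
    (hreg : ∀ y : Y, IsRegularLocalRing (Y.presheaf.stalk y))
    (hdim : ∀ y : Y, ringKrullDim (Y.presheaf.stalk y) ≤ 1)
    (hass : ∀ x : X, Curv2.IsAssPoint (Coh.structureModule X) x →
      ringKrullDim (Y.presheaf.stalk (f.base x)) = 0) : Flat f := by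
  rw [Flat.iff_flat_stalkMap]
  intro x
  haveI := hreg (f x)
  refine flat_stalkMap f ?_ x (hdim _)
  intro x' hx'
  haveI := hreg (f x')
  exact maximalIdeal_eq_bot_of_regular _ (hass x' hx')

/-- Finite pushforward of the structure sheaf is finite locally free. -/
theorem push_isFinLocFree {C C' : Scheme.{u}} (f : C ⟶ C') [IsFinite f] [IsLocallyNoetherian C']
    (hreg : ∀ y : C', IsRegularLocalRing (C'.presheaf.stalk y))
    (hdim : ∀ y : C', ringKrullDim (C'.presheaf.stalk y) ≤ 1)
    (hass : ∀ x : C, Curv2.IsAssPoint (Coh.structureModule C) x →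
      ringKrullDim (C'.presheaf.stalk (f.base x)) = 0) :
    FlatMod.IsFinLocFree ((Scheme.Modules.pushforward f).obj (Coh.structureModule C)) := by
  haveI : IsLocallyNoetherian C := LocallyOfFiniteType.isLocallyNoetherian f
  have hflat : Flat f := flat_of_assPoints f hreg hdim hass
  have hlfp : LocallyOfFinitePresentation f :=
    LocallyOfFinitePresentation.iff_locallyOfFiniteType.mpr inferInstance
  exact ((Groth.Agent.Helper13.PushFinLocFree.affine_finLocFree_iff f).2
    ⟨inferInstance, hflat, hlfp⟩).2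

end Groth.Agent.Helper23.FinFlat
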