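import Mathlib
set_option autoImplicit false
universe u
open CategoryTheory AlgebraicGeometry Limits

namespace Groth.Agent.Helper23.FixPt

/-- equalizer of the identity and an `S`-endomorphism of a separated `S`-scheme -/
theorem exists_eq {X S : Scheme.{u}} (p : X ⟶ S) [IsSeparated p] (a : X ⟶ X) (ha : a ≫ p = p) :
    ∃ (E : Scheme.{u}) (e : E ⟶ X), IsClosedImmersion e ∧ e ≫ a = e ∧
      ∀ (T : Scheme.{u}) (x : T ⟶ X), x ≫ a = x → ∃ z : T ⟶ E, z ≫ e = x := by
  let X' : Over S := Over.mk p
  let a' : X' ⟶ X' := Over.homMk a ha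
  have : IsSeparated X'.hom := ‹IsSeparated p›
  refine ⟨(equalizer a' (𝟙 X')).left, (equalizer.ι a' (𝟙 X')).left, inferInstance, ?_, ?_⟩
  · have := congrArg (fun m => m.left) (equalizer.condition a' (𝟙 X'))
    simp only [Over.comp_left, Category.comp_id] at this
    exact this
  · intro T x hx
    let T' : Over S := Over.mk (x ≫ p)
    let x' : T' ⟶ X' := Over.homMk x rfl
    have hx' : x' ≫ a' = x' ≫ 𝟙 X' := by
      ext1
      simp only [Over.comp_left, Category.comp_id]
      exact hx
    refine ⟨(equalizer.lift x' hx').left, ?_⟩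
    have := congrArg (fun m => m.left) (equalizer.lift_ι x' hx')
    simp only [Over.comp_left] at this
    exact this

theorem exists_fix {X S : Scheme.{u}} (p : X ⟶ S) [IsSeparated p] {G : Type*} (a : G → (X ⟶ X))
    (ha : ∀ g, a g ≫ p = p) (s : Finset G) :
    ∃ (Z : Scheme.{u}) (i : Z ⟶ X), IsClosedImmersion i ∧ (∀ g ∈ s, i ≫ a g = i) ∧
      ∀ (T : Scheme.{u}) (x : T ⟶ X), (∀ g ∈ s, x ≫ a g = x) → ∃ z : T ⟶ Z, z ≫ i = x := by
  classical
  induction s using Finset.induction_on with
  | empty =>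
    exact ⟨X, 𝟙 X, inferInstance, by simp, fun T x _ => ⟨x, by simp⟩⟩
  | insert g s hg ih =>
    obtain ⟨Z, i, hi, hfix, huniv⟩ := ih
    obtain ⟨E, e, he, hea, heuniv⟩ := exists_eq p (a g) (ha g)
    refine ⟨pullback i e, pullback.fst i e ≫ i, inferInstance, ?_, ?_⟩
    · intro g' hg'
      rw [Finset.mem_insert] at hg'
      rcases hg' with rfl | hg'
      · rw [pullback.condition, Category.assoc, hea]
      · rw [Category.assoc, hfix g' hg']
    · intro T x hx
      obtain ⟨z1, hz1⟩ := huniv T x (fun g' hg' => hx g' (Finset.mem_insert_of_mem hg'))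
      obtain ⟨z2, hz2⟩ := heuniv T x (hx g (Finset.mem_insert_self g s))
      refine ⟨pullback.lift z1 z2 (by rw [hz1, hz2]), ?_⟩
      rw [← Category.assoc, pullback.lift_fst, hz1]

end Groth.Agent.Helper23.FixPt
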