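import Mathlib

/-!
# The flat completion over a discrete valuation ring (helper23)
-/

set_option autoImplicit false

universe u

open CategoryTheory AlgebraicGeometry TopologicalSpace Opposite Limits

namespace Groth.Agent.Helper23.FlatCl

variable (A : Type u) [CommRing A] [IsDomain A]

/-- The inclusion of the generic point of `Spec A` (`A` a domain) is schematically dominant. -/
theorem isSchemeTheoreticallyDominant_generic (η : ↥(Spec (CommRingCat.of A)))
    (hη : η.asIdeal = ⊥) :
    IsSchemeTheoreticallyDominant ((Spec (CommRingCat.of A)).fromSpecResidueField η) := by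
  haveI : IsReduced (Spec (CommRingCat.of A)) := inferInstance
  haveI : IsDominant ((Spec (CommRingCat.of A)).fromSpecResidueField η) := by
    rw [isDominant_iff, DenseRange, Scheme.range_fromSpecResidueField, dense_iff_closure_eq]
    let η' : PrimeSpectrum A := η
    have : closure ({η'} : Set (PrimeSpectrum A)) = Set.univ := by
      rw [PrimeSpectrum.closure_singleton, show η'.asIdeal = ⊥ from hη]
      simp
    exact this
  exact IsSchemeTheoreticallyDominant.of_isDominant _

variable {A}
variable {X : Scheme.{u}} (f : X ⟶ Spec (CommRingCat.of A)) (η : ↥(Spec (CommRingCat.of A)))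

/-- Nonzero elements of `A` become units on the generic fibre. -/
theorem isUnit_appTop_fiber (hη : η.asIdeal = ⊥) (a : A) (ha : a ≠ 0) :
    IsUnit ((f.fiberι η ≫ f).appTop.hom ((Scheme.ΓSpecIso (CommRingCat.of A)).inv.hom a)) := by
  haveI := isSchemeTheoreticallyDominant_generic A η hη
  set g := (Spec (CommRingCat.of A)).fromSpecResidueField η with hg
  have hinj : Function.Injective (g.app ⊤) := g.app_injective ⊤
  set a' := (Scheme.ΓSpecIso (CommRingCat.of A)).inv.hom a with ha'
  have ha'0 : a' ≠ 0 := by
    intro h0
    apply ha
    have hinj' : Function.Injective (Scheme.ΓSpecIso (CommRingCat.of A)).inv.hom :=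
      (Scheme.ΓSpecIso (CommRingCat.of A)).symm.commRingCatIsoToRingEquiv.injective
    exact hinj' (by rw [← ha', h0, map_zero])
  have ht0 : g.appTop.hom a' ≠ 0 := by
    intro h0
    exact ha'0 (hinj (by rw [map_zero]; exact h0))
  -- `Γ(Spec κ(η), ⊤)` is a field
  let e := (Scheme.ΓSpecIso ((Spec (CommRingCat.of A)).residueField η)).commRingCatIsoToRingEquiv
  have htu : IsUnit (g.appTop.hom a') := by
    have h1 : e (g.appTop.hom a') ≠ 0 := fun h => ht0 (e.injective (by rw [h, map_zero]))
    have h2 : IsUnit (e (g.appTop.hom a')) := isUnit_iff_ne_zero.mpr h1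
    have := h2.map e.symm.toRingHom
    simpa using this
  rw [Scheme.Hom.fiber_fac, Scheme.Hom.comp_appTop, CommRingCat.hom_comp, RingHom.comp_apply]
  exact htu.map _

end Groth.Agent.Helper23.FlatCl
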