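import Mathlib
import Groth.Agent.Lib.Helper23.FlatCl1

/-!
# The flat completion over a discrete valuation ring is flat (helper23)
-/

set_option autoImplicit false

universe u

open CategoryTheory AlgebraicGeometry TopologicalSpace Opposite Limits

namespace Groth.Agent.Helper23.FlatCl

theorem appLE_of_eq {X Y : Scheme.{u}} {f g : X ⟶ Y} (e : f = g) (U : Y.Opens) (V : X.Opens)
    (h : V ≤ f ⁻¹ᵁ U) : f.appLE U V h = g.appLE U V (e ▸ h) := by
  subst e
  rfl

variable {A : Type u} [CommRing A] [IsDomain A]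
variable {X : Scheme.{u}} (f : X ⟶ Spec (CommRingCat.of A)) (η : ↥(Spec (CommRingCat.of A)))

instance quasiCompact_fiberι : QuasiCompact (f.fiberι η) := by
  haveI : QuasiCompact ((Spec (CommRingCat.of A)).fromSpecResidueField η) := inferInstance
  exact inferInstanceAs (QuasiCompact (pullback.fst f ((Spec (CommRingCat.of A)).fromSpecResidueField η)))

/-- A ring map `ρ : A → M` from a principal ideal domain such that nonzero elements of `A` become
units after composing with an injective ring map `M → N` is flat. -/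
theorem flat_of_injective_of_isUnit [IsPrincipalIdealRing A] {M N : Type u} [CommRing M]
    [CommRing N] (ρ : A →+* M) (ι : M →+* N) (hι : Function.Injective ι)
    (hu : ∀ a : A, a ≠ 0 → IsUnit (ι (ρ a))) : ρ.Flat := by
  letI := ρ.toAlgebra
  show Module.Flat A M
  rw [Module.Flat.flat_iff_torsion_eq_bot_of_isBezout, eq_bot_iff]
  intro m hm
  rw [Submodule.mem_torsion_iff] at hm
  obtain ⟨a, ha⟩ := hm
  have ha0 : (a : A) ≠ 0 := nonZeroDivisors.coe_ne_zero a
  rw [Submodule.mem_bot]
  apply hι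
  rw [map_zero]
  have h1 : ι (ρ (a : A)) * ι m = 0 := by
    rw [← map_mul]
    have : ρ (a : A) * m = (a : A) • m := (Algebra.smul_def _ _).symm
    rw [this]
    have ha' : (a : A) • m = 0 := ha
    rw [ha', map_zero]
  exact (hu _ ha0).mul_right_eq_zero.mp h1

/-- The scheme-theoretic closure of the generic fibre is flat over a discrete valuation ring. -/
theorem flat_imageι_comp [IsPrincipalIdealRing A] (hη : η.asIdeal = ⊥) :
    Flat ((f.fiberι η).imageι ≫ f) := by
  set j := f.fiberι η with hj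
  set h := j.imageι ≫ f with hh
  let Uf : X.affineOpens → j.image.affineOpens := fun V =>
    ⟨j.imageι ⁻¹ᵁ V.1, V.2.preimage j.imageι⟩
  have hU : ⨆ V, ((Uf V : j.image.affineOpens) : j.image.Opens) = ⊤ := by
    show ⨆ V : X.affineOpens, j.imageι ⁻¹ᵁ V.1 = ⊤
    rw [← Scheme.Hom.preimage_iSup, iSup_affineOpens_eq_top, Scheme.Hom.preimage_top]
  refine HasRingHomProperty.of_iSup_eq_top (P := @Flat) Uf hU fun V => ?_
  rw [← RingHom.Flat.respectsIso.cancel_left_isIso (Scheme.ΓSpecIso (CommRingCat.of A)).inv]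
  set W : j.image.Opens := j.imageι ⁻¹ᵁ V.1 with hW
  have hfac : j.toImage ≫ h = j ≫ f := by
    rw [hh, ← Category.assoc, Scheme.Hom.toImage_imageι]
  have hcomp : h.appLE ⊤ W le_top ≫ j.toImage.app W =
      (j ≫ f).appTop ≫ (f.fiber η).presheaf.map (homOfLE (le_top : j.toImage ⁻¹ᵁ W ≤ ⊤)).op := by
    rw [Scheme.Hom.app_eq_appLE, Scheme.Hom.appLE_comp_appLE, appLE_of_eq hfac]
    rfl
  refine flat_of_injective_of_isUnit _ (j.toImage.app W).hom (j.toImage_app_injective V) ?_
  intro a ha
  have h1 := isUnit_appTop_fiber f η hη a ha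
  have h2 : (j.toImage.app W).hom
      ((h.appLE ⊤ W le_top).hom ((Scheme.ΓSpecIso (CommRingCat.of A)).inv.hom a)) =
      ((f.fiber η).presheaf.map (homOfLE (le_top : j.toImage ⁻¹ᵁ W ≤ ⊤)).op).hom
        ((j ≫ f).appTop.hom ((Scheme.ΓSpecIso (CommRingCat.of A)).inv.hom a)) := by
    have := congrArg (fun φ => φ.hom ((Scheme.ΓSpecIso (CommRingCat.of A)).inv.hom a)) hcomp
    simpa using this
  change IsUnit ((j.toImage.app W).hom
      ((h.appLE ⊤ W le_top).hom ((Scheme.ΓSpecIso (CommRingCat.of A)).inv.hom a)))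
  rw [h2]
  exact h1.map _

end Groth.Agent.Helper23.FlatCl
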