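import Mathlib
import Groth.Agent.Lib.Helper23.FlatCl2

/-!
# The flat completion is the largest flat closed subscheme (helper23)
-/

set_option autoImplicit false

universe u

open CategoryTheory AlgebraicGeometry TopologicalSpace Opposite Limits

namespace Groth.Agent.Helper23.FlatCl

variable {A : Type u} [CommRing A] [IsDomain A]
variable {X : Scheme.{u}} (f : X ⟶ Spec (CommRingCat.of A)) (η : ↥(Spec (CommRingCat.of A)))

/-- Every morphism to `X` which is flat over `Spec A` has kernel containing that of the generic
fibre of `X`. -/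
theorem ker_fiberι_le (hη : η.asIdeal = ⊥) {Z : Scheme.{u}} (i : Z ⟶ X) [Flat (i ≫ f)] :
    (f.fiberι η).ker ≤ i.ker := by
  set g := (Spec (CommRingCat.of A)).fromSpecResidueField η with hg
  haveI := isSchemeTheoreticallyDominant_generic A η hη
  haveI : QuasiCompact g := inferInstance
  haveI : IsSchemeTheoreticallyDominant (pullback.fst (i ≫ f) g) := inferInstance
  set q := pullback.fst (i ≫ f) g with hq
  let t : pullback (i ≫ f) g ⟶ f.fiber η :=
    pullback.lift (q ≫ i) (pullback.snd (i ≫ f) g)
      (by rw [Category.assoc]; exact pullback.condition)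
  have ht : t ≫ f.fiberι η = q ≫ i := pullback.lift_fst _ _ _
  calc (f.fiberι η).ker ≤ (t ≫ f.fiberι η).ker := Scheme.Hom.le_ker_comp _ _
    _ = (q ≫ i).ker := by rw [ht]
    _ = i.ker := by rw [Scheme.Hom.ker_comp, q.ker_eq_bot, Scheme.IdealSheafData.map_bot]

end Groth.Agent.Helper23.FlatCl
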