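import Mathlib
set_option autoImplicit false
set_option linter.style.haveILetI false
namespace Groth.Agent.Helper23.FlatEpi
universe u
open TensorProduct

/-- a faithfully flat epimorphism of rings is bijective -/
theorem bijective_of_faithfullyFlat_epi {A B : Type u} [CommRing A] [CommRing B] [Algebra A B]
    [Module.FaithfullyFlat A B]
    (hepi : ∀ {T : Type u} [CommRing T] (g₁ g₂ : B →+* T),
      g₁.comp (algebraMap A B) = g₂.comp (algebraMap A B) → g₁ = g₂) :
    Function.Bijective (algebraMap A B) := by
  refine ⟨FaithfulSMul.algebraMap_injective A B, ?_⟩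
  have hinc : (Algebra.TensorProduct.includeLeft (R := A) (S := A) (A := B) (B := B)).toRingHom =
      (Algebra.TensorProduct.includeRight (R := A) (A := B) (B := B)).toRingHom := by
    apply hepi
    ext a
    change algebraMap A B a ⊗ₜ[A] (1 : B) = (1 : B) ⊗ₜ[A] algebraMap A B a
    rw [Algebra.algebraMap_eq_smul_one, TensorProduct.smul_tmul]
  have hsurj : Function.Surjective ((Algebra.linearMap A B).lTensor B) := by
    intro t
    induction t using TensorProduct.induction_on with
    | zero => exact ⟨0, map_zero _⟩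
    | tmul b₁ b₂ =>
      refine ⟨(b₁ * b₂) ⊗ₜ 1, ?_⟩
      rw [LinearMap.lTensor_tmul, Algebra.linearMap_apply, map_one]
      have h2 : (1 : B) ⊗ₜ[A] b₂ = b₂ ⊗ₜ[A] (1 : B) := (RingHom.congr_fun hinc b₂).symm
      calc (b₁ * b₂) ⊗ₜ[A] (1 : B) = (b₁ ⊗ₜ[A] (1 : B)) * (b₂ ⊗ₜ[A] (1 : B)) := by
            rw [Algebra.TensorProduct.tmul_mul_tmul, mul_one]
        _ = (b₁ ⊗ₜ[A] (1 : B)) * ((1 : B) ⊗ₜ[A] b₂) := by rw [h2]
        _ = b₁ ⊗ₜ[A] b₂ := by rw [Algebra.TensorProduct.tmul_mul_tmul, mul_one, one_mul]
    | add x y hx hy =>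
      obtain ⟨x', rfl⟩ := hx
      obtain ⟨y', rfl⟩ := hy
      exact ⟨x' + y', map_add _ _ _⟩
  exact (Module.FaithfullyFlat.lTensor_surjective_iff_surjective A B _).1 hsurj

/-- a flat epimorphism of rings induces bijections on local rings -/
theorem localRingHom_bijective_of_flat_epi {A B : Type u} [CommRing A] [CommRing B] (φ : A →+* B)
    (hflat : φ.Flat)
    (hepi : ∀ {T : Type u} [CommRing T] (g₁ g₂ : B →+* T), g₁.comp φ = g₂.comp φ → g₁ = g₂)
    (P : Ideal B) [P.IsPrime] :
    Function.Bijective (Localization.localRingHom (P.comap φ) P φ rfl) := by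
  set φ' := Localization.localRingHom (P.comap φ) P φ rfl with hφ'
  have hfl' : φ'.Flat := hflat.localRingHom P (P.comap φ) rfl
  letI : Algebra (Localization.AtPrime (P.comap φ)) (Localization.AtPrime P) := φ'.toAlgebra
  haveI : Module.Flat (Localization.AtPrime (P.comap φ)) (Localization.AtPrime P) := hfl'
  haveI : IsLocalHom (algebraMap (Localization.AtPrime (P.comap φ)) (Localization.AtPrime P)) :=
    Localization.isLocalHom_localRingHom (P.comap φ) P φ rfl
  haveI : Module.FaithfullyFlat (Localization.AtPrime (P.comap φ)) (Localization.AtPrime P) :=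
    Module.FaithfullyFlat.of_flat_of_isLocalHom
  apply bijective_of_faithfullyFlat_epi
  intro T _ g₁ g₂ hg
  have h1 : (g₁.comp (algebraMap B (Localization.AtPrime P))).comp φ =
      (g₂.comp (algebraMap B (Localization.AtPrime P))).comp φ := by
    ext a
    have := RingHom.congr_fun hg (algebraMap A (Localization.AtPrime (P.comap φ)) a)
    simp only [RingHom.comp_apply] at this ⊢
    have e : algebraMap (Localization.AtPrime (P.comap φ)) (Localization.AtPrime P)
        (algebraMap A (Localization.AtPrime (P.comap φ)) a) =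
        algebraMap B (Localization.AtPrime P) (φ a) :=
      Localization.localRingHom_to_map _ _ _ rfl a
    rw [e] at this
    exact this
  have h2 := hepi _ _ h1
  exact IsLocalization.ringHom_ext P.primeCompl h2
end Groth.Agent.Helper23.FlatEpi
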