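import Mathlib

/-!
# Morphisms agreeing on a schematically dominant subscheme; fpqc descent of an extension (helper23)
-/

set_option autoImplicit false

universe u

open CategoryTheory AlgebraicGeometry TopologicalSpace Opposite Limits

namespace Groth.Agent.Helper23.FpqcExt

/-- A closed immersion with trivial kernel is an isomorphism. -/
theorem isIso_of_isClosedImmersion_of_ker_eq_bot {X Y : Scheme.{u}} (e : X ⟶ Y)
    [IsClosedImmersion e] (h : e.ker = ⊥) : IsIso e := by
  haveI : IsIso e.imageι := (Scheme.isIso_subschemeι_iff_eq_bot _).mpr h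
  rw [← e.toImage_imageι]
  infer_instance

/-- Two morphisms `f g : X ⟶ Y` which agree over a separated `s : Y ⟶ Z` and after composing with
a schematically dominant `ι : W ⟶ X` are equal. -/
theorem hom_ext_of_isSchemeTheoreticallyDominant {W X Y Z : Scheme.{u}} {f g : X ⟶ Y}
    (s : Y ⟶ Z) [IsSeparated s] (h : f ≫ s = g ≫ s)
    (ι : W ⟶ X) [IsSchemeTheoreticallyDominant ι] (hU : ι ≫ f = ι ≫ g) : f = g := by
  let X' : Over Z := Over.mk (f ≫ s)
  let Y' : Over Z := Over.mk s
  let U' : Over Z := Over.mk (ι ≫ f ≫ s)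
  let f' : X' ⟶ Y' := Over.homMk f
  let g' : X' ⟶ Y' := Over.homMk g (by simpa [X', Y'] using h.symm)
  let ι' : U' ⟶ X' := Over.homMk ι
  haveI : IsSeparated Y'.hom := ‹_›
  have hι' : ι' ≫ f' = ι' ≫ g' := by
    ext1
    exact hU
  let l := (equalizer.lift ι' hι').left
  let e := (equalizer.ι f' g').left
  have hle : l ≫ e = ι := by
    show (equalizer.lift ι' hι').left ≫ (equalizer.ι f' g').left = ι
    rw [← Over.comp_left, equalizer.lift_ι]
    rfl
  have hker : e.ker = ⊥ := by
    rw [eq_bot_iff]
    calc e.ker ≤ (l ≫ e).ker := Scheme.Hom.le_ker_comp _ _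
      _ = ι.ker := by rw [hle]
      _ = ⊥ := ι.ker_eq_bot
  haveI : IsIso e := isIso_of_isClosedImmersion_of_ker_eq_bot e hker
  rw [← cancel_epi e]
  exact congr($(equalizer.condition f' g').left)

end Groth.Agent.Helper23.FpqcExt
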