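import Mathlib
import Groth.Agent.Lib.Helper23.FpqcExt1

/-!
# Extending a generically defined morphism after an fpqc base change (helper23)
-/

set_option autoImplicit false

universe u

open CategoryTheory AlgebraicGeometry TopologicalSpace Opposite Limits

namespace Groth.Agent.Helper23.FpqcExt

section generic

variable (T : Scheme.{u}) [IsIntegral T]

instance quasiCompact_fromSpecStalk_genericPoint :
    QuasiCompact (T.fromSpecStalk (genericPoint T)) := by
  constructor
  intro U _ _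
  haveI : Finite (PrimeSpectrum (T.functionField)) := inferInstance
  exact (Set.toFinite _).isCompact

instance isSchemeTheoreticallyDominant_fromSpecStalk_genericPoint :
    IsSchemeTheoreticallyDominant (T.fromSpecStalk (genericPoint T)) := by
  haveI : IsDominant (T.fromSpecStalk (genericPoint T)) := by
    rw [isDominant_iff, DenseRange, Scheme.range_fromSpecStalk]
    have h1 : Dense ({genericPoint T} : Set T) := by
      rw [dense_iff_closure_eq]
      exact (genericPoint_spec T).def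
    refine h1.mono ?_
    rintro _ rfl
    exact specializes_rfl
  exact IsSchemeTheoreticallyDominant.of_isDominant _

end generic

/-- General form: `jη : Tη ⟶ T` any quasi-compact schematically dominant morphism. -/
theorem exists_extension_aux {T Y Z T' Tη : Scheme.{u}}
    (pY : Y ⟶ T) (pZ : Z ⟶ T) [Flat pY] [IsSeparated pZ]
    (jη : Tη ⟶ T) [IsSchemeTheoreticallyDominant jη] [QuasiCompact jη]
    (ψ : pullback pY jη ⟶ Z)
    (g : T' ⟶ T) [Flat g] [Surjective g] [QuasiCompact g]
    (φ' : pullback pY g ⟶ pullback pZ g) (hφ' : φ' ≫ pullback.snd pZ g = pullback.snd pY g)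
    (hagree : pullback.fst (pullback.fst pY g) (pullback.fst pY jη) ≫ φ' ≫ pullback.fst pZ g =
      pullback.snd (pullback.fst pY g) (pullback.fst pY jη) ≫ ψ) :
    ∃ φ : Y ⟶ Z, φ ≫ pZ = pY ∧ pullback.fst pY jη ≫ φ = ψ := by
  obtain ⟨q, hq⟩ : ∃ q, q = pullback.fst pY g := ⟨_, rfl⟩
  obtain ⟨j, hj⟩ : ∃ j, j = pullback.fst pY jη := ⟨_, rfl⟩
  obtain ⟨a, ha_def⟩ : ∃ a, a = φ' ≫ pullback.fst pZ g := ⟨_, rfl⟩
  haveI : Flat q := by rw [hq]; infer_instance
  haveI : Surjective q := by rw [hq]; infer_instance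
  haveI : QuasiCompact q := by rw [hq]; infer_instance
  have ha : a ≫ pZ = q ≫ pY := by
    rw [ha_def, Category.assoc, pullback.condition, ← Category.assoc, hφ', hq, pullback.condition]
  have hagree' : pullback.fst q j ≫ a = pullback.snd q j ≫ ψ := by
    rw [hq, hj, ha_def]
    exact hagree
  have huniv : pullback.fst q q ≫ a = pullback.snd q q ≫ a := by
    obtain ⟨p₁, hp₁⟩ : ∃ p₁, p₁ = pullback.fst q q := ⟨_, rfl⟩
    obtain ⟨p₂, hp₂⟩ : ∃ p₂, p₂ = pullback.snd q q := ⟨_, rfl⟩
    rw [← hp₁, ← hp₂]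
    haveI : Flat p₁ := by rw [hp₁]; infer_instance
    have hp : p₁ ≫ q = p₂ ≫ q := by rw [hp₁, hp₂]; exact pullback.condition
    have h1 : (p₁ ≫ a) ≫ pZ = (p₂ ≫ a) ≫ pZ := by
      rw [Category.assoc, Category.assoc, ha, ← Category.assoc, ← Category.assoc, hp]
    obtain ⟨ι, hι⟩ : ∃ ι, ι = pullback.fst (p₁ ≫ q) j := ⟨_, rfl⟩
    haveI : IsSchemeTheoreticallyDominant ι := by
      subst hj
      have hι' : ι = (pullbackRightPullbackFstIso pY jη (p₁ ≫ q)).hom ≫
          pullback.fst ((p₁ ≫ q) ≫ pY) jη := by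
        rw [hι]
        exact (pullbackRightPullbackFstIso_hom_fst _ _ _).symm
      rw [hι']
      infer_instance
    have h2 : ι ≫ p₁ ≫ a = ι ≫ p₂ ≫ a := by
      have e1 : ι ≫ p₁ ≫ a = pullback.snd (p₁ ≫ q) j ≫ ψ := by
        let u₁ : pullback (p₁ ≫ q) j ⟶ pullback q j :=
          pullback.lift (ι ≫ p₁) (pullback.snd (p₁ ≫ q) j)
            (by rw [hι, Category.assoc]; exact pullback.condition)
        calc ι ≫ p₁ ≫ a = (u₁ ≫ pullback.fst q j) ≫ a := by
              rw [pullback.lift_fst, Category.assoc]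
          _ = u₁ ≫ (pullback.fst q j ≫ a) := Category.assoc _ _ _
          _ = u₁ ≫ (pullback.snd q j ≫ ψ) := by rw [hagree']
          _ = pullback.snd (p₁ ≫ q) j ≫ ψ := by rw [← Category.assoc, pullback.lift_snd]
      have e2 : ι ≫ p₂ ≫ a = pullback.snd (p₁ ≫ q) j ≫ ψ := by
        let u₂ : pullback (p₁ ≫ q) j ⟶ pullback q j :=
          pullback.lift (ι ≫ p₂) (pullback.snd (p₁ ≫ q) j)
            (by rw [hι, Category.assoc, ← hp]; exact pullback.condition)
        calc ι ≫ p₂ ≫ a = (u₂ ≫ pullback.fst q j) ≫ a := by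
              rw [pullback.lift_fst, Category.assoc]
          _ = u₂ ≫ (pullback.fst q j ≫ a) := Category.assoc _ _ _
          _ = u₂ ≫ (pullback.snd q j ≫ ψ) := by rw [hagree']
          _ = pullback.snd (p₁ ≫ q) j ≫ ψ := by rw [← Category.assoc, pullback.lift_snd]
      rw [e1, e2]
    exact hom_ext_of_isSchemeTheoreticallyDominant pZ h1 ι h2
  have key : ∀ {W : Scheme.{u}} (g₁ g₂ : W ⟶ pullback pY g), g₁ ≫ q = g₂ ≫ q →
      g₁ ≫ a = g₂ ≫ a := by
    intro W g₁ g₂ h12
    calc g₁ ≫ a = (pullback.lift g₁ g₂ h12 ≫ pullback.fst q q) ≫ a := by rw [pullback.lift_fst]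
      _ = pullback.lift g₁ g₂ h12 ≫ pullback.snd q q ≫ a := by rw [Category.assoc, huniv]
      _ = g₂ ≫ a := by rw [← Category.assoc, pullback.lift_snd]
  let φ := EffectiveEpi.desc q a key
  have hfac : q ≫ φ = a := EffectiveEpi.fac q a key
  refine ⟨φ, ?_, ?_⟩
  · rw [← cancel_epi q, ← Category.assoc, hfac, ha]
  · haveI : EffectiveEpi (pullback.snd q j) := inferInstance
    rw [← hj, ← cancel_epi (pullback.snd q j), ← Category.assoc, ← pullback.condition,
      Category.assoc, hfac]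
    exact hagree'

theorem exists_extension (T Y Z T' : Scheme.{u}) [IsIntegral T]
    (pY : Y ⟶ T) (pZ : Z ⟶ T) [Flat pY] [IsSeparated pZ]
    (ψ : pullback pY (T.fromSpecStalk (genericPoint T)) ⟶ Z)
    (g : T' ⟶ T) [Flat g] [Surjective g] [QuasiCompact g]
    (φ' : pullback pY g ⟶ pullback pZ g) (hφ' : φ' ≫ pullback.snd pZ g = pullback.snd pY g)
    (hagree : pullback.fst (pullback.fst pY g)
        (pullback.fst pY (T.fromSpecStalk (genericPoint T))) ≫ φ' ≫ pullback.fst pZ g =
      pullback.snd (pullback.fst pY g) (pullback.fst pY (T.fromSpecStalk (genericPoint T))) ≫ ψ) :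
    ∃ φ : Y ⟶ Z, φ ≫ pZ = pY ∧ pullback.fst pY (T.fromSpecStalk (genericPoint T)) ≫ φ = ψ :=
  exists_extension_aux pY pZ (T.fromSpecStalk (genericPoint T)) ψ g φ' hφ' hagree

end Groth.Agent.Helper23.FpqcExt
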