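import Groth.Agent.Lib.Helper23.MeroDom

set_option autoImplicit false
set_option linter.style.haveILetI false

open CategoryTheory AlgebraicGeometry Opposite TopologicalSpace IsLocalRing

universe u

namespace Groth.Agent.Helper23.CDivDepth

variable {X : Scheme.{u}}

/-- near a point where it is defined, a meromorphic function is a regular function -/
theorem exists_local_toK {U : X.Opens} (f : Γ(Mero.kmod X, U)) (x : X) (hx : x ∈ domSet f) :
    ∃ (W : X.Opens) (hWU : W ≤ U) (_ : x ∈ W) (c : Γ(X, W)), ∀ (y : X) (hy : y ∈ W),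
      f.1 ⟨y, hWU hy⟩ = algebraMap (X.presheaf.stalk y) (Mero.KStalk X y) (X.presheaf.germ W y hy c) := by
  obtain ⟨hxU, w, hw⟩ := hx
  obtain ⟨W, hWU, a, b, hb, hxW, hab⟩ := exists_frac f x hxU
  have h1 := hab x hxW
  rw [← hw] at h1
  have h2 := (mk_eq_algebraMap_iff (Mero.regStalk X x) (Mero.regStalk_le_nonZeroDivisors x)
    _ _ w).1 h1.symm
  obtain ⟨W', hW'W, hxW', c, hc⟩ := TopCat.Presheaf.exists_le_germ_eq X.presheaf w hxW
  have h3 : X.presheaf.germ W x hxW a =
      X.presheaf.germ W' x hxW' (X.presheaf.map (homOfLE hW'W).op b * c) := by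
    rw [map_mul, TopCat.Presheaf.germ_res_apply, hc]
    exact h2
  obtain ⟨W'', hxW'', iU, iV, heq⟩ := TopCat.Presheaf.germ_eq X.presheaf x hxW hxW' _ _ h3
  have hW''W : W'' ≤ W := iU.le
  have hW''W' : W'' ≤ W' := iV.le
  refine ⟨W'', hW''W.trans hWU, hxW'', X.presheaf.map (homOfLE hW''W').op c, ?_⟩
  intro y hy
  rw [hab y (hW''W hy)]
  rw [mk_eq_algebraMap_iff (Mero.regStalk X y) (Mero.regStalk_le_nonZeroDivisors y)]
  have h4 := congrArg (X.presheaf.germ W'' y hy) heq
  rw [TopCat.Presheaf.germ_res_apply, TopCat.Presheaf.germ_res_apply, map_mul,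
    TopCat.Presheaf.germ_res_apply] at h4
  rw [TopCat.Presheaf.germ_res_apply]
  exact h4

/-- a meromorphic function all of whose values are germs of functions is a function -/
theorem exists_toK_eq {V : X.Opens} (f : Γ(Mero.kmod X, V))
    (h : ∀ (y : X) (hy : y ∈ V), f.1 ⟨y, hy⟩ ∈
      (algebraMap (X.presheaf.stalk y) (Mero.KStalk X y)).range) :
    ∃ r : Γ(X, V), Mero.toK X V r = f := by
  have hloc : ∀ y : V, ∃ (W : X.Opens) (hWV : W ≤ V) (_ : y.1 ∈ W) (c : Γ(X, W)),
      ∀ (z : X) (hz : z ∈ W), f.1 ⟨z, hWV hz⟩ =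
        algebraMap (X.presheaf.stalk z) (Mero.KStalk X z) (X.presheaf.germ W z hz c) :=
    fun y => exists_local_toK f y.1 ⟨y.2, h y.1 y.2⟩
  choose W hWV hyW c hc using hloc
  have hcompat : TopCat.Presheaf.IsCompatible X.presheaf W c := by
    intro i j
    apply TopCat.Presheaf.section_ext X.sheaf
    intro z hz
    change X.presheaf.germ (W i ⊓ W j) z hz (X.presheaf.map (Opens.infLELeft (W i) (W j)).op (c i)) =
      X.presheaf.germ (W i ⊓ W j) z hz (X.presheaf.map (Opens.infLERight (W i) (W j)).op (c j))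
    rw [TopCat.Presheaf.germ_res_apply, TopCat.Presheaf.germ_res_apply]
    apply Mero.algebraMap_KStalk_injective z
    rw [← hc i z hz.1, ← hc j z hz.2]
  obtain ⟨r₀, hr₀, -⟩ := X.sheaf.existsUnique_gluing' W V (fun i => homOfLE (hWV i))
    (fun y hy => Opens.mem_iSup.2 ⟨⟨y, hy⟩, hyW ⟨y, hy⟩⟩) c hcompat
  let r : Γ(X, V) := r₀
  have hr : ∀ i, X.presheaf.map (homOfLE (hWV i)).op r = c i := hr₀
  refine ⟨r, ?_⟩
  apply Subtype.ext
  funext z
  have h1 := hc z z.1 (hyW z)
  have h2 : f.1 z = f.1 ⟨z.1, hWV z (hyW z)⟩ := rfl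
  rw [h2, h1, ← hr z, TopCat.Presheaf.germ_res_apply]
  change LocalizedModule.mk _ _ = _
  rw [mk_eq_algebraMap_iff (Mero.regStalk X z.1) (Mero.regStalk_le_nonZeroDivisors z.1)]
  simp only [OneMemClass.coe_one, one_mul]

end Groth.Agent.Helper23.CDivDepth
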