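import Groth.Agent.Lib.Helper13.InvGen
import Groth.Agent.Lib.Helper23.MeroGlue
import Groth.Agent.Lib.Helper23.AbsCurve2

set_option autoImplicit false
set_option linter.style.haveILetI false

open CategoryTheory AlgebraicGeometry Opposite TopologicalSpace IsLocalRing

universe u

namespace Groth.Agent.Helper23.FracIdeal

open Groth.Agent.Helper23.CDivDepth Groth.Agent.Helper13.Inv Groth.Agent.Helper13.MeroLib
open Groth.Agent.Helper13.QCoh Groth.Agent.Helper23.AbsCurve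

variable {X : Scheme.{u}}

theorem kmod_smul_eq {V : X.Opens} (r : Γ(X, V)) (t : Γ(Mero.kmod X, V)) :
    r • t = Mero.toK X V r * t := by
  apply Subtype.ext
  funext y
  change X.presheaf.germ V y.1 y.2 r • t.1 y = (Mero.toK X V r).1 y * t.1 y
  rw [toK_apply', Algebra.smul_def]

variable (J : X.Modules) (ι : J ⟶ Mero.kmod X)

theorem app_smul {V : X.Opens} (r : Γ(X, V)) (m : Γ(J, V)) :
    ι.app V (r • m) = Mero.toK X V r * ι.app V m := by
  rw [← kmod_smul_eq]
  exact (ι.val.app (op V)).hom.map_smul r m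

theorem app_res {V W : X.Opens} (i : W ⟶ V) (m : Γ(J, V)) :
    ι.app W (J.presheaf.map i.op m) = (Mero.kmod X).presheaf.map i.op (ι.app V m) :=
  PresheafOfModules.naturality_apply ι.val i.op m

theorem val_app_eq (V : X.Opens) (m : Γ(J, V)) : ι.val.app (op V) m = ι.app V m := rfl


/-- the local description of `J` as `O · f` on `U` -/
def IsGenBy (U : X.Opens) (f : (Γ(Mero.kmod X, U))ˣ) : Prop :=
  ∀ (V : X.Opens) (hV : V ≤ U),
    Set.range ⇑(ι.val.app (Opposite.op V)) =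
      {t : Γ(Mero.kmod X, V) | ∃ r : Γ(X, V),
        t = Mero.toK X V r * (Mero.kmod X).presheaf.map (homOfLE hV).op (f : Γ(Mero.kmod X, U))}

theorem res_mul_res_inv {U V : X.Opens} (f : (Γ(Mero.kmod X, U))ˣ) (hV : V ≤ U) :
    (Mero.kmod X).presheaf.map (homOfLE hV).op (f : Γ(Mero.kmod X, U)) *
      (Mero.kmod X).presheaf.map (homOfLE hV).op ((f⁻¹ : (Γ(Mero.kmod X, U))ˣ) : Γ(Mero.kmod X, U)) = 1 := by
  apply Subtype.ext
  funext y
  have := congrArg (fun t : Γ(Mero.kmod X, U) => t.1 ⟨y.1, hV y.2⟩) f.mul_inv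
  exact this

theorem res_id {U : X.Opens} (t : Γ(Mero.kmod X, U)) :
    (Mero.kmod X).presheaf.map (homOfLE (le_refl U)).op t = t := rfl

theorem res_res' {U V W : X.Opens} (hV : V ≤ U) (hW : W ≤ V) (t : Γ(Mero.kmod X, U)) :
    (Mero.kmod X).presheaf.map (homOfLE hW).op ((Mero.kmod X).presheaf.map (homOfLE hV).op t) =
      (Mero.kmod X).presheaf.map (homOfLE (hW.trans hV)).op t := rfl

theorem res_mul' {V W : X.Opens} (hW : W ≤ V) (t t' : Γ(Mero.kmod X, V)) :
    (Mero.kmod X).presheaf.map (homOfLE hW).op (t * t') =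
      (Mero.kmod X).presheaf.map (homOfLE hW).op t * (Mero.kmod X).presheaf.map (homOfLE hW).op t' := rfl

theorem res_toK {V W : X.Opens} (hW : W ≤ V) (r : Γ(X, V)) :
    (Mero.kmod X).presheaf.map (homOfLE hW).op (Mero.toK X V r) =
      Mero.toK X W (X.presheaf.map (homOfLE hW).op r) := by
  apply Subtype.ext
  funext y
  change LocalizedModule.mk _ _ = LocalizedModule.mk _ _
  exact Mero.mk_congr (TopCat.Presheaf.germ_res_apply X.presheaf (homOfLE hW) y.1 y.2 r).symm rfl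

variable {J ι}

theorem isGen_of_isGenBy [Mono ι] {U : X.Opens} {f : (Γ(Mero.kmod X, U))ˣ} (h : IsGenBy J ι U f)
    (s : Γ(J, U)) (hs : ι.app U s = f) (y : X) (hy : y ∈ U) : IsGen J s y hy := by
  have hinj : ∀ V : X.Opens, Function.Injective (ι.app V) := (mono_iff_app_injective ι).1 inferInstance
  have hsV : ∀ (V : X.Opens) (hV : V ≤ U) (r : Γ(X, V)),
      ι.app V (r • J.presheaf.map (homOfLE hV).op s) =
        Mero.toK X V r * (Mero.kmod X).presheaf.map (homOfLE hV).op (f : Γ(Mero.kmod X, U)) := by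
    intro V hV r
    rw [app_smul, app_res, hs]
  constructor
  · intro r₁ r₂ hr
    simp only at hr
    rw [← sub_eq_zero] at hr ⊢
    rw [← sub_smul] at hr
    generalize r₁ - r₂ = r at hr
    obtain ⟨W₁, hyW₁, r', rfl⟩ := X.presheaf.exists_germ_eq r
    have hyW : y ∈ U ⊓ W₁ := ⟨hy, hyW₁⟩
    have h1 : J.presheaf.germ (U ⊓ W₁) y hyW
        (X.presheaf.map (homOfLE (inf_le_right : U ⊓ W₁ ≤ W₁)).op r' •
        J.presheaf.map (homOfLE (inf_le_left : U ⊓ W₁ ≤ U)).op s) =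
        J.presheaf.germ (U ⊓ W₁) y hyW 0 := by
      rw [Mero.germ_smul, TopCat.Presheaf.germ_res_apply, TopCat.Presheaf.germ_res_apply, map_zero]
      exact hr
    obtain ⟨W₂, hyW₂, i₁, i₂, e⟩ := J.presheaf.germ_eq y hyW hyW _ _ h1
    have h2U : W₂ ≤ U := i₁.le.trans inf_le_left
    have h21 : W₂ ≤ W₁ := i₁.le.trans inf_le_right
    have e2 : X.presheaf.map (homOfLE h21).op r' • J.presheaf.map (homOfLE h2U).op s = 0 := by
      have e3 : J.presheaf.map i₁.op (X.presheaf.map (homOfLE (inf_le_right : U ⊓ W₁ ≤ W₁)).op r' •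
        J.presheaf.map (homOfLE (inf_le_left : U ⊓ W₁ ≤ U)).op s) = 0 := e.trans (map_zero _)
      have e4 : J.presheaf.map i₁.op (X.presheaf.map (homOfLE (inf_le_right : U ⊓ W₁ ≤ W₁)).op r' •
          J.presheaf.map (homOfLE (inf_le_left : U ⊓ W₁ ≤ U)).op s) =
          X.presheaf.map (homOfLE h21).op r' • J.presheaf.map (homOfLE h2U).op s := by
        apply TopCat.Presheaf.section_ext ⟨J.presheaf, J.isSheaf⟩
        intro z hz
        change J.presheaf.germ W₂ z hz _ = J.presheaf.germ W₂ z hz _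
        rw [TopCat.Presheaf.germ_res_apply, Mero.germ_smul, Mero.germ_smul,
          TopCat.Presheaf.germ_res_apply, TopCat.Presheaf.germ_res_apply,
          TopCat.Presheaf.germ_res_apply, TopCat.Presheaf.germ_res_apply]
      rw [← e4]; exact e3
    have e5 := congrArg (ι.app W₂) e2
    rw [hsV W₂ h2U, map_zero] at e5
    have e6 : Mero.toK X W₂ (X.presheaf.map (homOfLE h21).op r') = 0 := by
      have := congrArg (· * (Mero.kmod X).presheaf.map (homOfLE h2U).op
        ((f⁻¹ : (Γ(Mero.kmod X, U))ˣ) : Γ(Mero.kmod X, U))) e5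
      simp only [zero_mul] at this
      rwa [mul_assoc, res_mul_res_inv, mul_one] at this
    have e7 := toK_injective W₂ (e6.trans (map_zero _).symm)
    rw [← TopCat.Presheaf.germ_res_apply X.presheaf (homOfLE h21) y hyW₂ r', e7, map_zero]
  · intro m
    obtain ⟨W₁, hyW₁, μ, rfl⟩ := J.presheaf.exists_germ_eq m
    have hyW : y ∈ U ⊓ W₁ := ⟨hy, hyW₁⟩
    have hWU : U ⊓ W₁ ≤ U := inf_le_left
    let μ' : Γ(J, U ⊓ W₁) := J.presheaf.map (homOfLE (inf_le_right : U ⊓ W₁ ≤ W₁)).op μ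
    have hmem : ι.app (U ⊓ W₁) μ' ∈ Set.range ⇑(ι.val.app (Opposite.op (U ⊓ W₁))) := ⟨μ', rfl⟩
    rw [h (U ⊓ W₁) hWU] at hmem
    obtain ⟨r, hr⟩ := hmem
    have h3 : μ' = r • J.presheaf.map (homOfLE hWU).op s := by
      apply hinj
      rw [hr, hsV]
    refine ⟨X.presheaf.germ (U ⊓ W₁) y hyW r, ?_⟩
    simp only
    rw [← TopCat.Presheaf.germ_res_apply J.presheaf (homOfLE hWU) y hyW s, ← Mero.germ_smul, ← h3,
      TopCat.Presheaf.germ_res_apply]


/-- restriction of a product `r • s` -/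
theorem res_smul (J : X.Modules) {V W : X.Opens} (hW : W ≤ V) (r : Γ(X, V)) (m : Γ(J, V)) :
    J.presheaf.map (homOfLE hW).op (r • m) =
      X.presheaf.map (homOfLE hW).op r • J.presheaf.map (homOfLE hW).op m := by
  apply TopCat.Presheaf.section_ext ⟨J.presheaf, J.isSheaf⟩
  intro z hz
  change J.presheaf.germ W z hz _ = J.presheaf.germ W z hz _
  rw [TopCat.Presheaf.germ_res_apply, Mero.germ_smul, Mero.germ_smul,
    TopCat.Presheaf.germ_res_apply, TopCat.Presheaf.germ_res_apply]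

theorem exists_isGenBy_of_isGen [Mono ι] {U₀ : X.Opens} (s : Γ(J, U₀))
    (hgen : ∀ (y : X) (hy : y ∈ U₀), IsGen J s y hy) (x : X) (hx : x ∈ U₀) :
    ∃ (U : X.Opens) (_ : x ∈ U) (f : (Γ(Mero.kmod X, U))ˣ), IsGenBy J ι U f := by
  have hinj : ∀ V : X.Opens, Function.Injective (ι.app V) := (mono_iff_app_injective ι).1 inferInstance
  obtain ⟨W, hWU, a, b, hb, hxW, hab⟩ := exists_frac (ι.app U₀ s) x hx
  -- `a` is regular on `W`
  have ha : a ∈ Mero.regSub X W := by
    intro z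
    rw [mem_nonZeroDivisors_iff_left]
    intro r hr
    obtain ⟨W₁, hzW₁, r', rfl⟩ := X.presheaf.exists_germ_eq r
    have hzW : z.1 ∈ W ⊓ W₁ := ⟨z.2, hzW₁⟩
    have h1 : X.presheaf.germ (W ⊓ W₁) z.1 hzW
        (X.presheaf.map (homOfLE (inf_le_left : W ⊓ W₁ ≤ W)).op a *
          X.presheaf.map (homOfLE (inf_le_right : W ⊓ W₁ ≤ W₁)).op r') =
        X.presheaf.germ (W ⊓ W₁) z.1 hzW 0 := by
      rw [map_mul, TopCat.Presheaf.germ_res_apply, TopCat.Presheaf.germ_res_apply, map_zero]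
      exact hr
    obtain ⟨W₂, hzW₂, i₁, i₂, e⟩ := X.presheaf.germ_eq z.1 hzW hzW _ _ h1
    have h2W : W₂ ≤ W := i₁.le.trans inf_le_left
    have h21 : W₂ ≤ W₁ := i₁.le.trans inf_le_right
    have h2U : W₂ ≤ U₀ := h2W.trans hWU
    have e1 : ∀ (y : X) (hy : y ∈ W₂), X.presheaf.germ W y (h2W hy) a *
        X.presheaf.germ W₁ y (h21 hy) r' = 0 := by
      intro y hy
      have := congrArg (X.presheaf.germ W₂ y hy) e
      rw [TopCat.Presheaf.germ_res_apply, TopCat.Presheaf.germ_res_apply, map_mul,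
        TopCat.Presheaf.germ_res_apply, TopCat.Presheaf.germ_res_apply, map_zero] at this
      exact this
    have e2 : ι.app W₂ (X.presheaf.map (homOfLE h21).op r' • J.presheaf.map (homOfLE h2U).op s) = 0 := by
      rw [app_smul, app_res]
      apply Subtype.ext
      funext y
      change (Mero.toK X W₂ _).1 y * (ι.app U₀ s).1 ⟨y.1, h2U y.2⟩ = 0
      rw [hab y.1 (h2W y.2), Mero.toK_apply]
      refine LocalizedModule.mk_mul_mk.trans ?_
      rw [TopCat.Presheaf.germ_res_apply, mul_comm, e1 y.1 y.2, LocalizedModule.zero_mk]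
    have e3 := hinj W₂ (e2.trans (map_zero _).symm)
    have e4 := congrArg (J.presheaf.germ W₂ z.1 hzW₂) e3
    rw [Mero.germ_smul, TopCat.Presheaf.germ_res_apply, TopCat.Presheaf.germ_res_apply, map_zero] at e4
    have e5 := (hgen z.1 (hWU z.2)).1 (e4.trans (zero_smul _ _).symm)
    exact e5
  let f : (Γ(Mero.kmod X, W))ˣ := fracUnit a b ha hb
  have hf : (f : Γ(Mero.kmod X, W)) = (Mero.kmod X).presheaf.map (homOfLE hWU).op (ι.app U₀ s) := by
    apply Subtype.ext
    funext y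
    exact (hab y.1 y.2).symm
  have hsV : ∀ (V : X.Opens) (hV : V ≤ W) (r : Γ(X, V)),
      ι.app V (r • J.presheaf.map (homOfLE (hV.trans hWU)).op s) =
        Mero.toK X V r * (Mero.kmod X).presheaf.map (homOfLE hV).op (f : Γ(Mero.kmod X, W)) := by
    intro V hV r
    rw [app_smul, app_res, hf]
    rfl
  refine ⟨W, hxW, f, fun V hV => ?_⟩
  ext t
  constructor
  · rintro ⟨m₀, rfl⟩
    obtain ⟨m, rfl⟩ : ∃ m : Γ(J, V), m = m₀ := ⟨m₀, rfl⟩
    change ι.app V m ∈ _
    -- the quotient `ι m / f` takes values in the local rings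
    let q : Γ(Mero.kmod X, V) := ι.app V m * (Mero.kmod X).presheaf.map (homOfLE hV).op
      ((f⁻¹ : (Γ(Mero.kmod X, W))ˣ) : Γ(Mero.kmod X, W))
    have hq : ∀ (y : X) (hy : y ∈ V), q.1 ⟨y, hy⟩ ∈
        (algebraMap (X.presheaf.stalk y) (Mero.KStalk X y)).range := by
      intro y hy
      obtain ⟨r, hr⟩ := (hgen y (hWU (hV hy))).2 (J.presheaf.germ V y hy m)
      simp only at hr
      obtain ⟨V₁, hyV₁, r', rfl⟩ := X.presheaf.exists_germ_eq r
      have hyV' : y ∈ V ⊓ V₁ := ⟨hy, hyV₁⟩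
      have hVU₀ : V ⊓ V₁ ≤ U₀ := inf_le_left.trans (hV.trans hWU)
      have h1 : J.presheaf.germ (V ⊓ V₁) y hyV'
          (X.presheaf.map (homOfLE (inf_le_right : V ⊓ V₁ ≤ V₁)).op r' •
            J.presheaf.map (homOfLE hVU₀).op s) =
          J.presheaf.germ (V ⊓ V₁) y hyV' (J.presheaf.map (homOfLE (inf_le_left : V ⊓ V₁ ≤ V)).op m) := by
        rw [Mero.germ_smul, TopCat.Presheaf.germ_res_apply, TopCat.Presheaf.germ_res_apply,
          TopCat.Presheaf.germ_res_apply]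
        exact hr
      obtain ⟨V₂, hyV₂, i₁, i₂, e⟩ := J.presheaf.germ_eq y hyV' hyV' _ _ h1
      have h2V : V₂ ≤ V := i₁.le.trans inf_le_left
      have h21 : V₂ ≤ V₁ := i₁.le.trans inf_le_right
      have h2W : V₂ ≤ W := h2V.trans hV
      have e1 : X.presheaf.map (homOfLE h21).op r' • J.presheaf.map (homOfLE (h2W.trans hWU)).op s =
          J.presheaf.map (homOfLE h2V).op m := by
        apply TopCat.Presheaf.section_ext ⟨J.presheaf, J.isSheaf⟩
        intro z hz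
        have e'' := congrArg (J.presheaf.germ V₂ z hz) e
        change J.presheaf.germ V₂ z hz _ = J.presheaf.germ V₂ z hz _
        rw [TopCat.Presheaf.germ_res_apply, Mero.germ_smul, TopCat.Presheaf.germ_res_apply,
          TopCat.Presheaf.germ_res_apply, TopCat.Presheaf.germ_res_apply,
          TopCat.Presheaf.germ_res_apply] at e''
        rw [Mero.germ_smul, TopCat.Presheaf.germ_res_apply, TopCat.Presheaf.germ_res_apply,
          TopCat.Presheaf.germ_res_apply]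
        exact e''
      have e2 := congrArg (ι.app V₂) e1
      rw [hsV V₂ h2W, app_res] at e2
      have e3 := congrArg (fun t : Γ(Mero.kmod X, V₂) => t.1 ⟨y, hyV₂⟩) e2
      simp only at e3
      refine ⟨X.presheaf.germ V₁ y hyV₁ r', ?_⟩
      change _ = (ι.app V m).1 ⟨y, hy⟩ * ((f⁻¹ : (Γ(Mero.kmod X, W))ˣ) : Γ(Mero.kmod X, W)).1 ⟨y, hV hy⟩
      have e4 : (ι.app V m).1 ⟨y, hy⟩ = (Mero.toK X V₂ (X.presheaf.map (homOfLE h21).op r')).1 ⟨y, hyV₂⟩ *
          (f : Γ(Mero.kmod X, W)).1 ⟨y, hV hy⟩ := e3.symm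
      have e5 : (f : Γ(Mero.kmod X, W)).1 ⟨y, hV hy⟩ *
          ((f⁻¹ : (Γ(Mero.kmod X, W))ˣ) : Γ(Mero.kmod X, W)).1 ⟨y, hV hy⟩ = 1 :=
        congrArg (fun t : Γ(Mero.kmod X, W) => t.1 ⟨y, hV hy⟩) f.mul_inv
      rw [e4, mul_assoc, e5, mul_one, toK_apply', TopCat.Presheaf.germ_res_apply]
    obtain ⟨r, hr⟩ := exists_toK_eq q hq
    refine ⟨r, ?_⟩
    rw [hr]
    change _ = ι.app V m * _ * _
    rw [mul_assoc, mul_comm ((Mero.kmod X).presheaf.map (homOfLE hV).op
      ((f⁻¹ : (Γ(Mero.kmod X, W))ˣ) : Γ(Mero.kmod X, W))), res_mul_res_inv, mul_one]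
  · rintro ⟨r, rfl⟩
    exact ⟨r • J.presheaf.map (homOfLE (hV.trans hWU)).op s, hsV V hV r⟩


theorem isInvertible_iff [Mono ι] :
    PicF.IsInvertible J ↔ ∀ x : X, ∃ (U : X.Opens) (_ : x ∈ U) (f : (Γ(Mero.kmod X, U))ˣ),
      IsGenBy J ι U f := by
  rw [isInvertible_iff_exists_isGen]
  constructor
  · intro h x
    obtain ⟨U₀, hxU₀, s, hgen⟩ := h x
    exact exists_isGenBy_of_isGen s hgen x hxU₀
  · intro h x
    obtain ⟨U, hxU, f, hf⟩ := h x
    have hmem : (f : Γ(Mero.kmod X, U)) ∈ Set.range ⇑(ι.val.app (Opposite.op U)) := by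
      rw [hf U le_rfl]
      refine ⟨1, ?_⟩
      rw [map_one, one_mul]
      rfl
    obtain ⟨s₀, hs₀⟩ := hmem
    obtain ⟨s, rfl⟩ : ∃ s : Γ(J, U), s = s₀ := ⟨s₀, rfl⟩
    exact ⟨U, hxU, s, fun y hy => isGen_of_isGenBy hf s hs₀ y hy⟩

end Groth.Agent.Helper23.FracIdeal
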