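import Mathlib

set_option autoImplicit false
open Matrix

namespace Groth.Agent.Helper23.GL2

variable {p : ℕ} [Fact p.Prime]

/-- upper transvection -/
noncomputable def Tu (s : ZMod p) : GL (Fin 2) (ZMod p) :=
  Matrix.GeneralLinearGroup.mkOfDetNeZero !![1, s; 0, 1] (by simp [Matrix.det_fin_two_of])

/-- lower transvection -/
noncomputable def Tl (s : ZMod p) : GL (Fin 2) (ZMod p) :=
  Matrix.GeneralLinearGroup.mkOfDetNeZero !![1, 0; s, 1] (by simp [Matrix.det_fin_two_of])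

@[simp] theorem Tu_val (s : ZMod p) : ((Tu s : GL (Fin 2) (ZMod p)) : Matrix (Fin 2) (Fin 2) (ZMod p)) = !![1, s; 0, 1] := rfl
@[simp] theorem Tl_val (s : ZMod p) : ((Tl s : GL (Fin 2) (ZMod p)) : Matrix (Fin 2) (Fin 2) (ZMod p)) = !![1, 0; s, 1] := rfl

theorem Tu_mul (a b : ZMod p) : Tu a * Tu b = Tu (a + b) := by
  apply Units.ext
  simp only [Units.val_mul, Tu_val]
  ext i j
  fin_cases i <;> fin_cases j <;> simp [Matrix.mul_apply, Fin.sum_univ_two] <;> ring

theorem Tl_mul (a b : ZMod p) : Tl a * Tl b = Tl (a + b) := by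
  apply Units.ext
  simp only [Units.val_mul, Tl_val]
  ext i j
  fin_cases i <;> fin_cases j <;> simp [Matrix.mul_apply, Fin.sum_univ_two] <;> ring

theorem Tu_zero : Tu (0 : ZMod p) = 1 := by
  apply Units.ext
  simp only [Tu_val, Units.val_one]
  ext i j
  fin_cases i <;> fin_cases j <;> simp

theorem Tl_zero : Tl (0 : ZMod p) = 1 := by
  apply Units.ext
  simp only [Tl_val, Units.val_one]
  ext i j
  fin_cases i <;> fin_cases j <;> simp

theorem Tu_pow (a : ZMod p) (k : ℕ) : Tu a ^ k = Tu ((k : ZMod p) * a) := by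
  induction k with
  | zero => simp [Tu_zero]
  | succ k ih => rw [pow_succ, ih, Tu_mul]; congr 1; push_cast; ring

theorem Tl_pow (a : ZMod p) (k : ℕ) : Tl a ^ k = Tl ((k : ZMod p) * a) := by
  induction k with
  | zero => simp [Tl_zero]
  | succ k ih => rw [pow_succ, ih, Tl_mul]; congr 1; push_cast; ring

theorem Tu_mem_of_mem (H : Subgroup (GL (Fin 2) (ZMod p))) {x : ZMod p} (hx : x ≠ 0)
    (h : Tu x ∈ H) (s : ZMod p) : Tu s ∈ H := by
  have : Tu s = Tu x ^ (s / x).val := by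
    rw [Tu_pow, ZMod.natCast_zmod_val, div_mul_cancel₀ _ hx]
  rw [this]
  exact H.pow_mem h _

theorem Tl_mem_of_mem (H : Subgroup (GL (Fin 2) (ZMod p))) {x : ZMod p} (hx : x ≠ 0)
    (h : Tl x ∈ H) (s : ZMod p) : Tl s ∈ H := by
  have : Tl s = Tl x ^ (s / x).val := by
    rw [Tl_pow, ZMod.natCast_zmod_val, div_mul_cancel₀ _ hx]
  rw [this]
  exact H.pow_mem h _

/-- decomposition when the lower left entry is nonzero -/
theorem decomp_of_ne (g : GL (Fin 2) (ZMod p)) (hdet : (g : Matrix (Fin 2) (Fin 2) (ZMod p)).det = 1)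
    (hc : (g : Matrix (Fin 2) (Fin 2) (ZMod p)) 1 0 ≠ 0) :
    g = Tu (((g : Matrix (Fin 2) (Fin 2) (ZMod p)) 0 0 - 1) / (g : Matrix (Fin 2) (Fin 2) (ZMod p)) 1 0) *
      Tl ((g : Matrix (Fin 2) (Fin 2) (ZMod p)) 1 0) *
      Tu (((g : Matrix (Fin 2) (Fin 2) (ZMod p)) 1 1 - 1) / (g : Matrix (Fin 2) (Fin 2) (ZMod p)) 1 0) := by
  apply Units.ext
  simp only [Units.val_mul, Tu_val, Tl_val]
  set A := (g : Matrix (Fin 2) (Fin 2) (ZMod p)) with hA
  rw [Matrix.det_fin_two] at hdet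
  ext i j
  fin_cases i <;> fin_cases j <;> simp [Matrix.mul_apply, Fin.sum_univ_two]
  · field_simp
    ring
  · field_simp
    linear_combination (-1 : ZMod p) * hdet
  · field_simp
    ring

theorem mem_of_det_eq_one (H : Subgroup (GL (Fin 2) (ZMod p)))
    (hu : ∀ s, Tu s ∈ H) (hl : ∀ s, Tl s ∈ H) (g : GL (Fin 2) (ZMod p))
    (hdet : (g : Matrix (Fin 2) (Fin 2) (ZMod p)).det = 1) : g ∈ H := by
  by_cases hc : (g : Matrix (Fin 2) (Fin 2) (ZMod p)) 1 0 = 0
  · -- multiply by Tl 1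
    have hdet' : ((Tl 1 * g : GL (Fin 2) (ZMod p)) : Matrix (Fin 2) (Fin 2) (ZMod p)).det = 1 := by
      rw [Units.val_mul, Matrix.det_mul, hdet, Tl_val, Matrix.det_fin_two_of]
      simp
    have ha : (g : Matrix (Fin 2) (Fin 2) (ZMod p)) 0 0 ≠ 0 := by
      intro h0
      rw [Matrix.det_fin_two, h0, hc] at hdet
      simp at hdet
    have hc' : ((Tl 1 * g : GL (Fin 2) (ZMod p)) : Matrix (Fin 2) (Fin 2) (ZMod p)) 1 0 ≠ 0 := by
      rw [Units.val_mul, Tl_val]
      simp [Matrix.mul_apply, Fin.sum_univ_two, hc, ha]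
    have h1 := decomp_of_ne (Tl 1 * g) hdet' hc'
    have h2 : Tl 1 * g ∈ H := by
      rw [h1]
      exact H.mul_mem (H.mul_mem (hu _) (hl _)) (hu _)
    have : g = (Tl 1)⁻¹ * (Tl 1 * g) := by group
    rw [this]
    exact H.mul_mem (H.inv_mem (hl 1)) h2
  · rw [decomp_of_ne g hdet hc]
    exact H.mul_mem (H.mul_mem (hu _) (hl _)) (hu _)


theorem sq_eq (N : Matrix (Fin 2) (Fin 2) (ZMod p)) : N * N = N.trace • N - N.det • (1 : Matrix (Fin 2) (Fin 2) (ZMod p)) := by
  ext i j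
  fin_cases i <;> fin_cases j <;>
    simp [Matrix.mul_apply, Fin.sum_univ_two, Matrix.det_fin_two, Matrix.trace_fin_two] <;> ring

theorem nilp_sq_zero (N : Matrix (Fin 2) (Fin 2) (ZMod p)) (k : ℕ) (hN : N ^ k = 0) : N * N = 0 := by
  have hdet : N.det = 0 := by
    have := congrArg Matrix.det hN
    rw [Matrix.det_pow, Matrix.det_zero] at this
    exact pow_eq_zero_iff (n := k) (by
      rintro rfl
      simp at hN) |>.mp this
  have hsq : N * N = N.trace • N := by
    rw [sq_eq, hdet, zero_smul, sub_zero]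
  by_cases hN0 : N = 0
  · rw [hN0, mul_zero]
  have hpow : ∀ j : ℕ, N ^ (j + 1) = N.trace ^ j • N := by
    intro j
    induction j with
    | zero => simp
    | succ j ih => rw [pow_succ, ih, smul_mul_assoc, hsq, smul_smul, pow_succ]
  have hk : k ≠ 0 := by
    rintro rfl
    simp at hN
  obtain ⟨j, rfl⟩ := Nat.exists_eq_succ_of_ne_zero hk
  rw [Nat.succ_eq_add_one, hpow j] at hN
  rcases smul_eq_zero.mp hN with h | h
  · have ht : N.trace = 0 := by
      by_contra hne
      exact pow_ne_zero j hne h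
    rw [hsq, ht, zero_smul]
  · exact absurd h hN0

/-- an element of order `p` is unipotent -/
theorem unipotent_of_pow (u : GL (Fin 2) (ZMod p)) (hu : u ^ p = 1) :
    ((u : Matrix (Fin 2) (Fin 2) (ZMod p)) - 1) * ((u : Matrix (Fin 2) (Fin 2) (ZMod p)) - 1) = 0 := by
  apply nilp_sq_zero _ p
  have hcomm : Commute (u : Matrix (Fin 2) (Fin 2) (ZMod p)) 1 := Commute.one_right _
  have : CharP (Matrix (Fin 2) (Fin 2) (ZMod p)) p := inferInstance
  rw [sub_pow_char_of_commute p hcomm, one_pow]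
  have := congrArg (fun g : GL (Fin 2) (ZMod p) => (g : Matrix (Fin 2) (Fin 2) (ZMod p))) hu
  simp only [Units.val_pow_eq_pow_val, Units.val_one] at this
  rw [this, sub_self]

/-- a nonzero square-zero matrix kills a nonzero vector in its image -/
theorem exists_fixed (N : Matrix (Fin 2) (Fin 2) (ZMod p)) (hN : N ≠ 0) (hsq : N * N = 0) :
    ∃ v : Fin 2 → ZMod p, v ≠ 0 ∧ N.mulVec v = 0 := by
  have : ∃ w : Fin 2 → ZMod p, N.mulVec w ≠ 0 := by
    by_contra hcon
    push Not at hcon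
    apply hN
    ext i j
    have := congrFun (hcon (Pi.single j 1)) i
    simpa using this
  obtain ⟨w, hw⟩ := this
  refine ⟨N.mulVec w, hw, ?_⟩
  rw [Matrix.mulVec_mulVec, hsq, Matrix.zero_mulVec]


/-- Cartan hypothesis -/
structure IsCartan (C : Subgroup (GL (Fin 2) (ZMod p))) (E : Subring (Matrix (Fin 2) (Fin 2) (ZMod p))) : Prop where
  isField : IsField E
  card : Nat.card E = p ^ 2
  eq : (E : Set (Matrix (Fin 2) (Fin 2) (ZMod p))) =
    insert 0 ((fun g : GL (Fin 2) (ZMod p) => (g : Matrix (Fin 2) (Fin 2) (ZMod p))) ''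
      (C : Set (GL (Fin 2) (ZMod p))))

theorem IsCartan.transitive {C : Subgroup (GL (Fin 2) (ZMod p))}
    {E : Subring (Matrix (Fin 2) (Fin 2) (ZMod p))} (h : IsCartan C E)
    (v w : Fin 2 → ZMod p) (hv : v ≠ 0) (hw : w ≠ 0) :
    ∃ c ∈ C, (c : Matrix (Fin 2) (Fin 2) (ZMod p)).mulVec v = w := by
  classical
  let φ : E → (Fin 2 → ZMod p) := fun e => (e : Matrix (Fin 2) (Fin 2) (ZMod p)).mulVec v
  have hinj : Function.Injective φ := by
    intro e₁ e₂ he
    by_contra hne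
    have hd : e₁ - e₂ ≠ 0 := sub_ne_zero.mpr hne
    obtain ⟨d', hd'⟩ := h.isField.mul_inv_cancel hd
    have h0 : ((e₁ - e₂ : E) : Matrix (Fin 2) (Fin 2) (ZMod p)).mulVec v = 0 := by
      rw [AddSubgroupClass.coe_sub, Matrix.sub_mulVec]
      exact sub_eq_zero.mpr he
    have h1 : ((d' * (e₁ - e₂) : E) : Matrix (Fin 2) (Fin 2) (ZMod p)).mulVec v = v := by
      have hd2 : d' * (e₁ - e₂) = 1 := by rw [h.isField.mul_comm, hd']
      rw [hd2]
      simp
    rw [Subring.coe_mul, ← Matrix.mulVec_mulVec, h0, Matrix.mulVec_zero] at h1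
    exact hv h1.symm
  have hfin : Finite E := Nat.finite_of_card_ne_zero (by rw [h.card]; exact pow_ne_zero _ (Fact.out : p.Prime).ne_zero)
  have hcard : Nat.card (Fin 2 → ZMod p) = p ^ 2 := by
    rw [Nat.card_eq_fintype_card, Fintype.card_fun, ZMod.card, Fintype.card_fin]
  have hbij : Function.Bijective φ := by
    rw [Nat.bijective_iff_injective_and_card]
    exact ⟨hinj, by rw [h.card, hcard]⟩
  obtain ⟨e, he⟩ := hbij.2 w
  have he0 : (e : Matrix (Fin 2) (Fin 2) (ZMod p)) ≠ 0 := by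
    intro h0
    apply hw
    rw [← he]
    simp [φ, h0]
  have hmem : (e : Matrix (Fin 2) (Fin 2) (ZMod p)) ∈ (E : Set (Matrix (Fin 2) (Fin 2) (ZMod p))) := e.2
  rw [h.eq] at hmem
  rcases hmem with h0 | ⟨c, hc, hce⟩
  · exact absurd h0 he0
  · refine ⟨c, hc, ?_⟩
    simp only at hce
    rw [hce]
    exact he


/-- a unipotent matrix fixing `e₀` is an upper transvection -/
theorem eq_Tu_of_fix (u : GL (Fin 2) (ZMod p))
    (hsq : ((u : Matrix (Fin 2) (Fin 2) (ZMod p)) - 1) * ((u : Matrix (Fin 2) (Fin 2) (ZMod p)) - 1) = 0)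
    (hfix : (u : Matrix (Fin 2) (Fin 2) (ZMod p)).mulVec (Pi.single 0 1) = Pi.single 0 1) :
    u = Tu ((u : Matrix (Fin 2) (Fin 2) (ZMod p)) 0 1) := by
  set M := (u : Matrix (Fin 2) (Fin 2) (ZMod p)) with hM
  have h00 : M 0 0 = 1 := by
    have := congrFun hfix 0
    simpa [Matrix.mulVec, dotProduct, Fin.sum_univ_two] using this
  have h10 : M 1 0 = 0 := by
    have := congrFun hfix 1
    simpa [Matrix.mulVec, dotProduct, Fin.sum_univ_two] using this
  have h11 : M 1 1 = 1 := by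
    have := congrFun (congrFun hsq 1) 1
    simp [Matrix.mul_apply, Fin.sum_univ_two, h10] at this
    exact sub_eq_zero.mp this
  apply Units.ext
  rw [Tu_val, ← hM]
  ext i j
  fin_cases i <;> fin_cases j <;> simp [h00, h10, h11]

/-- a unipotent matrix fixing `e₁` is a lower transvection -/
theorem eq_Tl_of_fix (u : GL (Fin 2) (ZMod p))
    (hsq : ((u : Matrix (Fin 2) (Fin 2) (ZMod p)) - 1) * ((u : Matrix (Fin 2) (Fin 2) (ZMod p)) - 1) = 0)
    (hfix : (u : Matrix (Fin 2) (Fin 2) (ZMod p)).mulVec (Pi.single 1 1) = Pi.single 1 1) :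
    u = Tl ((u : Matrix (Fin 2) (Fin 2) (ZMod p)) 1 0) := by
  set M := (u : Matrix (Fin 2) (Fin 2) (ZMod p)) with hM
  have h11 : M 1 1 = 1 := by
    have := congrFun hfix 1
    simpa [Matrix.mulVec, dotProduct, Fin.sum_univ_two] using this
  have h01 : M 0 1 = 0 := by
    have := congrFun hfix 0
    simpa [Matrix.mulVec, dotProduct, Fin.sum_univ_two] using this
  have h00 : M 0 0 = 1 := by
    have := congrFun (congrFun hsq 0) 0
    simp [Matrix.mul_apply, Fin.sum_univ_two, h01] at this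
    exact sub_eq_zero.mp this
  apply Units.ext
  rw [Tl_val, ← hM]
  ext i j
  fin_cases i <;> fin_cases j <;> simp [h00, h01, h11]

/-- Given a Cartan `C ≤ H` and an element of order `p` in `H`, `H` contains all transvections. -/
theorem transvections_mem {C H : Subgroup (GL (Fin 2) (ZMod p))}
    {E : Subring (Matrix (Fin 2) (Fin 2) (ZMod p))} (h : IsCartan C E) (hCH : C ≤ H)
    (u : GL (Fin 2) (ZMod p)) (huH : u ∈ H) (hu1 : u ≠ 1) (hup : u ^ p = 1) :
    (∀ s, Tu s ∈ H) ∧ (∀ s, Tl s ∈ H) := by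
  have hsq := unipotent_of_pow u hup
  have hN : (u : Matrix (Fin 2) (Fin 2) (ZMod p)) - 1 ≠ 0 := by
    intro h0
    apply hu1
    apply Units.ext
    rw [Units.val_one]
    exact sub_eq_zero.mp h0
  obtain ⟨v, hv, hNv⟩ := exists_fixed _ hN hsq
  have huv : (u : Matrix (Fin 2) (Fin 2) (ZMod p)).mulVec v = v := by
    rw [Matrix.sub_mulVec, Matrix.one_mulVec] at hNv
    exact sub_eq_zero.mp hNv
  -- general conjugation claim
  have key : ∀ w : Fin 2 → ZMod p, w ≠ 0 → ∃ u' ∈ H, u' ≠ 1 ∧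
      ((u' : Matrix (Fin 2) (Fin 2) (ZMod p)) - 1) * ((u' : Matrix (Fin 2) (Fin 2) (ZMod p)) - 1) = 0 ∧
      (u' : Matrix (Fin 2) (Fin 2) (ZMod p)).mulVec w = w := by
    intro w hw
    obtain ⟨c, hcC, hcv⟩ := h.transitive v w hv hw
    refine ⟨c * u * c⁻¹, H.mul_mem (H.mul_mem (hCH hcC) huH) (H.inv_mem (hCH hcC)), ?_, ?_, ?_⟩
    · intro h1
      apply hu1
      have : u = c⁻¹ * (c * u * c⁻¹) * c := by group
      rw [this, h1]; group
    · apply unipotent_of_pow
      rw [conj_pow, hup]; group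
    · have hcinv : (c⁻¹ : GL (Fin 2) (ZMod p)).val.mulVec w = v := by
        rw [← hcv, Matrix.mulVec_mulVec, ← Units.val_mul, inv_mul_cancel, Units.val_one, Matrix.one_mulVec]
      rw [Units.val_mul, Units.val_mul, ← Matrix.mulVec_mulVec, ← Matrix.mulVec_mulVec, hcinv, huv, hcv]
  constructor
  · obtain ⟨u', hu'H, hu'1, hu'sq, hu'fix⟩ := key (Pi.single 0 1) (by
      intro h0; have := congrFun h0 0; simp at this)
    have heq := eq_Tu_of_fix u' hu'sq hu'fix
    have hx : (u' : Matrix (Fin 2) (Fin 2) (ZMod p)) 0 1 ≠ 0 := by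
      intro h0
      apply hu'1
      rw [heq, h0, Tu_zero]
    rw [heq] at hu'H
    exact Tu_mem_of_mem H hx hu'H
  · obtain ⟨u', hu'H, hu'1, hu'sq, hu'fix⟩ := key (Pi.single 1 1) (by
      intro h0; have := congrFun h0 1; simp at this)
    have heq := eq_Tl_of_fix u' hu'sq hu'fix
    have hx : (u' : Matrix (Fin 2) (Fin 2) (ZMod p)) 1 0 ≠ 0 := by
      intro h0
      apply hu'1
      rw [heq, h0, Tl_zero]
    rw [heq] at hu'H
    exact Tl_mem_of_mem H hx hu'H



theorem IsCartan.no_zero_div {C : Subgroup (GL (Fin 2) (ZMod p))}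
    {E : Subring (Matrix (Fin 2) (Fin 2) (ZMod p))} (h : IsCartan C E)
    {x z : Matrix (Fin 2) (Fin 2) (ZMod p)} (hxE : x ∈ E) (hx : x ≠ 0) (hxz : x * z = 0) : z = 0 := by
  have hx' : (⟨x, hxE⟩ : E) ≠ 0 := by
    intro h0; apply hx; exact congrArg Subtype.val h0
  obtain ⟨y, hy⟩ := h.isField.mul_inv_cancel hx'
  have hy' : (y : Matrix (Fin 2) (Fin 2) (ZMod p)) * x = 1 := by
    have : y * ⟨x, hxE⟩ = 1 := by rw [h.isField.mul_comm, hy]
    exact congrArg Subtype.val this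
  calc z = 1 * z := (one_mul z).symm
    _ = (y * x) * z := by rw [hy']
    _ = 0 := by rw [mul_assoc, hxz, mul_zero]

theorem IsCartan.comm {C : Subgroup (GL (Fin 2) (ZMod p))}
    {E : Subring (Matrix (Fin 2) (Fin 2) (ZMod p))} (h : IsCartan C E)
    {x y : Matrix (Fin 2) (Fin 2) (ZMod p)} (hx : x ∈ E) (hy : y ∈ E) : x * y = y * x := by
  have := h.isField.mul_comm ⟨x, hx⟩ ⟨y, hy⟩
  exact congrArg Subtype.val this

theorem IsCartan.pair {C : Subgroup (GL (Fin 2) (ZMod p))}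
    {E : Subring (Matrix (Fin 2) (Fin 2) (ZMod p))} (h : IsCartan C E)
    {e₁ e₂ : Matrix (Fin 2) (Fin 2) (ZMod p)} (h1 : e₁ ∈ E) (h2 : e₂ ∈ E)
    (d1 : e₁.det = 1) (d2 : e₂.det = 1) (t12 : e₁.trace = e₂.trace) (n12 : e₁ ≠ e₂) :
    e₂ = e₁.trace • (1 : Matrix (Fin 2) (Fin 2) (ZMod p)) - e₁ := by
  have hz : (e₁ - e₂) * (e₁ + e₂ - e₁.trace • (1 : Matrix (Fin 2) (Fin 2) (ZMod p))) = 0 := by
    have s1 := sq_eq e₁
    have s2 := sq_eq e₂
    rw [d1, one_smul] at s1
    rw [d2, one_smul, ← t12] at s2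
    have hc := h.comm h1 h2
    calc (e₁ - e₂) * (e₁ + e₂ - e₁.trace • (1 : Matrix (Fin 2) (Fin 2) (ZMod p)))
        = e₁ * e₁ - e₂ * e₂ + (e₁ * e₂ - e₂ * e₁) - e₁.trace • e₁ + e₁.trace • e₂ := by
          simp only [sub_mul, mul_sub, mul_add, Matrix.mul_smul, mul_one]
          abel
      _ = 0 := by
          rw [s1, s2, hc]
          abel
  have := h.no_zero_div (E.sub_mem h1 h2) (sub_ne_zero.mpr n12) hz
  rw [sub_eq_zero] at this
  rw [← this]; abel

theorem IsCartan.card_C {C : Subgroup (GL (Fin 2) (ZMod p))}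
    {E : Subring (Matrix (Fin 2) (Fin 2) (ZMod p))} (h : IsCartan C E) : Nat.card C + 1 = p ^ 2 := by
  classical
  have hinj : Function.Injective (fun g : GL (Fin 2) (ZMod p) => (g : Matrix (Fin 2) (Fin 2) (ZMod p))) :=
    Units.val_injective
  have h0 : (0 : Matrix (Fin 2) (Fin 2) (ZMod p)) ∉
      ((fun g : GL (Fin 2) (ZMod p) => (g : Matrix (Fin 2) (Fin 2) (ZMod p))) '' (C : Set (GL (Fin 2) (ZMod p)))) := by
    rintro ⟨g, -, hg⟩
    exact g.ne_zero hg
  have e1 : Nat.card E = (E : Set (Matrix (Fin 2) (Fin 2) (ZMod p))).ncard := by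
    rw [← Nat.card_coe_set_eq]; rfl
  have e2 : Nat.card C = (C : Set (GL (Fin 2) (ZMod p))).ncard := by
    rw [← Nat.card_coe_set_eq]; rfl
  rw [← h.card, e1, e2, h.eq,
    Set.ncard_insert_of_notMem h0 (Set.toFinite _), Set.ncard_image_of_injective _ hinj]

/-- `det` restricted to a subgroup -/
noncomputable def detC (C : Subgroup (GL (Fin 2) (ZMod p))) : C →* (ZMod p)ˣ :=
  (Matrix.GeneralLinearGroup.det (n := Fin 2) (R := ZMod p)).comp C.subtype

/-- the kernel of `det` on a nonsplit Cartan has at most `2p` elements -/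
theorem IsCartan.card_ker_le {C : Subgroup (GL (Fin 2) (ZMod p))}
    {E : Subring (Matrix (Fin 2) (Fin 2) (ZMod p))} (h : IsCartan C E) :
    Nat.card (detC C).ker ≤ 2 * p := by
  classical
  letI : Fintype (detC C).ker := Fintype.ofFinite _
  let f : (detC C).ker → ZMod p := fun k => ((k : C) : GL (Fin 2) (ZMod p)).val.trace
  have hE : ∀ k : (detC C).ker, (((k : C) : GL (Fin 2) (ZMod p)) : Matrix (Fin 2) (Fin 2) (ZMod p)) ∈ E := by
    intro k
    have : (((k : C) : GL (Fin 2) (ZMod p)) : Matrix (Fin 2) (Fin 2) (ZMod p)) ∈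
        (E : Set (Matrix (Fin 2) (Fin 2) (ZMod p))) := by
      rw [h.eq]
      exact Or.inr ⟨_, (k : C).2, rfl⟩
    exact this
  have hdet : ∀ k : (detC C).ker, (((k : C) : GL (Fin 2) (ZMod p)) : Matrix (Fin 2) (Fin 2) (ZMod p)).det = 1 := by
    intro k
    have := k.2
    rw [MonoidHom.mem_ker] at this
    have h2 := congrArg Units.val this
    simpa [detC] using h2
  have hval : ∀ k₁ k₂ : (detC C).ker, (((k₁ : C) : GL (Fin 2) (ZMod p)) : Matrix (Fin 2) (Fin 2) (ZMod p)) =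
      (((k₂ : C) : GL (Fin 2) (ZMod p)) : Matrix (Fin 2) (Fin 2) (ZMod p)) → k₁ = k₂ := by
    intro k₁ k₂ h12
    exact Subtype.ext (Subtype.ext (Units.ext h12))
  have hfib : ∀ b ∈ (Finset.univ : Finset (detC C).ker).image f,
      (Finset.univ.filter fun a => f a = b).card ≤ 2 := by
    intro b _
    by_contra hcon
    push Not at hcon
    rw [Finset.two_lt_card_iff] at hcon
    obtain ⟨k₁, k₂, k₃, m1, m2, m3, n12, n13, n23⟩ := hcon
    simp only [Finset.mem_filter, Finset.mem_univ, true_and] at m1 m2 m3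
    have p12 := h.pair (hE k₁) (hE k₂) (hdet k₁) (hdet k₂) (m1.trans m2.symm)
      (fun h12 => n12 (hval _ _ h12))
    have p13 := h.pair (hE k₁) (hE k₃) (hdet k₁) (hdet k₃) (m1.trans m3.symm)
      (fun h13 => n13 (hval _ _ h13))
    exact n23 (hval _ _ (p12.trans p13.symm))
  have h1 := Finset.card_le_mul_card_image (f := f) (Finset.univ : Finset (detC C).ker) 2 hfib
  have h2 : ((Finset.univ : Finset (detC C).ker).image f).card ≤ p := by
    calc ((Finset.univ : Finset (detC C).ker).image f).card ≤ (Finset.univ : Finset (ZMod p)).card :=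
          Finset.card_le_card (Finset.subset_univ _)
      _ = p := by rw [Finset.card_univ, ZMod.card]
  rw [Nat.card_eq_fintype_card, ← Finset.card_univ]
  calc (Finset.univ : Finset (detC C).ker).card ≤ 2 * ((Finset.univ : Finset (detC C).ker).image f).card := h1
    _ ≤ 2 * p := Nat.mul_le_mul_left 2 h2

/-- `det` is surjective on a nonsplit Cartan -/
theorem IsCartan.det_surj {C : Subgroup (GL (Fin 2) (ZMod p))}
    {E : Subring (Matrix (Fin 2) (Fin 2) (ZMod p))} (h : IsCartan C E) (d : (ZMod p)ˣ) :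
    ∃ c ∈ C, Matrix.GeneralLinearGroup.det c = d := by
  classical
  let φ := detC C
  have hp := (Fact.out : p.Prime)
  have hcard : Nat.card φ.ker * Nat.card φ.range = Nat.card C := by
    rw [← Subgroup.index_ker, Subgroup.card_mul_index]
  have hker : Nat.card φ.ker ≤ 2 * p := h.card_ker_le
  have hC := h.card_C
  have hunits : Nat.card (ZMod p)ˣ = p - 1 := by
    rw [Nat.card_eq_fintype_card, ZMod.card_units]
  have hdvd : Nat.card φ.range ∣ p - 1 := by
    rw [← hunits]; exact Subgroup.card_subgroup_dvd_card _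
  have htop : φ.range = ⊤ := by
    by_contra hne
    have hne' : Nat.card φ.range ≠ p - 1 := by
      intro heq
      apply hne
      apply Subgroup.eq_top_of_card_eq
      rw [heq, hunits]
    obtain ⟨k, hk⟩ := hdvd
    have hp2 : 2 ≤ p := hp.two_le
    have hk0 : k ≠ 0 := by
      rintro rfl
      omega
    have hk1 : k ≠ 1 := by
      rintro rfl
      apply hne'; omega
    have hk2 : 2 ≤ k := by omega
    -- |C| * k = |ker| * (p-1) ≤ 2p (p-1)
    have e1 : Nat.card C * k = Nat.card φ.ker * (p - 1) := by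
      rw [← hcard, hk]; ring
    have e2 : Nat.card C * 2 ≤ 2 * p * (p - 1) := by
      calc Nat.card C * 2 ≤ Nat.card C * k := Nat.mul_le_mul_left _ hk2
        _ = Nat.card φ.ker * (p - 1) := e1
        _ ≤ 2 * p * (p - 1) := Nat.mul_le_mul_right _ hker
    have e3 : Nat.card C = p ^ 2 - 1 := by omega
    obtain ⟨q, rfl⟩ : ∃ q, p = q + 2 := ⟨p - 2, by omega⟩
    rw [e3] at e2
    have : (q + 2) ^ 2 - 1 = q ^ 2 + 4 * q + 3 := by
      have : (q + 2) ^ 2 = q ^ 2 + 4 * q + 4 := by ring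
      omega
    rw [this] at e2
    have : 2 * (q + 2) * (q + 2 - 1) = 2 * q ^ 2 + 6 * q + 4 := by
      have : q + 2 - 1 = q + 1 := by omega
      rw [this]; ring
    rw [this] at e2
    nlinarith
  have hd : d ∈ φ.range := by rw [htop]; trivial
  obtain ⟨c, hc⟩ := hd
  exact ⟨c, c.2, hc⟩



theorem eq_top_of_cartan {C H : Subgroup (GL (Fin 2) (ZMod p))}
    {E : Subring (Matrix (Fin 2) (Fin 2) (ZMod p))} (h : IsCartan C E) (hCH : C ≤ H)
    (hp : p ∣ Nat.card H) : H = ⊤ := by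
  obtain ⟨x, hx⟩ := exists_prime_orderOf_dvd_card' (G := H) p hp
  have hprime := (Fact.out : p.Prime)
  have hx1 : (x : GL (Fin 2) (ZMod p)) ≠ 1 := by
    intro h1
    have : x = 1 := Subtype.ext h1
    rw [this, orderOf_one] at hx
    exact hprime.one_lt.ne hx
  have hxp : (x : GL (Fin 2) (ZMod p)) ^ p = 1 := by
    have := pow_orderOf_eq_one x
    rw [hx] at this
    have h2 := congrArg Subtype.val this
    simpa using h2
  obtain ⟨hu, hl⟩ := transvections_mem h hCH x x.2 hx1 hxp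
  rw [eq_top_iff]
  intro g _
  obtain ⟨c, hcC, hcdet⟩ := h.det_surj (Matrix.GeneralLinearGroup.det g)
  have hdet1 : ((g * c⁻¹ : GL (Fin 2) (ZMod p)) : Matrix (Fin 2) (Fin 2) (ZMod p)).det = 1 := by
    have : Matrix.GeneralLinearGroup.det (g * c⁻¹) = 1 := by
      rw [map_mul, map_inv, hcdet, mul_inv_cancel]
    have h2 := congrArg Units.val this
    simpa using h2
  have hmem := mem_of_det_eq_one H hu hl (g * c⁻¹) hdet1
  have : g = (g * c⁻¹) * c := by group
  rw [this]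
  exact H.mul_mem hmem (hCH hcC)

/-- units of a subring-field of matrices -/
def unitsOf (E : Subring (Matrix (Fin 2) (Fin 2) (ZMod p))) : Subgroup (GL (Fin 2) (ZMod p)) where
  carrier := {g | (g : Matrix (Fin 2) (Fin 2) (ZMod p)) ∈ E ∧
    ((g⁻¹ : GL (Fin 2) (ZMod p)) : Matrix (Fin 2) (Fin 2) (ZMod p)) ∈ E}
  mul_mem' := by
    rintro a b ⟨ha, ha'⟩ ⟨hb, hb'⟩
    refine ⟨?_, ?_⟩
    · rw [Units.val_mul]; exact E.mul_mem ha hb
    · rw [_root_.mul_inv_rev, Units.val_mul]; exact E.mul_mem hb' ha'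
  one_mem' := by
    refine ⟨?_, ?_⟩
    · rw [Units.val_one]; exact E.one_mem
    · rw [inv_one, Units.val_one]; exact E.one_mem
  inv_mem' := by
    rintro a ⟨ha, ha'⟩
    exact ⟨ha', by rw [inv_inv]; exact ha⟩

theorem isCartan_unitsOf (E : Subring (Matrix (Fin 2) (Fin 2) (ZMod p))) (hf : IsField E)
    (hc : Nat.card E = p ^ 2) : IsCartan (unitsOf E) E := by
  refine ⟨hf, hc, ?_⟩
  ext e
  constructor
  · intro he
    by_cases h0 : e = 0
    · exact Or.inl h0
    · right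
      have he' : (⟨e, he⟩ : E) ≠ 0 := by
        intro h1; exact h0 (congrArg Subtype.val h1)
      obtain ⟨y, hy⟩ := hf.mul_inv_cancel he'
      have hy1 : e * (y : Matrix (Fin 2) (Fin 2) (ZMod p)) = 1 := congrArg Subtype.val hy
      have hy2 : (y : Matrix (Fin 2) (Fin 2) (ZMod p)) * e = 1 := by
        have : y * ⟨e, he⟩ = 1 := by rw [hf.mul_comm, hy]
        exact congrArg Subtype.val this
      refine ⟨⟨e, y, hy1, hy2⟩, ⟨he, y.2⟩, rfl⟩
  · rintro (h0 | ⟨g, hg, rfl⟩)
    · rw [h0]; exact E.zero_mem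
    · exact hg.1

theorem exists_cartan : ∃ (C : Subgroup (GL (Fin 2) (ZMod p)))
    (E : Subring (Matrix (Fin 2) (Fin 2) (ZMod p))), IsCartan C E := by
  classical
  have hfr : Module.finrank (ZMod p) (GaloisField p 2) = 2 := GaloisField.finrank p (by norm_num)
  let b : Module.Basis (Fin 2) (ZMod p) (GaloisField p 2) := Module.finBasisOfFinrankEq _ _ hfr
  let ψ : GaloisField p 2 →ₐ[ZMod p] Matrix (Fin 2) (Fin 2) (ZMod p) := Algebra.leftMulMatrix b
  have hinj : Function.Injective ψ := Algebra.leftMulMatrix_injective b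
  let E : Subring (Matrix (Fin 2) (Fin 2) (ZMod p)) := ψ.range.toSubring
  let e : GaloisField p 2 ≃+* E := (AlgEquiv.ofInjective ψ hinj).toRingEquiv
  have hf : IsField E := e.symm.toMulEquiv.isField (Field.toIsField _)
  have hc : Nat.card E = p ^ 2 := by
    rw [← Nat.card_congr e.toEquiv, GaloisField.card p 2 (by norm_num)]
  exact ⟨unitsOf E, E, isCartan_unitsOf E hf hc⟩

theorem p_dvd_card_top : p ∣ Nat.card (⊤ : Subgroup (GL (Fin 2) (ZMod p))) := by
  have hprime := (Fact.out : p.Prime)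
  have h1 : Tu (1 : ZMod p) ^ p = 1 := by
    rw [Tu_pow, ZMod.natCast_self, zero_mul, Tu_zero]
  have h2 : Tu (1 : ZMod p) ≠ 1 := by
    intro h
    have := congrArg (fun g : GL (Fin 2) (ZMod p) => (g : Matrix (Fin 2) (Fin 2) (ZMod p)) 0 1) h
    simp at this
  have ho : orderOf (Tu (1 : ZMod p)) = p := orderOf_eq_prime h1 h2
  rw [Subgroup.card_top]
  have := orderOf_dvd_natCard (Tu (1 : ZMod p))
  rwa [ho] at this

theorem main (H : Subgroup (GL (Fin 2) (ZMod p))) :
    H = ⊤ ↔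
      (∃ (C : Subgroup (GL (Fin 2) (ZMod p))) (E : Subring (Matrix (Fin 2) (Fin 2) (ZMod p))),
          C ≤ H ∧ IsField E ∧ Nat.card E = p ^ 2 ∧
            (E : Set (Matrix (Fin 2) (Fin 2) (ZMod p))) =
              insert 0 ((fun g : GL (Fin 2) (ZMod p) => (g : Matrix (Fin 2) (Fin 2) (ZMod p))) ''
                (C : Set (GL (Fin 2) (ZMod p))))) ∧
        p ∣ Nat.card H := by
  constructor
  · rintro rfl
    obtain ⟨C, E, h⟩ := exists_cartan (p := p)
    exact ⟨⟨C, E, le_top, h.isField, h.card, h.eq⟩, p_dvd_card_top⟩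
  · rintro ⟨⟨C, E, hCH, hf, hc, he⟩, hp⟩
    exact eq_top_of_cartan ⟨hf, hc, he⟩ hCH hp


end Groth.Agent.Helper23.GL2
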