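import Mathlib

set_option autoImplicit false
universe u
open Polynomial

namespace Groth.Agent.Helper23.GaCore

theorem core (k : Type u) [Field k]
    (op : ∀ (R : Type u) [CommRing R] [Algebra k R], R → R → R)
    (e : k) (inv : ∀ (R : Type u) [CommRing R] [Algebra k R], R → R)
    (nat : ∀ (R R' : Type u) [CommRing R] [CommRing R'] [Algebra k R] [Algebra k R']
      (φ : R →ₐ[k] R') (a b : R), φ (op R a b) = op R' (φ a) (φ b))
    (assoc : ∀ (R : Type u) [CommRing R] [Algebra k R] (a b c : R),
      op R (op R a b) c = op R a (op R b c))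
    (op_one : ∀ (R : Type u) [CommRing R] [Algebra k R] (a : R), op R a (algebraMap k R e) = a)
    (one_op : ∀ (R : Type u) [CommRing R] [Algebra k R] (a : R), op R (algebraMap k R e) a = a)
    (op_inv : ∀ (R : Type u) [CommRing R] [Algebra k R] (a : R),
      op R a (inv R a) = algebraMap k R e)
    (R : Type u) [CommRing R] [Algebra k R] (a b : R) :
    op R a b = a + b - algebraMap k R e := by
  -- the universal pair
  let F : k[X][X] := op k[X][X] X (C X)
  -- evaluation homs
  have hφ : ∀ (R : Type u) [CommRing R] [Algebra k R] (a b : R),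
      op R a b = Polynomial.aevalTower (aeval b : k[X] →ₐ[k] R) a F := by
    intro R _ _ a b
    have := nat k[X][X] R (Polynomial.aevalTower (aeval b : k[X] →ₐ[k] R) a) X (C X)
    rw [aevalTower_X, aevalTower_C, aeval_X] at this
    rw [← this]
  -- the inverse of the generic point
  let g : k[X] := inv k[X] X
  let G : k[X][X] := op k[X][X] X (C g)
  have hcomp : G.comp F = X := by
    let ψ : k[X][X] →ₐ[k] k[X][X] := Polynomial.aevalTower (Polynomial.CAlgHom : k[X] →ₐ[k] k[X][X]) F
    have h1 : ψ X = F := aevalTower_X _ _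
    have h2 : ∀ p : k[X], ψ (C p) = C p := fun p => aevalTower_C _ _ _
    have h3 : ψ G = G.comp F := rfl
    rw [← h3]
    have h4 := nat k[X][X] k[X][X] ψ X (C g)
    rw [h1, h2] at h4
    change ψ G = op k[X][X] F (C g) at h4
    rw [h4]
    change op k[X][X] (op k[X][X] X (C X)) (C g) = X
    rw [assoc]
    have h5 := nat k[X] k[X][X] (Polynomial.CAlgHom : k[X] →ₐ[k] k[X][X]) X g
    change C (op k[X] X g) = op k[X][X] (C X) (C g) at h5
    rw [← h5, op_inv k[X] X]
    have h6 : (C (algebraMap k k[X] e) : k[X][X]) = algebraMap k k[X][X] e := rfl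
    rw [h6, op_one]
  have hdeg : G.natDegree * F.natDegree = 1 := by
    rw [← Polynomial.natDegree_comp, hcomp, Polynomial.natDegree_X]
  have hF1 : F.natDegree = 1 := by
    have := mul_eq_one.mp hdeg
    omega
  have hG1 : G.natDegree = 1 := by
    have := mul_eq_one.mp hdeg
    omega
  obtain ⟨a₁, b₁, hFe⟩ : ∃ a₁ b₁ : k[X], F = C a₁ * X + C b₁ :=
    ⟨_, _, Polynomial.eq_X_add_C_of_natDegree_le_one hF1.le⟩
  obtain ⟨c₁, d₁, hGe⟩ : ∃ c₁ d₁ : k[X], G = C c₁ * X + C d₁ :=
    ⟨_, _, Polynomial.eq_X_add_C_of_natDegree_le_one hG1.le⟩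
  have hunit : c₁ * a₁ = 1 := by
    have h := congrArg (fun p => Polynomial.coeff p 1) hcomp
    simp only [hGe, hFe] at h
    rw [Polynomial.add_comp, Polynomial.mul_comp, Polynomial.C_comp, Polynomial.X_comp,
      Polynomial.C_comp] at h
    have h' : C c₁ * (C a₁ * X + C b₁) + C d₁ = C (c₁ * a₁) * X + C (c₁ * b₁ + d₁) := by
      simp only [C_mul, C_add]; ring
    rw [h'] at h
    simpa [Polynomial.coeff_X_one] using h
  have ha₁ : IsUnit a₁ := IsUnit.of_mul_eq_one c₁ (by rw [mul_comm]; exact hunit)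
  obtain ⟨a₀, ha₀, rfl⟩ := Polynomial.isUnit_iff.1 ha₁
  -- unit axioms
  have hb₁ : b₁ = X - C (a₀ * e) := by
    have h := one_op k[X] X
    rw [hφ k[X], hFe] at h
    simp only [map_add, map_mul, aevalTower_C, aevalTower_X, aeval_X_left_apply] at h
    rw [← h, Polynomial.algebraMap_apply,
      Algebra.algebraMap_self_apply, Polynomial.C_mul]
    ring
  have ha₀1 : a₀ = 1 := by
    have h := op_one k[X] X
    rw [hφ k[X], hFe, hb₁] at h
    simp only [map_add, map_mul, map_sub, aevalTower_C, aevalTower_X, aeval_X, aeval_C,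
      Polynomial.algebraMap_apply, Algebra.algebraMap_self_apply] at h
    have h2 := congrArg (fun p => Polynomial.coeff p 1) h
    simp only [Polynomial.algebraMap_apply, Algebra.algebraMap_self_apply, ← Polynomial.C_mul,
      ← Polynomial.C_sub, Polynomial.coeff_add, Polynomial.coeff_C_mul, Polynomial.coeff_X_one,
      Polynomial.coeff_C_succ, mul_one, add_zero] at h2
    exact h2
  rw [hφ R a b, hFe, hb₁, ha₀1]
  simp [Polynomial.algebraMap_apply]
  ring

end Groth.Agent.Helper23.GaCore
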