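import Groth.Agent.Lib.Helper23.FibColim3

/-! helper23: monomorphisms of finite étale covers are inclusions of direct summands. -/

set_option autoImplicit false
set_option linter.style.haveILetI false
set_option linter.unusedVariables false
universe u

open CategoryTheory CategoryTheory.Limits AlgebraicGeometry TopologicalSpace Opposite

namespace Groth.Agent.Helper23.GalCat
open Groth.Agent.Helper23.FEtCoeq Groth.Agent.Helper23.FibCard Groth.Agent.Helper23.FibCoeq
  Groth.Agent.Helper23.FibColim

section mono

variable {X : Scheme.{u}} {A B : FEt.Cat X} (i : A ⟶ B)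

theorem mono_left [Mono i] : Mono i.left := by
  haveI : PreservesLimitsOfShape WalkingCospan
      (MorphismProperty.Over.forget FEt.prop.{u} ⊤ X ⋙ Over.forget X) := inferInstance
  haveI : (MorphismProperty.Over.forget FEt.prop.{u} ⊤ X ⋙ Over.forget X).PreservesMonomorphisms :=
    inferInstance
  exact (inferInstance :
    Mono ((MorphismProperty.Over.forget FEt.prop.{u} ⊤ X ⋙ Over.forget X).map i))

theorem exists_compl [Mono i] :
    ∃ (Z : FEt.Cat X) (u : Z ⟶ B), Nonempty (IsColimit (BinaryCofan.mk i u)) := by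
  haveI := mono_left i
  haveI : IsFinite i.left := (prop_left i).1
  haveI : Etale i.left := (prop_left i).2
  haveI : IsOpenImmersion i.left := IsOpenImmersion.of_flat_of_mono _
  have hcl : IsClosed (Set.range i.left.base) := i.left.isClosedMap.isClosed_range
  have hop : IsOpen (Set.range i.left.base) := i.left.isOpenEmbedding.isOpen_range
  let V : B.left.Opens := ⟨(Set.range i.left.base)ᶜ, hcl.isOpen_compl⟩
  haveI : IsClosedImmersion V.ι := IsClosedImmersion.of_isPreimmersion _ (by
    rw [Scheme.Opens.range_ι]; exact hop.isClosed_compl)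
  let Z : FEt.Cat X := MorphismProperty.Over.mk ⊤ (V.ι ≫ B.hom) ⟨inferInstance, inferInstance⟩
  let u : Z ⟶ B := MorphismProperty.Over.homMk V.ι rfl trivial
  have h1 : (i.left.opensRange : Set B.left) = Set.range i.left.base := rfl
  have h2 : (V.ι.opensRange : Set B.left) = (Set.range i.left.base)ᶜ := by
    rw [Scheme.Opens.opensRange_ι]; rfl
  have hcompl : IsCompl i.left.opensRange V.ι.opensRange := by
    refine ⟨disjoint_iff.mpr ?_, codisjoint_iff.mpr ?_⟩
    · apply Opens.ext
      rw [Opens.coe_inf, h1, h2, Set.inter_compl_self]; rfl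
    · apply Opens.ext
      rw [Opens.coe_sup, h1, h2, Set.union_compl_self]; rfl
  obtain ⟨hS⟩ := nonempty_isColimit_binaryCofanMk_of_isCompl i.left V.ι hcompl
  refine ⟨Z, u, ⟨?_⟩⟩
  have hw : ∀ (T : FEt.Cat X) (a : A ⟶ T) (b : Z ⟶ T),
      (BinaryCofan.IsColimit.desc' hS a.left b.left).1 ≫ T.hom = B.hom := by
    intro T a b
    apply BinaryCofan.IsColimit.hom_ext hS
    · have e1 : i.left ≫ (BinaryCofan.IsColimit.desc' hS a.left b.left).1 = a.left :=
        (BinaryCofan.IsColimit.desc' hS a.left b.left).2.1
      change i.left ≫ (BinaryCofan.IsColimit.desc' hS a.left b.left).1 ≫ T.hom = i.left ≫ B.hom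
      rw [← Category.assoc, e1]
      exact (Over.w a.hom).trans (Over.w i.hom).symm
    · have e2 : V.ι ≫ (BinaryCofan.IsColimit.desc' hS a.left b.left).1 = b.left :=
        (BinaryCofan.IsColimit.desc' hS a.left b.left).2.2
      change V.ι ≫ (BinaryCofan.IsColimit.desc' hS a.left b.left).1 ≫ T.hom = V.ι ≫ B.hom
      rw [← Category.assoc, e2]
      exact Over.w b.hom
  refine BinaryCofan.isColimitMk
    (fun s => MorphismProperty.Over.homMk (BinaryCofan.IsColimit.desc' hS s.inl.left s.inr.left).1
      (hw _ s.inl s.inr) trivial)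
    (fun s => MorphismProperty.Over.Hom.ext
      (BinaryCofan.IsColimit.desc' hS s.inl.left s.inr.left).2.1)
    (fun s => MorphismProperty.Over.Hom.ext
      (BinaryCofan.IsColimit.desc' hS s.inl.left s.inr.left).2.2)
    (fun s m hm1 hm2 => ?_)
  apply MorphismProperty.Over.Hom.ext
  apply BinaryCofan.IsColimit.hom_ext hS
  · have e1 : i.left ≫ (BinaryCofan.IsColimit.desc' hS s.inl.left s.inr.left).1 = s.inl.left :=
      (BinaryCofan.IsColimit.desc' hS s.inl.left s.inr.left).2.1
    have e1' : i.left ≫ m.left = s.inl.left := congrArg (fun k : A ⟶ s.pt => k.left) hm1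
    exact e1'.trans e1.symm
  · have e2 : V.ι ≫ (BinaryCofan.IsColimit.desc' hS s.inl.left s.inr.left).1 = s.inr.left :=
      (BinaryCofan.IsColimit.desc' hS s.inl.left s.inr.left).2.2
    have e2' : V.ι ≫ m.left = s.inr.left := congrArg (fun k : Z ⟶ s.pt => k.left) hm2
    exact e2'.trans e2.symm

end mono

end Groth.Agent.Helper23.GalCat
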