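import Groth.Agent.Lib.Helper23.GalCat1

/-! helper23: the category of finite étale covers of a connected scheme is a Galois category. -/

set_option autoImplicit false
set_option linter.style.haveILetI false
set_option linter.unusedVariables false
universe u

open CategoryTheory CategoryTheory.Limits AlgebraicGeometry TopologicalSpace Opposite

namespace Groth.Agent.Helper23.GalCat
open Groth.Agent.Helper23.FEtCoeq Groth.Agent.Helper23.FibCard Groth.Agent.Helper23.FibCoeq
  Groth.Agent.Helper23.FibColim

theorem preGalois (X : Scheme.{u}) : PreGaloisCategory (FEt.Cat X) := by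
  haveI := hasFiniteColimits X
  haveI := hasFiniteCoproducts X
  exact
  { hasTerminal := inferInstance
    hasPullbacks := inferInstance
    hasFiniteCoproducts := inferInstance
    hasQuotientsByFiniteGroups := fun G _ _ => by
      obtain ⟨G', hg, hf, ⟨e⟩⟩ := Finite.exists_type_univ_nonempty_mulEquiv.{u, 0} G
      exact Limits.hasColimitsOfShape_of_equivalence e.toSingleObjEquiv.symm
    monoInducesIsoOnDirectSummand := fun i _ => exists_compl i }

section fib

variable {X : Scheme.{u}} {Ω : Type u} [Field Ω] [IsAlgClosed Ω]
  (ξ : Spec (CommRingCat.of Ω) ⟶ X)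

/-- the fibre functor with values in finite sets -/
noncomputable def fibFin : FEt.Cat X ⥤ FintypeCat.{u} :=
  ObjectProperty.lift (C := FEt.Cat X) (D := Type u) Finite (FEt.fiber ξ)
    (fun Y => (card_fiberObj ξ Y default).1)

/-- comparison with the fibre functor -/
noncomputable def fibFinIso : fibFin ξ ⋙ FintypeCat.incl ≅ FEt.fiber ξ :=
  ObjectProperty.liftCompιIso _ _ _

theorem fibFin_preservesFiniteLimits : PreservesFiniteLimits (fibFin ξ) := by
  haveI := FibColim.preservesFiniteLimits ξ
  haveI : PreservesFiniteLimits (fibFin ξ ⋙ FintypeCat.incl) :=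
    preservesFiniteLimits_of_natIso (fibFinIso ξ).symm
  constructor
  intro J _ _
  exact preservesLimitsOfShape_of_reflects_of_preserves (fibFin ξ) FintypeCat.incl

theorem fibFin_preservesFiniteColimits : PreservesFiniteColimits (fibFin ξ) := by
  haveI := FibColim.preservesFiniteColimits ξ
  haveI : PreservesFiniteColimits (fibFin ξ ⋙ FintypeCat.incl) :=
    preservesFiniteColimits_of_natIso (fibFinIso ξ).symm
  constructor
  intro J _ _
  exact preservesColimitsOfShape_of_reflects_of_preserves (fibFin ξ) FintypeCat.incl

theorem fibFin_reflectsIsos [ConnectedSpace X] : (fibFin ξ).ReflectsIsomorphisms := by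
  constructor
  intro Z W h hiso
  apply isIso_of_fiber_bijective_of_connected h ξ
  haveI : IsIso ((fibFin ξ ⋙ FintypeCat.incl).map h) := by
    rw [Functor.comp_map]; infer_instance
  have : IsIso ((FEt.fiber ξ).map h) := this
  exact (isIso_iff_bijective _).mp this

theorem fiberFunctor [ConnectedSpace X] :
    haveI := preGalois X
    PreGaloisCategory.FiberFunctor (fibFin ξ) := by
  haveI := preGalois X
  haveI := hasFiniteColimits X
  haveI := hasFiniteCoproducts X
  haveI := fibFin_preservesFiniteLimits ξ
  haveI := fibFin_preservesFiniteColimits ξ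
  exact
  { preservesTerminalObjects := inferInstance
    preservesPullbacks := inferInstance
    preservesFiniteCoproducts := ⟨fun n => inferInstance⟩
    preservesEpis := inferInstance
    preservesQuotientsByFiniteGroups := fun G _ _ => by
      obtain ⟨G', hg, hf, ⟨e⟩⟩ := Finite.exists_type_univ_nonempty_mulEquiv.{u, 0} G
      exact Limits.preservesColimitsOfShape_of_equiv e.toSingleObjEquiv.symm (fibFin ξ)
    reflectsIsos := fibFin_reflectsIsos ξ }

end fib

end Groth.Agent.Helper23.GalCat
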