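import Groth.Agent.Lib.Helper23.GalPi1
universe u
open CategoryTheory CategoryTheory.Limits AlgebraicGeometry

set_option linter.style.haveILetI false
set_option linter.unusedVariables false

namespace Groth.Agent.Helper23.GalPi
open Groth.Agent.Helper23.FibCard

variable {K Ω : Type u} [Field K] [Field Ω] [Algebra K Ω]
  (α : Aut (FEt.fiber (gp K Ω)))

/-- the embedding obtained by transporting a given embedding along an automorphism of the fibre
functor -/
noncomputable def JL (L : Type u) [Field L] [Algebra K L] [FiniteDimensional K L]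
    [Algebra.IsSeparable K L] (ι : L →ₐ[K] Ω) : L →ₐ[K] Ω :=
  homOf (α.hom.app (YL K L) (ptOf ι))

theorem ptOf_JL (L : Type u) [Field L] [Algebra K L] [FiniteDimensional K L]
    [Algebra.IsSeparable K L] (ι : L →ₐ[K] Ω) :
    ptOf (JL α L ι) = α.hom.app (YL K L) (ptOf ι) := ptOf_homOf _

theorem JL_comp {L L' : Type u} [Field L] [Algebra K L] [FiniteDimensional K L]
    [Algebra.IsSeparable K L] [Field L'] [Algebra K L'] [FiniteDimensional K L']
    [Algebra.IsSeparable K L'] (h : L →ₐ[K] L') (ι' : L' →ₐ[K] Ω) :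
    JL α L (ι'.comp h) = (JL α L' ι').comp h := by
  apply ptOf_injective
  rw [ptOf_JL, ← map_YLmap_ptOf, ← map_YLmap_ptOf, ptOf_JL]
  exact naturality_apply _ _ α.hom (YLmap h) (ptOf ι')

/-- the version for intermediate fields -/
noncomputable def J (M : IntermediateField K Ω) (hf : FiniteDimensional K M)
    (hs : Algebra.IsSeparable K M) : M →ₐ[K] Ω := JL α M M.val

theorem J_mono {M M' : IntermediateField K Ω} (hf : FiniteDimensional K M)
    (hs : Algebra.IsSeparable K M) (hf' : FiniteDimensional K M')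
    (hs' : Algebra.IsSeparable K M') (hle : M ≤ M') (z : Ω) (hz : z ∈ M) :
    J α M hf hs ⟨z, hz⟩ = J α M' hf' hs' ⟨z, hle hz⟩ := by
  have h1 := JL_comp α (IntermediateField.inclusion hle) M'.val
  have h2 : M'.val.comp (IntermediateField.inclusion hle) = M.val := by
    ext x; rfl
  rw [h2] at h1
  exact DFunLike.congr_fun h1 ⟨z, hz⟩

/-- the value of the candidate automorphism on a separable element -/
noncomputable def tauFun (x : separableClosure K Ω) : Ω :=
  J α (IntermediateField.adjoin K {x.1})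
    (IntermediateField.adjoin.finiteDimensional (mem_separableClosure_iff.mp x.2).isIntegral)
    ((IntermediateField.isSeparable_adjoin_simple_iff_isSeparable K Ω).mpr
      (mem_separableClosure_iff.mp x.2))
    ⟨x.1, IntermediateField.mem_adjoin_simple_self K x.1⟩

theorem tauFun_eq (M : IntermediateField K Ω) (hf : FiniteDimensional K M)
    (hs : Algebra.IsSeparable K M) (z : Ω) (hz : z ∈ M) (hz' : z ∈ separableClosure K Ω) :
    tauFun α ⟨z, hz'⟩ = J α M hf hs ⟨z, hz⟩ :=
  J_mono α _ _ hf hs (IntermediateField.adjoin_simple_le_iff.mpr hz) z _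

theorem exists_pair (x y : Ω) (hx : IsSeparable K x) (hy : IsSeparable K y) :
    ∃ (M : IntermediateField K Ω) (hf : FiniteDimensional K M) (hs : Algebra.IsSeparable K M),
      x ∈ M ∧ y ∈ M :=
  ⟨IntermediateField.adjoin K {x, y},
    IntermediateField.finiteDimensional_adjoin_pair hx.isIntegral hy.isIntegral,
    IntermediateField.isSeparable_adjoin_pair_of_isSeparable K Ω hx hy,
    IntermediateField.subset_adjoin K _ (.inl rfl), IntermediateField.subset_adjoin K _ (.inr rfl)⟩

/-- the candidate automorphism on the separable closure -/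
noncomputable def tau : separableClosure K Ω →ₐ[K] Ω where
  toFun := tauFun α
  map_one' := by
    obtain ⟨M, hf, hs, h1, -⟩ := exists_pair (K := K) (1 : Ω) 1
      (mem_separableClosure_iff.mp (one_mem _)) (mem_separableClosure_iff.mp (one_mem _))
    show tauFun α ⟨1, one_mem _⟩ = 1
    rw [tauFun_eq α M hf hs 1 h1]
    exact map_one (J α M hf hs)
  map_zero' := by
    obtain ⟨M, hf, hs, h1, -⟩ := exists_pair (K := K) (0 : Ω) 0
      (mem_separableClosure_iff.mp (zero_mem _)) (mem_separableClosure_iff.mp (zero_mem _))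
    show tauFun α ⟨0, zero_mem _⟩ = 0
    rw [tauFun_eq α M hf hs 0 h1]
    exact map_zero (J α M hf hs)
  map_mul' x y := by
    obtain ⟨M, hf, hs, hx, hy⟩ := exists_pair (K := K) x.1 y.1
      (mem_separableClosure_iff.mp x.2) (mem_separableClosure_iff.mp y.2)
    show tauFun α ⟨x.1 * y.1, mul_mem x.2 y.2⟩ = tauFun α ⟨x.1, x.2⟩ * tauFun α ⟨y.1, y.2⟩
    rw [tauFun_eq α M hf hs _ (mul_mem hx hy), tauFun_eq α M hf hs _ hx, tauFun_eq α M hf hs _ hy]
    exact map_mul (J α M hf hs) ⟨x.1, hx⟩ ⟨y.1, hy⟩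
  map_add' x y := by
    obtain ⟨M, hf, hs, hx, hy⟩ := exists_pair (K := K) x.1 y.1
      (mem_separableClosure_iff.mp x.2) (mem_separableClosure_iff.mp y.2)
    show tauFun α ⟨x.1 + y.1, add_mem x.2 y.2⟩ = tauFun α ⟨x.1, x.2⟩ + tauFun α ⟨y.1, y.2⟩
    rw [tauFun_eq α M hf hs _ (add_mem hx hy), tauFun_eq α M hf hs _ hx, tauFun_eq α M hf hs _ hy]
    exact map_add (J α M hf hs) ⟨x.1, hx⟩ ⟨y.1, hy⟩
  commutes' r := by
    have hr : algebraMap K Ω r ∈ separableClosure K Ω := algebraMap_mem _ r
    obtain ⟨M, hf, hs, h1, -⟩ := exists_pair (K := K) (algebraMap K Ω r) (algebraMap K Ω r)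
      (mem_separableClosure_iff.mp hr) (mem_separableClosure_iff.mp hr)
    show tauFun α ⟨algebraMap K Ω r, hr⟩ = algebraMap K Ω r
    rw [tauFun_eq α M hf hs _ h1]
    exact (J α M hf hs).commutes r

theorem tau_apply (M : IntermediateField K Ω) (hf : FiniteDimensional K M)
    (hs : Algebra.IsSeparable K M) (z : Ω) (hz : z ∈ M) (hz' : z ∈ separableClosure K Ω) :
    tau α ⟨z, hz'⟩ = J α M hf hs ⟨z, hz⟩ := tauFun_eq α M hf hs z hz hz'

variable [IsAlgClosed Ω] [Algebra.IsAlgebraic K Ω]

theorem exists_sigma : ∃ σ : Ω ≃ₐ[K] Ω, ∀ x : separableClosure K Ω, σ x.1 = tau α x := by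
  obtain ⟨f, hf⟩ := (IsPurelyInseparable.bijective_comp_algebraMap (separableClosure K Ω) Ω Ω).2
    (tau α).toRingHom
  have hf' : ∀ x : separableClosure K Ω, f x.1 = tau α x := fun x =>
    congrArg (fun g : separableClosure K Ω →+* Ω => g x) hf
  let σ₀ : Ω →ₐ[K] Ω :=
    { toRingHom := f
      commutes' := fun r => by
        have h1 := hf' (algebraMap K (separableClosure K Ω) r)
        have h2 : tau α (algebraMap K (separableClosure K Ω) r) = algebraMap K Ω r :=
          (tau α).commutes r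
        rw [h2] at h1
        exact h1 }
  exact ⟨AlgEquiv.ofBijective σ₀ (Algebra.IsAlgebraic.algHom_bijective σ₀), fun x => hf' x⟩

set_option maxHeartbeats 1000000 in
theorem toAut_surjective : Function.Surjective (toAut (K := K) (Ω := Ω)) := by
  intro α
  obtain ⟨σ, hσ⟩ := exists_sigma α
  refine ⟨σ, ?_⟩
  ext Y s
  show actFun (σ : Ω →ₐ[K] Ω) Y s = α.hom.app Y s
  obtain ⟨M, hf, hs, g, hg⟩ := exists_YL Y s
  have key : actFun (σ : Ω →ₐ[K] Ω) (YL K M) (ptOf M.val) = α.hom.app (YL K M) (ptOf M.val) := by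
    rw [actFun_ptOf, ← ptOf_JL]
    congr 1
    ext z
    show σ z.1 = JL α M M.val z
    have hz' : z.1 ∈ separableClosure K Ω :=
      mem_separableClosure_iff.mpr (IntermediateField.isSeparable_of_mem_isSeparable K Ω z.2)
    rw [hσ ⟨z.1, hz'⟩, tau_apply α M hf hs z.1 z.2 hz']
    rfl
  rw [← hg]
  have n1 := naturality_apply _ _ (actNat (σ : Ω →ₐ[K] Ω)) g (ptOf M.val)
  have n2 := naturality_apply _ _ α.hom g (ptOf M.val)
  rw [n2, ← key]
  exact n1

/-- the Galois group of `Ω / K` is the automorphism group of the fibre functor -/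
noncomputable def galEquiv : (Ω ≃ₐ[K] Ω) ≃* Aut (FEt.fiber (gp K Ω)) :=
  MulEquiv.ofBijective toAut ⟨toAut_injective, toAut_surjective⟩

end Groth.Agent.Helper23.GalPi
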