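import Groth.Agent.Lib.Helper23.GalCat2
import Groth.Agent.Lib.Helper23.GalPi2

/-! helper23: finite étale covers of the spectrum of a field and the absolute Galois group. -/

set_option autoImplicit false
set_option linter.style.haveILetI false
set_option linter.unusedVariables false
universe u

open CategoryTheory CategoryTheory.Limits AlgebraicGeometry TopologicalSpace Opposite

namespace Groth.Agent.Helper23.GalCat
open Groth.Agent.Helper23.FEtCoeq Groth.Agent.Helper23.FibCard Groth.Agent.Helper23.FibCoeq
  Groth.Agent.Helper23.FibColim Groth.Agent.Helper23.GalPi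
open CategoryTheory.PreGaloisCategory

section field

variable (K : Type u) [Field K]

instance connectedSpace_spec_field : ConnectedSpace ↥(Spec (CommRingCat.of K)) :=
  inferInstanceAs (ConnectedSpace (PrimeSpectrum K))

theorem galoisCategory : GaloisCategory (FEt.Cat (Spec (CommRingCat.of K))) :=
  { preGalois _ with
    hasFiberFunctor := ⟨fibFin (gp K (AlgebraicClosure K)),
      ⟨by
        haveI := preGalois (Spec (CommRingCat.of K))
        exact fiberFunctor (gp K (AlgebraicClosure K))⟩⟩ }

/-- the fibre functor at the algebraic closure -/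
noncomputable abbrev FK : FEt.Cat (Spec (CommRingCat.of K)) ⥤ FintypeCat.{u} :=
  fibFin (gp K (AlgebraicClosure K))

/-- automorphisms of the finite-set valued fibre functor and of the fibre functor -/
noncomputable def autW : Aut (FK K) ≃* Aut (FEt.fiber (gp K (AlgebraicClosure K))) :=
  (((ObjectProperty.fullyFaithfulι (C := Type u) Finite).whiskeringRight
    (FEt.Cat (Spec (CommRingCat.of K)))).autMulEquivOfFullyFaithful (FK K))

theorem autW_app (α : Aut (FK K)) (Y : FEt.Cat (Spec (CommRingCat.of K)))
    (s : FEt.fiberObj (gp K (AlgebraicClosure K)) Y) :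
    (autW K α).hom.app Y s = α.hom.app Y s := rfl

/-- the comparison of groups -/
noncomputable def psiInv : Aut (FK K) ≃* (AlgebraicClosure K ≃ₐ[K] AlgebraicClosure K) :=
  (autW K).trans (galEquiv (K := K) (Ω := AlgebraicClosure K)).symm

theorem psiInv_act (α : Aut (FK K)) (Y : FEt.Cat (Spec (CommRingCat.of K)))
    (s : FEt.fiberObj (gp K (AlgebraicClosure K)) Y) :
    actFun ((psiInv K α : AlgebraicClosure K ≃ₐ[K] AlgebraicClosure K) :
      AlgebraicClosure K →ₐ[K] AlgebraicClosure K) Y s = α.hom.app Y s := by
  have h1 : galEquiv (K := K) (Ω := AlgebraicClosure K) (psiInv K α) = autW K α :=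
    (galEquiv (K := K) (Ω := AlgebraicClosure K)).apply_symm_apply _
  rw [← autW_app, ← h1]
  rfl

/-- fixing the separable closure of `K` in a finite subextension fixes the subextension -/
theorem mem_fixingSubgroup_of_fix_sep (E : IntermediateField K (AlgebraicClosure K))
    [FiniteDimensional K E] (σ : AlgebraicClosure K ≃ₐ[K] AlgebraicClosure K)
    (h : ∀ x : separableClosure K E, σ ((x : E) : AlgebraicClosure K) = ((x : E) : AlgebraicClosure K)) :
    σ ∈ E.fixingSubgroup := by
  rw [IntermediateField.mem_fixingSubgroup_iff]
  intro x hx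
  let f₁ : E →+* AlgebraicClosure K := E.val.toRingHom
  let f₂ : E →+* AlgebraicClosure K := ((σ : AlgebraicClosure K →ₐ[K] AlgebraicClosure K).comp E.val).toRingHom
  have heq : f₂.comp (algebraMap (separableClosure K E) E) =
      f₁.comp (algebraMap (separableClosure K E) E) := by
    ext y
    exact h y
  have := IsPurelyInseparable.injective_comp_algebraMap (separableClosure K E) E
    (AlgebraicClosure K) heq
  exact RingHom.congr_fun this ⟨x, hx⟩

theorem continuous_psiInv : Continuous (psiInv K) := by
  apply continuous_of_continuousAt_one (psiInv K)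
  rw [ContinuousAt, map_one]
  intro N hN
  rw [krullTopology_mem_nhds_one_iff] at hN
  obtain ⟨E, hE, hEN⟩ := hN
  rw [Filter.mem_map]
  let L := separableClosure K E
  let ρ : L →ₐ[K] AlgebraicClosure K := E.val.comp L.val
  let pt : (FK K).obj (YL K L) := ptOf ρ
  have hopen : IsOpen (MulAction.stabilizer (Aut (FK K)) pt : Set (Aut (FK K))) :=
    stabilizer_isOpen (Aut (FK K)) pt
  refine Filter.mem_of_superset (hopen.mem_nhds (Subgroup.one_mem _)) ?_
  intro α hα
  apply hEN
  have hα' : α.hom.app (YL K L) pt = pt := hα
  have h1 := psiInv_act K α (YL K L) (ptOf ρ)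
  rw [actFun_ptOf] at h1
  have h2 : ((psiInv K α : AlgebraicClosure K ≃ₐ[K] AlgebraicClosure K) :
      AlgebraicClosure K →ₐ[K] AlgebraicClosure K).comp ρ = ρ :=
    ptOf_injective (h1.trans hα')
  apply mem_fixingSubgroup_of_fix_sep
  intro x
  exact DFunLike.congr_fun h2 x

/-- the absolute Galois group is the automorphism group of the fibre functor, topologically -/
noncomputable def galHomeo :
    (AlgebraicClosure K ≃ₐ[K] AlgebraicClosure K) ≃ₜ* Aut (FK K) :=
  { (psiInv K).symm with
    continuous_toFun := Continuous.continuous_symm_of_equiv_compact_to_t2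
      (f := (psiInv K).toEquiv) (continuous_psiInv K)
    continuous_invFun := continuous_psiInv K }

open scoped FintypeCatDiscrete in
theorem nonempty_equiv : Nonempty (FEt.Cat (Spec (CommRingCat.of K)) ≌
    ContAction FintypeCat.{u} (Field.absoluteGaloisGroup K)) := by
  haveI := galoisCategory K
  haveI : FiberFunctor (FK K) := fiberFunctor _
  exact ⟨(functorToContAction (FK K)).asEquivalence.trans
    (ContAction.resEquiv FintypeCat (galHomeo K))⟩

end field

end Groth.Agent.Helper23.GalCat
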