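import Mathlib
import Groth.Agent.Lib.Helper29.GalFF

/-!
# Essential image of a fully faithful exact functor between Galois categories (helper23)
-/

set_option autoImplicit false
set_option linter.unusedSectionVars false
open CategoryTheory CategoryTheory.Limits PreGaloisCategory
universe u v w

namespace Groth.Agent.Helper23.GalEss

variable {C : Type u} [Category.{v} C] [GaloisCategory C] {D : Type u} [Category.{v} D]
  [GaloisCategory D] (H : C ⥤ D) [PreservesFiniteLimits H] [PreservesFiniteColimits H]
  [H.Full] [H.Faithful] (F : D ⥤ FintypeCat.{w}) [FiberFunctor F]

instance preservesSingleObj (G : Type v) [Group G] [Finite G] :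
    PreservesColimitsOfShape (SingleObj G) H := by
  choose G' hg hf he using Finite.exists_type_univ_nonempty_mulEquiv G
  haveI : Fintype G' := Fintype.ofFinite G'
  exact Limits.preservesColimitsOfShape_of_equiv he.some.toSingleObjEquiv.symm H

instance fiberFunctor_comp : FiberFunctor (H ⋙ F) where
  preservesTerminalObjects := inferInstance
  preservesPullbacks := inferInstance
  preservesFiniteCoproducts := inferInstance
  preservesEpis := inferInstance
  preservesQuotientsByFiniteGroups G _ _ := inferInstance
  reflectsIsos := inferInstance

instance (X : C) : MulAction (Aut F) ((H ⋙ F).obj X) :=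
  inferInstanceAs (MulAction (Aut F) (F.obj (H.obj X)))

instance : IsNaturalSMul (H ⋙ F) (Aut F) where
  naturality g _ _ f x := (FunctorToFintypeCat.naturality F F g.hom (H.map f) x).symm

instance (X : C) : ContinuousSMul (Aut F) ((H ⋙ F).obj X) :=
  continuousSMul_aut_fiber F (H.obj X)

theorem toAut_surjective : Function.Surjective (toAut (H ⋙ F) (Aut F)) := by
  apply toAut_surjective_of_isPretransitive
  intro X _
  haveI : IsConnected (H.obj X) := Groth.Agent.Helper29.GalFF.isConnected_map_of_full H X
  exact FiberFunctor.isPretransitive_of_isConnected F (H.obj X)

end Groth.Agent.Helper23.GalEss
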