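import Mathlib
import Groth.Agent.Lib.Helper23.GalEss1

/-!
# Connected objects dominated by the image of a fully faithful exact functor are in the image
-/

set_option autoImplicit false
set_option linter.unusedSectionVars false
open CategoryTheory CategoryTheory.Limits PreGaloisCategory
universe u v w

namespace Groth.Agent.Helper23.GalEss

section conn

variable {C : Type u} [Category.{v} C] [GaloisCategory C] (F : C ⥤ FintypeCat.{w}) [FiberFunctor F]

theorem isConnected_of_transitive (X : C) (x : F.obj X)
    (h : ∀ x' : F.obj X, ∃ g : Aut F, g • x = x') : IsConnected X := by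
  constructor
  · exact not_initial_of_inhabited F x
  · intro Z i _ hZ
    apply isIso_of_mono_of_eq_card_fiber F i
    have hZne : Nonempty (F.obj Z) := (not_initial_iff_fiber_nonempty F Z).1 hZ
    have hinj : Function.Injective (F.map i) := by
      have : Mono (FintypeCat.incl.map (F.map i)) := inferInstance
      exact injective_of_mono (FintypeCat.incl.map (F.map i))
    have hsurj : Function.Surjective (F.map i) := by
      obtain ⟨z⟩ := hZne
      intro x'
      obtain ⟨g₁, hg₁⟩ := h (F.map i z)
      obtain ⟨g₂, hg₂⟩ := h x'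
      refine ⟨(g₂ * g₁⁻¹) • z, ?_⟩
      have hnat : F.map i ((g₂ * g₁⁻¹) • z) = (g₂ * g₁⁻¹) • F.map i z :=
        (FunctorToFintypeCat.naturality F F (g₂ * g₁⁻¹).hom i z).symm
      rw [hnat, ← hg₁, mul_smul, inv_smul_smul, hg₂]
    exact Nat.card_eq_of_bijective _ ⟨hinj, hsurj⟩

end conn

variable {C : Type u} [Category.{v} C] [GaloisCategory C] {D : Type u} [Category.{v} D]
  [GaloisCategory D] (H : C ⥤ D) [PreservesFiniteLimits H] [PreservesFiniteColimits H]
  [H.Full] [H.Faithful] (F : D ⥤ FintypeCat.{u}) [FiberFunctor F]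

theorem smul_eq_toAut_smul (g : Aut F) (X : C) (x : F.obj (H.obj X)) :
    g • x = ((toAut (H ⋙ F) (Aut F) g) • (show (H ⋙ F).obj X from x) : (H ⋙ F).obj X) := rfl


set_option backward.isDefEq.respectTransparency false in
/-- A connected object `Y` of `D` receiving a morphism from `H A` with nonempty fibre is in the
essential image of `H`. -/
theorem exists_iso_of_dominated (Y : D) [IsConnected Y] (A : C) (e : H.obj A ⟶ Y)
    (a : F.obj (H.obj A)) : ∃ B : C, Nonempty (H.obj B ≅ Y) := by
  classical
  let F' := H ⋙ F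
  let u := toAut F' (Aut F)
  have hu : Function.Surjective u := toAut_surjective H F
  let y : F.obj Y := F.map e a
  let a' : F'.obj A := a
  -- kernel of `u` fixes `y`
  have hnat : ∀ g : Aut F, g • y = F.map e (g • a) := fun g =>
    (FunctorToFintypeCat.naturality F F g.hom e a)
  have hfix : ∀ g : Aut F, (u g) • a' = a' → g • y = y := by
    intro g hg
    rw [hnat g]
    have : g • a = a := hg
    rw [this]
  let W : Subgroup (Aut F') := (MulAction.stabilizer (Aut F) y).map u
  have hWopen : IsOpen (W : Set (Aut F')) := by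
    refine Subgroup.isOpen_mono (H₁ := MulAction.stabilizer (Aut F') a') ?_
      (stabilizer_isOpen (Aut F') a')
    intro t ht
    obtain ⟨g, rfl⟩ := hu t
    exact ⟨g, hfix g ht, rfl⟩
  obtain ⟨B, ⟨φ⟩⟩ := exists_lift_of_quotient_openSubgroup (F := F') ⟨W, hWopen⟩
  refine ⟨B, ?_⟩
  have hψ : ∀ (t : Aut F') (x : F'.obj B),
      φ.hom.hom (t • x) = (t • (φ.hom.hom x : Aut F' ⧸ W) : Aut F' ⧸ W) := by
    intro t x
    have := congrArg (fun f => f x) (φ.hom.comm t)
    exact this
  have hψbij : Function.Bijective φ.hom.hom := by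
    refine Function.bijective_iff_has_inverse.mpr ⟨φ.inv.hom, fun x => ?_, fun x => ?_⟩
    · have := congrArg (fun f => f.hom x) φ.hom_inv_id
      exact this
    · have := congrArg (fun f => f.hom x) φ.inv_hom_id
      exact this
  obtain ⟨b, hb⟩ := hψbij.2 (QuotientGroup.mk (1 : Aut F') : Aut F' ⧸ W)
  have hsm : ∀ t : Aut F', (t • (QuotientGroup.mk (1 : Aut F') : Aut F' ⧸ W) : Aut F' ⧸ W) =
      QuotientGroup.mk t := by
    intro t
    rw [MulAction.Quotient.smul_mk, smul_eq_mul, mul_one]
  have htrans' : ∀ b' : F'.obj B, ∃ t : Aut F', t • b = b' := by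
    intro b'
    obtain ⟨t, ht⟩ := QuotientGroup.mk_surjective (φ.hom.hom b' : Aut F' ⧸ W)
    refine ⟨t, hψbij.1 ?_⟩
    rw [hψ, hb, hsm, ht]
  have hstab' : ∀ t : Aut F', t • b = b ↔ t ∈ W := by
    intro t
    constructor
    · intro h
      have h1 := congrArg φ.hom.hom h
      rw [hψ, hb, hsm] at h1
      have h2 := QuotientGroup.eq.mp h1
      have h3 : t⁻¹ ∈ W := by simpa using h2
      simpa using W.inv_mem h3
    · intro h
      apply hψbij.1
      rw [hψ, hb, hsm]
      apply QuotientGroup.eq.mpr
      simpa using W.inv_mem h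
  let b₀ : F.obj (H.obj B) := b
  have htrans : ∀ b' : F.obj (H.obj B), ∃ g : Aut F, g • b₀ = b' := by
    intro b'
    obtain ⟨t, ht⟩ := htrans' b'
    obtain ⟨g, rfl⟩ := hu t
    exact ⟨g, ht⟩
  haveI : IsConnected (H.obj B) := isConnected_of_transitive F (H.obj B) b₀ htrans
  have hS : MulAction.stabilizer (Aut F) b₀ = MulAction.stabilizer (Aut F) y := by
    ext g
    rw [MulAction.mem_stabilizer_iff, MulAction.mem_stabilizer_iff]
    constructor
    · intro h
      have h1 : u g ∈ W := (hstab' (u g)).mp h
      obtain ⟨g', hg', hgg'⟩ := h1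
      have hk : u (g'⁻¹ * g) = 1 := by rw [map_mul, map_inv, hgg', inv_mul_cancel]
      have hk' : (g'⁻¹ * g) • y = y := by
        apply hfix
        rw [hk, one_smul]
      have : g = g' * (g'⁻¹ * g) := by group
      rw [this, mul_smul, hk']
      exact hg'
    · intro h
      have h1 : u g ∈ W := ⟨g, h, rfl⟩
      exact (hstab' (u g)).mpr h1
  let i1 := fiberIsoQuotientStabilizer (H.obj B) b₀
  let i2 := fiberIsoQuotientStabilizer Y y
  have iso : (functorToAction F).obj (H.obj B) ≅ (functorToAction F).obj Y := by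
    refine i1 ≪≫ ?_ ≪≫ i2.symm
    refine Action.mkIso (FintypeCat.equivEquivIso (Subgroup.quotientEquivOfEq hS)) (fun g => ?_)
    ext x
    revert x
    intro (x : Aut F ⧸ MulAction.stabilizer (Aut F) b₀)
    obtain ⟨q, rfl⟩ := QuotientGroup.mk_surjective x
    rfl
  exact ⟨(functorToAction F).preimageIso iso⟩

end Groth.Agent.Helper23.GalEss
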