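import Groth.Agent.Lib.Helper23.FibCard
universe u
open CategoryTheory CategoryTheory.Limits AlgebraicGeometry

set_option linter.style.haveILetI false
set_option linter.unusedVariables false

namespace Groth.Agent.Helper23.GalPi
open Groth.Agent.Helper23.FibCard

variable (K Ω : Type u) [Field K] [Field Ω] [Algebra K Ω]

/-- the geometric point `Spec Ω ⟶ Spec K` -/
noncomputable abbrev gp : Spec (CommRingCat.of Ω) ⟶ Spec (CommRingCat.of K) :=
  Spec.map (CommRingCat.ofHom (algebraMap K Ω))

variable {K Ω}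

/-- the action of a `K`-endomorphism of `Ω` on a geometric fibre -/
noncomputable def actFun (σ : Ω →ₐ[K] Ω) (Y : FEt.Cat (Spec (CommRingCat.of K)))
    (s : FEt.fiberObj (gp K Ω) Y) : FEt.fiberObj (gp K Ω) Y :=
  ⟨Spec.map (CommRingCat.ofHom σ.toRingHom) ≫ s.1, by
    rw [Category.assoc, s.2, gp, ← Spec.map_comp]
    congr 1
    ext x
    exact σ.commutes x⟩

theorem actFun_comp (σ τ : Ω →ₐ[K] Ω) (Y : FEt.Cat (Spec (CommRingCat.of K)))
    (s : FEt.fiberObj (gp K Ω) Y) : actFun (σ.comp τ) Y s = actFun σ Y (actFun τ Y s) := by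
  apply Subtype.ext
  show Spec.map (CommRingCat.ofHom (σ.comp τ).toRingHom) ≫ s.1 =
    Spec.map (CommRingCat.ofHom σ.toRingHom) ≫ Spec.map (CommRingCat.ofHom τ.toRingHom) ≫ s.1
  rw [← Category.assoc, ← Spec.map_comp]
  rfl

theorem actFun_id (Y : FEt.Cat (Spec (CommRingCat.of K)))
    (s : FEt.fiberObj (gp K Ω) Y) : actFun (AlgHom.id K Ω) Y s = s := by
  apply Subtype.ext
  show Spec.map (CommRingCat.ofHom (AlgHom.id K Ω).toRingHom) ≫ s.1 = s.1
  have : CommRingCat.ofHom (AlgHom.id K Ω).toRingHom = 𝟙 (CommRingCat.of Ω) := rfl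
  rw [this, Spec.map_id, Category.id_comp]

/-- the natural transformation given by the action -/
noncomputable def actNat (σ : Ω →ₐ[K] Ω) : FEt.fiber (gp K Ω) ⟶ FEt.fiber (gp K Ω) where
  app Y := TypeCat.ofHom (actFun σ Y)
  naturality Y Y' g := by
    apply ConcreteCategory.hom_ext
    intro s
    apply Subtype.ext
    show Spec.map (CommRingCat.ofHom σ.toRingHom) ≫ (s.1 ≫ g.left) =
      (Spec.map (CommRingCat.ofHom σ.toRingHom) ≫ s.1) ≫ g.left
    rw [Category.assoc]

theorem actNat_app (σ : Ω →ₐ[K] Ω) (Y : FEt.Cat (Spec (CommRingCat.of K)))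
    (s : FEt.fiberObj (gp K Ω) Y) : (actNat σ).app Y s = actFun σ Y s := rfl

/-- the group homomorphism from the Galois group to the automorphisms of the fibre functor -/
noncomputable def toAut : (Ω ≃ₐ[K] Ω) →* Aut (FEt.fiber (gp K Ω)) where
  toFun σ :=
    { hom := actNat (σ : Ω →ₐ[K] Ω)
      inv := actNat (σ.symm : Ω →ₐ[K] Ω)
      hom_inv_id := by
        ext Y s
        show actFun (σ.symm : Ω →ₐ[K] Ω) Y (actFun (σ : Ω →ₐ[K] Ω) Y s) = s
        rw [← actFun_comp]
        have : (σ.symm : Ω →ₐ[K] Ω).comp (σ : Ω →ₐ[K] Ω) = AlgHom.id K Ω := by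
          ext x; simp
        rw [this, actFun_id]
      inv_hom_id := by
        ext Y s
        show actFun (σ : Ω →ₐ[K] Ω) Y (actFun (σ.symm : Ω →ₐ[K] Ω) Y s) = s
        rw [← actFun_comp]
        have : (σ : Ω →ₐ[K] Ω).comp (σ.symm : Ω →ₐ[K] Ω) = AlgHom.id K Ω := by
          ext x; simp
        rw [this, actFun_id] }
  map_one' := by
    ext Y s
    exact actFun_id Y s
  map_mul' σ τ := by
    ext Y s
    show actFun ((σ * τ : Ω ≃ₐ[K] Ω) : Ω →ₐ[K] Ω) Y s =
      actFun (σ : Ω →ₐ[K] Ω) Y (actFun (τ : Ω →ₐ[K] Ω) Y s)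
    rw [← actFun_comp]
    rfl

section YL

variable (K) (L : Type u) [Field L] [Algebra K L] [FiniteDimensional K L] [Algebra.IsSeparable K L]

omit [Algebra.IsSeparable K L] in
theorem isFinite_YL : IsFinite (Spec.map (CommRingCat.ofHom (algebraMap K L))) := by
  rw [IsFinite.SpecMap_iff]
  exact RingHom.finite_algebraMap.mpr inferInstance

theorem etale_YL : Etale (Spec.map (CommRingCat.ofHom (algebraMap K L))) := by
  rw [HasRingHomProperty.Spec_iff (P := @Etale)]
  haveI : Algebra.FormallyEtale K L := Algebra.FormallyEtale.of_isSeparable K L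
  haveI : Algebra.FinitePresentation K L := Algebra.FinitePresentation.of_finiteType.mp inferInstance
  haveI : Algebra.Etale K L := ⟨inferInstance, inferInstance⟩
  exact RingHom.etale_algebraMap.mpr inferInstance

/-- the spectrum of a finite separable extension as a finite étale cover of `Spec K` -/
noncomputable def YL : FEt.Cat (Spec (CommRingCat.of K)) :=
  MorphismProperty.Over.mk ⊤ (Spec.map (CommRingCat.ofHom (algebraMap K L)))
    ⟨isFinite_YL K L, etale_YL K L⟩

variable {K L}

/-- the geometric point of `Spec L` given by an embedding -/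
noncomputable def ptOf (ρ : L →ₐ[K] Ω) : FEt.fiberObj (gp K Ω) (YL K L) :=
  ⟨Spec.map (CommRingCat.ofHom ρ.toRingHom), by
    show Spec.map (CommRingCat.ofHom ρ.toRingHom) ≫ Spec.map (CommRingCat.ofHom (algebraMap K L)) = _
    rw [gp, ← Spec.map_comp]
    congr 1
    ext x
    exact ρ.commutes x⟩

/-- the embedding given by a geometric point of `Spec L` -/
noncomputable def homOf (s : FEt.fiberObj (gp K Ω) (YL K L)) : L →ₐ[K] Ω :=
  { toRingHom := (Spec.preimage s.1).hom
    commutes' := by
      intro r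
      have h1 : CommRingCat.ofHom (algebraMap K L) ≫ Spec.preimage s.1 =
          CommRingCat.ofHom (algebraMap K Ω) := by
        apply Spec.map_injective
        rw [Spec.map_comp, Spec.map_preimage]
        exact s.2
      exact congrArg (fun f => f.hom r) h1 }

theorem ptOf_homOf (s : FEt.fiberObj (gp K Ω) (YL K L)) : ptOf (homOf s) = s := by
  apply Subtype.ext
  show Spec.map (CommRingCat.ofHom (Spec.preimage s.1).hom) = s.1
  exact Spec.map_preimage s.1

theorem homOf_ptOf (ρ : L →ₐ[K] Ω) : homOf (ptOf ρ) = ρ := by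
  apply AlgHom.ext
  intro x
  have : Spec.preimage (Spec.map (CommRingCat.ofHom ρ.toRingHom)) = CommRingCat.ofHom ρ.toRingHom :=
    Spec.preimage_map _
  exact congrArg (fun f => f.hom x) this

theorem ptOf_injective : Function.Injective (ptOf (K := K) (Ω := Ω) (L := L)) := by
  intro a b h
  rw [← homOf_ptOf a, h, homOf_ptOf]

theorem actFun_ptOf (σ : Ω →ₐ[K] Ω) (ρ : L →ₐ[K] Ω) :
    actFun σ (YL K L) (ptOf ρ) = ptOf (σ.comp ρ) := by
  apply Subtype.ext
  show Spec.map (CommRingCat.ofHom σ.toRingHom) ≫ Spec.map (CommRingCat.ofHom ρ.toRingHom) =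
    Spec.map (CommRingCat.ofHom (σ.comp ρ).toRingHom)
  rw [← Spec.map_comp]
  rfl

/-- functoriality of `YL` -/
noncomputable def YLmap {L' : Type u} [Field L'] [Algebra K L'] [FiniteDimensional K L']
    [Algebra.IsSeparable K L'] (h : L →ₐ[K] L') : YL K L' ⟶ YL K L :=
  MorphismProperty.Over.homMk (Spec.map (CommRingCat.ofHom h.toRingHom)) (by
    show Spec.map (CommRingCat.ofHom h.toRingHom) ≫ Spec.map (CommRingCat.ofHom (algebraMap K L)) =
      Spec.map (CommRingCat.ofHom (algebraMap K L'))
    rw [← Spec.map_comp]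
    congr 1
    ext x
    exact h.commutes x) trivial

theorem map_YLmap_ptOf {L' : Type u} [Field L'] [Algebra K L'] [FiniteDimensional K L']
    [Algebra.IsSeparable K L'] (h : L →ₐ[K] L') (ρ : L' →ₐ[K] Ω) :
    (FEt.fiber (gp K Ω)).map (YLmap h) (ptOf ρ) = ptOf (ρ.comp h) := by
  apply Subtype.ext
  show Spec.map (CommRingCat.ofHom ρ.toRingHom) ≫ Spec.map (CommRingCat.ofHom h.toRingHom) =
    Spec.map (CommRingCat.ofHom (ρ.comp h).toRingHom)
  rw [← Spec.map_comp]
  rfl

end YL


/-- two `K`-endomorphisms of an algebraic extension agreeing on separable elements are equal -/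
theorem algHom_ext_of_separable [Algebra.IsAlgebraic K Ω] (σ τ : Ω →ₐ[K] Ω)
    (h : ∀ x : Ω, IsSeparable K x → σ x = τ x) : σ = τ := by
  have := IsPurelyInseparable.injective_comp_algebraMap (separableClosure K Ω) Ω Ω
  apply AlgHom.coe_ringHom_injective
  apply this
  ext ⟨x, hx⟩
  exact h x (mem_separableClosure_iff.mp hx)

theorem toAut_injective [Algebra.IsAlgebraic K Ω] :
    Function.Injective (toAut (K := K) (Ω := Ω)) := by
  intro σ τ h
  have h' : (σ : Ω →ₐ[K] Ω) = τ := by
    apply algHom_ext_of_separable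
    intro x hx
    let M : IntermediateField K Ω := IntermediateField.adjoin K {x}
    haveI : FiniteDimensional K M := IntermediateField.adjoin.finiteDimensional hx.isIntegral
    haveI : Algebra.IsSeparable K M :=
      (IntermediateField.isSeparable_adjoin_simple_iff_isSeparable K Ω).mpr hx
    have h1 : (toAut σ).hom.app (YL K M) (ptOf M.val) = (toAut τ).hom.app (YL K M) (ptOf M.val) := by
      rw [h]
    change actFun (σ : Ω →ₐ[K] Ω) (YL K M) (ptOf M.val) =
      actFun (τ : Ω →ₐ[K] Ω) (YL K M) (ptOf M.val) at h1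
    rw [actFun_ptOf, actFun_ptOf] at h1
    have h2 := ptOf_injective h1
    exact DFunLike.congr_fun h2 ⟨x, IntermediateField.mem_adjoin_simple_self K x⟩
  ext x
  exact DFunLike.congr_fun h' x

set_option maxHeartbeats 1000000 in
/-- every geometric point of a finite étale `K`-scheme factors through the spectrum of a finite
separable subextension of `Ω` -/
theorem exists_factor [Algebra.IsAlgebraic K Ω] {P : Scheme.{u}}
    (p : P ⟶ Spec (CommRingCat.of K)) [IsFinite p] [Etale p]
    (s : Spec (CommRingCat.of Ω) ⟶ P) (hsp : s ≫ p = gp K Ω) :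
    ∃ (M : IntermediateField K Ω) (hf : FiniteDimensional K M) (hs : Algebra.IsSeparable K M)
      (g : Spec (CommRingCat.of M) ⟶ P),
      g ≫ p = Spec.map (CommRingCat.ofHom (algebraMap K M)) ∧
      Spec.map (CommRingCat.ofHom M.val.toRingHom) ≫ g = s := by
  haveI : IsAffine P := isAffine_of_isAffineHom p
  let B : CommRingCat.{u} := Γ(P, ⊤)
  let ψ : CommRingCat.of K ⟶ B := (Scheme.ΓSpecIso (CommRingCat.of K)).inv ≫ p.appTop
  have hp : p = P.isoSpec.hom ≫ Spec.map ψ := by
    have h1 := Scheme.isoSpec_hom_naturality p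
    rw [Scheme.isoSpec_Spec_hom] at h1
    have h2 : Spec.map ψ = Spec.map p.appTop ≫ Spec.map (Scheme.ΓSpecIso (CommRingCat.of K)).inv := by
      rw [← Spec.map_comp]
    rw [h2, ← Category.assoc, h1, Category.assoc, ← Spec.map_comp, Iso.inv_hom_id, Spec.map_id,
      Category.comp_id]
  have hψ : Spec.map ψ = P.isoSpec.inv ≫ p := by rw [hp, Iso.inv_hom_id_assoc]
  haveI : IsFinite (Spec.map ψ) := by rw [hψ]; infer_instance
  haveI : Etale (Spec.map ψ) := by rw [hψ]; infer_instance
  have hfin : ψ.hom.Finite := (IsFinite.SpecMap_iff ψ).mp inferInstance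
  have het : ψ.hom.Etale := (HasRingHomProperty.Spec_iff (P := @Etale)).mp inferInstance
  algebraize [ψ.hom]
  -- the algebra map to Ω
  let ρ : B →ₐ[K] Ω :=
    { toRingHom := (Spec.preimage (s ≫ P.isoSpec.hom)).hom
      commutes' := by
        intro r
        have h1 : ψ ≫ Spec.preimage (s ≫ P.isoSpec.hom) =
            CommRingCat.ofHom (algebraMap K Ω) := by
          apply Spec.map_injective
          rw [Spec.map_comp, Spec.map_preimage, Category.assoc, ← hp]
          exact hsp
        exact congrArg (fun f => f.hom r) h1 }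
  have hρ : Spec.map (CommRingCat.ofHom ρ.toRingHom) = s ≫ P.isoSpec.hom :=
    Spec.map_preimage _
  let M : IntermediateField K Ω := ρ.range.toIntermediateField' (Subalgebra.isField_of_algebraic _)
  let ρM : B →ₐ[K] M := ρ.codRestrict M.toSubalgebra (fun b => ⟨b, rfl⟩)
  have hsurj : Function.Surjective ρM := by
    rintro ⟨_, ⟨b, rfl⟩⟩
    exact ⟨b, rfl⟩
  have hf : FiniteDimensional K M := Module.Finite.of_surjective ρM.toLinearMap hsurj
  haveI : Algebra.FormallyUnramified K M := Algebra.FormallyUnramified.of_surjective ρM hsurj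
  have hs : Algebra.IsSeparable K M := Algebra.FormallyUnramified.isSeparable K M
  refine ⟨M, hf, hs, Spec.map (CommRingCat.ofHom ρM.toRingHom) ≫ P.isoSpec.inv, ?_, ?_⟩
  · rw [Category.assoc, ← hψ, ← Spec.map_comp]
    congr 1
    ext r
    exact congrArg Subtype.val (ρM.commutes r)
  · rw [← Category.assoc, ← Spec.map_comp]
    have : CommRingCat.ofHom ρM.toRingHom ≫ CommRingCat.ofHom M.val.toRingHom =
        CommRingCat.ofHom ρ.toRingHom := by
      ext b; rfl
    rw [this, hρ, Category.assoc, Iso.hom_inv_id, Category.comp_id]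

theorem exists_YL [Algebra.IsAlgebraic K Ω] (Y : FEt.Cat (Spec (CommRingCat.of K)))
    (s : FEt.fiberObj (gp K Ω) Y) :
    ∃ (M : IntermediateField K Ω) (hf : FiniteDimensional K M) (hs : Algebra.IsSeparable K M)
      (g : YL K M ⟶ Y), (FEt.fiber (gp K Ω)).map g (ptOf M.val) = s := by
  let p : Y.left ⟶ Spec (CommRingCat.of K) := Y.hom
  haveI : IsFinite p := Y.prop.1
  haveI : Etale p := Y.prop.2
  obtain ⟨M, hf, hs, g, hg1, hg2⟩ := exists_factor p s.1 s.2
  exact ⟨M, hf, hs, MorphismProperty.Over.homMk g hg1 trivial, Subtype.ext hg2⟩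


end Groth.Agent.Helper23.GalPi
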