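import Mathlib
import Groth.Prelude
import Groth.Agent.Lib.Helper23.SchDense

/-!
# Global functions of a flat proper scheme over an integrally closed domain (helper23)
-/

set_option autoImplicit false
universe u
open CategoryTheory CategoryTheory.Limits AlgebraicGeometry

namespace Groth.Agent.Helper23.GammaBase

/-- The ring map `A → Γ(X, ⊤)` attached to `X ⟶ Spec A` (commutative-ring version of
`Coh.toGlobal`). -/
noncomputable def gHom {A : Type u} [CommRing A] {X : Scheme.{u}}
    (f : X ⟶ Spec (CommRingCat.of A)) : A →+* Γ(X, ⊤) :=
  (f.appTop).hom.comp (Scheme.ΓSpecIso (CommRingCat.of A)).inv.hom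

theorem toGlobal_apply {A : Type u} [CommRing A] {X : Scheme.{u}}
    (f : X ⟶ Spec (CommRingCat.of A)) (a : A) : Coh.toGlobal f a = gHom f a := rfl

/-- compatibility of `toGlobal` with base change of the base ring. -/
theorem toGlobal_comp {R K : Type u} [CommRing R] [CommRing K] [Algebra R K] {X : Scheme.{u}}
    (f : X ⟶ Spec (CommRingCat.of R)) (r : R) :
    (pullback.fst f (Spec.map (CommRingCat.ofHom (algebraMap R K)))).appTop.hom
        (gHom f r) =
      gHom (pullback.snd f (Spec.map (CommRingCat.ofHom (algebraMap R K))))
        (algebraMap R K r) := by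
  have h1 : f.appTop ≫ (pullback.fst f (Spec.map (CommRingCat.ofHom (algebraMap R K)))).appTop =
      (Spec.map (CommRingCat.ofHom (algebraMap R K))).appTop ≫
        (pullback.snd f (Spec.map (CommRingCat.ofHom (algebraMap R K)))).appTop := by
    rw [← Scheme.Hom.comp_appTop, ← Scheme.Hom.comp_appTop, pullback.condition]
  have h2 := Scheme.ΓSpecIso_inv_naturality (CommRingCat.ofHom (algebraMap R K))
  have h3 : (Scheme.ΓSpecIso (CommRingCat.of R)).inv ≫ f.appTop ≫
      (pullback.fst f (Spec.map (CommRingCat.ofHom (algebraMap R K)))).appTop =
      CommRingCat.ofHom (algebraMap R K) ≫ (Scheme.ΓSpecIso (CommRingCat.of K)).inv ≫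
        (pullback.snd f (Spec.map (CommRingCat.ofHom (algebraMap R K)))).appTop := by
    rw [h1, ← Category.assoc, ← h2, Category.assoc]
  exact ConcreteCategory.congr_hom h3 r

/-- for a flat universally closed scheme over an integrally closed domain whose generic fibre has
only the constants as global functions, the global functions are the constants. -/
theorem toGlobal_bijective (R : Type u) [CommRing R] [IsDomain R] [IsIntegrallyClosed R]
    {X : Scheme.{u}} (f : X ⟶ Spec (CommRingCat.of R)) [Flat f] [UniversallyClosed f]
    (hinj : Function.Injective (gHom (pullback.snd f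
      (Spec.map (CommRingCat.ofHom (algebraMap R (FractionRing R)))))))
    (hsurj : Function.Surjective (gHom (pullback.snd f
      (Spec.map (CommRingCat.ofHom (algebraMap R (FractionRing R))))))) :
    Function.Bijective (gHom f) := by
  set ι := Spec.map (CommRingCat.ofHom (algebraMap R (FractionRing R))) with hι
  have hdom := SchDense.isSchemeTheoreticallyDominant_genericFibre R (FractionRing R) f
  have hjinj : Function.Injective (pullback.fst f ι).appTop.hom := by
    have := (pullback.fst f ι).app_injective ⊤
    exact this
  have hcomp := toGlobal_comp (K := FractionRing R) f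
  constructor
  · intro r r' h
    have h1 := congrArg (pullback.fst f ι).appTop.hom h
    rw [hcomp, hcomp] at h1
    exact IsFractionRing.injective R (FractionRing R) (hinj h1)
  · intro b
    obtain ⟨c, hc⟩ := hsurj ((pullback.fst f ι).appTop.hom b)
    have hint : f.appTop.hom.IsIntegral := isIntegral_appTop_of_universallyClosed f
    have hint' : (gHom f).IsIntegral := by
      have h1 : (Scheme.ΓSpecIso (CommRingCat.of R)).inv.hom.IsIntegral :=
        RingHom.isIntegral_of_surjective _
          (ConcreteCategory.bijective_of_isIso (Scheme.ΓSpecIso (CommRingCat.of R)).inv).2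
      exact RingHom.IsIntegral.trans _ _ h1 hint
    obtain ⟨p, hp, hpb⟩ := hint' b
    have hcint : IsIntegral R c := by
      refine ⟨p, hp, ?_⟩
      apply hinj
      rw [map_zero, Polynomial.hom_eval₂, hc]
      have h2 : ((gHom (pullback.snd f ι)).comp (algebraMap R (FractionRing R))) =
          (pullback.fst f ι).appTop.hom.comp (gHom f) := by
        ext r
        exact (hcomp r).symm
      rw [h2, ← Polynomial.hom_eval₂, hpb, map_zero]
    obtain ⟨r, hr⟩ := IsIntegrallyClosed.isIntegral_iff.1 hcint
    refine ⟨r, ?_⟩
    apply hjinj
    rw [hcomp, hr, hc]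

end Groth.Agent.Helper23.GammaBase
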