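import Mathlib

/-!
# Separability / pure inseparability of a field extension from its geometric base change (helper23)
-/

set_option autoImplicit false
universe u
open Polynomial TensorProduct

namespace Groth.Agent.Helper23.GammaField

section Alg

variable (k Ω K : Type*) [Field k] [Field Ω] [Field K] [Algebra k Ω] [Algebra k K]

/-- the minimal polynomial of `1 ⊗ x` over `Ω` is the base change of the minimal polynomial. -/
theorem minpoly_one_tmul (x : K) (hx : IsIntegral k x) :
    minpoly Ω ((1 : Ω) ⊗ₜ[k] x : Ω ⊗[k] K) = (minpoly k x).map (algebraMap k Ω) := by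
  set f := minpoly k x with hf
  set y : Ω ⊗[k] K := (1 : Ω) ⊗ₜ[k] x with hy
  have hfm : (f.map (algebraMap k Ω)).Monic := (minpoly.monic hx).map _
  have hroot : aeval y (f.map (algebraMap k Ω)) = 0 := by
    rw [aeval_map_algebraMap]
    have : y = (Algebra.TensorProduct.includeRight : K →ₐ[k] Ω ⊗[k] K) x := rfl
    rw [this, aeval_algHom_apply, minpoly.aeval, map_zero]
  have hli : LinearIndependent Ω (fun i : Fin f.natDegree => y ^ (i : ℕ)) := by
    have h1 : LinearIndependent k fun i : Fin f.natDegree => x ^ (i : ℕ) := linearIndependent_pow x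
    have h2 := Module.Flat.linearIndependent_one_tmul (S := Ω) h1
    convert h2 using 2 with i
    rw [hy, Algebra.TensorProduct.tmul_pow, one_pow]
  symm
  refine minpoly.unique Ω y hfm hroot ?_
  intro q hq hqy
  by_contra hlt
  rw [not_le] at hlt
  have hlt' : q.natDegree < f.natDegree := by
    have h1 := natDegree_lt_natDegree hq.ne_zero hlt
    rwa [natDegree_map] at h1
  have hsum := aeval_eq_sum_range' hlt' y
  rw [hqy, Finset.sum_range] at hsum
  have hz := Fintype.linearIndependent_iff.1 hli (fun i => q.coeff i) hsum.symm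
  apply hq.ne_zero
  ext n
  rw [coeff_zero]
  by_cases hn : n < f.natDegree
  · exact hz ⟨n, hn⟩
  · exact coeff_eq_zero_of_natDegree_lt (lt_of_lt_of_le hlt' (not_lt.1 hn))

/-- a finite (algebraic) field extension whose base change to an algebraically closed field is
reduced is separable. -/
theorem isSeparable_of_isReduced [IsAlgClosed Ω] [Algebra.IsAlgebraic k K]
    [IsReduced (Ω ⊗[k] K)] : Algebra.IsSeparable k K := by
  refine ⟨fun x => ?_⟩
  have hx : IsIntegral k x := Algebra.IsIntegral.isIntegral x
  have hrad : IsRadical (minpoly Ω ((1 : Ω) ⊗ₜ[k] x : Ω ⊗[k] K)) := minpoly.isRadical Ω _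
  rw [minpoly_one_tmul k Ω K x hx] at hrad
  have hne : (minpoly k x).map (algebraMap k Ω) ≠ 0 := ((minpoly.monic hx).map _).ne_zero
  have hsq : Squarefree ((minpoly k x).map (algebraMap k Ω)) := hrad.squarefree hne
  have hsep : ((minpoly k x).map (algebraMap k Ω)).Separable :=
    PerfectField.separable_iff_squarefree.2 hsq
  exact (separable_map _).1 hsep

/-- an algebraic field extension whose base change to an algebraically closed field has only
trivial idempotents is purely inseparable. -/
theorem isPurelyInseparable_of_idempotents [IsAlgClosed Ω] [Algebra.IsAlgebraic k K]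
    (hid : ∀ e : Ω ⊗[k] K, IsIdempotentElem e → e = 0 ∨ e = 1) : IsPurelyInseparable k K := by
  rw [isPurelyInseparable_iff]
  intro x
  have hx : IsIntegral k x := Algebra.IsIntegral.isIntegral x
  refine ⟨hx, fun hsep => ?_⟩
  set f := minpoly k x with hf
  set y : Ω ⊗[k] K := (1 : Ω) ⊗ₜ[k] x with hy
  have hmin : minpoly Ω y = f.map (algebraMap k Ω) := minpoly_one_tmul k Ω K x hx
  have hfsep : (f.map (algebraMap k Ω)).Separable := (separable_map _).2 hsep
  have hfm : (f.map (algebraMap k Ω)).Monic := (minpoly.monic hx).map _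
  have hdeg0 : (f.map (algebraMap k Ω)).degree ≠ 0 := by
    rw [degree_map]
    exact (minpoly.degree_pos hx).ne'
  obtain ⟨a, ha⟩ := IsAlgClosed.exists_root _ hdeg0
  obtain ⟨h, hh⟩ : ∃ h, f.map (algebraMap k Ω) = (X - C a) * h := dvd_iff_isRoot.2 ha
  have hcop : IsCoprime (X - C a) h := by
    rw [hh] at hfsep
    exact hfsep.isCoprime
  obtain ⟨u, v, huv⟩ := hcop
  -- huv : u * (X - C a) + v * h = 1
  have hroot : aeval y (f.map (algebraMap k Ω)) = 0 := by rw [← hmin]; exact minpoly.aeval Ω y
  have hidem : IsIdempotentElem (aeval y (v * h)) := by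
    have h1 : v * h * (v * h) = v * h - u * v * (f.map (algebraMap k Ω)) := by
      rw [hh]
      have : v * h = 1 - u * (X - C a) := by rw [← huv]; ring
      calc v * h * (v * h) = v * h * (1 - u * (X - C a)) := by rw [← this]
        _ = v * h - u * v * ((X - C a) * h) := by ring
    rw [IsIdempotentElem, ← map_mul, h1, map_sub,
      map_mul (aeval y) (u * v) (f.map (algebraMap k Ω)), hroot, mul_zero, sub_zero]
  have hXa : ¬ IsUnit (X - C a : Polynomial Ω) := not_isUnit_X_sub_C a
  have hdvd_iff : ∀ q : Polynomial Ω, aeval y q = 0 ↔ f.map (algebraMap k Ω) ∣ q := by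
    intro q
    rw [← hmin]
    exact (minpoly.dvd_iff).symm
  rcases hid _ hidem with h0 | h1
  · exfalso
    rw [hdvd_iff] at h0
    have h2 : (X - C a) ∣ v * h := (Dvd.intro _ hh.symm).trans h0
    have h3 : (X - C a) ∣ (1 : Polynomial Ω) := by
      rw [← huv]
      exact dvd_add (Dvd.intro_left _ rfl) h2
    exact hXa (isUnit_of_dvd_one h3)
  · have h2 : aeval y (v * h - 1) = 0 := by rw [map_sub, h1, map_one, sub_self]
    rw [hdvd_iff] at h2
    have h3 : h ∣ v * h - 1 := (Dvd.intro_left _ hh.symm).trans h2
    have h4 : h ∣ (1 : Polynomial Ω) := by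
      have : (1 : Polynomial Ω) = v * h - (v * h - 1) := by ring
      rw [this]
      exact dvd_sub (Dvd.intro_left _ rfl) h3
    have hhu : IsUnit h := isUnit_of_dvd_one h4
    have hdeg1 : f.natDegree = 1 := by
      have h5 : (f.map (algebraMap k Ω)).natDegree = 1 := by
        rw [hh, natDegree_mul (X_sub_C_ne_zero a) hhu.ne_zero, natDegree_X_sub_C,
          natDegree_eq_zero_of_isUnit hhu]
      rwa [natDegree_map] at h5
    have hdeg1' : f.degree = 1 := by
      rw [degree_eq_natDegree (minpoly.ne_zero hx), hdeg1]; rfl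
    exact minpoly.mem_range_of_degree_eq_one k x hdeg1'

end Alg

section Geo

open AlgebraicGeometry CategoryTheory

/-- on a connected scheme, idempotent global functions are trivial. -/
theorem idempotent_trivial (X : Scheme.{u}) [PreconnectedSpace X] (e : Γ(X, ⊤))
    (he : IsIdempotentElem e) : e = 0 ∨ e = 1 := by
  have hmul : e * (1 - e) = 0 := by
    rw [mul_sub, mul_one, he.eq, sub_self]
  have hcompl : ((X.basicOpen e : Set X))ᶜ = (X.basicOpen (1 - e) : Set X) := by
    ext x
    simp only [Set.mem_compl_iff, SetLike.mem_coe, Scheme.mem_basicOpen_top]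
    constructor
    · intro h
      rcases IsLocalRing.isUnit_or_isUnit_one_sub_self (X.presheaf.germ ⊤ x trivial e) with h1 | h1
      · exact absurd h1 h
      · rwa [map_sub, map_one]
    · intro h1 h2
      have h3 : IsUnit (X.presheaf.germ ⊤ x trivial (e * (1 - e))) := by
        rw [map_mul]
        exact h2.mul h1
      rw [hmul, map_zero] at h3
      exact not_isUnit_zero h3
  have hclopen : IsClopen (X.basicOpen e : Set X) := by
    refine ⟨?_, (X.basicOpen e).isOpen⟩
    rw [← isOpen_compl_iff, hcompl]
    exact (X.basicOpen (1 - e)).isOpen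
  rcases isClopen_iff.1 hclopen with h | h
  · left
    have h1 : ∀ x : X, IsUnit (X.presheaf.germ ⊤ x trivial (1 - e)) := by
      intro x
      rw [← Scheme.mem_basicOpen_top, ← SetLike.mem_coe, ← hcompl, h]
      exact Set.mem_compl (Set.notMem_empty x)
    have h2 : IsUnit (1 - e) :=
      X.toRingedSpace.isUnit_of_isUnit_germ ⊤ (1 - e) (fun x _ => h1 x)
    exact (h2.mul_left_eq_zero).1 hmul
  · right
    have h1 : ∀ x : X, IsUnit (X.presheaf.germ ⊤ x trivial e) := by
      intro x
      rw [← Scheme.mem_basicOpen_top, ← SetLike.mem_coe, h]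
      trivial
    have h2 : IsUnit e := X.toRingedSpace.isUnit_of_isUnit_germ ⊤ e (fun x _ => h1 x)
    have h3 : 1 - e = 0 := (h2.mul_right_eq_zero).1 hmul
    exact (sub_eq_zero.1 h3).symm

end Geo

end Groth.Agent.Helper23.GammaField
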