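import Mathlib

/-!
# Global functions of a base change to a field extension (helper23)
-/

set_option autoImplicit false

universe u

open CategoryTheory AlgebraicGeometry TopologicalSpace Opposite Limits
open scoped TensorProduct

namespace Groth.Agent.Helper23.QsGeo

/-- The ring map `k → Γ(X, ⊤)` of a scheme over `Spec k`. -/
noncomputable def gammaHom (k : Type u) [CommRing k] (X : Scheme.{u})
    [X.Over (Spec (CommRingCat.of k))] : k →+* Γ(X, ⊤) :=
  ((Scheme.ΓSpecIso (CommRingCat.of k)).inv ≫ (X ↘ Spec (CommRingCat.of k)).appTop).hom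

/-- The `k`-algebra structure on the global functions of a scheme over `Spec k`. -/
noncomputable abbrev gammaAlgebra (k : Type u) [CommRing k] (X : Scheme.{u})
    [X.Over (Spec (CommRingCat.of k))] : Algebra k Γ(X, ⊤) :=
  (gammaHom k X).toAlgebra

/-- Flat base change for global functions: for a quasi-compact quasi-separated scheme `X` over a
field `k` and a field extension `L`, `Γ(X_L, ⊤) ≅ Γ(X, ⊤) ⊗[k] L`. -/
theorem nonempty_ringEquiv_gamma_pullback (k : Type u) [Field k] (X : Scheme.{u})
    [X.Over (Spec (CommRingCat.of k))] [CompactSpace X] [QuasiSeparatedSpace X]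
    (L : Type u) [Field L] [Algebra k L] :
    letI := gammaAlgebra k X
    Nonempty (Γ(X, ⊤) ⊗[k] L ≃+*
      Γ(pullback (X ↘ Spec (CommRingCat.of k))
        (Spec.map (CommRingCat.ofHom (algebraMap k L))), ⊤)) := by
  letI := gammaAlgebra k X
  let iX := X ↘ Spec (CommRingCat.of k)
  let f := Spec.map (CommRingCat.ofHom (algebraMap k L))
  have H : IsPullback (pullback.fst iX f) (pullback.snd iX f) iX f := IsPullback.of_hasPullback iX f
  haveI : Flat f := by
    rw [Flat.SpecMap_iff, CommRingCat.hom_ofHom, RingHom.flat_algebraMap_iff]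
    infer_instance
  have hiso := isIso_pushoutSection_of_isQuasiSeparated_of_flat_right (US := ⊤) (UT := ⊤) (UX := ⊤)
    (UY := ⊤) H (by simp) (by simp) (by simp) (isAffineOpen_top _) (isAffineOpen_top _)
    (by simpa using isCompact_univ) (by simpa using isQuasiSeparated_univ)
  rw [isIso_pushoutSection_iff] at hiso
  have H' : IsPushout ((Scheme.ΓSpecIso (CommRingCat.of k)).inv ≫ iX.appTop)
      (CommRingCat.ofHom (algebraMap k L)) (pullback.fst iX f).appTop
      ((Scheme.ΓSpecIso (CommRingCat.of L)).inv ≫ (pullback.snd iX f).appTop) := by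
    refine hiso.of_iso (Scheme.ΓSpecIso (CommRingCat.of k)) (Iso.refl _)
      (Scheme.ΓSpecIso (CommRingCat.of L)) (Iso.refl _) ?_ ?_ ?_ ?_
    · simp [Scheme.Hom.appTop, Scheme.Hom.appLE]
    · simp only [Scheme.Hom.appLE]
      simp [f]
    · simp [Scheme.Hom.appTop, Scheme.Hom.appLE]
    · simp [Scheme.Hom.appTop, Scheme.Hom.appLE]
  exact ⟨((CommRingCat.isPushout_tensorProduct k Γ(X, ⊤) L).isoIsPushout _ _
    H').commRingCatIsoToRingEquiv⟩

end Groth.Agent.Helper23.QsGeo
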