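import Mathlib
import Groth.Agent.Lib.Helper23.GammaField
import Groth.Agent.Lib.Helper23.QsGeo2

/-!
# Global functions of a geometrically reduced / irreducible scheme over a field (helper23)
-/

set_option autoImplicit false
universe u
open CategoryTheory CategoryTheory.Limits AlgebraicGeometry TensorProduct

namespace Groth.Agent.Helper23.GammaField

open Groth.Agent.Helper23.QsGeo

theorem isReduced_tensor_of_geometricallyReduced (k : Type u) [Field k] (X : Scheme.{u})
    [X.Over (Spec (CommRingCat.of k))] [CompactSpace X] [QuasiSeparatedSpace X]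
    [GeometricallyReduced (X ↘ Spec (CommRingCat.of k))] :
    letI := gammaAlgebra k X
    IsReduced (AlgebraicClosure k ⊗[k] Γ(X, ⊤)) := by
  letI := gammaAlgebra k X
  obtain ⟨φ⟩ := nonempty_ringEquiv_gamma_pullback k X (AlgebraicClosure k)
  have hred : IsReduced (pullback (X ↘ Spec (CommRingCat.of k))
      (Spec.map (CommRingCat.ofHom (algebraMap k (AlgebraicClosure k))))) :=
    GeometricallyReduced.geometrically_isReduced _ _ _ (.of_hasPullback _ _)
  let ψ : AlgebraicClosure k ⊗[k] Γ(X, ⊤) →+* Γ(pullback (X ↘ Spec (CommRingCat.of k))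
      (Spec.map (CommRingCat.ofHom (algebraMap k (AlgebraicClosure k)))), ⊤) :=
    φ.toRingHom.comp (Algebra.TensorProduct.comm k (AlgebraicClosure k) Γ(X, ⊤)).toRingEquiv.toRingHom
  have hψ : Function.Injective ψ :=
    φ.injective.comp (Algebra.TensorProduct.comm k (AlgebraicClosure k) Γ(X, ⊤)).injective
  exact isReduced_of_injective ψ hψ

theorem idempotent_tensor_of_geometricallyIrreducible (k : Type u) [Field k] (X : Scheme.{u})
    [X.Over (Spec (CommRingCat.of k))] [CompactSpace X] [QuasiSeparatedSpace X]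
    [GeometricallyIrreducible (X ↘ Spec (CommRingCat.of k))] :
    letI := gammaAlgebra k X
    ∀ e : AlgebraicClosure k ⊗[k] Γ(X, ⊤), IsIdempotentElem e → e = 0 ∨ e = 1 := by
  letI := gammaAlgebra k X
  intro e he
  obtain ⟨φ⟩ := nonempty_ringEquiv_gamma_pullback k X (AlgebraicClosure k)
  have hirr : IrreducibleSpace ↥(pullback (X ↘ Spec (CommRingCat.of k))
      (Spec.map (CommRingCat.ofHom (algebraMap k (AlgebraicClosure k)))) : Scheme.{u}) :=
    GeometricallyIrreducible.geometrically_irreducibleSpace _ _ _ (.of_hasPullback _ _)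
  let ψ : AlgebraicClosure k ⊗[k] Γ(X, ⊤) →+* Γ(pullback (X ↘ Spec (CommRingCat.of k))
      (Spec.map (CommRingCat.ofHom (algebraMap k (AlgebraicClosure k)))), ⊤) :=
    φ.toRingHom.comp (Algebra.TensorProduct.comm k (AlgebraicClosure k) Γ(X, ⊤)).toRingEquiv.toRingHom
  have hψ : Function.Injective ψ :=
    φ.injective.comp (Algebra.TensorProduct.comm k (AlgebraicClosure k) Γ(X, ⊤)).injective
  have hid : IsIdempotentElem (ψ e) := he.map ψ
  rcases idempotent_trivial _ (ψ e) hid with h | h
  · left
    exact hψ (h.trans (map_zero ψ).symm)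
  · right
    exact hψ (h.trans (map_one ψ).symm)

end Groth.Agent.Helper23.GammaField
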