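import Mathlib
import Groth.Prelude.Def_W4c4chowquasisplitNorm

/-!
# Residue degree of `Spec F ⟶ Spec k` for a field extension
-/

set_option autoImplicit false

universe u

open CategoryTheory AlgebraicGeometry

namespace Groth.Agent.Helper23.QsPt

/-- the evaluation `F → κ(x)` at a point of `Spec F`. -/
noncomputable def ev (F : Type u) [Field F] (x : Spec (CommRingCat.of F)) :
    F →+* (Spec (CommRingCat.of F)).residueField x :=
  ((Scheme.ΓSpecIso (CommRingCat.of F)).inv ≫ (Spec (CommRingCat.of F)).Γevaluation x).hom

set_option backward.isDefEq.respectTransparency.types false in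
theorem ev_bijective (F : Type u) [Field F] (x : Spec (CommRingCat.of F)) :
    Function.Bijective (ev F x) := by
  refine ⟨(ev F x).injective, ?_⟩
  have hmax : x.asIdeal.IsMaximal := by
    have : x.asIdeal = ⊥ := Ideal.eq_bot_of_prime x.asIdeal
    rw [this]
    exact Ideal.bot_isMaximal
  have h1 := Scheme.Spec.algebraMap_residueFieldIso_inv (CommRingCat.of F) x
  have h2 : (ev F x) = ((Scheme.Spec.residueFieldIso (CommRingCat.of F) x).inv).hom.comp
      (algebraMap F x.asIdeal.ResidueField) := by
    have := congrArg (fun f => f.hom) h1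
    simp only [CommRingCat.hom_comp, CommRingCat.hom_ofHom] at this
    rw [this]
    rfl
  rw [h2]
  intro y
  obtain ⟨z, hz⟩ := x.asIdeal.algebraMap_residueField_surjective
    ((Scheme.Spec.residueFieldIso (CommRingCat.of F) x).hom.hom y)
  refine ⟨z, ?_⟩
  rw [RingHom.comp_apply, hz]
  exact congrArg (fun f => f.hom y) (Scheme.Spec.residueFieldIso (CommRingCat.of F) x).hom_inv_id

theorem ev_naturality (k F : Type u) [Field k] [Field F] [Algebra k F]
    (x : Spec (CommRingCat.of F)) (a : k) :
    ((Spec.map (CommRingCat.ofHom (algebraMap k F))).residueFieldMap x).hom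
        (ev k ((Spec.map (CommRingCat.ofHom (algebraMap k F))) x) a) =
      ev F x (algebraMap k F a) := by
  have h1 := Scheme.Γevaluation_naturality (Spec.map (CommRingCat.ofHom (algebraMap k F))) x
  have h2 := Scheme.ΓSpecIso_inv_naturality (CommRingCat.ofHom (algebraMap k F))
  have h3 : (Scheme.ΓSpecIso (CommRingCat.of k)).inv ≫
      (Spec (CommRingCat.of k)).Γevaluation ((Spec.map (CommRingCat.ofHom (algebraMap k F))) x) ≫
      (Spec.map (CommRingCat.ofHom (algebraMap k F))).residueFieldMap x =
      CommRingCat.ofHom (algebraMap k F) ≫ (Scheme.ΓSpecIso (CommRingCat.of F)).inv ≫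
        (Spec (CommRingCat.of F)).Γevaluation x := by
    rw [h1, ← Category.assoc, ← h2, Category.assoc]
  exact congrArg (fun f => f.hom a) h3

theorem residueDegree_spec_field (k F : Type u) [Field k] [Field F] [Algebra k F]
    (x : Spec (CommRingCat.of F)) :
    (Spec.map (CommRingCat.ofHom (algebraMap k F))).residueDegree x = Module.finrank k F := by
  unfold Scheme.Hom.residueDegree
  letI := ((Spec.map (CommRingCat.ofHom (algebraMap k F))).residueFieldMap x).hom.toAlgebra
  symm
  refine Algebra.finrank_eq_of_equiv_equiv
    (RingEquiv.ofBijective (ev k ((Spec.map (CommRingCat.ofHom (algebraMap k F))) x))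
      (ev_bijective k _))
    (RingEquiv.ofBijective (ev F x) (ev_bijective F x)) ?_
  ext a
  exact ev_naturality k F x a

end Groth.Agent.Helper23.QsPt
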