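import Mathlib
import Groth.Prelude.Def_W4c1zetahwZeta
import Groth.Agent.Lib.Helper23.QsPt1

/-!
# Finiteness of the set of closed points of given degree (helper23)
-/

set_option autoImplicit false

universe u

open CategoryTheory AlgebraicGeometry

namespace Groth.Agent.Helper23.ZetaPt

/-- Ring homomorphisms from an algebra of finite type over a finite ring to a finite ring are finite
in number. -/
theorem finite_ringHom_of_finiteType {k A F : Type*} [CommRing k] [Finite k] [CommRing A]
    [CommRing F] [Finite F] (ρ : k →+* A) (hρ : ρ.FiniteType) : Finite (A →+* F) := by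
  letI := ρ.toAlgebra
  have hft : Algebra.FiniteType k A := hρ
  obtain ⟨n, π, hπ⟩ := Algebra.FiniteType.iff_quotient_mvPolynomial''.mp hft
  let Φ : (A →+* F) → (k → F) × (Fin n → F) := fun ψ => (fun a => ψ (ρ a), fun i => ψ (π (MvPolynomial.X i)))
  have hΦ : Function.Injective Φ := by
    intro ψ₁ ψ₂ h
    have h1 : ∀ a, ψ₁ (ρ a) = ψ₂ (ρ a) := fun a => congrFun (congrArg Prod.fst h) a
    have h2 : ∀ i, ψ₁ (π (MvPolynomial.X i)) = ψ₂ (π (MvPolynomial.X i)) :=
      fun i => congrFun (congrArg Prod.snd h) i
    have h3 : ψ₁.comp (π : MvPolynomial (Fin n) k →+* A) = ψ₂.comp (π : MvPolynomial (Fin n) k →+* A) := by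
      apply MvPolynomial.ringHom_ext
      · intro a
        simp only [RingHom.comp_apply, RingHom.coe_coe]
        have : π (MvPolynomial.C a) = ρ a := by
          rw [← MvPolynomial.algebraMap_eq, AlgHom.commutes]; rfl
        rw [this]; exact h1 a
      · intro i
        exact h2 i
    ext b
    obtain ⟨c, rfl⟩ := hπ b
    exact congrArg (fun φ => φ c) h3
  exact Finite.of_injective Φ hΦ

/-- Morphisms from the spectrum of a finite field to a quasi-compact scheme locally of finite type
over a finite field are finite in number. -/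
theorem finite_hom {k : Type u} [Field k] [Finite k] {X : Scheme.{u}}
    (f : X ⟶ Spec (CommRingCat.of k)) [LocallyOfFiniteType f] [QuasiCompact f]
    (F : Type u) [Field F] [Finite F] : Finite (Spec (CommRingCat.of F) ⟶ X) := by
  haveI : CompactSpace X := (quasiCompact_iff_compactSpace f).mp inferInstance
  obtain ⟨s, hsfin, hs⟩ :=
    (isCompact_iff_finite_and_eq_biUnion_affineOpens (X := X) (U := ⊤)).mp
      (by simpa using isCompact_univ)
  haveI : Finite s := hsfin.to_subtype
  have hft : ∀ U : s, (Spec.preimage (U.1.2.fromSpec ≫ f)).hom.FiniteType := by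
    intro U
    have h1 : LocallyOfFiniteType (U.1.2.fromSpec ≫ f) := inferInstance
    rw [← Spec.map_preimage (U.1.2.fromSpec ≫ f)] at h1
    exact (HasRingHomProperty.Spec_iff (P := @LocallyOfFiniteType)).mp h1
  haveI : ∀ U : s, Finite (Γ(X, U.1.1) →+* F) := fun U =>
    finite_ringHom_of_finiteType (Spec.preimage (U.1.2.fromSpec ≫ f)).hom (hft U)
  let Θ : (Σ U : s, (Γ(X, U.1.1) →+* F)) → (Spec (CommRingCat.of F) ⟶ X) :=
    fun q => Spec.map (CommRingCat.ofHom q.2) ≫ q.1.1.2.fromSpec
  have hΘ : Function.Surjective Θ := by
    intro g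
    let pt : Spec (CommRingCat.of F) := (⊥ : PrimeSpectrum F)
    have hmem : g pt ∈ (⊤ : X.Opens) := trivial
    rw [hs] at hmem
    simp only [TopologicalSpace.Opens.mem_iSup] at hmem
    obtain ⟨U, hUs, hU⟩ := hmem
    have hrange : Set.range g ⊆ Set.range U.2.fromSpec := by
      rintro _ ⟨y, rfl⟩
      have : y = pt := Subsingleton.elim (α := PrimeSpectrum F) y pt
      rw [U.2.range_fromSpec, this]
      exact hU
    refine ⟨⟨⟨U, hUs⟩, (Spec.preimage (IsOpenImmersion.lift U.2.fromSpec g hrange)).hom⟩, ?_⟩
    simp only [Θ]
    rw [CommRingCat.ofHom_hom, Spec.map_preimage, IsOpenImmersion.lift_fac]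
  exact Finite.of_surjective Θ hΘ

/-- If `Spec F` has finitely many morphisms to `X`, then `X` has finitely many points whose residue
field has the cardinality of `F` (a finite field). -/
theorem finite_of_card_residueField (X : Scheme.{u}) (F : Type u) [Field F] [Finite F]
    (hfinHom : Finite (Spec (CommRingCat.of F) ⟶ X)) :
    {x : X | Nat.card (X.residueField x) = Nat.card F}.Finite := by
  have hiso : ∀ x : {x : X // Nat.card (X.residueField x) = Nat.card F},
      Nonempty (X.residueField x.1 ≃+* F) := by
    intro x
    haveI : Finite (X.residueField x.1) := by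
      apply Nat.finite_of_card_ne_zero
      rw [x.2]
      exact Nat.card_pos.ne'
    haveI := Fintype.ofFinite (X.residueField x.1)
    haveI := Fintype.ofFinite F
    refine ⟨FiniteField.ringEquivOfCardEq (K := X.residueField x.1) (K' := F) ?_⟩
    rw [← Nat.card_eq_fintype_card, ← Nat.card_eq_fintype_card]
    exact x.2
  let Φ : {x : X // Nat.card (X.residueField x) = Nat.card F} → (Spec (CommRingCat.of F) ⟶ X) :=
    fun x => Spec.map (CommRingCat.ofHom ((hiso x).some : X.residueField x.1 →+* F)) ≫
      X.fromSpecResidueField x.1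
  have hΦ : Function.Injective Φ := by
    intro x x' h
    let pt : Spec (CommRingCat.of F) := (⊥ : PrimeSpectrum F)
    have h1 : (Φ x) pt = (Φ x') pt := by rw [h]
    simp only [Φ, Scheme.Hom.comp_apply] at h1
    rw [Scheme.fromSpecResidueField_apply, Scheme.fromSpecResidueField_apply] at h1
    exact Subtype.ext h1
  exact Set.finite_coe_iff.mp (Finite.of_injective Φ hΦ)

/-- The cardinality of the residue field at a point of positive residue degree over a finite
field. -/
theorem card_residueField {k : Type u} [Field k] [Finite k] {X : Scheme.{u}}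
    (f : X ⟶ Spec (CommRingCat.of k)) (x : X) (h : EGA4loc.residueDegree f x ≠ 0) :
    Nat.card (X.residueField x) = Nat.card k ^ EGA4loc.residueDegree f x := by
  unfold EGA4loc.residueDegree at h ⊢
  letI := (f.residueFieldMap x).hom.toAlgebra
  haveI : Module.Finite ((Spec (CommRingCat.of k)).residueField (f x)) (X.residueField x) :=
    Module.finite_of_finrank_pos (Nat.pos_of_ne_zero h)
  let e : k ≃+* (Spec (CommRingCat.of k)).residueField (f x) :=
    RingEquiv.ofBijective (QsPt.ev k (f x)) (QsPt.ev_bijective k (f x))
  haveI : Finite ((Spec (CommRingCat.of k)).residueField (f x)) := Finite.of_equiv k e.toEquiv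
  haveI : Finite (X.residueField x) :=
    Module.finite_of_finite ((Spec (CommRingCat.of k)).residueField (f x))
  rw [Module.natCard_eq_pow_finrank (K := (Spec (CommRingCat.of k)).residueField (f x)),
    Nat.card_congr e.toEquiv]

/-- For `e ≠ 0`, a quasi-compact scheme locally of finite type over a finite field has only finitely
many points of residue degree `e`. -/
theorem finite_degree_eq {k : Type u} [Field k] [Finite k] {X : Scheme.{u}}
    (f : X ⟶ Spec (CommRingCat.of k)) [LocallyOfFiniteType f] [QuasiCompact f] (e : ℕ) (he : e ≠ 0) :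
    {x : X | EGA4loc.residueDegree f x = e}.Finite := by
  by_cases hne : ∃ x₀ : X, EGA4loc.residueDegree f x₀ = e
  · obtain ⟨x₀, hx₀⟩ := hne
    have hc := card_residueField f x₀ (hx₀ ▸ he)
    haveI : Finite (X.residueField x₀) := by
      apply Nat.finite_of_card_ne_zero
      rw [hc]
      exact (pow_pos Nat.card_pos _).ne'
    refine (finite_of_card_residueField X (X.residueField x₀) (finite_hom f _)).subset ?_
    intro x hx
    simp only [Set.mem_ofPred_eq] at hx ⊢
    rw [hc, hx₀, ← hx]
    exact card_residueField f x (hx ▸ he)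
  · convert Set.finite_empty
    ext x
    simp only [Set.mem_ofPred_eq, Set.mem_empty_iff_false, iff_false]
    exact fun hx => hne ⟨x, hx⟩

end Groth.Agent.Helper23.ZetaPt
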