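import Mathlib
import Groth.Prelude.Def_W4c1zetahwZeta
import Groth.Prelude.Def_SgaExt
import Groth.Agent.Lib.Helper23.QsPt1
import Groth.Agent.Lib.Helper23.ZetaPt2

/-!
# Rational points over a finite extension versus closed points (helper23)
-/

set_option autoImplicit false

universe u

open CategoryTheory AlgebraicGeometry

namespace Groth.Agent.Helper23.ZetaPt

/-- the structure map `k → κ(x)` of a point of a `k`-scheme. -/
noncomputable def strMap {k : Type u} [Field k] {X : Scheme.{u}}
    (f : X ⟶ Spec (CommRingCat.of k)) (x : X) : k →+* X.residueField x :=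
  (f.residueFieldMap x).hom.comp (QsPt.ev k (f x))

theorem fromSpecResidueField_spec (R : CommRingCat.{u}) (y : Spec R) :
    (Spec R).fromSpecResidueField y =
      Spec.map ((Scheme.ΓSpecIso R).inv ≫ (Spec R).Γevaluation y) := by
  unfold Scheme.fromSpecResidueField
  rw [Spec.fromSpecStalk_eq, ← Spec.map_comp]
  rfl

theorem fromSpecResidueField_comp {k : Type u} [Field k] {X : Scheme.{u}}
    (f : X ⟶ Spec (CommRingCat.of k)) (x : X) :
    X.fromSpecResidueField x ≫ f = Spec.map (CommRingCat.ofHom (strMap f x)) := by
  rw [← Scheme.Hom.SpecMap_residueFieldMap_fromSpecResidueField, fromSpecResidueField_spec,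
    ← Spec.map_comp]
  rfl

/-- The residue degree is the dimension of `κ(x)` over `k` through the structure map. -/
theorem residueDegree_eq_finrank {k : Type u} [Field k] {X : Scheme.{u}}
    (f : X ⟶ Spec (CommRingCat.of k)) (x : X) :
    EGA4loc.residueDegree f x =
      @Module.finrank k (X.residueField x) _ _ (strMap f x).toAlgebra.toModule := by
  unfold EGA4loc.residueDegree
  letI := (f.residueFieldMap x).hom.toAlgebra
  letI := (strMap f x).toAlgebra
  symm
  refine Algebra.finrank_eq_of_equiv_equiv
    (RingEquiv.ofBijective (QsPt.ev k (f x)) (QsPt.ev_bijective k (f x))) (RingEquiv.refl _) ?_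
  ext a
  rfl

/-- A point of nonzero residue degree over the base field is closed. -/
theorem isClosed_of_residueDegree_ne_zero {k : Type u} [Field k] {X : Scheme.{u}}
    (f : X ⟶ Spec (CommRingCat.of k)) [LocallyOfFiniteType f] (x : X)
    (h : EGA4loc.residueDegree f x ≠ 0) : IsClosed ({x} : Set X) := by
  haveI : JacobsonSpace X := LocallyOfFiniteType.jacobsonSpace f
  rw [isClosed_singleton_iff_locallyOfFiniteType]
  rw [residueDegree_eq_finrank] at h
  letI := (strMap f x).toAlgebra
  haveI : Module.Finite k (X.residueField x) := Module.finite_of_finrank_pos (Nat.pos_of_ne_zero h)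
  have h1 : (strMap f x).FiniteType := RingHom.FiniteType.of_finite (show (strMap f x).Finite from
    inferInstanceAs (Module.Finite k (X.residueField x)))
  have h2 : LocallyOfFiniteType (Spec.map (CommRingCat.ofHom (strMap f x))) :=
    (HasRingHomProperty.Spec_iff (P := @LocallyOfFiniteType)).mpr h1
  rw [← fromSpecResidueField_comp] at h2
  exact locallyOfFiniteType_of_comp (X.fromSpecResidueField x) f

/-- A closed point of a scheme locally of finite type over a field has nonzero residue degree. -/
theorem residueDegree_ne_zero_of_isClosed {k : Type u} [Field k] {X : Scheme.{u}}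
    (f : X ⟶ Spec (CommRingCat.of k)) [LocallyOfFiniteType f] (x : X)
    (h : IsClosed ({x} : Set X)) : EGA4loc.residueDegree f x ≠ 0 := by
  haveI : JacobsonSpace X := LocallyOfFiniteType.jacobsonSpace f
  rw [isClosed_singleton_iff_locallyOfFiniteType] at h
  have h2 : LocallyOfFiniteType (X.fromSpecResidueField x ≫ f) := inferInstance
  rw [fromSpecResidueField_comp] at h2
  have h1 : (strMap f x).FiniteType := (HasRingHomProperty.Spec_iff (P := @LocallyOfFiniteType)).mp h2
  rw [residueDegree_eq_finrank]
  letI := (strMap f x).toAlgebra
  haveI : Algebra.FiniteType k (X.residueField x) := h1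
  haveI : Module.Finite k (X.residueField x) := finite_of_finite_type_of_isJacobsonRing k _
  exact Module.finrank_pos.ne'

end Groth.Agent.Helper23.ZetaPt
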