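import Mathlib
import Groth.Agent.Lib.Helper23.ZetaPt5
import Groth.Agent.Lib.Helper19.SepDeg.BaseChange

/-!
# Points of the geometric fibre over a closed point
-/

set_option autoImplicit false
universe u
open CategoryTheory CategoryTheory.Limits AlgebraicGeometry TensorProduct

set_option linter.style.haveILetI false
set_option linter.unusedVariables false
set_option linter.unusedSectionVars false

namespace Groth.Agent.Helper23.GeomFib

section Alg

variable (K : Type*) [Field K] [IsAlgClosed K] (B : Type*) [CommRing B] [Algebra K B]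

/-- the kernel of a `K`-point of a `K`-algebra -/
def kerPrime (g : B →ₐ[K] K) : PrimeSpectrum B :=
  ⟨RingHom.ker g.toRingHom, RingHom.ker_isPrime _⟩

theorem kerPrime_injective : Function.Injective (kerPrime K B) := by
  intro g₁ g₂ h
  have hk : RingHom.ker g₁.toRingHom = RingHom.ker g₂.toRingHom := congrArg PrimeSpectrum.asIdeal h
  apply AlgHom.ext
  intro b
  have h1 : b - algebraMap K B (g₁ b) ∈ RingHom.ker g₁.toRingHom := by
    rw [RingHom.mem_ker]
    simp
  rw [hk, RingHom.mem_ker] at h1
  have h2 : g₂ b - g₁ b = 0 := by simpa using h1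
  exact (sub_eq_zero.mp h2).symm

theorem kerPrime_surjective [Module.Finite K B] : Function.Surjective (kerPrime K B) := by
  intro p
  haveI : IsDomain (B ⧸ p.asIdeal) := Ideal.Quotient.isDomain p.asIdeal
  haveI : Algebra.IsIntegral K (B ⧸ p.asIdeal) := Algebra.IsIntegral.of_finite K _
  have hbij : Function.Bijective (algebraMap K (B ⧸ p.asIdeal)) :=
    IsAlgClosed.algebraMap_bijective_of_isIntegral
  let e : K ≃ₐ[K] (B ⧸ p.asIdeal) := AlgEquiv.ofBijective (Algebra.ofId K _) hbij
  let g : B →ₐ[K] K := (e.symm : (B ⧸ p.asIdeal) →ₐ[K] K).comp (Ideal.Quotient.mkₐ K p.asIdeal)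
  refine ⟨g, ?_⟩
  apply PrimeSpectrum.ext
  ext b
  show b ∈ RingHom.ker g.toRingHom ↔ b ∈ p.asIdeal
  rw [RingHom.mem_ker]
  show e.symm (Ideal.Quotient.mk p.asIdeal b) = 0 ↔ _
  rw [EmbeddingLike.map_eq_zero_iff, Ideal.Quotient.eq_zero_iff_mem]

theorem card_primeSpectrum [Module.Finite K B] :
    Nat.card (PrimeSpectrum B) = Nat.card (B →ₐ[K] K) :=
  (Nat.card_congr (Equiv.ofBijective _ ⟨kerPrime_injective K B, kerPrime_surjective K B⟩)).symm

/-- primes of `L ⊗[k] K` correspond to `k`-embeddings `L → K` -/
theorem card_primeSpectrum_tensor (k L : Type*) [Field k] [Field L] [Algebra k L]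
    [Algebra k K] [Module.Finite k L] :
    Nat.card (PrimeSpectrum (L ⊗[k] K)) = Nat.card (L →ₐ[k] K) := by
  have e : (L ⊗[k] K) ≃+* (K ⊗[k] L) := (Algebra.TensorProduct.comm k L K).toRingEquiv
  rw [Nat.card_congr (PrimeSpectrum.comapEquiv e).toEquiv, card_primeSpectrum K (K ⊗[k] L)]
  exact Groth.Agent.Helper19.SepDeg.card_baseChange

theorem finite_primeSpectrum_tensor (k L : Type*) [Field k] [Field L] [Algebra k L]
    [Algebra k K] [Module.Finite k L] : Finite (PrimeSpectrum (L ⊗[k] K)) := by
  have e : (L ⊗[k] K) ≃+* (K ⊗[k] L) := (Algebra.TensorProduct.comm k L K).toRingEquiv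
  haveI : IsArtinianRing (K ⊗[k] L) := IsArtinianRing.of_finite K _
  exact Finite.of_equiv _ (PrimeSpectrum.comapEquiv e).toEquiv.symm

/-- embeddings into an algebraically closed field count the degree over a perfect field -/
theorem card_algHom_eq_finrank (k L : Type*) [Field k] [PerfectField k] [Field L] [Algebra k L]
    [Algebra k K] [Module.Finite k L] : Nat.card (L →ₐ[k] K) = Module.finrank k L := by
  haveI : Algebra.IsAlgebraic k L := Algebra.IsAlgebraic.of_finite k L
  rw [← Field.finSepDegree_eq_of_isAlgClosed k L K, Field.finSepDegree_eq_finrank_of_isSeparable]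

/-- comparison of degrees along a homomorphism of finite extensions -/
theorem finrank_le_and_eq_iff (k L M : Type*) [Field k] [Field L] [Field M] [Algebra k L]
    [Algebra k M] [Module.Finite k M] (ρ : L →+* M)
    (hρ : ρ.comp (algebraMap k L) = algebraMap k M) :
    Module.finrank k L ≤ Module.finrank k M ∧
      (Module.finrank k L = Module.finrank k M ↔ Function.Bijective ρ) := by
  letI algLM : Algebra L M := ρ.toAlgebra
  haveI : IsScalarTower k L M := IsScalarTower.of_algebraMap_eq (fun c => by
    have := congrArg (fun g => g c) hρ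
    exact this.symm)
  have hmul := Module.finrank_mul_finrank k L M
  have hM : 0 < Module.finrank k M := Module.finrank_pos
  have hL : 0 < Module.finrank k L := by
    rcases Nat.eq_zero_or_pos (Module.finrank k L) with h | h
    · rw [h, zero_mul] at hmul; omega
    · exact h
  have hLM : 0 < Module.finrank L M := by
    rcases Nat.eq_zero_or_pos (Module.finrank L M) with h | h
    · rw [h, mul_zero] at hmul; omega
    · exact h
  refine ⟨by nlinarith, ?_⟩
  have h1 : Module.finrank k L = Module.finrank k M ↔ Module.finrank L M = 1 := by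
    constructor
    · intro h
      rw [h] at hmul
      have : Module.finrank k M * Module.finrank L M = Module.finrank k M * 1 := by omega
      exact Nat.eq_of_mul_eq_mul_left hM this
    · intro h
      rw [h, mul_one] at hmul
      exact hmul
  rw [h1]
  constructor
  · intro h
    refine ⟨ρ.injective, fun m => ?_⟩
    obtain ⟨c, hc⟩ := (finrank_eq_one_iff_of_nonzero' (1 : M) one_ne_zero).mp h m
    refine ⟨c, ?_⟩
    rw [← hc, Algebra.smul_def, mul_one]
    rfl
  · intro h
    rw [finrank_eq_one_iff_of_nonzero' (1 : M) one_ne_zero]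
    intro m
    obtain ⟨c, hc⟩ := h.2 m
    refine ⟨c, ?_⟩
    rw [Algebra.smul_def, mul_one]
    exact hc

end Alg

section Sch

open Groth.Agent.Helper23.ZetaPt

variable {k : Type u} [Field k] (K : Type u) [Field K] [IsAlgClosed K] [Algebra k K]
  {X : Scheme.{u}} (f : X ⟶ Spec (CommRingCat.of k))

/-- the geometric fibre over `x` is the spectrum of `κ(x) ⊗[k] K` -/
theorem fibre_homeo (x : X) :
    letI := (strMap f x).toAlgebra
    Nonempty (↥((pullback.fst f (Spec.map (CommRingCat.ofHom (algebraMap k K)))) ⁻¹' {x}) ≃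
      PrimeSpectrum (X.residueField x ⊗[k] K)) := by
  letI alg : Algebra k (X.residueField x) := (strMap f x).toAlgebra
  set i := Spec.map (CommRingCat.ofHom (algebraMap k K)) with hi
  set π := pullback.fst f i with hπ
  let r := X.fromSpecResidueField x
  have hr : r ≫ f = Spec.map (CommRingCat.ofHom (algebraMap k (X.residueField x))) :=
    fromSpecResidueField_comp f x
  let e1 : π.fiber x ≅ pullback r π := pullbackSymmetry π r
  let e2 : pullback r π ≅ pullback (r ≫ f) i := pullbackRightPullbackFstIso f i r
  let e3 : pullback (r ≫ f) i ≅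
      pullback (Spec.map (CommRingCat.ofHom (algebraMap k (X.residueField x)))) i :=
    pullback.congrHom hr rfl
  let e4 : pullback (Spec.map (CommRingCat.ofHom (algebraMap k (X.residueField x)))) i ≅
      Spec (.of (X.residueField x ⊗[k] K)) := pullbackSpecIso k (X.residueField x) K
  let e := e1 ≪≫ e2 ≪≫ e3 ≪≫ e4
  exact ⟨(π.fiberHomeo x).symm.toEquiv.trans e.hom.homeomorph.toEquiv⟩

theorem finite_residueField [LocallyOfFiniteType f] (x : X) (hx : IsClosed ({x} : Set X)) :
    letI := (strMap f x).toAlgebra
    Module.Finite k (X.residueField x) := by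
  letI alg : Algebra k (X.residueField x) := (strMap f x).toAlgebra
  have h1 := residueDegree_ne_zero_of_isClosed f x hx
  rw [residueDegree_eq_finrank] at h1
  exact Module.finite_of_finrank_pos (Nat.pos_of_ne_zero h1)

/-- the number of points of the geometric fibre over a closed point is the number of
`k`-embeddings of the residue field -/
theorem encard_fibre [LocallyOfFiniteType f] (x : X) (hx : IsClosed ({x} : Set X)) :
    letI := (strMap f x).toAlgebra
    ((pullback.fst f (Spec.map (CommRingCat.ofHom (algebraMap k K)))) ⁻¹' {x}).encard =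
      (Nat.card (X.residueField x →ₐ[k] K) : ℕ∞) := by
  letI alg : Algebra k (X.residueField x) := (strMap f x).toAlgebra
  haveI := finite_residueField f x hx
  obtain ⟨e⟩ := fibre_homeo K f x
  haveI := finite_primeSpectrum_tensor K k (X.residueField x)
  rw [← card_primeSpectrum_tensor K k (X.residueField x), ← ENat.card_eq_coe_natCard]
  exact ENat.card_congr e

theorem strMap_comp {Y : Scheme.{u}} (φ : X ⟶ Y) (sY : Y ⟶ Spec (CommRingCat.of k)) (x : X) :
    (φ.residueFieldMap x).hom.comp (strMap sY (φ x)) = strMap (φ ≫ sY) x := by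
  unfold strMap
  rw [Scheme.residueFieldMap_comp]
  rfl

theorem main15086 [PerfectField k] {Y : Scheme.{u}}
    (sX : X ⟶ Spec (CommRingCat.of k)) (sY : Y ⟶ Spec (CommRingCat.of k))
    [LocallyOfFiniteType sX] [LocallyOfFiniteType sY]
    (φ : X ⟶ Y) (hφ : φ ≫ sY = sX) [IsFinite φ]
    (φbar : pullback sX (Spec.map (CommRingCat.ofHom (algebraMap k K))) ⟶
      pullback sY (Spec.map (CommRingCat.ofHom (algebraMap k K))))
    (h1 : φbar ≫ pullback.fst sY _ = pullback.fst sX _ ≫ φ)
    (x : X) (hx : IsClosed ({x} : Set X)) :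
    ((pullback.fst sY (Spec.map (CommRingCat.ofHom (algebraMap k K)))) ⁻¹' {φ x}).encard ≤
        ((pullback.fst sX (Spec.map (CommRingCat.ofHom (algebraMap k K)))) ⁻¹' {x}).encard ∧
      (((pullback.fst sY (Spec.map (CommRingCat.ofHom (algebraMap k K)))) ⁻¹' {φ x}).encard =
          ((pullback.fst sX (Spec.map (CommRingCat.ofHom (algebraMap k K)))) ⁻¹' {x}).encard ↔
        Function.Bijective (φ.residueFieldMap x).hom) ∧
      (Set.InjOn φbar ((pullback.fst sX (Spec.map (CommRingCat.ofHom (algebraMap k K)))) ⁻¹' {x}) →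
        ((pullback.fst sY (Spec.map (CommRingCat.ofHom (algebraMap k K)))) ⁻¹' {φ x}).encard =
          ((pullback.fst sX (Spec.map (CommRingCat.ofHom (algebraMap k K)))) ⁻¹' {x}).encard) := by
  subst hφ
  have hy : IsClosed ({φ x} : Set Y) := by
    have := φ.isClosedMap _ hx
    rwa [Set.image_singleton] at this
  letI algX : Algebra k (X.residueField x) := (strMap (φ ≫ sY) x).toAlgebra
  letI algY : Algebra k (Y.residueField (φ x)) := (strMap sY (φ x)).toAlgebra
  haveI := finite_residueField (φ ≫ sY) x hx
  haveI := finite_residueField sY (φ x) hy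
  have eX := encard_fibre K (φ ≫ sY) x hx
  have eY := encard_fibre K sY (φ x) hy
  rw [card_algHom_eq_finrank K k (X.residueField x)] at eX
  rw [card_algHom_eq_finrank K k (Y.residueField (φ x))] at eY
  obtain ⟨hle, hiff⟩ := finrank_le_and_eq_iff k (Y.residueField (φ x)) (X.residueField x)
    (φ.residueFieldMap x).hom (strMap_comp φ sY x)
  have hle' : ((pullback.fst sY (Spec.map (CommRingCat.ofHom (algebraMap k K)))) ⁻¹' {φ x}).encard ≤
      ((pullback.fst (φ ≫ sY) (Spec.map (CommRingCat.ofHom (algebraMap k K)))) ⁻¹' {x}).encard := by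
    rw [eX, eY]
    exact_mod_cast hle
  refine ⟨hle', ?_, ?_⟩
  · rw [eX, eY, ← hiff]
    exact Nat.cast_inj
  · intro hinj
    apply le_antisymm hle'
    refine Set.encard_le_encard_of_injOn (f := φbar) ?_ hinj
    intro z hz
    rw [Set.mem_preimage, Set.mem_singleton_iff] at hz ⊢
    rw [← Scheme.Hom.comp_apply, h1, Scheme.Hom.comp_apply, hz]

end Sch

end Groth.Agent.Helper23.GeomFib
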