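import Mathlib
import Groth.Agent.Lib.Helper23.GeomFib1
import Groth.Agent.Lib.Helper18.GoodQuotOrb

/-!
# Galois action on the geometric fibre over a closed point
-/

set_option autoImplicit false
universe u
open CategoryTheory CategoryTheory.Limits AlgebraicGeometry TensorProduct

set_option linter.style.haveILetI false
set_option linter.unusedVariables false
set_option linter.unusedSectionVars false

namespace Groth.Agent.Helper23.GeomFib

open Groth.Agent.Helper23.ZetaPt

section Field

/-- two embeddings into an algebraic closure differ by an automorphism -/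
theorem exists_algEquiv_comp (k L K : Type*) [Field k] [Field L] [Field K] [Algebra k L]
    [Algebra k K] [IsAlgClosed K] [Algebra.IsAlgebraic k K] (g g' : L →ₐ[k] K) :
    ∃ σ : K ≃ₐ[k] K, ∀ l, σ (g' l) = g l := by
  letI algLK : Algebra L K := g'.toRingHom.toAlgebra
  haveI : IsScalarTower k L K := IsScalarTower.of_algebraMap_eq (fun c => (g'.commutes c).symm)
  haveI : Algebra.IsAlgebraic L K := Algebra.IsAlgebraic.tower_top (K := k) L
  obtain ⟨φ, hφ⟩ := IsAlgClosed.surjective_domRestrict_of_isAlgebraic (K := k) (L := L) (M := K)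
    (E := K) g
  have hb : Function.Bijective φ := Algebra.IsAlgebraic.algHom_bijective φ
  refine ⟨AlgEquiv.ofBijective φ hb, fun l => ?_⟩
  have := congrArg (fun (ψ : L →ₐ[k] K) => ψ l) hφ
  exact this

end Field

section Sch

variable {k : Type u} [Field k] (K : Type u) [Field K] [IsAlgClosed K] [Algebra k K]
  {X : Scheme.{u}} (f : X ⟶ Spec (CommRingCat.of k))

/-- the `K`-point of `X` attached to an embedding of a residue field -/
noncomputable def tOf (x : X) (g : X.residueField x →+* K) : Spec (CommRingCat.of K) ⟶ X :=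
  Spec.map (CommRingCat.ofHom g) ≫ X.fromSpecResidueField x

theorem tOf_comp (x : X) (g : X.residueField x →+* K)
    (hg : g.comp (strMap f x) = algebraMap k K) :
    tOf K x g ≫ f = Spec.map (CommRingCat.ofHom (algebraMap k K)) := by
  unfold tOf
  rw [Category.assoc, fromSpecResidueField_comp, ← Spec.map_comp, ← CommRingCat.ofHom_comp, hg]

theorem tOf_apply (x : X) (g : X.residueField x →+* K) (t : ↥(Spec (CommRingCat.of K))) :
    tOf K x g t = x := by
  unfold tOf
  rw [Scheme.Hom.comp_apply, Scheme.fromSpecResidueField_apply]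

theorem tOf_injective (x : X) : Function.Injective (tOf K x) := by
  intro g g' h
  unfold tOf at h
  have h1 := (cancel_mono (X.fromSpecResidueField x)).mp h
  have h2 := Spec.map_injective h1
  exact congrArg CommRingCat.Hom.hom h2

/-- the section of the base change attached to an embedding of a residue field -/
noncomputable def sOf (x : X) (g : X.residueField x →+* K)
    (hg : g.comp (strMap f x) = algebraMap k K) :
    Spec (CommRingCat.of K) ⟶ pullback f (Spec.map (CommRingCat.ofHom (algebraMap k K))) :=
  pullback.lift (tOf K x g) (𝟙 _) (by rw [tOf_comp K f x g hg, Category.id_comp])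

theorem sOf_fst (x : X) (g : X.residueField x →+* K)
    (hg : g.comp (strMap f x) = algebraMap k K) :
    sOf K f x g hg ≫ pullback.fst f _ = tOf K x g := pullback.lift_fst _ _ _

theorem sOf_snd (x : X) (g : X.residueField x →+* K)
    (hg : g.comp (strMap f x) = algebraMap k K) :
    sOf K f x g hg ≫ pullback.snd f _ = 𝟙 _ := pullback.lift_snd _ _ _

/-- the embeddings of the residue field of `x` over `k` -/
def Emb (x : X) : Type u := {g : X.residueField x →+* K // g.comp (strMap f x) = algebraMap k K}

/-- embeddings as algebra homomorphisms -/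
def embEquiv (x : X) :
    letI := (strMap f x).toAlgebra
    Emb K f x ≃ (X.residueField x →ₐ[k] K) :=
  letI := (strMap f x).toAlgebra
  { toFun := fun g => { toRingHom := g.1, commutes' := fun c => congrArg (fun ψ => ψ c) g.2 }
    invFun := fun g => ⟨g.toRingHom, RingHom.ext fun c => g.commutes c⟩
    left_inv := fun g => rfl
    right_inv := fun g => rfl }

/-- the point of the geometric fibre attached to an embedding -/
noncomputable def Ψ (x : X) (g : Emb K f x) :
    ↥((pullback.fst f (Spec.map (CommRingCat.ofHom (algebraMap k K)))) ⁻¹' {x}) :=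
  ⟨sOf K f x g.1 g.2 (IsLocalRing.closedPoint K), by
    rw [Set.mem_preimage, Set.mem_singleton_iff, ← Scheme.Hom.comp_apply, sOf_fst, tOf_apply]⟩

theorem Ψ_injective (x : X) : Function.Injective (Ψ K f x) := by
  intro g g' h
  have h0 : sOf K f x g.1 g.2 (IsLocalRing.closedPoint K) =
      sOf K f x g'.1 g'.2 (IsLocalRing.closedPoint K) := congrArg Subtype.val h
  have h1 := Groth.Agent.Helper18.GoodQuotOrb.section_ext
    (pullback.snd f (Spec.map (CommRingCat.ofHom (algebraMap k K))))
    (sOf K f x g.1 g.2) (sOf K f x g'.1 g'.2) (sOf_snd K f x g.1 g.2) (sOf_snd K f x g'.1 g'.2)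
    (IsLocalRing.closedPoint K) h0
  have h2 : tOf K x g.1 = tOf K x g'.1 := by
    rw [← sOf_fst K f x g.1 g.2, ← sOf_fst K f x g'.1 g'.2, h1]
  exact Subtype.ext (tOf_injective K x h2)

theorem Ψ_bijective [LocallyOfFiniteType f] (x : X) (hx : IsClosed ({x} : Set X)) :
    Function.Bijective (Ψ K f x) := by
  letI alg : Algebra k (X.residueField x) := (strMap f x).toAlgebra
  haveI := finite_residueField f x hx
  have henc := encard_fibre K f x hx
  haveI : Finite (Emb K f x) := Finite.of_equiv _ (embEquiv K f x).symm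
  have hfin : ((pullback.fst f (Spec.map (CommRingCat.ofHom (algebraMap k K)))) ⁻¹' {x}).Finite := by
    rw [← Set.encard_lt_top_iff, henc]
    exact ENat.natCast_lt_top _
  haveI : Finite ↥((pullback.fst f (Spec.map (CommRingCat.ofHom (algebraMap k K)))) ⁻¹' {x}) := hfin
  rw [Nat.bijective_iff_injective_and_card]
  refine ⟨Ψ_injective K f x, ?_⟩
  rw [Nat.card_congr (embEquiv K f x)]
  have h2 : (Nat.card ↥((pullback.fst f (Spec.map (CommRingCat.ofHom (algebraMap k K)))) ⁻¹' {x}) : ℕ∞)
      = (Nat.card (X.residueField x →ₐ[k] K) : ℕ∞) := by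
    rw [← henc, Set.encard, ENat.card_eq_coe_natCard]
  exact_mod_cast h2.symm

end Sch

section Act

variable {k : Type u} [Field k] (K : Type u) [Field K] [IsAlgClosed K] [Algebra k K]
  {X : Scheme.{u}} (f : X ⟶ Spec (CommRingCat.of k))

theorem tau_Ψ (τ : pullback f (Spec.map (CommRingCat.ofHom (algebraMap k K))) ⟶
      pullback f (Spec.map (CommRingCat.ofHom (algebraMap k K)))) (σ : K ≃ₐ[k] K)
    (hτ1 : τ ≫ pullback.fst f _ = pullback.fst f _)
    (hτ2 : τ ≫ pullback.snd f (Spec.map (CommRingCat.ofHom (algebraMap k K))) =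
      pullback.snd f _ ≫ Spec.map (CommRingCat.ofHom (σ : K →+* K)))
    (x : X) (g g' : Emb K f x) (h : ∀ l, σ (g'.1 l) = g.1 l) :
    τ (Ψ K f x g).1 = (Ψ K f x g').1 := by
  have hcomp : (σ : K →+* K).comp g'.1 = g.1 := RingHom.ext h
  have key : sOf K f x g.1 g.2 ≫ τ =
      Spec.map (CommRingCat.ofHom (σ : K →+* K)) ≫ sOf K f x g'.1 g'.2 := by
    apply pullback.hom_ext
    · rw [Category.assoc, hτ1, sOf_fst, Category.assoc, sOf_fst]
      unfold tOf
      rw [← Category.assoc, ← Spec.map_comp, ← CommRingCat.ofHom_comp, hcomp]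
    · rw [Category.assoc, hτ2, ← Category.assoc, sOf_snd, Category.id_comp, Category.assoc,
        sOf_snd, Category.comp_id]
  show τ (sOf K f x g.1 g.2 (IsLocalRing.closedPoint K)) =
    sOf K f x g'.1 g'.2 (IsLocalRing.closedPoint K)
  rw [← Scheme.Hom.comp_apply, key, Scheme.Hom.comp_apply]
  congr 1
  exact Subsingleton.elim (α := PrimeSpectrum K) _ _

variable [LocallyOfFiniteType f]

/-- points of the geometric fibre over a closed point are closed -/
theorem isClosed_of_mem_fibre (x : X) (hx : IsClosed ({x} : Set X))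
    (y : ↥(pullback f (Spec.map (CommRingCat.ofHom (algebraMap k K)))))
    (hy : pullback.fst f (Spec.map (CommRingCat.ofHom (algebraMap k K))) y = x) :
    IsClosed ({y} : Set ↥(pullback f (Spec.map (CommRingCat.ofHom (algebraMap k K))))) := by
  obtain ⟨g, hg⟩ := (Ψ_bijective K f x hx).2 ⟨y, hy⟩
  have h1 : y = sOf K f x g.1 g.2 (IsLocalRing.closedPoint K) := (congrArg Subtype.val hg).symm
  rw [h1]
  exact Groth.Agent.Helper18.GoodQuotOrb.isClosed_singleton_of_section
    (pullback.snd f (Spec.map (CommRingCat.ofHom (algebraMap k K)))) _ (sOf_snd K f x g.1 g.2) _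

/-- the Galois group acts transitively on the geometric fibre over a closed point -/
theorem exists_tau_eq [Algebra.IsAlgebraic k K]
    (τ : (K ≃ₐ[k] K) → (pullback f (Spec.map (CommRingCat.ofHom (algebraMap k K))) ⟶
      pullback f (Spec.map (CommRingCat.ofHom (algebraMap k K)))))
    (hτ1 : ∀ σ, τ σ ≫ pullback.fst f _ = pullback.fst f _)
    (hτ2 : ∀ σ, τ σ ≫ pullback.snd f (Spec.map (CommRingCat.ofHom (algebraMap k K))) =
      pullback.snd f _ ≫ Spec.map (CommRingCat.ofHom (σ : K →+* K)))
    (x : X) (hx : IsClosed ({x} : Set X))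
    (y y' : ↥(pullback f (Spec.map (CommRingCat.ofHom (algebraMap k K)))))
    (hy : pullback.fst f (Spec.map (CommRingCat.ofHom (algebraMap k K))) y = x)
    (hy' : pullback.fst f (Spec.map (CommRingCat.ofHom (algebraMap k K))) y' = x) :
    ∃ σ, τ σ y = y' := by
  letI alg : Algebra k (X.residueField x) := (strMap f x).toAlgebra
  obtain ⟨g, hg⟩ := (Ψ_bijective K f x hx).2 ⟨y, hy⟩
  obtain ⟨g', hg'⟩ := (Ψ_bijective K f x hx).2 ⟨y', hy'⟩
  obtain ⟨σ, hσ⟩ := exists_algEquiv_comp k (X.residueField x) K (embEquiv K f x g)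
    (embEquiv K f x g')
  refine ⟨σ, ?_⟩
  have h1 := tau_Ψ K f (τ σ) σ (hτ1 σ) (hτ2 σ) x g g' hσ
  rw [hg, hg'] at h1
  exact h1

/-- the projection from the base change to an algebraic extension is a closed map -/
theorem isClosedMap_fst [Algebra.IsIntegral k K] :
    IsClosedMap (pullback.fst f (Spec.map (CommRingCat.ofHom (algebraMap k K)))) := by
  haveI : IsIntegralHom (Spec.map (CommRingCat.ofHom (algebraMap k K))) := by
    rw [IsIntegralHom.SpecMap_iff]
    exact Algebra.IsIntegral.isIntegral (R := k) (A := K)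
  exact (pullback.fst f (Spec.map (CommRingCat.ofHom (algebraMap k K)))).isClosedMap

/-- the number of points of the geometric fibre over a closed point, over a perfect field -/
theorem finite_and_ncard_fibre [PerfectField k] (x : X) (hx : IsClosed ({x} : Set X)) :
    ((pullback.fst f (Spec.map (CommRingCat.ofHom (algebraMap k K)))) ⁻¹' {x}).Finite ∧
      ((pullback.fst f (Spec.map (CommRingCat.ofHom (algebraMap k K)))) ⁻¹' {x}).ncard =
        EGA4loc.residueDegree f x := by
  letI alg : Algebra k (X.residueField x) := (strMap f x).toAlgebra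
  haveI := finite_residueField f x hx
  have henc := encard_fibre K f x hx
  rw [card_algHom_eq_finrank K k (X.residueField x), ← residueDegree_eq_finrank] at henc
  have hfin : ((pullback.fst f (Spec.map (CommRingCat.ofHom (algebraMap k K)))) ⁻¹' {x}).Finite := by
    rw [← Set.encard_lt_top_iff, henc]
    exact ENat.natCast_lt_top _
  refine ⟨hfin, ?_⟩
  have := hfin.cast_ncard_eq
  rw [henc] at this
  exact_mod_cast this

end Act

end Groth.Agent.Helper23.GeomFib
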