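import Mathlib

/-!
# Zero-cycles and their pull-backs along a surjection with finite fibres: combinatorics
-/

set_option autoImplicit false
set_option linter.unusedVariables false
set_option linter.unusedSectionVars false

namespace Groth.Agent.Helper23.GeomFibComb

variable {X Y Γ : Type*} [TopologicalSpace X] [TopologicalSpace Y] (π : Y → X) (rd : X → ℕ)

theorem finsum_comp
    (F2 : ∀ x, IsClosed ({x} : Set X) → (π ⁻¹' {x}).Finite ∧ (π ⁻¹' {x}).ncard = rd x)
    (c : X → ℕ) (hc : (Function.support c).Finite)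
    (hcl : ∀ x, c x ≠ 0 → IsClosed ({x} : Set X)) :
    (Function.support (c ∘ π)).Finite ∧ ∑ᶠ y, c (π y) = ∑ᶠ x, c x * rd x := by
  classical
  have hsupp : Function.support (c ∘ π) = π ⁻¹' (Function.support c) := rfl
  have hT : (π ⁻¹' (Function.support c)).Finite := by
    rw [← Set.biUnion_preimage_singleton]
    exact hc.biUnion (fun x hx => (F2 x (hcl x hx)).1)
  refine ⟨hsupp ▸ hT, ?_⟩
  have h1 : ∑ᶠ y, c (π y) = ∑ y ∈ hT.toFinset, c (π y) :=
    finsum_eq_sum_of_support_subset _ (by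
      intro y hy
      rw [Set.Finite.coe_toFinset]
      exact hy)
  have h2 : ∑ᶠ x, c x * rd x = ∑ x ∈ hc.toFinset, c x * rd x :=
    finsum_eq_sum_of_support_subset _ (by
      intro x hx
      rw [Set.Finite.coe_toFinset]
      rw [Function.mem_support] at hx ⊢
      intro h0
      apply hx
      rw [h0, zero_mul])
  rw [h1, h2, ← Finset.sum_fiberwise_of_maps_to (s := hT.toFinset) (t := hc.toFinset) (g := π)
    (fun y hy => by
      rw [Set.Finite.mem_toFinset] at hy ⊢
      exact hy)]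
  apply Finset.sum_congr rfl
  intro x hx
  have hx' : c x ≠ 0 := by
    rw [Set.Finite.mem_toFinset] at hx
    exact hx
  obtain ⟨hfin, hcard⟩ := F2 x (hcl x hx')
  have hfil : hT.toFinset.filter (fun y => π y = x) = hfin.toFinset := by
    ext y
    rw [Finset.mem_filter, Set.Finite.mem_toFinset, Set.Finite.mem_toFinset]
    constructor
    · intro h; exact h.2
    · intro h
      have h' : π y = x := h
      refine ⟨?_, h'⟩
      show c (π y) ≠ 0
      rw [h']
      exact hx'
  rw [Finset.sum_congr rfl (fun y hy => by rw [(Finset.mem_filter.mp hy).2]), Finset.sum_const,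
    hfil, ← Set.ncard_eq_toFinset_card _ hfin, hcard, smul_eq_mul, mul_comm]

theorem bijOn (τ : Γ → Y → Y)
    (F1 : Function.Surjective π)
    (F2 : ∀ x, IsClosed ({x} : Set X) → (π ⁻¹' {x}).Finite ∧ (π ⁻¹' {x}).ncard = rd x)
    (F3 : ∀ y, IsClosed ({π y} : Set X) → IsClosed ({y} : Set Y))
    (F4 : ∀ y, IsClosed ({y} : Set Y) → IsClosed ({π y} : Set X))
    (F5 : ∀ x, IsClosed ({x} : Set X) → ∀ y y', π y = x → π y' = x → ∃ σ, τ σ y = y')
    (Fτ : ∀ σ y, π (τ σ y) = π y) (n : ℕ) :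
    Set.BijOn (fun c : X → ℕ => c ∘ π)
      {c : X → ℕ | (Function.support c).Finite ∧ (∀ x, c x ≠ 0 → IsClosed ({x} : Set X)) ∧
        ∑ᶠ x, c x * rd x = n}
      {d : Y → ℕ | (Function.support d).Finite ∧ (∀ y, d y ≠ 0 → IsClosed ({y} : Set Y)) ∧
        ∑ᶠ y, d y = n ∧ ∀ σ y, d (τ σ y) = d y} := by
  refine ⟨?_, ?_, ?_⟩
  · rintro c ⟨hc, hcl, hn⟩
    obtain ⟨h1, h2⟩ := finsum_comp π rd F2 c hc hcl
    refine ⟨h1, fun y hy => F3 y (hcl _ hy), ?_, fun σ y => ?_⟩
    · show ∑ᶠ y, c (π y) = n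
      rw [h2, hn]
    · show c (π (τ σ y)) = c (π y)
      rw [Fτ]
  · rintro c₁ - c₂ - h
    funext x
    obtain ⟨y, rfl⟩ := F1 x
    exact congrFun h y
  · rintro d ⟨hd, hdcl, hn, hinv⟩
    choose sec hsec using F1
    let c : X → ℕ := fun x => d (sec x)
    have hcd : c ∘ π = d := by
      funext y
      show d (sec (π y)) = d y
      by_cases h0 : d y = 0 ∧ d (sec (π y)) = 0
      · rw [h0.1, h0.2]
      · have hx : IsClosed ({π y} : Set X) := by
          by_cases hy : d y = 0
          · have h1 : d (sec (π y)) ≠ 0 := fun h => h0 ⟨hy, h⟩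
            have := F4 _ (hdcl _ h1)
            rwa [hsec] at this
          · exact F4 _ (hdcl _ hy)
        obtain ⟨σ, hσ⟩ := F5 (π y) hx y (sec (π y)) rfl (hsec _)
        rw [← hσ, hinv]
    have hcsupp : (Function.support c).Finite := by
      apply (hd.image π).subset
      intro x hx
      exact ⟨sec x, hx, hsec x⟩
    have hccl : ∀ x, c x ≠ 0 → IsClosed ({x} : Set X) := by
      intro x hx
      have := F4 _ (hdcl _ hx)
      rwa [hsec] at this
    refine ⟨c, ⟨hcsupp, hccl, ?_⟩, hcd⟩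
    obtain ⟨-, h2⟩ := finsum_comp π rd F2 c hcsupp hccl
    rw [← h2, ← hn]
    exact congrArg (fun g : Y → ℕ => ∑ᶠ y, g y) hcd

end Groth.Agent.Helper23.GeomFibComb
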