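import Mathlib

set_option autoImplicit false
universe u
open LaurentPolynomial

namespace Groth.Agent.Helper23.GmCore

theorem laurent_units {D : Type u} [CommRing D] [IsDomain D] (p : D[T;T⁻¹]) (hp : IsUnit p) :
    ∃ (u : D) (n : ℤ), IsUnit u ∧ p = C u * T n := by
  obtain ⟨q, hpq⟩ := hp.exists_right_inv
  obtain ⟨n, p', hp'⟩ := exists_T_pow p
  obtain ⟨m, q', hq'⟩ := exists_T_pow q
  have h1 : p' * q' = Polynomial.X ^ (n + m) := by
    apply Polynomial.toLaurent_injective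
    rw [map_mul, hp', hq', Polynomial.toLaurent_X_pow]
    calc p * T n * (q * T m) = (p * q) * (T n * T m) := by ring
      _ = T (n + m) := by rw [hpq, one_mul, ← T_add]
      _ = T ((n + m : ℕ) : ℤ) := by push_cast; rfl
  obtain ⟨i, hi, hass⟩ := (dvd_prime_pow Polynomial.prime_X (n + m)).1 (Dvd.intro _ h1)
  obtain ⟨v, hv⟩ := hass.symm
  obtain ⟨u, hu, huv⟩ := Polynomial.isUnit_iff.1 v.isUnit
  refine ⟨u, (i : ℤ) - n, hu, ?_⟩
  have h2 : p * T n = C u * T i := by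
    rw [← hp', ← hv, ← huv, map_mul, Polynomial.toLaurent_X_pow, Polynomial.toLaurent_C, mul_comm]
  calc p = p * T n * T (-n) := by rw [mul_T_assoc, add_neg_cancel, T_zero, mul_one]
    _ = C u * T i * T (-n) := by rw [h2]
    _ = C u * T (i - n) := by rw [mul_T_assoc, sub_eq_add_neg]

end Groth.Agent.Helper23.GmCore

namespace Groth.Agent.Helper23.GmCore

section
variable {k : Type u} [Field k] {R : Type u} [CommRing R] [Algebra k R]

/-- evaluation of Laurent polynomials at a unit as an algebra hom -/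
noncomputable def evalAlg (a : Rˣ) : k[T;T⁻¹] →ₐ[k] R :=
  { LaurentPolynomial.eval₂ (algebraMap k R) a with
    commutes' := fun c => by
      change LaurentPolynomial.eval₂ (algebraMap k R) a (algebraMap k k[T;T⁻¹] c) = _
      rw [← LaurentPolynomial.C_eq_algebraMap, LaurentPolynomial.eval₂_C] }

theorem evalAlg_C (a : Rˣ) (c : k) : evalAlg a (C c) = algebraMap k R c :=
  LaurentPolynomial.eval₂_C _ _ _

theorem evalAlg_T (a : Rˣ) (n : ℤ) : evalAlg a (T n : k[T;T⁻¹]) = ((a ^ n : Rˣ) : R) :=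
  LaurentPolynomial.eval₂_T _ _ _

/-- evaluation of two-variable Laurent polynomials at a pair of units -/
noncomputable def evalAlg₂ (a b : Rˣ) : (k[T;T⁻¹])[T;T⁻¹] →ₐ[k] R :=
  { LaurentPolynomial.eval₂ (evalAlg (k := k) a).toRingHom b with
    commutes' := fun c => by
      change LaurentPolynomial.eval₂ (evalAlg (k := k) a).toRingHom b
        (algebraMap k (k[T;T⁻¹])[T;T⁻¹] c) = _
      have : algebraMap k (k[T;T⁻¹])[T;T⁻¹] c = C (C c) := rfl
      rw [this, LaurentPolynomial.eval₂_C]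
      exact evalAlg_C a c }

theorem evalAlg₂_C (a b : Rˣ) (p : k[T;T⁻¹]) : evalAlg₂ a b (C p) = evalAlg a p :=
  LaurentPolynomial.eval₂_C _ _ _

theorem evalAlg₂_T (a b : Rˣ) (n : ℤ) :
    evalAlg₂ (k := k) a b (T n) = ((b ^ n : Rˣ) : R) :=
  LaurentPolynomial.eval₂_T _ _ _

end

end Groth.Agent.Helper23.GmCore

namespace Groth.Agent.Helper23.GmCore


theorem unitT_zpow {D : Type u} [CommRing D] (m : ℤ) :
    (((isUnit_T (R := D) 1).unit ^ m : (D[T;T⁻¹])ˣ) : D[T;T⁻¹]) = T m := by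
  let φ : Multiplicative ℤ →* (D[T;T⁻¹])ˣ :=
    { toFun := fun n => ⟨T (Multiplicative.toAdd n), T (-(Multiplicative.toAdd n)),
        by rw [← T_add, add_neg_cancel, T_zero], by rw [← T_add, neg_add_cancel, T_zero]⟩
      map_one' := Units.ext (T_zero (R := D))
      map_mul' := fun a b => Units.ext (T_add (R := D) _ _) }
  have h1 : (isUnit_T (R := D) 1).unit = φ (Multiplicative.ofAdd 1) := Units.ext rfl
  rw [h1, ← map_zpow, ← ofAdd_zsmul]
  change T (m • (1 : ℤ)) = T m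
  rw [smul_eq_mul, mul_one]

theorem C_mul_T_eq_T_one {D : Type u} [CommRing D] [Nontrivial D] (c : D) (hc : c ≠ 0) (m : ℤ)
    (h : (T 1 : D[T;T⁻¹]) = C c * T m) : m = 1 ∧ c = 1 := by
  have h1 : m = 1 := by
    have := congrArg LaurentPolynomial.degree h
    rw [degree_T, degree_C_mul_T m c hc] at this
    exact_mod_cast this.symm
  subst h1
  refine ⟨rfl, ?_⟩
  have h2 : (1 : D[T;T⁻¹]) = C c := by
    calc (1 : D[T;T⁻¹]) = T 1 * T (-1) := by rw [← T_add]; simp
      _ = C c * T 1 * T (-1) := by rw [← h]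
      _ = C c := by rw [mul_T_assoc]; simp
  have h3 : (Polynomial.toLaurent (1 : Polynomial D)) = Polynomial.toLaurent (Polynomial.C c) := by
    rw [Polynomial.toLaurent_C, map_one, h2]
  have h4 := Polynomial.toLaurent_injective h3
  have h5 : Polynomial.C c = Polynomial.C (1 : D) := by rw [← h4, map_one]
  exact Polynomial.C_inj.1 h5

theorem coreGm (k : Type u) [Field k]
    (op : ∀ (R : Type u) [CommRing R] [Algebra k R], Rˣ → Rˣ → Rˣ)
    (e : kˣ)
    (nat : ∀ (R R' : Type u) [CommRing R] [CommRing R'] [Algebra k R] [Algebra k R']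
      (φ : R →ₐ[k] R') (a b : Rˣ),
      Units.map (φ : R →* R') (op R a b) =
        op R' (Units.map (φ : R →* R') a) (Units.map (φ : R →* R') b))
    (op_one : ∀ (R : Type u) [CommRing R] [Algebra k R] (a : Rˣ),
      op R a (Units.map (algebraMap k R : k →* R) e) = a)
    (one_op : ∀ (R : Type u) [CommRing R] [Algebra k R] (a : Rˣ),
      op R (Units.map (algebraMap k R : k →* R) e) a = a)
    (R : Type u) [CommRing R] [Algebra k R] (a b : Rˣ) :
    op R a b = Units.map (algebraMap k R : k →* R) e⁻¹ * a * b := by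
  -- generic units
  let xL : (k[T;T⁻¹])ˣ := (isUnit_T (R := k) 1).unit
  let x : ((k[T;T⁻¹])[T;T⁻¹])ˣ := Units.map ((C : k[T;T⁻¹] →+* (k[T;T⁻¹])[T;T⁻¹]) : k[T;T⁻¹] →* (k[T;T⁻¹])[T;T⁻¹]) xL
  let y : ((k[T;T⁻¹])[T;T⁻¹])ˣ := (isUnit_T (R := k[T;T⁻¹]) 1).unit
  let f := op ((k[T;T⁻¹])[T;T⁻¹]) x y
  obtain ⟨u, n, hu, hf⟩ := laurent_units (f : (k[T;T⁻¹])[T;T⁻¹]) f.isUnit
  obtain ⟨c, m, hc, hu'⟩ := laurent_units u hu
  have hval : ∀ (R : Type u) [CommRing R] [Algebra k R] (a b : Rˣ),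
      ((op R a b : Rˣ) : R) = algebraMap k R c * ((a ^ m : Rˣ) : R) * ((b ^ n : Rˣ) : R) := by
    intro R _ _ a b
    have h1 : Units.map ((evalAlg₂ (k := k) a b : _ →ₐ[k] R) : _ →* R) x = a := by
      ext
      change evalAlg₂ (k := k) a b (C (T 1)) = a
      rw [evalAlg₂_C, evalAlg_T, zpow_one]
    have h2 : Units.map ((evalAlg₂ (k := k) a b : _ →ₐ[k] R) : _ →* R) y = b := by
      ext
      change evalAlg₂ (k := k) a b (T 1) = b
      rw [evalAlg₂_T, zpow_one]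
    have h3 := nat _ R (evalAlg₂ (k := k) a b) x y
    rw [h1, h2] at h3
    rw [← h3]
    change evalAlg₂ (k := k) a b (f : (k[T;T⁻¹])[T;T⁻¹]) = _
    rw [hf, hu', map_mul, evalAlg₂_C, evalAlg₂_T, map_mul, evalAlg_C, evalAlg_T]
  -- exponents
  have hE : ∀ (R : Type u) [CommRing R] [Algebra k R] (n : ℤ),
      (((Units.map (algebraMap k R : k →* R) e) ^ n : Rˣ) : R) = algebraMap k R ((e : k) ^ n) := by
    intro R _ _ n
    rw [← map_zpow, Units.coe_map, Units.val_zpow_eq_zpow_val]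
    rfl
  have hx : ((xL : (k[T;T⁻¹])ˣ) : k[T;T⁻¹]) = T 1 := IsUnit.unit_spec _
  have hm : m = 1 ∧ c * (e : k) ^ n = 1 := by
    have h := hval (k[T;T⁻¹]) xL (Units.map (algebraMap k k[T;T⁻¹] : k →* k[T;T⁻¹]) e)
    rw [op_one, hE, unitT_zpow, hx, ← C_eq_algebraMap, ← C_eq_algebraMap] at h
    have h' : (T 1 : k[T;T⁻¹]) = C (c * (e : k) ^ n) * T m := by rw [h, map_mul]; ring
    exact C_mul_T_eq_T_one _ (mul_ne_zero hc.ne_zero (zpow_ne_zero _ e.ne_zero)) m h'
  have hn : n = 1 ∧ c * (e : k) ^ m = 1 := by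
    have h := hval (k[T;T⁻¹]) (Units.map (algebraMap k k[T;T⁻¹] : k →* k[T;T⁻¹]) e) xL
    rw [one_op, hE, unitT_zpow, hx, ← C_eq_algebraMap, ← C_eq_algebraMap] at h
    have h' : (T 1 : k[T;T⁻¹]) = C (c * (e : k) ^ m) * T n := by rw [h, map_mul]
    exact C_mul_T_eq_T_one _ (mul_ne_zero hc.ne_zero (zpow_ne_zero _ e.ne_zero)) n h'
  obtain ⟨hm1, -⟩ := hm
  obtain ⟨hn1, hce⟩ := hn
  rw [hm1, zpow_one] at hce
  have hc' : c = ((e⁻¹ : kˣ) : k) := by
    rw [Units.val_inv_eq_inv_val]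
    exact eq_inv_of_mul_eq_one_left hce
  apply Units.ext
  rw [hval, hm1, hn1, zpow_one, zpow_one, hc']
  rfl

end Groth.Agent.Helper23.GmCore
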