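import Mathlib

/-!
# Length over an augmented algebra versus dimension over the ground field

For a `k`-algebra `S = k + 𝔪` and an `S`-module `N` of finite length on which every element of `𝔪`
acts locally nilpotently, the `S`-length of `N` is its `k`-dimension.
-/

set_option autoImplicit false
set_option linter.style.haveILetI false
set_option linter.unusedVariables false
set_option linter.unusedSectionVars false

namespace Groth.Agent.Helper23.GrSyzLen

universe u

theorem finrank_of_length {k S : Type*} [Field k] [CommRing S] [Algebra k S] (𝔪 : Ideal S)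
    (hS : ∀ s : S, ∃ a : k, s - algebraMap k S a ∈ 𝔪) :
    ∀ (n : ℕ) (N : Type u) [AddCommGroup N] [Module k N] [Module S N] [IsScalarTower k S N],
      (∀ x ∈ 𝔪, ∀ v : N, ∃ c : ℕ, x ^ c • v = 0) → Module.length S N = n →
      Module.Finite k N ∧ Module.finrank k N = n := by
  intro n
  induction n with
  | zero =>
    intro N _ _ _ _ _ hlen
    have : Subsingleton N := Module.length_eq_zero_iff.mp (by simpa using hlen)
    exact ⟨inferInstance, Module.finrank_zero_of_subsingleton⟩
  | succ n ih =>
    intro N _ _ _ _ hnil hlen
    have hfl : IsFiniteLength S N :=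
      Module.length_ne_top_iff.mp (by rw [hlen]; exact ENat.coe_ne_top _)
    obtain ⟨hnoeth, hart⟩ := isFiniteLength_iff_isNoetherian_isArtinian.mp hfl
    have hnt : Nontrivial N :=
      Module.length_pos_iff.mp (by rw [hlen]; exact_mod_cast Nat.succ_pos n)
    haveI : IsAtomic (Submodule S N) := isAtomic_of_orderBot_wellFounded_lt wellFounded_lt
    obtain ⟨P, hP⟩ := IsAtomic.exists_atom (Submodule S N)
    have hsimple : IsSimpleModule S P := isSimpleModule_iff_isAtom.mpr hP
    -- `𝔪` kills `P`
    have hkill : ∀ x ∈ 𝔪, ∀ p ∈ P, x • p = 0 := by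
      intro x hx p hp
      by_contra hne
      have hle : Submodule.span S {x • p} ≤ P :=
        (Submodule.span_singleton_le_iff_mem _ _).mpr (P.smul_mem x hp)
      have hne' : Submodule.span S {x • p} ≠ ⊥ := by
        rw [Ne, Submodule.span_singleton_eq_bot]
        exact hne
      have heq : Submodule.span S {x • p} = P := (hP.le_iff_eq hne').mp hle
      have hp' : p ∈ Submodule.span S {x • p} := heq ▸ hp
      obtain ⟨s, hs⟩ := Submodule.mem_span_singleton.mp hp'
      have hpow : ∀ c : ℕ, s ^ c • x ^ c • p = p := by
        intro c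
        induction c with
        | zero => simp
        | succ c ihc =>
          calc s ^ (c + 1) • x ^ (c + 1) • p = s ^ c • x ^ c • (s • x • p) := by
                simp only [smul_smul]
                congr 1
                ring
            _ = p := by rw [hs, ihc]
      obtain ⟨c, hc⟩ := hnil x hx p
      have := hpow c
      rw [hc, smul_zero] at this
      apply hne
      rw [← this, smul_zero]
    obtain ⟨p, hpP, hp0⟩ := Submodule.exists_mem_ne_zero_of_ne_bot hP.1
    have hspan : Submodule.span S {p} = P := by
      refine (hP.le_iff_eq ?_).mp ((Submodule.span_singleton_le_iff_mem _ _).mpr hpP)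
      rw [Ne, Submodule.span_singleton_eq_bot]
      exact hp0
    have hgen : ∀ q ∈ P, ∃ a : k, a • p = q := by
      intro q hq
      rw [← hspan] at hq
      obtain ⟨s, hs⟩ := Submodule.mem_span_singleton.mp hq
      obtain ⟨a, ha⟩ := hS s
      refine ⟨a, ?_⟩
      have h1 := hkill _ ha p hpP
      rw [sub_smul, sub_eq_zero, algebraMap_smul] at h1
      rw [← h1, hs]
    -- dimension of `P`
    have hfinP : Module.Finite k (P.restrictScalars k) := by
      refine Module.Finite.of_surjective
        (LinearMap.toSpanSingleton k (P.restrictScalars k) ⟨p, hpP⟩) ?_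
      rintro ⟨q, hq⟩
      obtain ⟨a, ha⟩ := hgen q hq
      exact ⟨a, Subtype.ext ha⟩
    have hrkP : Module.finrank k (P.restrictScalars k) = 1 := by
      refine finrank_eq_one (⟨p, hpP⟩ : P.restrictScalars k) ?_ ?_
      · intro h
        exact hp0 (congrArg Subtype.val h)
      · rintro ⟨q, hq⟩
        obtain ⟨a, ha⟩ := hgen q hq
        exact ⟨a, Subtype.ext ha⟩
    -- the quotient
    have hadd := Module.length_eq_add_of_exact P.subtype P.mkQ (Submodule.injective_subtype _)
      (Submodule.mkQ_surjective _) (LinearMap.exact_subtype_mkQ P)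
    rw [hlen, Module.length_eq_one_iff.mpr hsimple] at hadd
    have hlenQ : Module.length S (N ⧸ P) = n := by
      have hne : Module.length S (N ⧸ P) ≠ ⊤ := by
        intro h
        rw [h, add_top] at hadd
        exact ENat.coe_ne_top _ hadd
      obtain ⟨m, hm⟩ := ENat.ne_top_iff_exists.mp hne
      rw [← hm] at hadd ⊢
      have : n + 1 = 1 + m := by exact_mod_cast hadd
      have : m = n := by omega
      rw [this]
    have hnilQ : ∀ x ∈ 𝔪, ∀ v : N ⧸ P, ∃ c : ℕ, x ^ c • v = 0 := by
      intro x hx v
      obtain ⟨w, rfl⟩ := Submodule.mkQ_surjective P v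
      obtain ⟨c, hc⟩ := hnil x hx w
      refine ⟨c, ?_⟩
      rw [← map_smul, hc, map_zero]
    obtain ⟨hfinQ, hrkQ⟩ := ih (N ⧸ P) hnilQ hlenQ
    let e := Submodule.Quotient.restrictScalarsEquiv k P
    have hfinQ' : Module.Finite k (N ⧸ P.restrictScalars k) := Module.Finite.equiv e.symm
    have hfin : Module.Finite k N := Module.Finite.of_submodule_quotient (P.restrictScalars k)
    refine ⟨hfin, ?_⟩
    rw [← Submodule.finrank_quotient_add_finrank (P.restrictScalars k), hrkP,
      LinearEquiv.finrank_eq e, hrkQ]

end Groth.Agent.Helper23.GrSyzLen
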