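import Groth.Agent.Lib.Helper23.GrSyzFinLen
import Groth.Agent.Lib.Helper23.GrSyzLen

/-!
# Cyclic graded modules over a polynomial ring: dimension counts
-/

set_option autoImplicit false
set_option linter.unusedSectionVars false
set_option linter.unusedVariables false
set_option linter.style.haveILetI false

universe u

open GrSyz

namespace Groth.Agent.Helper23.GrSyzCyc
open MvPolynomial DirectSum Pointwise
open Groth.Agent.Helper23.GrSyzHilb Groth.Agent.Helper23.GrSyzLib Groth.Agent.Helper23.GrSyzCmp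
open Groth.Agent.Helper23.GrSyzMin Groth.Agent.Helper23.GrSyzQuot Groth.Agent.Helper23.GrSyzHorse
open Groth.Agent.Helper23.GrSyzReg Groth.Agent.Helper23.GrSyzFinLen

section Gen

variable {k : Type u} [Field k] {σ : Type}

/-- component of a product with a homogeneous factor -/
theorem projM_mul_of_mem {i : ℤ} {y : MvPolynomial σ k} (hy : y ∈ stdGr k σ i)
    (s : MvPolynomial σ k) (e : ℤ) :
    projM (stdGr k σ) e (s * y) = projM (stdGr k σ) (e - i) s * y := by
  have := projM_smul_of_mem (stdGr k σ) hy s e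
  rw [smul_eq_mul, smul_eq_mul, mul_comm] at this
  rw [this, mul_comm]

/-- the degree `e` component of an element of an ideal generated by linear forms -/
theorem exists_proj_eq_sum (ys : List (MvPolynomial σ k)) (hys : ∀ y ∈ ys, y ∈ stdGr k σ 1)
    {z : MvPolynomial σ k} (hz : z ∈ Ideal.ofList ys) (e : ℤ) :
    ∃ (n : ℕ) (f g : Fin n → MvPolynomial σ k), (∀ i, g i ∈ ys) ∧
      (∀ i, f i ∈ stdGr k σ (e - 1)) ∧ projM (stdGr k σ) e z = ∑ i, f i * g i := by
  have hz' : z ∈ Submodule.span (MvPolynomial σ k) {y | y ∈ ys} := hz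
  obtain ⟨n, f', g, hsum⟩ := Submodule.mem_span_set'.mp hz'
  refine ⟨n, fun i => projM (stdGr k σ) (e - 1) (f' i), fun i => (g i : MvPolynomial σ k),
    fun i => (g i).2, fun i => projM_mem _ _ _, ?_⟩
  rw [← hsum, map_sum]
  apply Finset.sum_congr rfl
  intro i _
  rw [smul_eq_mul, projM_mul_of_mem (hys _ (g i).2)]

end Gen

section Nil0

variable {k : Type u} [Field k] {σ : Type}
  {M : Type u} [AddCommGroup M] [Module k M]
  (ℳ : ℤ → Submodule k M) [DirectSum.Decomposition ℳ]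

theorem eq_zero_of_forall_projM_gen (m : M) (h : ∀ j, projM ℳ j m = 0) : m = 0 := by
  obtain ⟨E, hE⟩ := exists_sum_projM ℳ m
  rw [hE]
  exact Finset.sum_eq_zero (fun j _ => h j)

/-- the dimensions of finitely many graded pieces add up to at most the total dimension -/
theorem sum_finrank_le [Module.Finite k M] (E : Finset ℤ) :
    ∑ j ∈ E, Module.finrank k (ℳ j) ≤ Module.finrank k M := by
  classical
  let Φ : (∀ j : E, ℳ (j : ℤ)) →ₗ[k] M :=
    ∑ j : E, (ℳ (j : ℤ)).subtype ∘ₗ LinearMap.proj j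
  have hΦ : ∀ f, Φ f = ∑ j : E, ((f j : ℳ (j : ℤ)) : M) := by
    intro f
    simp [Φ, LinearMap.sum_apply]
  have hinj : Function.Injective Φ := by
    rw [← LinearMap.ker_eq_bot, LinearMap.ker_eq_bot']
    intro f hf
    funext i
    have h1 : projM ℳ (i : ℤ) (Φ f) = ((f i : ℳ (i : ℤ)) : M) := by
      rw [hΦ, map_sum]
      rw [Finset.sum_eq_single i]
      · rw [projM_of_mem ℳ (f i).2, if_pos rfl]
      · intro j _ hji
        rw [projM_of_mem ℳ (f j).2, if_neg]
        intro h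
        exact hji (Subtype.ext h)
      · intro h
        exact absurd (Finset.mem_univ i) h
    rw [hf, map_zero] at h1
    exact Subtype.ext h1.symm
  have h2 := LinearMap.finrank_le_finrank_of_injective hinj
  rw [Module.finrank_pi_fintype] at h2
  rw [← Finset.sum_coe_sort E (fun j => Module.finrank k (ℳ j))]
  exact h2

end Nil0

section Nil

variable {k : Type u} [Field k] {σ : Type}
  {M : Type u} [AddCommGroup M] [Module k M] [Module (MvPolynomial σ k) M]
  [IsScalarTower k (MvPolynomial σ k) M]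
  (ℳ : ℤ → Submodule k M) [DirectSum.Decomposition ℳ] [SetLike.GradedSMul (stdGr k σ) ℳ]

/-- every polynomial is a constant modulo the irrelevant ideal -/
theorem exists_sub_mem_irrel (s : MvPolynomial σ k) :
    ∃ a : k, s - algebraMap k (MvPolynomial σ k) a ∈ (irrel (stdGr k σ)).toIdeal := by
  refine ⟨constantCoeff s, ?_⟩
  rw [Groth.Agent.Helper23.GrSyzProj.irrel_eq_ker, RingHom.mem_ker, map_sub,
    MvPolynomial.algebraMap_eq, constantCoeff_C, sub_self]

theorem exists_mem_tail (v : M) : ∃ j₀ : ℤ, v ∈ tail (σ := σ) ℳ j₀ := by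
  classical
  obtain ⟨E, hE⟩ := exists_sum_projM ℳ v
  obtain ⟨j₀, hj₀⟩ := Finset.exists_le (E.image (fun e => -e))
  refine ⟨-j₀, fun i hi => ?_⟩
  rw [hE, map_sum]
  apply Finset.sum_eq_zero
  intro e he
  rw [projM_of_mem ℳ (projM_mem ℳ e v), if_neg]
  have := hj₀ (-e) (Finset.mem_image_of_mem _ he)
  omega

theorem irrel_smul_mem_tail {x : MvPolynomial σ k} (hx : x ∈ (irrel (stdGr k σ)).toIdeal)
    {j : ℤ} {v : M} (hv : v ∈ tail (σ := σ) ℳ j) : x • v ∈ tail (σ := σ) ℳ (j + 1) := by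
  have hx' : x ∈ Ideal.span {p : MvPolynomial σ k | ∃ n : ℤ, 0 < n ∧ p ∈ stdGr k σ n} := hx
  clear hx
  induction hx' using Submodule.span_induction with
  | mem y hy =>
    obtain ⟨n, hn, hyn⟩ := hy
    intro i hi
    rw [projM_smul_of_mem ℳ hyn, hv (i - n) (by omega), smul_zero]
  | zero => rw [zero_smul]; exact Submodule.zero_mem _
  | add x y _ _ hx hy => rw [add_smul]; exact Submodule.add_mem _ hx hy
  | smul a x _ hx => rw [smul_eq_mul, mul_smul]; exact Submodule.smul_mem _ a hx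

theorem pow_smul_mem_tail {x : MvPolynomial σ k} (hx : x ∈ (irrel (stdGr k σ)).toIdeal)
    {j : ℤ} {v : M} (hv : v ∈ tail (σ := σ) ℳ j) (c : ℕ) :
    x ^ c • v ∈ tail (σ := σ) ℳ (j + c) := by
  induction c with
  | zero => simpa using hv
  | succ c ih =>
    rw [pow_succ', mul_smul]
    have := irrel_smul_mem_tail ℳ hx ih
    convert this using 2
    push_cast
    ring

theorem tail_eq_bot {e₀ : ℤ} (htop : ∀ j, e₀ < j → ℳ j = ⊥) {j : ℤ} (hj : e₀ < j) :
    tail (σ := σ) ℳ j = ⊥ := by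
  rw [eq_bot_iff]
  intro v hv
  rw [Submodule.mem_bot]
  apply eq_zero_of_forall_projM_gen ℳ
  intro i
  by_cases hi : i < j
  · exact hv i hi
  · have := projM_mem ℳ i v
    rw [htop i (by omega), Submodule.mem_bot] at this
    exact this

/-- on a graded module with degrees bounded above the irrelevant ideal acts locally nilpotently -/
theorem exists_pow_smul_eq_zero {e₀ : ℤ} (htop : ∀ j, e₀ < j → ℳ j = ⊥)
    {x : MvPolynomial σ k} (hx : x ∈ (irrel (stdGr k σ)).toIdeal) (v : M) :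
    ∃ c : ℕ, x ^ c • v = 0 := by
  obtain ⟨j₀, hj₀⟩ := exists_mem_tail (σ := σ) ℳ v
  refine ⟨(e₀ + 1 - j₀).toNat, ?_⟩
  have h1 := pow_smul_mem_tail ℳ hx hj₀ (e₀ + 1 - j₀).toNat
  rw [tail_eq_bot ℳ htop (by omega), Submodule.mem_bot] at h1
  exact h1

end Nil

section Cyc

variable {k : Type u} [Field k] {r : ℕ}
  {N : Type u} [AddCommGroup N] [Module k N] [Module (MvPolynomial (Fin (r + 1)) k) N]
  [IsScalarTower k (MvPolynomial (Fin (r + 1)) k) N]
  (𝒩 : ℤ → Submodule k N) [DirectSum.Decomposition 𝒩]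
  [SetLike.GradedSMul (stdGr k (Fin (r + 1))) 𝒩]
  (τ : MvPolynomial (Fin (r + 1)) k →ₗ[MvPolynomial (Fin (r + 1)) k] N)
  (hτ : Function.Surjective τ) (hτg : GrLC.IsGrHom (stdGr k (Fin (r + 1))) 𝒩 τ)

include hτ hτg

theorem exists_preimage_of_mem {j : ℤ} {v : N} (hv : v ∈ 𝒩 j) :
    ∃ s ∈ stdGr k (Fin (r + 1)) j, τ s = v := by
  obtain ⟨s, rfl⟩ := hτ v
  refine ⟨projM (stdGr k (Fin (r + 1))) j s, projM_mem _ _ _, ?_⟩
  rw [← projM_map (stdGr k (Fin (r + 1))) 𝒩 τ hτg, projM_of_mem 𝒩 hv, if_pos rfl]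

theorem eq_bot_of_neg {j : ℤ} (hj : j < 0) : 𝒩 j = ⊥ := by
  rw [eq_bot_iff]
  intro v hv
  obtain ⟨s, hs, rfl⟩ := exists_preimage_of_mem 𝒩 τ hτ hτg hv
  rw [eq_zero_of_mem_stdGr_neg hj hs, map_zero]
  exact Submodule.zero_mem _

theorem eq_bot_succ {j : ℤ} (hj : 0 ≤ j) (h : 𝒩 j = ⊥) : 𝒩 (j + 1) = ⊥ := by
  rw [eq_bot_iff]
  intro v hv
  obtain ⟨s, hs, rfl⟩ := exists_preimage_of_mem 𝒩 τ hτ hτg hv
  have hs' : s ∈ Ideal.ofList (Xs k r) := by
    rw [ofList_Xs_eq_irrel]
    exact mem_irrel_of_pos k (Fin (r + 1)) (by omega) hs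
  obtain ⟨n, f, g, hg, hf, hsum⟩ := exists_proj_eq_sum (Xs k r) (Xs_mem_stdGr k r) hs' (j + 1)
  rw [projM_of_mem _ hs, if_pos rfl] at hsum
  rw [hsum, map_sum]
  apply Submodule.sum_mem
  intro i _
  have h1 : τ (f i) = 0 := by
    have : τ (f i) ∈ 𝒩 j := by
      have := hτg (j + 1 - 1) (f i) (hf i)
      rwa [show j + 1 - 1 = j by ring] at this
    rw [h, Submodule.mem_bot] at this
    exact this
  rw [mul_comm, ← smul_eq_mul, map_smul, h1, smul_zero]
  exact Submodule.zero_mem _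

theorem ne_bot_of_le {e₀ : ℤ} (he₀ : 𝒩 e₀ ≠ ⊥) {j : ℤ} (hj : 0 ≤ j) (hje : j ≤ e₀) :
    𝒩 j ≠ ⊥ := by
  intro h
  have key : ∀ c : ℕ, 𝒩 (j + c) = ⊥ := by
    intro c
    induction c with
    | zero => simpa using h
    | succ c ih =>
      have := eq_bot_succ 𝒩 τ hτ hτg (by omega) ih
      convert this using 2
      push_cast
      ring
  have := key (e₀ - j).toNat
  rw [show j + ((e₀ - j).toNat : ℤ) = e₀ by omega] at this
  exact he₀ this

theorem nonneg_of_ne_bot {e₀ : ℤ} (he₀ : 𝒩 e₀ ≠ ⊥) : 0 ≤ e₀ := by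
  by_contra h
  exact he₀ (eq_bot_of_neg 𝒩 τ hτ hτg (by omega))

end Cyc

section Lin

variable {k : Type u} [Field k] {r : ℕ}
  {M : Type u} [AddCommGroup M] [Module k M] [Module (MvPolynomial (Fin (r + 1)) k) M]
  [IsScalarTower k (MvPolynomial (Fin (r + 1)) k) M]
  (ℳ : ℤ → Submodule k M) [DirectSum.Decomposition ℳ]
  [SetLike.GradedSMul (stdGr k (Fin (r + 1))) ℳ]
  (π : MvPolynomial (Fin (r + 1)) k →ₗ[MvPolynomial (Fin (r + 1)) k] M)
  (hπ : Function.Surjective π) (hπg : GrLC.IsGrHom (stdGr k (Fin (r + 1))) ℳ π)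
  (hlin : ∀ x : MvPolynomial (Fin (r + 1)) k, x ∈ stdGr k (Fin (r + 1)) 1 → π x = 0 → x = 0)
  (ys : List (MvPolynomial (Fin (r + 1)) k)) (hys : ∀ y ∈ ys, y ∈ stdGr k (Fin (r + 1)) 1)
  {N : Type u} [AddCommGroup N] [Module k N] [Module (MvPolynomial (Fin (r + 1)) k) N]
  [IsScalarTower k (MvPolynomial (Fin (r + 1)) k) N]
  (𝒩 : ℤ → Submodule k N) [DirectSum.Decomposition 𝒩]
  [SetLike.GradedSMul (stdGr k (Fin (r + 1))) 𝒩]
  (σ : M →ₗ[MvPolynomial (Fin (r + 1)) k] N) (hσg : GrLC.IsGrHom ℳ 𝒩 σ)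
  (hker : LinearMap.ker σ = Ideal.ofList ys • (⊤ : Submodule (MvPolynomial (Fin (r + 1)) k) M))

include hπ hπg hlin hys hker in
/-- a linear form killed in `N = M/(ys)M` is a `k`-linear combination of the `ys` -/
theorem mem_span_of_map_eq_zero {s : MvPolynomial (Fin (r + 1)) k}
    (hs : s ∈ stdGr k (Fin (r + 1)) 1) (h0 : σ (π s) = 0) :
    s ∈ Submodule.span k {y | y ∈ ys} := by
  have h1 : π s ∈ Ideal.ofList ys • (⊤ : Submodule (MvPolynomial (Fin (r + 1)) k) M) := by
    rw [← hker]; exact h0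
  have h2 : ∀ m ∈ Ideal.ofList ys • (⊤ : Submodule (MvPolynomial (Fin (r + 1)) k) M),
      ∃ z ∈ Ideal.ofList ys, π z = m := by
    intro m hm
    refine Submodule.smul_induction_on hm ?_ ?_
    · intro a ha n _
      obtain ⟨s', rfl⟩ := hπ n
      exact ⟨a * s', Ideal.mul_mem_right _ _ ha, by rw [← smul_eq_mul, map_smul]⟩
    · intro x y hx hy
      obtain ⟨zx, hzx, rfl⟩ := hx
      obtain ⟨zy, hzy, rfl⟩ := hy
      exact ⟨zx + zy, Ideal.add_mem _ hzx hzy, map_add _ _ _⟩
  obtain ⟨z, hz, hzs⟩ := h2 _ h1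
  have h3 : π (s - projM (stdGr k (Fin (r + 1))) 1 z) = 0 := by
    have : s - projM (stdGr k (Fin (r + 1))) 1 z = projM (stdGr k (Fin (r + 1))) 1 (s - z) := by
      rw [map_sub, projM_of_mem _ hs, if_pos rfl]
    rw [this, ← projM_map (stdGr k (Fin (r + 1))) ℳ π hπg, map_sub, hzs, sub_self, map_zero]
  have h4 : s = projM (stdGr k (Fin (r + 1))) 1 z :=
    sub_eq_zero.mp (hlin _ (Submodule.sub_mem _ hs (projM_mem _ _ _)) h3)
  obtain ⟨n, f, g, hg, hf, hsum⟩ := exists_proj_eq_sum ys hys hz 1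
  rw [h4, hsum]
  apply Submodule.sum_mem
  intro i _
  have hfi := eq_C_of_mem_stdGr_of_nonpos k (Fin (r + 1)) (by norm_num) (hf i)
  rw [hfi, ← MvPolynomial.smul_eq_C_mul]
  exact Submodule.smul_mem _ _ (Submodule.subset_span (hg i))

include hπ hπg hlin hys hker hσg in
/-- the degree one part of `N` has dimension at least `r + 1 - t` -/
theorem le_length_add_finrank [Module.Finite k N] :
    r + 1 ≤ ys.length + Module.finrank k (𝒩 1) := by
  classical
  let S1 := stdGr k (Fin (r + 1)) 1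
  let τ₁ : S1 →ₗ[k] N := (σ.restrictScalars k) ∘ₗ (π.restrictScalars k) ∘ₗ S1.subtype
  have hτ₁ : ∀ s : S1, τ₁ s = σ (π (s : MvPolynomial (Fin (r + 1)) k)) := fun s => rfl
  have hrange : LinearMap.range τ₁ ≤ 𝒩 1 := by
    rintro _ ⟨s, rfl⟩
    rw [hτ₁]
    exact hσg 1 _ (hπg 1 _ s.2)
  have h1 : Module.finrank k (LinearMap.range τ₁) ≤ Module.finrank k (𝒩 1) :=
    Submodule.finrank_mono hrange
  have h2 := LinearMap.finrank_range_add_finrank_ker τ₁
  have h3 : Module.finrank k S1 = r + 1 := by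
    have := finrank_stdGr_fin (k := k) (r := r) 1
    rw [if_pos (by norm_num)] at this
    have h' : (1 : ℤ).toNat = 1 := rfl
    rw [h', Nat.choose_symm_add, Nat.choose_one_right] at this
    exact_mod_cast this
  let V : Submodule k (MvPolynomial (Fin (r + 1)) k) := Submodule.span k {y | y ∈ ys}
  have hV : Module.finrank k V ≤ ys.length := by
    have hVeq : V = Submodule.span k (ys.toFinset : Set (MvPolynomial (Fin (r + 1)) k)) := by
      show Submodule.span k {y | y ∈ ys} = _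
      congr 1
      ext y
      simp
    rw [hVeq]
    exact (finrank_span_finset_le_card _).trans (List.toFinset_card_le ys)
  haveI : Module.Finite k V := by
    have hVeq : V = Submodule.span k (ys.toFinset : Set (MvPolynomial (Fin (r + 1)) k)) := by
      show Submodule.span k {y | y ∈ ys} = _
      congr 1
      ext y
      simp
    rw [hVeq]
    infer_instance
  let ι : LinearMap.ker τ₁ →ₗ[k] V :=
    LinearMap.codRestrict V (S1.subtype ∘ₗ (LinearMap.ker τ₁).subtype) (by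
      intro s
      exact mem_span_of_map_eq_zero ℳ π hπ hπg hlin ys hys σ hker s.1.2 s.2)
  have hι : Function.Injective ι := by
    intro a b hab
    have := congrArg Subtype.val hab
    exact Subtype.ext (Subtype.ext this)
  have h4 := LinearMap.finrank_le_finrank_of_injective hι
  omega

end Lin

end Groth.Agent.Helper23.GrSyzCyc
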