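import Groth.Agent.Lib.Helper23.GrSyzReg

/-!
# Regularity of graded modules of finite length
-/

set_option autoImplicit false
set_option linter.unusedSectionVars false
set_option linter.unusedVariables false
set_option linter.style.haveILetI false

universe u

open GrSyz

namespace Groth.Agent.Helper23.GrSyzFinLen
open MvPolynomial DirectSum Pointwise
open Groth.Agent.Helper23.GrSyzHilb Groth.Agent.Helper23.GrSyzLib Groth.Agent.Helper23.GrSyzCmp
open Groth.Agent.Helper23.GrSyzMin Groth.Agent.Helper23.GrSyzQuot Groth.Agent.Helper23.GrSyzHorse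
open Groth.Agent.Helper23.GrSyzReg

section Vars

variable (k : Type u) [Field k] (r : ℕ)

/-- the list of variables -/
noncomputable def Xs : List (MvPolynomial (Fin (r + 1)) k) := List.ofFn (fun i : Fin (r + 1) => X i)

theorem Xs_length : (Xs k r).length = r + 1 := by simp [Xs]

theorem Xs_get (i : ℕ) (h : i < (Xs k r).length) :
    (Xs k r)[i] = X (⟨i, by rw [Xs_length] at h; exact h⟩ : Fin (r + 1)) := by
  unfold Xs
  rw [List.getElem_ofFn]

theorem mem_Xs (p : MvPolynomial (Fin (r + 1)) k) : p ∈ Xs k r ↔ ∃ i, X i = p := by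
  unfold Xs
  rw [List.mem_ofFn]

theorem Xs_mem_stdGr : ∀ y ∈ Xs k r, y ∈ stdGr k (Fin (r + 1)) 1 := by
  intro y hy
  obtain ⟨i, rfl⟩ := (mem_Xs k r y).mp hy
  rw [mem_stdGr_iff]
  exact isWeightedHomogeneous_X k _ i

theorem ofList_take_Xs (i : ℕ) (hi : i ≤ r + 1) :
    Ideal.ofList ((Xs k r).take i) =
      Ideal.span (X '' {j : Fin (r + 1) | (j : ℕ) < i}) := by
  unfold Ideal.ofList
  congr 1
  ext p
  simp only [Set.mem_ofPred_eq, Set.mem_image]
  rw [List.mem_take_iff_getElem]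
  constructor
  · rintro ⟨j, hj, rfl⟩
    have hj' : j < (Xs k r).length := by
      have := (lt_min_iff.mp hj).2; exact this
    rw [Xs_get k r j hj']
    exact ⟨⟨j, by rw [Xs_length] at hj'; exact hj'⟩, (lt_min_iff.mp hj).1, rfl⟩
  · rintro ⟨j, hj, rfl⟩
    have hj' : (j : ℕ) < (Xs k r).length := by rw [Xs_length]; exact j.2
    refine ⟨j, lt_min_iff.mpr ⟨hj, hj'⟩, ?_⟩
    rw [Xs_get k r j hj']

theorem isWeaklyRegular_Xs :
    RingTheory.Sequence.IsWeaklyRegular (MvPolynomial (Fin (r + 1)) k) (Xs k r) := by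
  classical
  refine ⟨fun i hi => ?_⟩
  have hi' : i < r + 1 := by rw [Xs_length] at hi; exact hi
  rw [isSMulRegular_quotient_iff_mem_of_smul_mem]
  intro p hp
  rw [smul_eq_mul, Ideal.mul_top, ofList_take_Xs k r i hi'.le] at hp ⊢
  rw [Xs_get k r i hi, smul_eq_mul, mem_ideal_span_X_image] at hp
  rw [mem_ideal_span_X_image]
  intro m hm
  have hm' : m + Finsupp.single (⟨i, hi'⟩ : Fin (r + 1)) 1 ∈
      (X (⟨i, hi'⟩ : Fin (r + 1)) * p).support := by
    rw [support_X_mul]
    simp only [Finset.mem_map, addLeftEmbedding_apply]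
    exact ⟨m, hm, add_comm _ _⟩
  obtain ⟨j, hj, hne⟩ := hp _ hm'
  refine ⟨j, hj, ?_⟩
  have hji : j ≠ ⟨i, hi'⟩ := by
    intro h
    rw [h] at hj
    simp at hj
  rw [Finsupp.add_apply, Finsupp.single_eq_of_ne hji, add_zero] at hne
  exact hne

theorem ofList_Xs_eq_irrel :
    Ideal.ofList (Xs k r) = (irrel (stdGr k (Fin (r + 1)))).toIdeal := by
  classical
  rw [Groth.Agent.Helper23.GrSyzProj.irrel_eq_ker]
  have h1 : Ideal.ofList (Xs k r) = Ideal.span (X '' (Set.univ : Set (Fin (r + 1)))) := by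
    have := ofList_take_Xs k r (r + 1) le_rfl
    rw [List.take_of_length_le (by rw [Xs_length])] at this
    rw [this]
    congr 2
    ext j
    have := j.2
    simp only [Set.mem_ofPred_eq, Set.mem_univ, iff_true]
    omega
  rw [h1]
  ext p
  rw [mem_ideal_span_X_image, RingHom.mem_ker]
  constructor
  · intro h
    by_contra hc
    have h0 : (0 : Fin (r + 1) →₀ ℕ) ∈ p.support := by
      rw [mem_support_iff]; rwa [constantCoeff_eq] at hc
    obtain ⟨i, -, hi⟩ := h 0 h0
    simp at hi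
  · intro h m hm
    by_contra hc
    push Not at hc
    have : m = 0 := by
      ext i
      exact hc i (Set.mem_univ i)
    subst this
    rw [mem_support_iff] at hm
    exact hm (by rwa [constantCoeff_eq] at h)

end Vars


section Explicit

variable {k : Type u} [Field k] {σ : Type}

/-- ranks of the trivial resolution of the ring -/
def rkSelf : ℕ → ℕ
  | 0 => 1
  | _ + 1 => 0

/-- the trivial resolution of the ring over itself -/
noncomputable def selfRes : FreeRes (stdGr k σ) (stdGr k σ) where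
  rk := rkSelf
  deg := fun _ _ => 0
  d := fun _ => 0
  aug := fun _ => 1
  d_mem := fun i a b => by
    simp only [Matrix.zero_apply]
    exact Submodule.zero_mem _
  aug_mem := fun _ => SetLike.GradedOne.one_mem
  aug_surjective := by
    intro p
    refine ⟨fun _ => p, ?_⟩
    show ∑ b : Fin 1, (fun _ => p) b • (1 : MvPolynomial σ k) = p
    simp
  exact_zero := by
    rw [Matrix.mulVecLin_zero, LinearMap.range_zero, eq_bot_iff]
    intro v hv
    rw [LinearMap.mem_ker] at hv
    have h1 : ∑ b : Fin 1, v b • (1 : MvPolynomial σ k) = 0 := hv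
    rw [Fin.sum_univ_one, smul_eq_mul, mul_one] at h1
    rw [Submodule.mem_bot]
    funext b
    have : b = (0 : Fin 1) := Subsingleton.elim (α := Fin 1) _ _
    rw [this]
    exact h1
  exact_succ := fun i => by
    haveI : Subsingleton (Fin (rkSelf (i + 1)) → MvPolynomial σ k) :=
      inferInstanceAs (Subsingleton (Fin 0 → MvPolynomial σ k))
    exact Subsingleton.elim _ _

theorem isRegLE_self :
    IsRegLE (stdGr k σ) (stdGr k σ) (irrel (stdGr k σ)).toIdeal 0 := by
  refine ⟨selfRes, ?_, ?_⟩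
  · intro i a b
    show (0 : Matrix _ _ (MvPolynomial σ k)) a b ∈ _
    simp only [Matrix.zero_apply]
    exact Ideal.zero_mem _
  · intro i b
    show (0 : ℤ) ≤ 0 + i
    have : (0 : ℤ) ≤ i := Int.natCast_nonneg i
    omega

variable {M : Type u} [AddCommGroup M] [Module k M] [Module (MvPolynomial σ k) M]
  (ℳ : ℤ → Submodule k M) [DirectSum.Decomposition ℳ] [SetLike.GradedSMul (stdGr k σ) ℳ]

/-- the empty resolution of a zero module -/
noncomputable def zeroRes [Subsingleton M] : FreeRes (stdGr k σ) ℳ where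
  rk := fun _ => 0
  deg := fun _ b => b.elim0
  d := fun _ => 0
  aug := fun b => b.elim0
  d_mem := fun i a b => b.elim0
  aug_mem := fun b => b.elim0
  aug_surjective := fun m => ⟨0, Subsingleton.elim _ _⟩
  exact_zero := Subsingleton.elim _ _
  exact_succ := fun i => Subsingleton.elim _ _

theorem isRegLE_of_subsingleton [Subsingleton M] (𝔪 : Ideal (MvPolynomial σ k)) (ρ : ℤ) :
    IsRegLE (stdGr k σ) ℳ 𝔪 ρ :=
  ⟨zeroRes ℳ, fun i a b => b.elim0, fun i b => b.elim0⟩

end Explicit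


section Kappa

variable {k : Type u} [Field k] {r : ℕ}

/-- the residue module `S/(x_0, …, x_r)` -/
abbrev Kap (k : Type u) [Field k] (r : ℕ) : Type u :=
  MvPolynomial (Fin (r + 1)) k ⧸
    (Ideal.ofList (Xs k r) • (⊤ : Submodule (MvPolynomial (Fin (r + 1)) k)
      (MvPolynomial (Fin (r + 1)) k)))

/-- the projection onto the residue module -/
noncomputable abbrev kapQ (k : Type u) [Field k] (r : ℕ) :
    MvPolynomial (Fin (r + 1)) k →ₗ[MvPolynomial (Fin (r + 1)) k] Kap k r :=
  Submodule.mkQ _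

theorem ofList_smul_top_eq :
    (Ideal.ofList (Xs k r) • (⊤ : Submodule (MvPolynomial (Fin (r + 1)) k)
      (MvPolynomial (Fin (r + 1)) k))) = (irrel (stdGr k (Fin (r + 1)))).toIdeal := by
  rw [smul_eq_mul, Ideal.mul_top, ofList_Xs_eq_irrel]

theorem kapQ_eq_zero_iff (s : MvPolynomial (Fin (r + 1)) k) :
    kapQ k r s = 0 ↔ s ∈ (irrel (stdGr k (Fin (r + 1)))).toIdeal := by
  rw [Submodule.mkQ_apply, Submodule.Quotient.mk_eq_zero, ofList_smul_top_eq]

/-- homogeneity of the kernel for the shifted grading -/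
theorem kapQ_projM (e : ℤ) [DirectSum.Decomposition (shiftGr (stdGr k (Fin (r + 1))) e)]
    [SetLike.GradedSMul (stdGr k (Fin (r + 1))) (shiftGr (stdGr k (Fin (r + 1))) e)]
    (x : MvPolynomial (Fin (r + 1)) k) (hx : kapQ k r x = 0) (n : ℤ) :
    kapQ k r (projM (shiftGr (stdGr k (Fin (r + 1))) e) n x) = 0 := by
  rw [kapQ_eq_zero_iff] at hx ⊢
  rw [projM_shift (σ := Fin (r + 1)), projM_apply]
  exact (irrel (stdGr k (Fin (r + 1)))).isHomogeneous (n - e) hx

theorem isRegLE_kap (e : ℤ) [DirectSum.Decomposition (shiftGr (stdGr k (Fin (r + 1))) e)]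
    [SetLike.GradedSMul (stdGr k (Fin (r + 1))) (shiftGr (stdGr k (Fin (r + 1))) e)]
    [DirectSum.Decomposition (imGr (shiftGr (stdGr k (Fin (r + 1))) e) (kapQ k r))]
    [SetLike.GradedSMul (stdGr k (Fin (r + 1)))
      (imGr (shiftGr (stdGr k (Fin (r + 1))) e) (kapQ k r))] :
    IsRegLE (stdGr k (Fin (r + 1))) (imGr (shiftGr (stdGr k (Fin (r + 1))) e) (kapQ k r))
      (irrel (stdGr k (Fin (r + 1)))).toIdeal e := by
  have h0 := isRegLE_shift (stdGr k (Fin (r + 1))) e (irrel (stdGr k (Fin (r + 1)))).toIdeal 0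
    isRegLE_self
  rw [zero_add] at h0
  exact (isRegLE_iff_quot (Xs k r) (Xs_mem_stdGr k r) (MvPolynomial (Fin (r + 1)) k)
    (shiftGr (stdGr k (Fin (r + 1))) e) (isWeaklyRegular_Xs k r) (Kap k r)
    (imGr (shiftGr (stdGr k (Fin (r + 1))) e) (kapQ k r)) (kapQ k r)
    (Submodule.mkQ_surjective _) (isGrHom_imGr _ _) (Submodule.ker_mkQ _) e).mp h0

end Kappa


section Upper

variable {k : Type u} [Field k] {r : ℕ}

section One

variable {M : Type u} [AddCommGroup M] [Module k M] [Module (MvPolynomial (Fin (r + 1)) k) M]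
  [IsScalarTower k (MvPolynomial (Fin (r + 1)) k) M]
  (ℳ : ℤ → Submodule k M) [DirectSum.Decomposition ℳ]
  [SetLike.GradedSMul (stdGr k (Fin (r + 1))) ℳ]

theorem eq_zero_of_forall_projM (m : M) (h : ∀ j, projM ℳ j m = 0) : m = 0 := by
  obtain ⟨E, hE⟩ := exists_sum_projM ℳ m
  rw [hE]
  exact Finset.sum_eq_zero (fun j _ => h j)

theorem exists_ne_bot_of_nontrivial [Nontrivial M] : ∃ j, ℳ j ≠ ⊥ := by
  by_contra hcon
  push Not at hcon
  obtain ⟨m, hm⟩ := exists_ne (0 : M)
  apply hm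
  apply eq_zero_of_forall_projM ℳ
  intro j
  have := projM_mem ℳ j m
  rw [hcon j, Submodule.mem_bot] at this
  exact this

/-- the irrelevant ideal kills a top-degree element -/
theorem irrel_smul_eq_zero {e₀ : ℤ} (htop : ∀ j, e₀ < j → ℳ j = ⊥) {v : M} (hv : v ∈ ℳ e₀)
    (s : MvPolynomial (Fin (r + 1)) k) (hs : s ∈ (irrel (stdGr k (Fin (r + 1)))).toIdeal) :
    s • v = 0 := by
  have hs' : s ∈ Ideal.span {p : MvPolynomial (Fin (r + 1)) k |
      ∃ n : ℤ, 0 < n ∧ p ∈ stdGr k (Fin (r + 1)) n} := hs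
  clear hs
  induction hs' using Submodule.span_induction with
  | mem y hy =>
    obtain ⟨n, hn, hyn⟩ := hy
    have h1 := SetLike.GradedSMul.smul_mem (A := stdGr k (Fin (r + 1))) (B := ℳ) hyn hv
    rw [vadd_eq_add, htop (n + e₀) (by omega), Submodule.mem_bot] at h1
    exact h1
  | zero => exact zero_smul _ _
  | add x y _ _ hx hy => rw [add_smul, hx, hy, add_zero]
  | smul a x _ hx => rw [smul_eq_mul, mul_smul, hx, smul_zero]

end One

/-- a graded module of finite length whose degrees are bounded by `e` has regularity `≤ e` -/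
theorem isRegLE_of_length : ∀ (n : ℕ) (M : Type u) [AddCommGroup M] [Module k M]
    [Module (MvPolynomial (Fin (r + 1)) k) M] [IsScalarTower k (MvPolynomial (Fin (r + 1)) k) M]
    [Module.Finite (MvPolynomial (Fin (r + 1)) k) M]
    (ℳ : ℤ → Submodule k M) [DirectSum.Decomposition ℳ]
    [SetLike.GradedSMul (stdGr k (Fin (r + 1))) ℳ],
    Module.length (MvPolynomial (Fin (r + 1)) k) M = (n : ℕ∞) →
    ∀ e : ℤ, (∀ j, e < j → ℳ j = ⊥) →
    IsRegLE (stdGr k (Fin (r + 1))) ℳ (irrel (stdGr k (Fin (r + 1)))).toIdeal e := by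
  intro n
  induction n using Nat.strong_induction_on with
  | _ n ih =>
  intro M _ _ _ _ _ ℳ _ _ hlen e he
  by_cases hsub : Subsingleton M
  · exact isRegLE_of_subsingleton ℳ _ e
  rw [not_subsingleton_iff_nontrivial] at hsub
  have hfl : IsFiniteLength (MvPolynomial (Fin (r + 1)) k) M := by
    rw [← Module.length_ne_top_iff, hlen]; exact ENat.coe_ne_top n
  obtain ⟨hnoeth, hart⟩ := isFiniteLength_iff_isNoetherian_isArtinian.mp hfl
  -- top degree
  obtain ⟨e₀, he₀, hmax⟩ := Int.exists_greatest_of_bdd (P := fun j => ℳ j ≠ ⊥)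
    ⟨e, fun z hz => by by_contra hc; exact hz (he z (by omega))⟩
    (exists_ne_bot_of_nontrivial ℳ)
  have htop : ∀ j, e₀ < j → ℳ j = ⊥ := by
    intro j hj
    by_contra hc
    have := hmax j hc
    omega
  have he₀e : e₀ ≤ e := by
    by_contra hc
    exact he₀ (he e₀ (by omega))
  obtain ⟨v, hv, hv0⟩ := (Submodule.ne_bot_iff _).mp he₀
  -- the residue module, shifted
  letI : DirectSum.Decomposition (shiftGr (stdGr k (Fin (r + 1))) e₀) :=
    shiftDecomposition (stdGr k (Fin (r + 1))) e₀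
  haveI : SetLike.GradedSMul (stdGr k (Fin (r + 1))) (shiftGr (stdGr k (Fin (r + 1))) e₀) :=
    shiftGradedSMul (stdGr k (Fin (r + 1))) e₀
  letI : DirectSum.Decomposition (imGr (shiftGr (stdGr k (Fin (r + 1))) e₀) (kapQ k r)) :=
    imDecomposition _ (kapQ k r) (Submodule.mkQ_surjective _) (kapQ_projM e₀)
  haveI : SetLike.GradedSMul (stdGr k (Fin (r + 1)))
      (imGr (shiftGr (stdGr k (Fin (r + 1))) e₀) (kapQ k r)) := imGradedSMul _ _
  have hK : IsRegLE (stdGr k (Fin (r + 1))) (imGr (shiftGr (stdGr k (Fin (r + 1))) e₀) (kapQ k r))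
      (irrel (stdGr k (Fin (r + 1)))).toIdeal e :=
    isRegLE_mono _ _ he₀e (isRegLE_kap e₀)
  -- the map `s ↦ s • v`
  let φ : MvPolynomial (Fin (r + 1)) k →ₗ[MvPolynomial (Fin (r + 1)) k] M :=
    LinearMap.toSpanSingleton _ _ v
  have hφ : ∀ s, φ s = s • v := fun s => rfl
  have hle : (Ideal.ofList (Xs k r) • (⊤ : Submodule (MvPolynomial (Fin (r + 1)) k)
      (MvPolynomial (Fin (r + 1)) k))) ≤ LinearMap.ker φ := by
    rw [ofList_smul_top_eq]
    intro s hs
    rw [LinearMap.mem_ker, hφ]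
    exact irrel_smul_eq_zero ℳ htop hv s hs
  let f : Kap k r →ₗ[MvPolynomial (Fin (r + 1)) k] M := Submodule.liftQ _ φ hle
  have hfq : ∀ s, f (kapQ k r s) = s • v := fun s => Submodule.liftQ_apply _ _ _
  have hf : Function.Injective f := by
    rw [injective_iff_map_eq_zero]
    intro q hq
    obtain ⟨s, rfl⟩ := Submodule.mkQ_surjective _ q
    rw [hfq] at hq
    rw [kapQ_eq_zero_iff]
    -- s = C c + s'
    have hs' : s - C (constantCoeff s) ∈ (irrel (stdGr k (Fin (r + 1)))).toIdeal := by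
      rw [Groth.Agent.Helper23.GrSyzProj.irrel_eq_ker, RingHom.mem_ker, map_sub,
        constantCoeff_C, sub_self]
    have h1 := irrel_smul_eq_zero ℳ htop hv _ hs'
    rw [sub_smul, hq, zero_sub, neg_eq_zero] at h1
    have h2 : (C (constantCoeff s) : MvPolynomial (Fin (r + 1)) k) • v = constantCoeff s • v := by
      have : (C (constantCoeff s) : MvPolynomial (Fin (r + 1)) k) =
          algebraMap k (MvPolynomial (Fin (r + 1)) k) (constantCoeff s) := rfl
      rw [this, algebraMap_smul]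
    rw [h2] at h1
    have h3 : constantCoeff s = 0 := by
      by_contra hc
      exact hv0 ((smul_eq_zero_iff_right hc).mp h1)
    rw [h3, map_zero, sub_zero] at hs'
    exact hs'
  have hfgr : GrLC.IsGrHom (imGr (shiftGr (stdGr k (Fin (r + 1))) e₀) (kapQ k r)) ℳ f := by
    intro j q hq
    obtain ⟨s, hs, rfl⟩ := (mem_imGr _ (kapQ k r) j q).mp hq
    rw [hfq]
    have hs' : s ∈ stdGr k (Fin (r + 1)) (j - e₀) := hs
    have h1 := SetLike.GradedSMul.smul_mem (A := stdGr k (Fin (r + 1))) (B := ℳ) hs' hv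
    rw [vadd_eq_add] at h1
    have : j - e₀ + e₀ = j := by ring
    rw [this] at h1
    exact h1
  -- the quotient
  let g : M →ₗ[MvPolynomial (Fin (r + 1)) k] (M ⧸ LinearMap.range f) := Submodule.mkQ _
  have hg : Function.Surjective g := Submodule.mkQ_surjective _
  have hfg : LinearMap.range f = LinearMap.ker g := (Submodule.ker_mkQ _).symm
  have hghom : ∀ x, g x = 0 → ∀ j, g (projM ℳ j x) = 0 := by
    intro x hx j
    have hx' : x ∈ LinearMap.range f := by rw [hfg]; exact hx
    obtain ⟨q, rfl⟩ := hx'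
    have : projM ℳ j (f q) ∈ LinearMap.ker g := by
      rw [← hfg, projM_map (imGr (shiftGr (stdGr k (Fin (r + 1))) e₀) (kapQ k r)) ℳ f hfgr]
      exact ⟨_, rfl⟩
    exact this
  letI : DirectSum.Decomposition (imGr ℳ g) := imDecomposition ℳ g hg hghom
  haveI : SetLike.GradedSMul (stdGr k (Fin (r + 1))) (imGr ℳ g) := imGradedSMul ℳ g
  have hggr : GrLC.IsGrHom ℳ (imGr ℳ g) g := isGrHom_imGr ℳ g
  -- the quotient has smaller length
  have hrange : LinearMap.range f ≠ ⊥ := by
    intro h0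
    have : v ∈ LinearMap.range f := ⟨kapQ k r 1, by rw [hfq, one_smul]⟩
    rw [h0, Submodule.mem_bot] at this
    exact hv0 this
  have hlt := Submodule.length_quotient_lt (LinearMap.range f) hrange
  rw [hlen] at hlt
  obtain ⟨n', hn'⟩ := ENat.ne_top_iff_exists.mp (ne_top_of_lt hlt)
  rw [← hn'] at hlt
  have hn'n : n' < n := by exact_mod_cast hlt
  have hQ : IsRegLE (stdGr k (Fin (r + 1))) (imGr ℳ g) (irrel (stdGr k (Fin (r + 1)))).toIdeal e := by
    refine ih n' hn'n (M ⧸ LinearMap.range f) (imGr ℳ g) hn'.symm e ?_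
    intro j hj
    rw [eq_bot_iff]
    intro q hq
    obtain ⟨m, hm, rfl⟩ := (mem_imGr ℳ g j q).mp hq
    rw [he j hj, Submodule.mem_bot] at hm
    rw [hm, map_zero]
    exact Submodule.zero_mem _
  exact part2 (ℳ₁ := imGr (shiftGr (stdGr k (Fin (r + 1))) e₀) (kapQ k r)) (ℳ₂ := ℳ)
    (ℳ₃ := imGr ℳ g) hf hg hfg hfgr hggr e hK hQ

end Upper


section Lower

variable {k : Type u} [Field k] {r : ℕ}
  {M : Type u} [AddCommGroup M] [Module k M] [Module (MvPolynomial (Fin (r + 1)) k) M]
  [IsScalarTower k (MvPolynomial (Fin (r + 1)) k) M]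
  [Module.Finite (MvPolynomial (Fin (r + 1)) k) M]
  (ℳ : ℤ → Submodule k M) [DirectSum.Decomposition ℳ]
  [SetLike.GradedSMul (stdGr k (Fin (r + 1))) ℳ]

theorem finiteDimensional_piece (F : FreeRes (stdGr k (Fin (r + 1))) ℳ) (e : ℤ) :
    FiniteDimensional k (ℳ e) := by
  haveI : FiniteDimensional k (V F e 0) := finite_pieceV k (Fin (r + 1)) (F.deg 0) e
  rw [← map_Ak F e]
  infer_instance

/-- the regularity is at least the top degree -/
theorem le_of_isRegLE {e : ℤ} (hne : ℳ e ≠ ⊥) (htop : ∀ j, e < j → ℳ j = ⊥) (ρ : ℤ)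
    (h : IsRegLE (stdGr k (Fin (r + 1))) ℳ (irrel (stdGr k (Fin (r + 1)))).toIdeal ρ) : e ≤ ρ := by
  by_contra hlt
  rw [not_le] at hlt
  obtain ⟨F, hF, hgen⟩ := h
  have hlen : F.HasLengthLE (r + 1) := by
    have := hasLengthLE_of_isMinimal ℳ F hF
    rwa [Nat.card_fin] at this
  obtain ⟨P, hP⟩ := hilbert_polynomial F (r + 1) hlen
  have hcond : ∀ d, e ≤ d → ∀ (i : ℕ) (b : Fin (F.rk i)), F.deg i b - (r : ℤ) ≤ d := by
    intro d hd i b
    by_cases hi : i ≤ r + 1
    · have h1 := hgen i b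
      have h2 : (i : ℤ) ≤ r + 1 := by exact_mod_cast hi
      omega
    · exfalso
      have := hlen i (by omega)
      rw [this] at b
      exact b.elim0
  have hroots : ∀ n : ℕ, P.eval (((e + 1 + n : ℤ)) : ℚ) = 0 := by
    intro n
    rw [← hP (e + 1 + n) (hcond _ (by omega)), htop _ (by omega)]
    simp
  have hP0 : P = 0 := by
    apply Polynomial.eq_zero_of_infinite_isRoot
    refine Set.infinite_of_injective_forall_mem (f := fun n : ℕ => (((e + 1 + n : ℤ)) : ℚ)) ?_
      (fun n => hroots n)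
    intro a b hab
    simpa using hab
  have h0 : ((Module.finrank k (ℳ e) : ℤ) : ℚ) = 0 := by
    rw [hP e (hcond e le_rfl), hP0]; simp
  haveI := finiteDimensional_piece ℳ F e
  have h1 : Module.finrank k (ℳ e) = 0 := by exact_mod_cast h0
  exact hne (Submodule.finrank_eq_zero.mp h1)

end Lower

section Bounded

variable {k : Type u} [Field k] {σ : Type}
  {M : Type u} [AddCommGroup M] [Module k M] [Module (MvPolynomial σ k) M]
  [IsScalarTower k (MvPolynomial σ k) M]
  (ℳ : ℤ → Submodule k M) [DirectSum.Decomposition ℳ] [SetLike.GradedSMul (stdGr k σ) ℳ]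

theorem eq_zero_of_mem_stdGr_neg {i : ℤ} (hi : i < 0) {s : MvPolynomial σ k}
    (hs : s ∈ stdGr k σ i) : s = 0 := by
  have h0 : constantCoeff s = 0 := by
    by_contra hc
    have := deg_eq_zero_of_constantCoeff_ne_zero hs hc
    omega
  exact eq_zero_of_mem_stdGr_of_nonpos k σ hi.le hs h0

/-- the submodule of elements concentrated in degrees `≥ n` -/
def tail (n : ℤ) : Submodule (MvPolynomial σ k) M where
  carrier := {m | ∀ j, j < n → projM ℳ j m = 0}
  add_mem' := by
    intro a b ha hb j hj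
    rw [map_add, ha j hj, hb j hj, add_zero]
  zero_mem' := fun j _ => map_zero _
  smul_mem' := by
    intro s m hm j hj
    induction s using DirectSum.Decomposition.inductionOn (stdGr k σ) generalizing j with
    | zero => rw [zero_smul, map_zero]
    | @homogeneous i s =>
      by_cases hi : i < 0
      · rw [eq_zero_of_mem_stdGr_neg hi s.2, zero_smul, map_zero]
      · rw [projM_smul_of_mem ℳ s.2, hm (j - i) (by omega), smul_zero]
    | add a b ha hb => rw [add_smul, map_add, ha j hj, hb j hj, add_zero]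

theorem mem_tail (n : ℤ) (m : M) :
    m ∈ tail (σ := σ) ℳ n ↔ ∀ j, j < n → projM ℳ j m = 0 := Iff.rfl

theorem tail_antitone {a b : ℤ} (h : a ≤ b) : tail (σ := σ) ℳ b ≤ tail (σ := σ) ℳ a :=
  fun m hm j hj => hm j (by omega)

/-- the degrees of a graded Artinian module are bounded above -/
theorem exists_bound [IsArtinian (MvPolynomial σ k) M] : ∃ e : ℤ, ∀ j, e < j → ℳ j = ⊥ := by
  let f : ℕ →o (Submodule (MvPolynomial σ k) M)ᵒᵈ :=
    ⟨fun n => OrderDual.toDual (tail (σ := σ) ℳ (n : ℤ)), fun a b hab =>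
      tail_antitone (σ := σ) ℳ (by exact_mod_cast hab)⟩
  obtain ⟨n₀, hn₀⟩ := IsArtinian.monotone_stabilizes f
  refine ⟨n₀, fun j hj => ?_⟩
  rw [eq_bot_iff]
  intro m hm
  obtain ⟨j', rfl⟩ := Int.eq_ofNat_of_zero_le (show 0 ≤ j by omega)
  have h1 : tail (σ := σ) ℳ (n₀ : ℤ) = tail (σ := σ) ℳ ((j' + 1 : ℕ) : ℤ) :=
    congrArg OrderDual.ofDual (hn₀ (j' + 1) (by omega))
  have h2 : tail (σ := σ) ℳ (n₀ : ℤ) = tail (σ := σ) ℳ ((j' : ℕ) : ℤ) :=
    congrArg OrderDual.ofDual (hn₀ j' (by omega))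
  have hm1 : m ∈ tail (σ := σ) ℳ ((j' : ℕ) : ℤ) := by
    intro i hi
    rw [projM_of_mem ℳ hm, if_neg (by omega)]
  rw [← h2, h1] at hm1
  have := hm1 (j' : ℤ) (by push_cast; omega)
  rw [projM_of_mem ℳ hm, if_pos rfl] at this
  rw [Submodule.mem_bot]
  exact this

end Bounded

end Groth.Agent.Helper23.GrSyzFinLen
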