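import Groth.Agent.Lib.Helper23.GrSyzLib
import Mathlib.LinearAlgebra.Dimension.Finrank
import Mathlib.LinearAlgebra.FiniteDimensional.Basic
import Mathlib.Tactic
import Mathlib.Algebra.Order.Antidiag.FinsuppEquiv
import Mathlib.RingTheory.Polynomial.Pochhammer

/-!
# Hilbert functions from graded free resolutions (`GrSyz`)
-/

set_option autoImplicit false

universe u v

open GrSyz MvPolynomial DirectSum

namespace Groth.Agent.Helper23.GrSyzHilb

section Graded

variable {k : Type u} [Field k] {σ : Type}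

local notation "S" => MvPolynomial σ k
local notation "𝒜" => stdGr k σ

variable {M : Type u} [AddCommGroup M] [Module k M] [Module (MvPolynomial σ k) M]
  (ℳ : ℤ → Submodule k M) [DirectSum.Decomposition ℳ] [SetLike.GradedSMul (stdGr k σ) ℳ]

/-- homogeneous component of a scalar multiple of a homogeneous element -/
theorem decompose_smul_of_mem (a : MvPolynomial σ k) {j : ℤ} {m : M} (hm : m ∈ ℳ j) (e : ℤ) :
    ((decompose ℳ (a • m) e : ℳ e) : M) =
      ((decompose (stdGr k σ) a (e - j) : stdGr k σ (e - j)) : MvPolynomial σ k) • m := by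
  induction a using DirectSum.Decomposition.inductionOn (stdGr k σ) with
  | zero => simp
  | @homogeneous n a =>
    have hmem : (a : MvPolynomial σ k) • m ∈ ℳ (n + j) := by
      have := SetLike.GradedSMul.smul_mem (A := stdGr k σ) (B := ℳ) a.2 hm
      simpa using this
    by_cases h : n + j = e
    · subst h
      rw [decompose_of_mem_same ℳ hmem]
      have : n + j - j = n := by ring
      rw [this, decompose_of_mem_same (stdGr k σ) a.2]
    · rw [decompose_of_mem_ne ℳ hmem h]
      have h' : n ≠ e - j := fun h'' => h (by omega)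
      rw [decompose_of_mem_ne (stdGr k σ) a.2 h', zero_smul]
  | add a b ha hb =>
    rw [add_smul, decompose_add, decompose_add, DirectSum.add_apply, DirectSum.add_apply,
      Submodule.coe_add, Submodule.coe_add, add_smul, ha, hb]

end Graded

section Vec

variable {k : Type u} [Field k] {σ : Type}

/-- degree-`e` piece of the free module with basis degrees `δ` -/
noncomputable def pieceV {n : ℕ} (δ : Fin n → ℤ) (e : ℤ) : Submodule k (Fin n → MvPolynomial σ k) :=
  Submodule.pi Set.univ (fun b => stdGr k σ (e - δ b))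

theorem mem_pieceV {n : ℕ} (δ : Fin n → ℤ) (e : ℤ) (v : Fin n → MvPolynomial σ k) :
    v ∈ pieceV δ e ↔ ∀ b, v b ∈ stdGr k σ (e - δ b) := by
  simp [pieceV]

/-- projection to the degree-`e` piece -/
noncomputable def projV {n : ℕ} (δ : Fin n → ℤ) (e : ℤ) (v : Fin n → MvPolynomial σ k) :
    Fin n → MvPolynomial σ k :=
  fun b => GradedRing.proj (stdGr k σ) (e - δ b) (v b)

theorem projV_mem {n : ℕ} (δ : Fin n → ℤ) (e : ℤ) (v : Fin n → MvPolynomial σ k) :
    projV δ e v ∈ pieceV δ e := by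
  rw [mem_pieceV]; intro b
  simp only [projV, GradedRing.proj_apply]
  exact Subtype.property _

theorem projV_of_mem {n : ℕ} (δ : Fin n → ℤ) (e : ℤ) (v : Fin n → MvPolynomial σ k)
    (hv : v ∈ pieceV δ e) : projV δ e v = v := by
  funext b
  simp only [projV, GradedRing.proj_apply]
  exact decompose_of_mem_same _ ((mem_pieceV δ e v).mp hv b)

theorem mulVec_mem_pieceV {m n : ℕ} (δ : Fin m → ℤ) (δ' : Fin n → ℤ)
    (A : Matrix (Fin m) (Fin n) (MvPolynomial σ k))
    (hA : ∀ a b, A a b ∈ stdGr k σ (δ' b - δ a)) (e : ℤ) (v : Fin n → MvPolynomial σ k)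
    (hv : v ∈ pieceV δ' e) : A.mulVec v ∈ pieceV δ e := by
  rw [mem_pieceV]; intro a
  rw [Matrix.mulVec, dotProduct]
  apply Submodule.sum_mem; intro b _
  have := SetLike.mul_mem_graded (hA a b) ((mem_pieceV _ _ _).mp hv b)
  have hidx : δ' b - δ a + (e - δ' b) = e - δ a := by ring
  rw [hidx] at this
  exact this

theorem mulVec_projV {m n : ℕ} (δ : Fin m → ℤ) (δ' : Fin n → ℤ)
    (A : Matrix (Fin m) (Fin n) (MvPolynomial σ k))
    (hA : ∀ a b, A a b ∈ stdGr k σ (δ' b - δ a)) (e : ℤ) (v : Fin n → MvPolynomial σ k) :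
    A.mulVec (projV δ' e v) = projV δ e (A.mulVec v) := by
  funext a
  simp only [projV, Matrix.mulVec, dotProduct, map_sum]
  apply Finset.sum_congr rfl; intro b _
  have h := coe_decompose_mul_add_of_left_mem (stdGr k σ) (i := δ' b - δ a) (j := e - δ' b)
    (b := v b) (hA a b)
  have hidx : δ' b - δ a + (e - δ' b) = e - δ a := by ring
  rw [hidx] at h
  simp only [GradedRing.proj_apply]
  exact h.symm

variable {M : Type u} [AddCommGroup M] [Module k M] [Module (MvPolynomial σ k) M]
  (ℳ : ℤ → Submodule k M) [DirectSum.Decomposition ℳ] [SetLike.GradedSMul (stdGr k σ) ℳ]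

theorem comb_mem {n : ℕ} (δ : Fin n → ℤ) (g : Fin n → M) (hg : ∀ b, g b ∈ ℳ (δ b)) (e : ℤ)
    (v : Fin n → MvPolynomial σ k) (hv : v ∈ pieceV δ e) : ∑ b, v b • g b ∈ ℳ e := by
  apply Submodule.sum_mem; intro b _
  have := SetLike.GradedSMul.smul_mem (A := stdGr k σ) (B := ℳ) ((mem_pieceV _ _ _).mp hv b) (hg b)
  have hidx : VAdd.vadd (e - δ b) (δ b) = e := by
    show e - δ b + δ b = e
    ring
  rw [← hidx]
  exact this

/-- the additive projection to a homogeneous component of a graded module -/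
noncomputable def projM (e : ℤ) : M →+ M :=
  (ℳ e).subtype.toAddMonoidHom.comp
    ((DFinsupp.evalAddMonoidHom e).comp (decomposeAddEquiv ℳ).toAddMonoidHom)

theorem projM_apply (e : ℤ) (x : M) : projM ℳ e x = ((decompose ℳ x e : ℳ e) : M) := rfl

theorem comb_projV {n : ℕ} (δ : Fin n → ℤ) (g : Fin n → M) (hg : ∀ b, g b ∈ ℳ (δ b)) (e : ℤ)
    (v : Fin n → MvPolynomial σ k) :
    ∑ b, (projV δ e v) b • g b = projM ℳ e (∑ b, v b • g b) := by
  rw [map_sum]
  apply Finset.sum_congr rfl; intro b _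
  rw [projM_apply, decompose_smul_of_mem ℳ (v b) (hg b) e]
  simp only [projV, GradedRing.proj_apply]

end Vec

section RankNullity

variable {k : Type u} [Field k]

theorem finrank_map_add {X Y : Type*} [AddCommGroup X] [Module k X] [AddCommGroup Y] [Module k Y]
    (f : X →ₗ[k] Y) (p : Submodule k X) [FiniteDimensional k p] :
    Module.finrank k (p.map f) + Module.finrank k ↥(p ⊓ LinearMap.ker f) = Module.finrank k p := by
  have h := LinearMap.finrank_range_add_finrank_ker (f.domRestrict p)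
  rw [LinearMap.range_domRestrict, LinearMap.ker_domRestrict] at h
  have e : ↥((LinearMap.ker f).comap p.subtype) ≃ₗ[k] ↥(p ⊓ LinearMap.ker f) := by
    have : (LinearMap.ker f).comap p.subtype = (p ⊓ LinearMap.ker f).comap p.subtype := by
      rw [Submodule.comap_inf, Submodule.comap_subtype_self, top_inf_eq]
    rw [this]
    exact Submodule.comapSubtypeEquivOfLe inf_le_left
  rw [e.finrank_eq] at h
  exact h

/-- telescoping alternating sum -/
theorem alt_sum_telescope (a κ : ℕ → ℤ) (w : ℤ) (h0 : a 0 = w + κ 0)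
    (h1 : ∀ i, a (i + 1) = κ i + κ (i + 1)) (m : ℕ) :
    ∑ i ∈ Finset.range (m + 1), (-1 : ℤ) ^ i * a i = w + (-1) ^ m * κ m := by
  induction m with
  | zero => simp [h0]
  | succ m ih =>
    rw [Finset.sum_range_succ, ih, h1 m, pow_succ]
    ring

end RankNullity

section Res

variable {k : Type u} [Field k] {σ : Type}
  {M : Type u} [AddCommGroup M] [Module k M] [Module (MvPolynomial σ k) M]
  [IsScalarTower k (MvPolynomial σ k) M]
  {ℳ : ℤ → Submodule k M} [DirectSum.Decomposition ℳ] [SetLike.GradedSMul (stdGr k σ) ℳ]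
  (F : FreeRes (stdGr k σ) ℳ) (e : ℤ)

/-- the degree-`e` piece of the `i`-th term -/
noncomputable def V (i : ℕ) : Submodule k (Fin (F.rk i) → MvPolynomial σ k) :=
  pieceV (F.deg i) e

/-- the differential as a `k`-linear map -/
noncomputable def Dk (i : ℕ) :
    (Fin (F.rk (i + 1)) → MvPolynomial σ k) →ₗ[k] (Fin (F.rk i) → MvPolynomial σ k) :=
  (Matrix.mulVecLin (F.d i)).restrictScalars k

/-- the augmentation as a `k`-linear map -/
noncomputable def Ak : (Fin (F.rk 0) → MvPolynomial σ k) →ₗ[k] M :=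
  (Fintype.linearCombination (MvPolynomial σ k) F.aug).restrictScalars k

theorem Dk_apply (i : ℕ) (v : Fin (F.rk (i + 1)) → MvPolynomial σ k) :
    Dk F i v = (F.d i).mulVec v := rfl

theorem Ak_apply (v : Fin (F.rk 0) → MvPolynomial σ k) : Ak F v = ∑ b, v b • F.aug b := by
  simp [Ak, Fintype.linearCombination_apply]

/-- the cycles in degree `e` -/
noncomputable def K : (i : ℕ) → Submodule k (Fin (F.rk i) → MvPolynomial σ k)
  | 0 => V F e 0 ⊓ LinearMap.ker (Ak F)
  | (i + 1) => V F e (i + 1) ⊓ LinearMap.ker (Dk F i)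

theorem map_Ak : (V F e 0).map (Ak F) = ℳ e := by
  apply le_antisymm
  · rintro _ ⟨v, hv, rfl⟩
    rw [Ak_apply]
    exact comb_mem ℳ (F.deg 0) F.aug F.aug_mem e v hv
  · intro m hm
    obtain ⟨v, hv⟩ := F.aug_surjective m
    refine ⟨projV (F.deg 0) e v, projV_mem _ _ _, ?_⟩
    rw [Ak_apply, comb_projV ℳ (F.deg 0) F.aug F.aug_mem e v, projM_apply]
    rw [Fintype.linearCombination_apply] at hv
    rw [hv]
    exact decompose_of_mem_same ℳ hm

theorem map_Dk (i : ℕ) : (V F e (i + 1)).map (Dk F i) = K F e i := by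
  cases i with
  | zero =>
    apply le_antisymm
    · rintro _ ⟨w, hw, rfl⟩
      refine ⟨mulVec_mem_pieceV (F.deg 0) (F.deg 1) (F.d 0) (F.d_mem 0) e w hw, ?_⟩
      have : (F.d 0).mulVec w ∈ LinearMap.ker (Fintype.linearCombination (MvPolynomial σ k) F.aug) := by
        rw [F.exact_zero]; exact ⟨w, rfl⟩
      exact this
    · rintro v ⟨hv, hker⟩
      have hv' : v ∈ LinearMap.ker (Fintype.linearCombination (MvPolynomial σ k) F.aug) := hker
      rw [F.exact_zero] at hv'
      obtain ⟨w, hw⟩ := hv'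
      refine ⟨projV (F.deg 1) e w, projV_mem _ _ _, ?_⟩
      rw [Dk_apply, mulVec_projV (F.deg 0) (F.deg 1) (F.d 0) (F.d_mem 0) e w]
      rw [Matrix.mulVecLin_apply] at hw
      rw [hw]
      exact projV_of_mem _ _ _ hv
  | succ i =>
    apply le_antisymm
    · rintro _ ⟨w, hw, rfl⟩
      refine ⟨mulVec_mem_pieceV (F.deg (i + 1)) (F.deg (i + 2)) (F.d (i + 1)) (F.d_mem (i + 1)) e w hw,
        ?_⟩
      have : (F.d (i + 1)).mulVec w ∈ LinearMap.ker (Matrix.mulVecLin (F.d i)) := by
        rw [F.exact_succ i]; exact ⟨w, rfl⟩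
      exact this
    · rintro v ⟨hv, hker⟩
      have hv' : v ∈ LinearMap.ker (Matrix.mulVecLin (F.d i)) := hker
      rw [F.exact_succ i] at hv'
      obtain ⟨w, hw⟩ := hv'
      refine ⟨projV (F.deg (i + 2)) e w, projV_mem _ _ _, ?_⟩
      rw [Dk_apply, mulVec_projV (F.deg (i + 1)) (F.deg (i + 2)) (F.d (i + 1)) (F.d_mem (i + 1)) e w]
      rw [Matrix.mulVecLin_apply] at hw
      rw [hw]
      exact projV_of_mem _ _ _ hv

variable [∀ i, FiniteDimensional k (V F e i)]

theorem finrank_V_zero : (Module.finrank k (V F e 0) : ℤ) =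
    (Module.finrank k (ℳ e) : ℤ) + (Module.finrank k (K F e 0) : ℤ) := by
  have h := finrank_map_add (Ak F) (V F e 0)
  rw [map_Ak] at h
  have : K F e 0 = V F e 0 ⊓ LinearMap.ker (Ak F) := rfl
  rw [this, ← h]; push_cast; ring

theorem finrank_V_succ (i : ℕ) : (Module.finrank k (V F e (i + 1)) : ℤ) =
    (Module.finrank k (K F e i) : ℤ) + (Module.finrank k (K F e (i + 1)) : ℤ) := by
  have h := finrank_map_add (Dk F i) (V F e (i + 1))
  rw [map_Dk] at h
  have : K F e (i + 1) = V F e (i + 1) ⊓ LinearMap.ker (Dk F i) := rfl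
  rw [this, ← h]; push_cast; ring

theorem euler (m : ℕ) (hF : F.HasLengthLE m) :
    (Module.finrank k (ℳ e) : ℤ) =
      ∑ i ∈ Finset.range (m + 1), (-1 : ℤ) ^ i * (Module.finrank k (V F e i) : ℤ) := by
  have htel := alt_sum_telescope (fun i => (Module.finrank k (V F e i) : ℤ))
    (fun i => (Module.finrank k (K F e i) : ℤ)) (Module.finrank k (ℳ e) : ℤ)
    (finrank_V_zero F e) (finrank_V_succ F e) m
  have hzero : Module.finrank k (V F e (m + 1)) = 0 := by
    have hrk : F.rk (m + 1) = 0 := hF (m + 1) (Nat.lt_succ_self m)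
    have : IsEmpty (Fin (F.rk (m + 1))) := by rw [hrk]; infer_instance
    have hsub : Subsingleton (Fin (F.rk (m + 1)) → MvPolynomial σ k) := inferInstance
    have : Subsingleton (V F e (m + 1)) := inferInstance
    exact Module.finrank_zero_of_subsingleton
  have hκ : (Module.finrank k (K F e m) : ℤ) = 0 := by
    have h := finrank_V_succ F e m
    rw [hzero] at h
    have h1 : (0 : ℤ) ≤ (Module.finrank k (K F e m) : ℤ) := Int.natCast_nonneg _
    have h2 : (0 : ℤ) ≤ (Module.finrank k (K F e (m + 1)) : ℤ) := Int.natCast_nonneg _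
    push_cast at h
    omega
  rw [htel, hκ, mul_zero, add_zero]

end Res

section Dim

variable (k : Type u) [Field k] (σ : Type) [Fintype σ] [DecidableEq σ]

theorem stdGr_eq_restrictSupport (n : ℤ) :
    stdGr k σ n =
      MvPolynomial.restrictSupport k {d | Finsupp.weight (fun _ : σ => (1 : ℤ)) d = n} :=
  MvPolynomial.weightedHomogeneousSubmodule_eq_finsupp_supported k _ n

theorem setOf_weight_eq (n : ℕ) :
    {d : σ →₀ ℕ | Finsupp.weight (fun _ : σ => (1 : ℤ)) d = (n : ℤ)} =
      ↑(Finset.univ.finsuppAntidiag n : Finset (σ →₀ ℕ)) := by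
  ext d
  simp only [Set.mem_ofPred_eq, Finset.mem_coe, Finset.mem_finsuppAntidiag', Finset.subset_univ,
    and_true]
  rw [GrSyzLib.weight_one]
  exact Nat.cast_inj

theorem setOf_weight_eq_empty {n : ℤ} (hn : n < 0) :
    {d : σ →₀ ℕ | Finsupp.weight (fun _ : σ => (1 : ℤ)) d = n} = ∅ := by
  ext d
  simp only [Set.mem_ofPred_eq, Set.mem_empty_iff_false, iff_false]
  intro h
  have := GrSyzLib.weight_one_nonneg σ d
  omega

instance finite_stdGr (n : ℤ) : Module.Finite k (stdGr k σ n) := by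
  rw [stdGr_eq_restrictSupport]
  by_cases hn : n < 0
  · rw [setOf_weight_eq_empty σ hn]
    exact Module.Finite.of_basis (MvPolynomial.basisRestrictSupport k _)
  · obtain ⟨m, rfl⟩ := Int.eq_ofNat_of_zero_le (not_lt.mp hn)
    rw [setOf_weight_eq σ m]
    exact Module.Finite.of_basis (MvPolynomial.basisRestrictSupport k _)

theorem finrank_stdGr (n : ℤ) :
    Module.finrank k (stdGr k σ n) =
      if 0 ≤ n then (Fintype.card σ + n.toNat - 1).choose n.toNat else 0 := by
  rw [stdGr_eq_restrictSupport]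
  by_cases hn : n < 0
  · rw [if_neg (not_le.mpr hn), setOf_weight_eq_empty σ hn,
      Module.finrank_eq_nat_card_basis (MvPolynomial.basisRestrictSupport k _)]
    simp
  · obtain ⟨m, rfl⟩ := Int.eq_ofNat_of_zero_le (not_lt.mp hn)
    rw [if_pos (Int.natCast_nonneg m), setOf_weight_eq σ m,
      Module.finrank_eq_nat_card_basis (MvPolynomial.basisRestrictSupport k _)]
    rw [Nat.card_coe_set_eq, Set.ncard_coe_finset, Finset.card_finsuppAntidiag_nat_eq_choose]
    simp

/-- the piece of a free module as a product -/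
noncomputable def pieceVEquiv {n : ℕ} (δ : Fin n → ℤ) (e : ℤ) :
    (pieceV δ e : Submodule k (Fin n → MvPolynomial σ k)) ≃ₗ[k] ((b : Fin n) → stdGr k σ (e - δ b)) where
  toFun v := fun b => ⟨v.1 b, (mem_pieceV δ e v.1).mp v.2 b⟩
  invFun w := ⟨fun b => (w b : MvPolynomial σ k), (mem_pieceV δ e _).mpr fun b => (w b).2⟩
  map_add' _ _ := rfl
  map_smul' _ _ := rfl
  left_inv _ := rfl
  right_inv _ := rfl

instance finite_pieceV {n : ℕ} (δ : Fin n → ℤ) (e : ℤ) :
    FiniteDimensional k (pieceV δ e : Submodule k (Fin n → MvPolynomial σ k)) :=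
  Module.Finite.equiv (pieceVEquiv k σ δ e).symm

theorem finrank_pieceV {n : ℕ} (δ : Fin n → ℤ) (e : ℤ) :
    Module.finrank k (pieceV δ e : Submodule k (Fin n → MvPolynomial σ k)) =
      ∑ b, Module.finrank k (stdGr k σ (e - δ b)) := by
  rw [(pieceVEquiv k σ δ e).finrank_eq, Module.finrank_pi_fintype]

end Dim

section Hilbert

variable {k : Type u} [Field k] {r : ℕ}
  {M : Type u} [AddCommGroup M] [Module k M] [Module (MvPolynomial (Fin (r + 1)) k) M]
  [IsScalarTower k (MvPolynomial (Fin (r + 1)) k) M]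
  {ℳ : ℤ → Submodule k M} [DirectSum.Decomposition ℳ]
  [SetLike.GradedSMul (stdGr k (Fin (r + 1))) ℳ]
  (F : FreeRes (stdGr k (Fin (r + 1))) ℳ)

theorem finrank_stdGr_fin (n : ℤ) :
    (Module.finrank k (stdGr k (Fin (r + 1)) n) : ℤ) =
      if 0 ≤ n then ((Nat.choose (r + n.toNat) r : ℕ) : ℤ) else 0 := by
  rw [finrank_stdGr]
  split_ifs with h
  · congr 1
    rw [Fintype.card_fin, show r + 1 + n.toNat - 1 = r + n.toNat by omega, Nat.choose_symm_add]
  · rfl

theorem finrank_V_fin (e : ℤ) (i : ℕ) :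
    (Module.finrank k (V F e i) : ℤ) =
      ∑ b : Fin (F.rk i),
        (if F.deg i b ≤ e then ((Nat.choose (r + (e - F.deg i b).toNat) r : ℕ) : ℤ) else 0) := by
  unfold V
  rw [finrank_pieceV]
  push_cast
  apply Finset.sum_congr rfl
  intro b _
  rw [finrank_stdGr_fin]
  have : (0 ≤ e - F.deg i b) ↔ F.deg i b ≤ e := by omega
  simp only [this]

/-- Hilbert function from a finite graded free resolution -/
theorem hilbert_function (m : ℕ) (hF : F.HasLengthLE m) (d : ℤ) :
    (Module.finrank k ↥(ℳ d) : ℤ) =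
      ∑ i ∈ Finset.range (m + 1), (-1 : ℤ) ^ i * ∑ b : Fin (F.rk i),
        (if F.deg i b ≤ d then ((Nat.choose (r + (d - F.deg i b).toNat) r : ℕ) : ℤ) else 0) := by
  have : ∀ i, FiniteDimensional k (V F d i) := fun i => finite_pieceV k (Fin (r + 1)) (F.deg i) d
  rw [euler F d m hF]
  apply Finset.sum_congr rfl
  intro i _
  rw [finrank_V_fin]

end Hilbert

section HilbertPoly

open Polynomial

/-- the binomial coefficient as a polynomial value -/
theorem choose_eq_descPochhammer (r : ℕ) (a d : ℤ) (h : a - r ≤ d) :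
    (((if a ≤ d then ((Nat.choose (r + (d - a).toNat) r : ℕ) : ℤ) else 0 : ℤ)) : ℚ) =
      (descPochhammer ℚ r).eval ((d : ℚ) + ((r : ℚ) - (a : ℚ))) / (r.factorial : ℚ) := by
  split_ifs with had
  · obtain ⟨n, hn⟩ := Int.eq_ofNat_of_zero_le (sub_nonneg.mpr had)
    have hx : (d : ℚ) + ((r : ℚ) - (a : ℚ)) = ((r + n : ℕ) : ℚ) := by
      have : (d : ℚ) - (a : ℚ) = (n : ℚ) := by exact_mod_cast hn
      push_cast; linarith
    rw [hx, ← Nat.cast_choose_eq_descPochhammer_div, hn]
    simp
  · have hk : 0 ≤ d + r - a := by omega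
    obtain ⟨n, hn⟩ := Int.eq_ofNat_of_zero_le hk
    have hlt : n < r := by omega
    have hx : (d : ℚ) + ((r : ℚ) - (a : ℚ)) = (n : ℚ) := by
      have : (d : ℚ) + (r : ℚ) - (a : ℚ) = (n : ℚ) := by exact_mod_cast hn
      linarith
    rw [hx, descPochhammer_eval_coe_nat_of_lt hlt]
    simp

variable {k : Type u} [Field k] {r : ℕ}
  {M : Type u} [AddCommGroup M] [Module k M] [Module (MvPolynomial (Fin (r + 1)) k) M]
  [IsScalarTower k (MvPolynomial (Fin (r + 1)) k) M]
  {ℳ : ℤ → Submodule k M} [DirectSum.Decomposition ℳ]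
  [SetLike.GradedSMul (stdGr k (Fin (r + 1))) ℳ]
  (F : FreeRes (stdGr k (Fin (r + 1))) ℳ)

theorem hilbert_polynomial (m : ℕ) (hF : F.HasLengthLE m) :
    ∃ P : Polynomial ℚ, ∀ d : ℤ, (∀ (i : ℕ) (b : Fin (F.rk i)), F.deg i b - (r : ℤ) ≤ d) →
      ((Module.finrank k ↥(ℳ d) : ℤ) : ℚ) = P.eval (d : ℚ) := by
  refine ⟨∑ i ∈ Finset.range (m + 1), Polynomial.C ((-1 : ℚ) ^ i) * ∑ b : Fin (F.rk i),
    Polynomial.C (1 / (r.factorial : ℚ)) *
      (descPochhammer ℚ r).comp (Polynomial.X + Polynomial.C ((r : ℚ) - (F.deg i b : ℚ))), ?_⟩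
  intro d hd
  rw [hilbert_function F m hF d]
  push_cast
  rw [Polynomial.eval_finsetSum]
  apply Finset.sum_congr rfl
  intro i _
  rw [Polynomial.eval_mul, Polynomial.eval_C, Polynomial.eval_finsetSum]
  congr 1
  apply Finset.sum_congr rfl
  intro b _
  have h := choose_eq_descPochhammer r (F.deg i b) d (hd i b)
  rw [Polynomial.eval_mul, Polynomial.eval_C, Polynomial.eval_comp, Polynomial.eval_add,
    Polynomial.eval_X, Polynomial.eval_C]
  push_cast at h
  rw [h]
  ring

end HilbertPoly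

end Groth.Agent.Helper23.GrSyzHilb
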