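import Groth.Agent.Lib.Helper23.GrSyzCmp
import Groth.Agent.Lib.Helper23.GrSyzMin
import Groth.Prelude.Def_GrLC

set_option autoImplicit false
set_option linter.unusedSectionVars false
set_option linter.unusedVariables false

universe u v

open GrSyz MvPolynomial DirectSum

namespace Groth.Agent.Helper23.GrSyzHorse

open Groth.Agent.Helper23.GrSyzHilb Groth.Agent.Helper23.GrSyzLib Groth.Agent.Helper23.GrSyzCmp

section Blk

variable {R : Type*} [CommRing R] {m o l n : ℕ}

/-- block matrix on `Fin (m + o) × Fin (l + n)` -/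
def blk (A : Matrix (Fin m) (Fin l) R) (B : Matrix (Fin m) (Fin n) R)
    (C : Matrix (Fin o) (Fin l) R) (D : Matrix (Fin o) (Fin n) R) :
    Matrix (Fin (m + o)) (Fin (l + n)) R :=
  Matrix.of (fun a b => Fin.append (fun a' => Fin.append (A a') (B a') b)
    (fun a' => Fin.append (C a') (D a') b) a)

variable (A : Matrix (Fin m) (Fin l) R) (B : Matrix (Fin m) (Fin n) R)
    (C : Matrix (Fin o) (Fin l) R) (D : Matrix (Fin o) (Fin n) R)

@[simp] theorem blk_ll (a : Fin m) (b : Fin l) :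
    blk A B C D (Fin.castAdd o a) (Fin.castAdd n b) = A a b := by
  simp [blk]

@[simp] theorem blk_lr (a : Fin m) (b : Fin n) :
    blk A B C D (Fin.castAdd o a) (Fin.natAdd l b) = B a b := by
  simp [blk]

@[simp] theorem blk_rl (a : Fin o) (b : Fin l) :
    blk A B C D (Fin.natAdd m a) (Fin.castAdd n b) = C a b := by
  simp [blk]

@[simp] theorem blk_rr (a : Fin o) (b : Fin n) :
    blk A B C D (Fin.natAdd m a) (Fin.natAdd l b) = D a b := by
  simp [blk]

theorem blk_mulVec (x : Fin l → R) (y : Fin n → R) :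
    (blk A B C D).mulVec (Fin.append x y) =
      Fin.append (A.mulVec x + B.mulVec y) (C.mulVec x + D.mulVec y) := by
  funext a
  refine Fin.addCases (fun a' => ?_) (fun a' => ?_) a
  · simp [Matrix.mulVec, dotProduct, Fin.sum_univ_add]
  · simp [Matrix.mulVec, dotProduct, Fin.sum_univ_add]

theorem append_split {α : Type*} (v : Fin (m + n) → α) :
    ∃ (x : Fin m → α) (y : Fin n → α), v = Fin.append x y :=
  ⟨fun i => v (Fin.castAdd n i), fun i => v (Fin.natAdd m i), by
    funext a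
    refine Fin.addCases (fun a' => ?_) (fun a' => ?_) a <;> simp⟩

theorem append_eq_zero_iff (x : Fin m → R) (y : Fin n → R) :
    Fin.append x y = 0 ↔ x = 0 ∧ y = 0 := by
  constructor
  · intro h
    constructor
    · funext i
      have := congrFun h (Fin.castAdd n i)
      simpa using this
    · funext i
      have := congrFun h (Fin.natAdd m i)
      simpa using this
  · rintro ⟨rfl, rfl⟩
    funext a
    refine Fin.addCases (fun a' => ?_) (fun a' => ?_) a <;> simp

theorem lc_append {M : Type*} [AddCommGroup M] [Module R M] (u : Fin m → M) (w : Fin n → M)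
    (x : Fin m → R) (y : Fin n → R) :
    Fintype.linearCombination R (Fin.append u w) (Fin.append x y) =
      Fintype.linearCombination R u x + Fintype.linearCombination R w y := by
  simp [Fintype.linearCombination_apply, Fin.sum_univ_add]

end Blk

section GrHom

variable {k : Type u} [Field k] {σ : Type}
  {M : Type u} [AddCommGroup M] [Module k M] [Module (MvPolynomial σ k) M]
  (ℳ : ℤ → Submodule k M) [DirectSum.Decomposition ℳ] [SetLike.GradedSMul (stdGr k σ) ℳ]
  {N : Type u} [AddCommGroup N] [Module k N] [Module (MvPolynomial σ k) N]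
  (𝒩 : ℤ → Submodule k N) [DirectSum.Decomposition 𝒩] [SetLike.GradedSMul (stdGr k σ) 𝒩]
  (f : M →ₗ[MvPolynomial σ k] N) (hfgr : GrLC.IsGrHom ℳ 𝒩 f)

include hfgr in
theorem grHom_projM (e : ℤ) (x : M) : f (projM ℳ e x) = projM 𝒩 e (f x) := by
  induction x using DirectSum.Decomposition.inductionOn ℳ with
  | zero => simp
  | @homogeneous i x =>
    have hfx : f (x : M) ∈ 𝒩 i := hfgr i x x.2
    by_cases h : i = e
    · subst h
      rw [projM_apply, projM_apply, decompose_of_mem_same ℳ x.2, decompose_of_mem_same 𝒩 hfx]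
    · rw [projM_apply, projM_apply, decompose_of_mem_ne ℳ x.2 h, decompose_of_mem_ne 𝒩 hfx h,
        map_zero]
  | add a b ha hb =>
    simp only [map_add, ha, hb]

include hfgr in
theorem mem_of_map_mem (hf : Function.Injective f) {e : ℤ} {x : M} (h : f x ∈ 𝒩 e) : x ∈ ℳ e := by
  have h1 : f (projM ℳ e x) = f x := by
    rw [grHom_projM ℳ 𝒩 f hfgr, projM_apply, decompose_of_mem_same 𝒩 h]
  have := hf h1
  rw [← this, projM_apply]
  exact Subtype.property _

end GrHom

section Homotopy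

variable {k : Type u} [Field k] {σ : Type}
  {M : Type u} [AddCommGroup M] [Module k M] [Module (MvPolynomial σ k) M]
  {ℳ : ℤ → Submodule k M} [DirectSum.Decomposition ℳ] [SetLike.GradedSMul (stdGr k σ) ℳ]
  (H : FreeRes (stdGr k σ) ℳ)
  (θ : ∀ i, Matrix (Fin (H.rk i)) (Fin (H.rk i)) (MvPolynomial σ k))
  (haug : ∀ v, H.augLin ((θ 0).mulVec v) = 0)
  (hcomm : ∀ i, H.d i * θ (i + 1) = θ i * H.d i)

include haug in
theorem homotopy_zero : ∃ h : Matrix (Fin (H.rk 1)) (Fin (H.rk 0)) (MvPolynomial σ k),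
    θ 0 = H.d 0 * h := by
  obtain ⟨h, hh⟩ := exists_factor' (H.d 0) (θ 0) (by
    intro b
    rw [← H.exact_zero, LinearMap.mem_ker, col_eq_mulVec_single]
    exact haug _)
  exact ⟨h, hh.symm⟩

include hcomm in
theorem homotopy_step (i : ℕ) (h : Matrix (Fin (H.rk (i + 1))) (Fin (H.rk i)) (MvPolynomial σ k))
    (hh : (θ i - H.d i * h) * H.d i = 0) :
    ∃ h' : Matrix (Fin (H.rk (i + 2))) (Fin (H.rk (i + 1))) (MvPolynomial σ k),
      θ (i + 1) = H.d (i + 1) * h' + h * H.d i := by
  obtain ⟨h', hh'⟩ := exists_factor' (H.d (i + 1)) (θ (i + 1) - h * H.d i) (by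
    intro b
    rw [← H.exact_succ i, LinearMap.mem_ker, Matrix.mulVecLin_apply, ← col_mul, Matrix.mul_sub,
      hcomm i, ← Matrix.mul_assoc, ← Matrix.sub_mul, hh]
    rfl)
  refine ⟨h', ?_⟩
  rw [hh']; abel

include haug hcomm in
theorem homotopy_inv (i : ℕ) : ∃ h : Matrix (Fin (H.rk (i + 1))) (Fin (H.rk i)) (MvPolynomial σ k),
    (θ i - H.d i * h) * H.d i = 0 := by
  induction i with
  | zero =>
    obtain ⟨h, hh⟩ := homotopy_zero H θ haug
    exact ⟨h, by rw [hh, sub_self, Matrix.zero_mul]⟩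
  | succ i ih =>
    obtain ⟨h, hh⟩ := ih
    obtain ⟨h', hh'⟩ := homotopy_step H θ hcomm i h hh
    refine ⟨h', ?_⟩
    rw [hh', add_sub_cancel_left, Matrix.mul_assoc, d_mul_d, Matrix.mul_zero]

include haug hcomm in
theorem homotopy_succ (i : ℕ) :
    ∃ (h : Matrix (Fin (H.rk (i + 1))) (Fin (H.rk i)) (MvPolynomial σ k))
      (h' : Matrix (Fin (H.rk (i + 2))) (Fin (H.rk (i + 1))) (MvPolynomial σ k)),
      θ (i + 1) = H.d (i + 1) * h' + h * H.d i := by
  obtain ⟨h, hh⟩ := homotopy_inv H θ haug hcomm i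
  obtain ⟨h', hh'⟩ := homotopy_step H θ hcomm i h hh
  exact ⟨h, h', hh'⟩

end Homotopy

section Key

variable {k : Type u} [Field k] {σ : Type}
  {M : Type u} [AddCommGroup M] [Module k M] [Module (MvPolynomial σ k) M]
  {ℳ : ℤ → Submodule k M} [DirectSum.Decomposition ℳ] [SetLike.GradedSMul (stdGr k σ) ℳ]
  (H F : FreeRes (stdGr k σ) ℳ)

theorem exists_theta (hF : F.IsMinimal (irrel (stdGr k σ)).toIdeal) (r : ℤ) (hFr : F.IsGenLE r) :
    ∃ θ : ∀ i, Matrix (Fin (H.rk i)) (Fin (H.rk i)) (MvPolynomial σ k),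
      (∀ v, H.augLin ((θ 0).mulVec v) = 0) ∧ (∀ i, H.d i * θ (i + 1) = θ i * H.d i) ∧
      ∀ (i : ℕ) (β : Fin (H.rk i)), r + i < H.deg i β → constantCoeff (θ i β β) = -1 := by
  obtain ⟨Φ⟩ := exists_comp F H
  obtain ⟨Ψ⟩ := exists_comp H F
  refine ⟨fun i => Φ.φ i * Ψ.φ i - 1, ?_, ?_, ?_⟩
  · intro v
    rw [Matrix.sub_mulVec, Matrix.one_mulVec, map_sub, ← Matrix.mulVec_mulVec, Φ.aug, Ψ.aug,
      sub_self]
  · intro i
    rw [Matrix.mul_sub, Matrix.mul_one, ← Matrix.mul_assoc, Φ.comm i, Matrix.mul_assoc, Ψ.comm i,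
      Matrix.sub_mul, Matrix.one_mul, Matrix.mul_assoc]
  · intro i β hβ
    have hΨ : ∀ a, constantCoeff (Ψ.φ i a β) = 0 := by
      intro a
      by_contra hne
      have := deg_eq_zero_of_constantCoeff_ne_zero (Ψ.gr i a β) hne
      have := hFr i a
      omega
    change constantCoeff ((Φ.φ i * Ψ.φ i - 1 : Matrix (Fin (H.rk i)) (Fin (H.rk i)) (MvPolynomial σ k)) β β) = -1
    rw [Matrix.sub_apply, Matrix.one_apply_eq, map_sub, map_one, Matrix.mul_apply, map_sum]
    rw [Finset.sum_eq_zero, zero_sub]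
    intro a _
    rw [map_mul, hΨ a, mul_zero]

/-- a generator of `H_0` of degree `> r` whose row in `d_0` vanishes
modulo the irrelevant ideal cannot exist when the module has a minimal resolution generated in degrees
`≤ r + i`. -/
theorem key_zero (hF : F.IsMinimal (irrel (stdGr k σ)).toIdeal) (r : ℤ) (hFr : F.IsGenLE r)
    (β : Fin (H.rk 0)) (hβ : r < H.deg 0 β)
    (hrow : ∀ c, constantCoeff (H.d 0 β c) = 0) : False := by
  obtain ⟨θ, haug, hcomm, hθ⟩ := exists_theta H F hF r hFr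
  have hL := hθ 0 β (by simpa using hβ)
  obtain ⟨h, hh⟩ := homotopy_zero H θ haug
  rw [hh, Matrix.mul_apply, map_sum, Finset.sum_eq_zero] at hL
  · exact one_ne_zero (neg_eq_zero.mp (by rw [← hL]))
  · intro c _
    rw [map_mul, hrow c, zero_mul]

theorem key_succ (hF : F.IsMinimal (irrel (stdGr k σ)).toIdeal) (r : ℤ) (hFr : F.IsGenLE r)
    (i : ℕ) (β : Fin (H.rk (i + 1))) (hβ : r + (i + 1 : ℕ) < H.deg (i + 1) β)
    (hcol : ∀ a, constantCoeff (H.d i a β) = 0)
    (hrow : ∀ c, constantCoeff (H.d (i + 1) β c) = 0) : False := by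
  obtain ⟨θ, haug, hcomm, hθ⟩ := exists_theta H F hF r hFr
  have hL := hθ (i + 1) β hβ
  obtain ⟨h, h', hh⟩ := homotopy_succ H θ haug hcomm i
  rw [hh, Matrix.add_apply, Matrix.mul_apply, Matrix.mul_apply, map_add, map_sum, map_sum,
    Finset.sum_eq_zero, Finset.sum_eq_zero, add_zero] at hL
  · exact one_ne_zero (neg_eq_zero.mp (by rw [← hL]))
  · intro a _
    rw [map_mul, hcol a, mul_zero]
  · intro c _
    rw [map_mul, hrow c, zero_mul]

end Key

end Groth.Agent.Helper23.GrSyzHorse
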