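import Groth.Agent.Lib.Helper23.GrSyzHorse

set_option autoImplicit false
set_option linter.unusedSectionVars false
set_option linter.unusedVariables false

universe u v

open GrSyz MvPolynomial DirectSum

namespace Groth.Agent.Helper23.GrSyzHorse

open Groth.Agent.Helper23.GrSyzHilb Groth.Agent.Helper23.GrSyzLib Groth.Agent.Helper23.GrSyzCmp

theorem blk0_mulVec {R : Type*} [CommRing R] {m o l n : ℕ} (A : Matrix (Fin m) (Fin l) R)
    (B : Matrix (Fin m) (Fin n) R) (D : Matrix (Fin o) (Fin n) R) (x : Fin l → R) (y : Fin n → R) :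
    (blk A B 0 D).mulVec (Fin.append x y) = Fin.append (A.mulVec x + B.mulVec y) (D.mulVec y) := by
  rw [blk_mulVec, Matrix.zero_mulVec, zero_add]

section Horse

variable {k : Type u} [Field k] {σ : Type}
  {M₁ : Type u} [AddCommGroup M₁] [Module k M₁] [Module (MvPolynomial σ k) M₁]
  {ℳ₁ : ℤ → Submodule k M₁} [DirectSum.Decomposition ℳ₁] [SetLike.GradedSMul (stdGr k σ) ℳ₁]
  {M₂ : Type u} [AddCommGroup M₂] [Module k M₂] [Module (MvPolynomial σ k) M₂]
  (ℳ₂ : ℤ → Submodule k M₂) [DirectSum.Decomposition ℳ₂] [SetLike.GradedSMul (stdGr k σ) ℳ₂]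
  {M₃ : Type u} [AddCommGroup M₃] [Module k M₃] [Module (MvPolynomial σ k) M₃]
  {ℳ₃ : ℤ → Submodule k M₃} [DirectSum.Decomposition ℳ₃] [SetLike.GradedSMul (stdGr k σ) ℳ₃]
  (f : M₁ →ₗ[MvPolynomial σ k] M₂) (g : M₂ →ₗ[MvPolynomial σ k] M₃)
  (F₁ : FreeRes (stdGr k σ) ℳ₁) (F₃ : FreeRes (stdGr k σ) ℳ₃)

/-- the horseshoe data -/
structure Data where
  lam : Fin (F₃.rk 0) → M₂
  lam_mem : ∀ b, lam b ∈ ℳ₂ (F₃.deg 0 b)
  g_lam : ∀ b, g (lam b) = F₃.aug b
  θ : ∀ i, Matrix (Fin (F₁.rk i)) (Fin (F₃.rk (i + 1))) (MvPolynomial σ k)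
  θ_gr : ∀ i, IsGrMat (F₁.deg i) (F₃.deg (i + 1)) (θ i)
  c0 : ∀ v, f (F₁.augLin ((θ 0).mulVec v)) +
    Fintype.linearCombination (MvPolynomial σ k) lam ((F₃.d 0).mulVec v) = 0
  c1 : ∀ i, F₁.d i * θ (i + 1) + θ i * F₃.d (i + 1) = 0

variable {ℳ₂ f g F₁ F₃}

theorem lc_map {n : ℕ} (u : Fin n → M₁) (x : Fin n → MvPolynomial σ k) :
    Fintype.linearCombination (MvPolynomial σ k) (fun b => f (u b)) x =
      f (Fintype.linearCombination (MvPolynomial σ k) u x) := by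
  simp [Fintype.linearCombination_apply, map_sum, map_smul]

theorem g_lc (lam : Fin (F₃.rk 0) → M₂) (hlam : ∀ b, g (lam b) = F₃.aug b)
    (y : Fin (F₃.rk 0) → MvPolynomial σ k) :
    g (Fintype.linearCombination (MvPolynomial σ k) lam y) = F₃.augLin y := by
  simp [Fintype.linearCombination_apply, map_sum, map_smul, hlam]

theorem g_f (hfg : LinearMap.range f = LinearMap.ker g) (x : M₁) : g (f x) = 0 := by
  have : f x ∈ LinearMap.ker g := by rw [← hfg]; exact ⟨x, rfl⟩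
  exact this

variable (hf : Function.Injective f) (hg : Function.Surjective g)
  (hfg : LinearMap.range f = LinearMap.ker g)
  (hfgr : GrLC.IsGrHom ℳ₁ ℳ₂ f) (hggr : GrLC.IsGrHom ℳ₂ ℳ₃ g)

/-- the horseshoe resolution -/
noncomputable def Data.res (D : Data ℳ₂ f g F₁ F₃) (hf : Function.Injective f)
    (hfg : LinearMap.range f = LinearMap.ker g) (hfgr : GrLC.IsGrHom ℳ₁ ℳ₂ f) :
    FreeRes (stdGr k σ) ℳ₂ where
  rk := fun i => F₁.rk i + F₃.rk i
  deg := fun i => Fin.append (F₁.deg i) (F₃.deg i)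
  d := fun i => blk (F₁.d i) (D.θ i) 0 (F₃.d i)
  aug := Fin.append (fun b => f (F₁.aug b)) D.lam
  d_mem := by
    intro i a b
    refine Fin.addCases (fun a' => ?_) (fun a' => ?_) a <;>
      refine Fin.addCases (fun b' => ?_) (fun b' => ?_) b
    · rw [blk_ll, Fin.append_left, Fin.append_left]
      exact F₁.d_mem i a' b'
    · rw [blk_lr, Fin.append_left, Fin.append_right]
      exact D.θ_gr i a' b'
    · rw [blk_rl]
      exact Submodule.zero_mem _
    · rw [blk_rr, Fin.append_right, Fin.append_right]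
      exact F₃.d_mem i a' b'
  aug_mem := by
    intro b
    refine Fin.addCases (fun b' => ?_) (fun b' => ?_) b
    · rw [Fin.append_left, Fin.append_left]
      exact hfgr _ _ (F₁.aug_mem b')
    · rw [Fin.append_right, Fin.append_right]
      exact D.lam_mem b'
  aug_surjective := by
    intro m
    obtain ⟨y, hy⟩ := F₃.aug_surjective (g m)
    have h1 : m - Fintype.linearCombination (MvPolynomial σ k) D.lam y ∈ LinearMap.ker g := by
      rw [LinearMap.mem_ker, map_sub, g_lc D.lam D.g_lam, sub_eq_zero]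
      exact hy.symm
    rw [← hfg] at h1
    obtain ⟨m₁, hm₁⟩ := h1
    obtain ⟨x, hx⟩ := F₁.aug_surjective m₁
    refine ⟨Fin.append x y, ?_⟩
    rw [lc_append, lc_map, hx, hm₁]
    abel
  exact_zero := by
    apply le_antisymm
    · intro v hv
      obtain ⟨x, y, rfl⟩ := append_split v
      rw [LinearMap.mem_ker, lc_append, lc_map] at hv
      have hy : F₃.augLin y = 0 := by
        have := congrArg g hv
        rw [map_add, map_zero, g_f hfg, zero_add, g_lc D.lam D.g_lam] at this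
        exact this
      have hy' : y ∈ LinearMap.range (Matrix.mulVecLin (F₃.d 0)) := by
        rw [← F₃.exact_zero]; exact hy
      obtain ⟨y', rfl⟩ := hy'
      have h2 := D.c0 y'
      have h3 : f (F₁.augLin (x - (D.θ 0).mulVec y')) = 0 := by
        rw [map_sub, map_sub, eq_neg_of_add_eq_zero_left h2, sub_neg_eq_add]
        exact hv
      have h4 : x - (D.θ 0).mulVec y' ∈ LinearMap.ker F₁.augLin := hf (h3.trans (map_zero f).symm)
      rw [F₁.exact_zero] at h4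
      obtain ⟨x', hx'⟩ := h4
      refine ⟨Fin.append x' y', ?_⟩
      rw [Matrix.mulVecLin_apply, blk0_mulVec]
      rw [Matrix.mulVecLin_apply] at hx'
      rw [hx', sub_add_cancel]
      rfl
    · rintro v ⟨w, rfl⟩
      obtain ⟨x, y, rfl⟩ := append_split w
      rw [LinearMap.mem_ker, Matrix.mulVecLin_apply, blk0_mulVec, lc_append, lc_map, map_add, map_add,
        augLin_mulVec_d, map_zero]
      rw [zero_add (f _)]
      exact D.c0 y
  exact_succ := by
    intro i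
    apply le_antisymm
    · intro v hv
      obtain ⟨x, y, rfl⟩ := append_split v
      rw [LinearMap.mem_ker, Matrix.mulVecLin_apply, blk0_mulVec, append_eq_zero_iff] at hv
      obtain ⟨hv1, hv2⟩ := hv
      have hy' : y ∈ LinearMap.range (Matrix.mulVecLin (F₃.d (i + 1))) := by
        rw [← F₃.exact_succ i]; exact hv2
      obtain ⟨y', rfl⟩ := hy'
      have h2 : (F₁.d i).mulVec ((D.θ (i + 1)).mulVec y') +
          (D.θ i).mulVec ((F₃.d (i + 1)).mulVec y') = 0 := by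
        rw [Matrix.mulVec_mulVec, Matrix.mulVec_mulVec, ← Matrix.add_mulVec, D.c1 i,
          Matrix.zero_mulVec]
      have h4 : x - (D.θ (i + 1)).mulVec y' ∈ LinearMap.ker (Matrix.mulVecLin (F₁.d i)) := by
        rw [LinearMap.mem_ker, Matrix.mulVecLin_apply, Matrix.mulVec_sub,
          eq_neg_of_add_eq_zero_left h2, sub_neg_eq_add]
        exact hv1
      rw [F₁.exact_succ i] at h4
      obtain ⟨x', hx'⟩ := h4
      refine ⟨Fin.append x' y', ?_⟩
      rw [Matrix.mulVecLin_apply, blk0_mulVec]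
      rw [Matrix.mulVecLin_apply] at hx'
      rw [hx', sub_add_cancel]
      rfl
    · rintro v ⟨w, rfl⟩
      obtain ⟨x, y, rfl⟩ := append_split w
      rw [LinearMap.mem_ker, Matrix.mulVecLin_apply, Matrix.mulVecLin_apply, blk0_mulVec, blk0_mulVec,
        append_eq_zero_iff]
      constructor
      · rw [Matrix.mulVec_add, Matrix.mulVec_mulVec, d_mul_d, Matrix.zero_mulVec]
        rw [zero_add ((F₁.d i).mulVec _)]
        rw [Matrix.mulVec_mulVec, Matrix.mulVec_mulVec, ← Matrix.add_mulVec, D.c1 i,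
          Matrix.zero_mulVec]
      · rw [Matrix.mulVec_mulVec, d_mul_d, Matrix.zero_mulVec]

theorem isGrMat_neg {m n : ℕ} {δ : Fin m → ℤ} {δ' : Fin n → ℤ}
    {A : Matrix (Fin m) (Fin n) (MvPolynomial σ k)} (hA : IsGrMat δ δ' A) : IsGrMat δ δ' (-A) := by
  intro a b
  rw [Matrix.neg_apply]
  exact Submodule.neg_mem _ (hA a b)

include hg hggr in
theorem exists_lam : ∃ lam : Fin (F₃.rk 0) → M₂,
    (∀ b, lam b ∈ ℳ₂ (F₃.deg 0 b)) ∧ ∀ b, g (lam b) = F₃.aug b := by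
  have : ∀ b, ∃ m ∈ ℳ₂ (F₃.deg 0 b), g m = F₃.aug b := by
    intro b
    obtain ⟨m, hm⟩ := hg (F₃.aug b)
    refine ⟨projM ℳ₂ (F₃.deg 0 b) m, ?_, ?_⟩
    · rw [projM_apply]; exact Subtype.property _
    · rw [grHom_projM ℳ₂ ℳ₃ g hggr, hm, projM_apply, decompose_of_mem_same ℳ₃ (F₃.aug_mem b)]
  choose lam h1 h2 using this
  exact ⟨lam, h1, h2⟩

include hf hfg hfgr in
theorem exists_theta0 (lam : Fin (F₃.rk 0) → M₂) (hlam_mem : ∀ b, lam b ∈ ℳ₂ (F₃.deg 0 b))
    (hglam : ∀ b, g (lam b) = F₃.aug b) :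
    ∃ θ₀ : Matrix (Fin (F₁.rk 0)) (Fin (F₃.rk 1)) (MvPolynomial σ k),
      IsGrMat (F₁.deg 0) (F₃.deg 1) θ₀ ∧
      ∀ v, f (F₁.augLin (θ₀.mulVec v)) +
        Fintype.linearCombination (MvPolynomial σ k) lam ((F₃.d 0).mulVec v) = 0 := by
  have hex : ∀ b : Fin (F₃.rk 1), ∃ u ∈ pieceV (σ := σ) (F₁.deg 0) (F₃.deg 1 b),
      f (F₁.augLin u) + Fintype.linearCombination (MvPolynomial σ k) lam (fun a => F₃.d 0 a b) = 0 := by
    intro b
    set w := Fintype.linearCombination (MvPolynomial σ k) lam (fun a => F₃.d 0 a b) with hw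
    have hwmem : w ∈ ℳ₂ (F₃.deg 1 b) := by
      rw [hw, Fintype.linearCombination_apply]
      exact comb_mem ℳ₂ (F₃.deg 0) lam hlam_mem (F₃.deg 1 b) _ (col_mem_pieceV (isGrMat_d F₃ 0) b)
    have hgw : g w = 0 := by
      rw [hw, g_lc lam hglam, col_eq_mulVec_single]
      exact augLin_mulVec_d F₃ _
    have hwr : w ∈ LinearMap.range f := by rw [hfg]; exact hgw
    obtain ⟨m₁, hm₁⟩ := hwr
    have hm₁mem : m₁ ∈ ℳ₁ (F₃.deg 1 b) :=
      mem_of_map_mem ℳ₁ ℳ₂ f hfgr hf (by rw [hm₁]; exact hwmem)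
    obtain ⟨u, hu, hu'⟩ := exists_aug_lift F₁ (F₃.deg 1 b) (-m₁) (Submodule.neg_mem _ hm₁mem)
    refine ⟨u, hu, ?_⟩
    rw [hu', map_neg, hm₁, neg_add_cancel]
  choose u hu hu' using hex
  refine ⟨Matrix.of (fun a b => u b a), fun a b => (mem_pieceV _ _ _).1 (hu b) a, ?_⟩
  have key : (f ∘ₗ F₁.augLin ∘ₗ Matrix.mulVecLin (Matrix.of (fun a b => u b a))) +
      (Fintype.linearCombination (MvPolynomial σ k) lam ∘ₗ Matrix.mulVecLin (F₃.d 0)) = 0 := by
    apply LinearMap.pi_ext'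
    intro b
    apply LinearMap.ext_ring
    change f (F₁.augLin ((Matrix.of (fun a b => u b a)).mulVec (Pi.single b 1))) +
      Fintype.linearCombination (MvPolynomial σ k) lam ((F₃.d 0).mulVec (Pi.single b 1)) = 0
    rw [Matrix.mulVec_single_one, Matrix.mulVec_single_one]
    exact hu' b
  intro v
  exact LinearMap.congr_fun key v

/-- the horseshoe invariant -/
def HInv (F₁ : FreeRes (stdGr k σ) ℳ₁) (F₃ : FreeRes (stdGr k σ) ℳ₃) (i : ℕ)
    (θ : Matrix (Fin (F₁.rk i)) (Fin (F₃.rk (i + 1))) (MvPolynomial σ k)) : Prop :=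
  IsGrMat (F₁.deg i) (F₃.deg (i + 1)) θ ∧
    ∀ b, (fun a => (θ * F₃.d (i + 1)) a b) ∈ LinearMap.range (Matrix.mulVecLin (F₁.d i))

theorem exists_hstep (i : ℕ) (θ : Matrix (Fin (F₁.rk i)) (Fin (F₃.rk (i + 1))) (MvPolynomial σ k))
    (hθ : HInv F₁ F₃ i θ) :
    ∃ θ' : Matrix (Fin (F₁.rk (i + 1))) (Fin (F₃.rk (i + 2))) (MvPolynomial σ k),
      HInv F₁ F₃ (i + 1) θ' ∧ F₁.d i * θ' + θ * F₃.d (i + 1) = 0 := by
  obtain ⟨θ', hgr, hcomm⟩ := exists_factor (F₁.d i) (isGrMat_d F₁ i) (-(θ * F₃.d (i + 1)))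
    (isGrMat_neg (hθ.1.mul (isGrMat_d F₃ (i + 1)))) (by
      intro b
      have := Submodule.neg_mem _ (hθ.2 b)
      exact this)
  refine ⟨θ', ⟨hgr, ?_⟩, by rw [hcomm, neg_add_cancel]⟩
  intro b
  rw [← F₁.exact_succ i, LinearMap.mem_ker, Matrix.mulVecLin_apply, ← col_mul, ← Matrix.mul_assoc,
    hcomm, Matrix.neg_mul, Matrix.mul_assoc, d_mul_d, Matrix.mul_zero, neg_zero]
  rfl

include hf in
theorem hinv_zero (lam : Fin (F₃.rk 0) → M₂)
    (θ₀ : Matrix (Fin (F₁.rk 0)) (Fin (F₃.rk 1)) (MvPolynomial σ k))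
    (hgr : IsGrMat (F₁.deg 0) (F₃.deg 1) θ₀)
    (h0 : ∀ v, f (F₁.augLin (θ₀.mulVec v)) +
        Fintype.linearCombination (MvPolynomial σ k) lam ((F₃.d 0).mulVec v) = 0) :
    HInv F₁ F₃ 0 θ₀ := by
  refine ⟨hgr, ?_⟩
  intro b
  rw [← F₁.exact_zero, LinearMap.mem_ker, col_mul]
  apply hf
  rw [map_zero]
  have := h0 (fun c => F₃.d 1 c b)
  rw [← col_mul (F₃.d 0) (F₃.d 1) b, d_mul_d] at this
  have hz : (fun a => (0 : Matrix (Fin (F₃.rk 0)) (Fin (F₃.rk 2)) (MvPolynomial σ k)) a b) = 0 := rfl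
  rw [hz, map_zero, add_zero] at this
  exact this

/-- the sequence of horseshoe matrices -/
noncomputable def hseq (θ₀ : Matrix (Fin (F₁.rk 0)) (Fin (F₃.rk 1)) (MvPolynomial σ k))
    (h0 : HInv F₁ F₃ 0 θ₀) : (i : ℕ) →
    {θ : Matrix (Fin (F₁.rk i)) (Fin (F₃.rk (i + 1))) (MvPolynomial σ k) // HInv F₁ F₃ i θ}
  | 0 => ⟨θ₀, h0⟩
  | (i + 1) => ⟨(exists_hstep i (hseq θ₀ h0 i).1 (hseq θ₀ h0 i).2).choose,
      (exists_hstep i (hseq θ₀ h0 i).1 (hseq θ₀ h0 i).2).choose_spec.1⟩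

include hf hg hfg hfgr hggr in
theorem exists_data : Nonempty (Data ℳ₂ f g F₁ F₃) := by
  obtain ⟨lam, hlam1, hlam2⟩ := exists_lam (F₃ := F₃) hg hggr
  obtain ⟨θ₀, hgr, h0⟩ := exists_theta0 (F₁ := F₁) hf hfg hfgr lam hlam1 hlam2
  have hinv := hinv_zero hf lam θ₀ hgr h0
  exact ⟨{ lam := lam
           lam_mem := hlam1
           g_lam := hlam2
           θ := fun i => (hseq θ₀ hinv i).1
           θ_gr := fun i => (hseq θ₀ hinv i).2.1
           c0 := h0
           c1 := fun i => (exists_hstep i (hseq θ₀ hinv i).1 (hseq θ₀ hinv i).2).choose_spec.2 }⟩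

end Horse

end Groth.Agent.Helper23.GrSyzHorse
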