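import Groth.Agent.Lib.Helper23.GrSyzRegSES

/-!
# Graded quotients and shifts of graded modules over a polynomial ring
-/

set_option autoImplicit false
set_option linter.unusedSectionVars false
set_option linter.unusedVariables false

universe u

open GrSyz

namespace Groth.Agent.Helper23.GrSyzQuot
open MvPolynomial DirectSum
open Groth.Agent.Helper23.GrSyzHilb Groth.Agent.Helper23.GrSyzLib Groth.Agent.Helper23.GrSyzCmp
open Groth.Agent.Helper23.GrSyzMin

section Abstract

variable {k : Type u} [Field k] {σ : Type}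
  {M : Type u} [AddCommGroup M] [Module k M] [Module (MvPolynomial σ k) M]
  [IsScalarTower k (MvPolynomial σ k) M]
  (ℳ : ℤ → Submodule k M) [DirectSum.Decomposition ℳ] [SetLike.GradedSMul (stdGr k σ) ℳ]
  {N : Type u} [AddCommGroup N] [Module k N] [Module (MvPolynomial σ k) N]
  [IsScalarTower k (MvPolynomial σ k) N]

/-- component of a sum of homogeneous elements -/
theorem projM_of_mem {j : ℤ} {m : M} (hm : m ∈ ℳ j) (e : ℤ) :
    projM ℳ e m = if j = e then m else 0 := by
  rw [projM_apply]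
  split_ifs with h
  · subst h
    rw [decompose_of_mem_same ℳ hm]
  · rw [decompose_of_mem_ne ℳ hm h]

theorem projM_mem (e : ℤ) (m : M) : projM ℳ e m ∈ ℳ e := by
  rw [projM_apply]; exact Subtype.property _

/-- a graded map commutes with taking homogeneous components -/
theorem projM_map (𝒩 : ℤ → Submodule k N) [DirectSum.Decomposition 𝒩]
    (f : M →ₗ[MvPolynomial σ k] N) (hf : GrLC.IsGrHom ℳ 𝒩 f) (m : M) (e : ℤ) :
    projM 𝒩 e (f m) = f (projM ℳ e m) := by
  classical
  obtain ⟨E, hE⟩ := exists_sum_projM ℳ m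
  have h1 : ∀ j, projM 𝒩 e (f (projM ℳ j m)) = if j = e then f (projM ℳ j m) else 0 :=
    fun j => projM_of_mem 𝒩 (hf j _ (projM_mem ℳ j m)) e
  have h2 : ∀ j, projM ℳ e (projM ℳ j m) = if j = e then projM ℳ j m else 0 :=
    fun j => projM_of_mem ℳ (projM_mem ℳ j m) e
  conv_lhs => rw [hE]
  conv_rhs => rw [hE]
  rw [map_sum, map_sum, map_sum]
  rw [map_sum]
  apply Finset.sum_congr rfl
  intro j _
  rw [h1, h2]
  split_ifs
  · rfl
  · rw [map_zero]

/-- component of `y • m` for a homogeneous scalar `y` -/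
theorem projM_smul_of_mem {i : ℤ} {y : MvPolynomial σ k} (hy : y ∈ stdGr k σ i) (m : M) (e : ℤ) :
    projM ℳ e (y • m) = y • projM ℳ (e - i) m := by
  classical
  obtain ⟨E, hE⟩ := exists_sum_projM ℳ m
  have h1 : ∀ j, projM ℳ e (y • projM ℳ j m) = if i + j = e then y • projM ℳ j m else 0 := by
    intro j
    have hmem : y • projM ℳ j m ∈ ℳ (i + j) := by
      have := SetLike.GradedSMul.smul_mem (A := stdGr k σ) (B := ℳ) hy (projM_mem ℳ j m)
      simpa using this
    exact projM_of_mem ℳ hmem e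
  have h2 : ∀ j, projM ℳ (e - i) (projM ℳ j m) = if j = e - i then projM ℳ j m else 0 :=
    fun j => projM_of_mem ℳ (projM_mem ℳ j m) (e - i)
  conv_lhs => rw [hE]
  conv_rhs => rw [hE]
  rw [Finset.smul_sum, map_sum, map_sum, Finset.smul_sum]
  apply Finset.sum_congr rfl
  intro j _
  rw [h1, h2]
  by_cases hj : i + j = e
  · have : j = e - i := by omega
    rw [if_pos hj, if_pos this]
  · have : ¬ j = e - i := by omega
    rw [if_neg hj, if_neg this, smul_zero]


/-! ### the image grading along a surjection with homogeneous kernel -/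

variable (π : M →ₗ[MvPolynomial σ k] N)

/-- the image grading -/
noncomputable def imGr (n : ℤ) : Submodule k N := (ℳ n).map (π.restrictScalars k)

theorem mem_imGr (n : ℤ) (q : N) : q ∈ imGr ℳ π n ↔ ∃ m ∈ ℳ n, π m = q := by
  unfold imGr
  rw [Submodule.mem_map]
  rfl

/-- componentwise map -/
noncomputable def imMap (n : ℤ) : ℳ n →+ imGr ℳ π n where
  toFun x := ⟨π x, (mem_imGr ℳ π n _).mpr ⟨x, x.2, rfl⟩⟩
  map_zero' := by
    apply Subtype.ext
    show π ((0 : ℳ n) : M) = 0
    rw [ZeroMemClass.coe_zero, map_zero]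
  map_add' x y := by
    apply Subtype.ext
    show π ((x + y : ℳ n) : M) = π x + π y
    rw [Submodule.coe_add, map_add]

theorem imMap_surjective (n : ℤ) : Function.Surjective (imMap ℳ π n) := by
  rintro ⟨q, hq⟩
  obtain ⟨m, hm, rfl⟩ := (mem_imGr ℳ π n q).mp hq
  exact ⟨⟨m, hm⟩, rfl⟩

theorem coe_map_imMap (w : ⨁ n, ℳ n) :
    DirectSum.coeAddMonoidHom (imGr ℳ π) (DirectSum.map (imMap ℳ π) w) =
      π (DirectSum.coeAddMonoidHom ℳ w) := by
  classical
  induction w using DirectSum.induction_on with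
  | zero => simp
  | of i x =>
    rw [DirectSum.map_of, DirectSum.coeAddMonoidHom_of, DirectSum.coeAddMonoidHom_of]
    rfl
  | add x y hx hy => rw [map_add, map_add, hx, hy, map_add, map_add]

theorem isInternal_imGr (hπ : Function.Surjective π)
    (hker : ∀ x, π x = 0 → ∀ n, π (projM ℳ n x) = 0) : DirectSum.IsInternal (imGr ℳ π) := by
  classical
  constructor
  · rw [injective_iff_map_eq_zero]
    intro z hz
    obtain ⟨w, rfl⟩ := (DirectSum.map_surjective (imMap ℳ π)).mpr (imMap_surjective ℳ π) z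
    rw [coe_map_imMap] at hz
    have hw : ∀ n, π ((w n : ℳ n) : M) = 0 := by
      intro n
      have := hker _ hz n
      rw [projM_apply] at this
      have h2 : DirectSum.decompose ℳ (DirectSum.coeAddMonoidHom ℳ w) = w :=
        (DirectSum.decompose ℳ).apply_symm_apply w
      rw [h2] at this
      exact this
    apply DFinsupp.ext
    intro n
    rw [DirectSum.map_apply]
    apply Subtype.ext
    exact hw n
  · intro q
    obtain ⟨m, rfl⟩ := hπ q
    refine ⟨DirectSum.map (imMap ℳ π) (DirectSum.decompose ℳ m), ?_⟩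
    rw [coe_map_imMap]
    congr 1
    exact (DirectSum.decompose ℳ).symm_apply_apply m

/-- the decomposition of the image grading -/
@[instance_reducible]
noncomputable def imDecomposition (hπ : Function.Surjective π)
    (hker : ∀ x, π x = 0 → ∀ n, π (projM ℳ n x) = 0) : DirectSum.Decomposition (imGr ℳ π) :=
  (isInternal_imGr ℳ π hπ hker).chooseDecomposition

theorem imGradedSMul : SetLike.GradedSMul (stdGr k σ) (imGr ℳ π) where
  smul_mem := by
    intro i j a q ha hq
    obtain ⟨m, hm, rfl⟩ := (mem_imGr ℳ π j q).mp hq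
    refine (mem_imGr ℳ π _ _).mpr ⟨a • m, SetLike.GradedSMul.smul_mem ha hm, ?_⟩
    rw [map_smul]

theorem isGrHom_imGr : GrLC.IsGrHom ℳ (imGr ℳ π) π :=
  fun n m hm => (mem_imGr ℳ π n _).mpr ⟨m, hm, rfl⟩

end Abstract


section Shift

variable {k : Type u} [Field k] {σ : Type}
  {M : Type u} [AddCommGroup M] [Module k M] [Module (MvPolynomial σ k) M]
  (ℳ : ℤ → Submodule k M) [DirectSum.Decomposition ℳ] [SetLike.GradedSMul (stdGr k σ) ℳ]

/-- the shifted grading `M(-a)`: `M(-a)_n = M_{n-a}` -/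
def shiftGr (a : ℤ) (n : ℤ) : Submodule k M := ℳ (n - a)

theorem coe_shift_projM (a : ℤ) (z : ⨁ n, shiftGr ℳ a n) (n : ℤ) :
    projM ℳ n (DirectSum.coeAddMonoidHom (shiftGr ℳ a) z) = ((z (n + a) : shiftGr ℳ a (n + a)) : M) := by
  classical
  induction z using DirectSum.induction_on with
  | zero => simp
  | of j x =>
    rw [DirectSum.coeAddMonoidHom_of]
    have hx : (x : M) ∈ ℳ (j - a) := x.2
    rw [projM_of_mem ℳ hx n]
    by_cases h : j - a = n
    · have h' : j = n + a := by omega
      subst h'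
      rw [if_pos h, DirectSum.of_eq_same]
    · have h' : j ≠ n + a := by omega
      rw [if_neg h, DirectSum.of_eq_of_ne _ _ _ h'.symm]
      rfl
  | add x y hx hy =>
    rw [map_add, map_add, hx, hy, DirectSum.add_apply, Submodule.coe_add]

theorem isInternal_shiftGr (a : ℤ) : DirectSum.IsInternal (shiftGr ℳ a) := by
  classical
  constructor
  · rw [injective_iff_map_eq_zero]
    intro z hz
    apply DFinsupp.ext
    intro j
    have := coe_shift_projM ℳ a z (j - a)
    rw [hz, map_zero] at this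
    have hj : j - a + a = j := by ring
    rw [hj] at this
    apply Subtype.ext
    exact this.symm
  · intro m
    obtain ⟨E, hE⟩ := exists_sum_projM ℳ m
    have hmem : ∀ e, projM ℳ e m ∈ (DirectSum.coeAddMonoidHom (shiftGr ℳ a)).range := by
      intro e
      have he : projM ℳ e m ∈ shiftGr ℳ a (e + a) := by
        show projM ℳ e m ∈ ℳ (e + a - a)
        have : e + a - a = e := by ring
        rw [this]
        exact projM_mem ℳ e m
      exact ⟨DirectSum.of (fun n => shiftGr ℳ a n) (e + a) ⟨_, he⟩,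
        DirectSum.coeAddMonoidHom_of _ _ _⟩
    have : m ∈ (DirectSum.coeAddMonoidHom (shiftGr ℳ a)).range := by
      rw [hE]
      exact AddSubmonoid.sum_mem _ (fun e _ => hmem e)
    exact this


/-- the decomposition of the shifted grading -/
@[instance_reducible]
noncomputable def shiftDecomposition (a : ℤ) : DirectSum.Decomposition (shiftGr ℳ a) :=
  (isInternal_shiftGr ℳ a).chooseDecomposition

theorem shiftGradedSMul (a : ℤ) : SetLike.GradedSMul (stdGr k σ) (shiftGr ℳ a) where
  smul_mem := by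
    intro i j s m hs hm
    show s • m ∈ ℳ (i + j - a)
    have : i + j - a = i + (j - a) := by ring
    rw [this]
    exact SetLike.GradedSMul.smul_mem (A := stdGr k σ) (B := ℳ) hs hm

theorem projM_shift (a : ℤ) [DirectSum.Decomposition (shiftGr ℳ a)]
    [SetLike.GradedSMul (stdGr k σ) (shiftGr ℳ a)] (n : ℤ) (m : M) :
    projM (shiftGr ℳ a) n m = projM ℳ (n - a) m := by
  classical
  obtain ⟨E, hE⟩ := exists_sum_projM ℳ m
  have h1 : ∀ e, projM (shiftGr ℳ a) n (projM ℳ e m) = if e + a = n then projM ℳ e m else 0 := by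
    intro e
    have he : projM ℳ e m ∈ shiftGr ℳ a (e + a) := by
      show projM ℳ e m ∈ ℳ (e + a - a)
      have : e + a - a = e := by ring
      rw [this]
      exact projM_mem ℳ e m
    exact projM_of_mem (shiftGr ℳ a) he n
  have h2 : ∀ e, projM ℳ (n - a) (projM ℳ e m) = if e = n - a then projM ℳ e m else 0 :=
    fun e => projM_of_mem ℳ (projM_mem ℳ e m) (n - a)
  conv_lhs => rw [hE]
  conv_rhs => rw [hE]
  rw [map_sum, map_sum]
  apply Finset.sum_congr rfl
  intro e _
  rw [h1, h2]
  by_cases h : e + a = n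
  · have : e = n - a := by omega
    rw [if_pos h, if_pos this]
  · have : ¬ e = n - a := by omega
    rw [if_neg h, if_neg this]

/-- shifting a free resolution -/
def FreeRes.shift (F : FreeRes (stdGr k σ) ℳ) (a : ℤ) [DirectSum.Decomposition (shiftGr ℳ a)]
    [SetLike.GradedSMul (stdGr k σ) (shiftGr ℳ a)] : FreeRes (stdGr k σ) (shiftGr ℳ a) where
  rk := F.rk
  deg := fun i b => F.deg i b + a
  d := F.d
  aug := F.aug
  d_mem := by
    intro i a' b
    have : F.deg (i + 1) b + a - (F.deg i a' + a) = F.deg (i + 1) b - F.deg i a' := by ring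
    rw [this]
    exact F.d_mem i a' b
  aug_mem := by
    intro b
    show F.aug b ∈ ℳ (F.deg 0 b + a - a)
    have : F.deg 0 b + a - a = F.deg 0 b := by ring
    rw [this]
    exact F.aug_mem b
  aug_surjective := F.aug_surjective
  exact_zero := F.exact_zero
  exact_succ := F.exact_succ

/-- unshifting a free resolution -/
def FreeRes.unshift (a : ℤ) [DirectSum.Decomposition (shiftGr ℳ a)]
    [SetLike.GradedSMul (stdGr k σ) (shiftGr ℳ a)] (F : FreeRes (stdGr k σ) (shiftGr ℳ a)) :
    FreeRes (stdGr k σ) ℳ where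
  rk := F.rk
  deg := fun i b => F.deg i b - a
  d := F.d
  aug := F.aug
  d_mem := by
    intro i a' b
    have : F.deg (i + 1) b - a - (F.deg i a' - a) = F.deg (i + 1) b - F.deg i a' := by ring
    rw [this]
    exact F.d_mem i a' b
  aug_mem := fun b => F.aug_mem b
  aug_surjective := F.aug_surjective
  exact_zero := F.exact_zero
  exact_succ := F.exact_succ

theorem isRegLE_shift (a : ℤ) [DirectSum.Decomposition (shiftGr ℳ a)]
    [SetLike.GradedSMul (stdGr k σ) (shiftGr ℳ a)] (𝔪 : Ideal (MvPolynomial σ k)) (ρ : ℤ)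
    (h : IsRegLE (stdGr k σ) ℳ 𝔪 ρ) : IsRegLE (stdGr k σ) (shiftGr ℳ a) 𝔪 (ρ + a) := by
  obtain ⟨F, hF, hg⟩ := h
  refine ⟨FreeRes.shift ℳ F a, hF, ?_⟩
  intro i b
  show F.deg i b + a ≤ ρ + a + i
  have := hg i b
  omega

theorem isRegLE_unshift (a : ℤ) [DirectSum.Decomposition (shiftGr ℳ a)]
    [SetLike.GradedSMul (stdGr k σ) (shiftGr ℳ a)] (𝔪 : Ideal (MvPolynomial σ k)) (ρ : ℤ)
    (h : IsRegLE (stdGr k σ) (shiftGr ℳ a) 𝔪 ρ) : IsRegLE (stdGr k σ) ℳ 𝔪 (ρ - a) := by
  obtain ⟨F, hF, hg⟩ := h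
  refine ⟨FreeRes.unshift ℳ a F, hF, ?_⟩
  intro i b
  show F.deg i b - a ≤ ρ - a + i
  have := hg i b
  omega

theorem isRegLE_mono (𝔪 : Ideal (MvPolynomial σ k)) {ρ ρ' : ℤ} (hρ : ρ ≤ ρ')
    (h : IsRegLE (stdGr k σ) ℳ 𝔪 ρ) : IsRegLE (stdGr k σ) ℳ 𝔪 ρ' := by
  obtain ⟨F, hF, hg⟩ := h
  refine ⟨F, hF, fun i b => ?_⟩
  have := hg i b
  omega

end Shift

end Groth.Agent.Helper23.GrSyzQuot
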