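import Groth.Agent.Lib.Helper23.GrSyzQuot
import Groth.Agent.Lib.Helper23.GrSyzProj
import Groth.Agent.Lib.Helper11.DCRegular2

/-!
# Regularity and regular sequences of linear forms
-/

set_option autoImplicit false
set_option linter.unusedSectionVars false
set_option linter.unusedVariables false
set_option linter.style.haveILetI false

universe u

open GrSyz

namespace Groth.Agent.Helper23.GrSyzReg
open MvPolynomial DirectSum Pointwise
open Groth.Agent.Helper23.GrSyzHilb Groth.Agent.Helper23.GrSyzLib Groth.Agent.Helper23.GrSyzCmp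
open Groth.Agent.Helper23.GrSyzMin Groth.Agent.Helper23.GrSyzQuot Groth.Agent.Helper23.GrSyzHorse

section Transport

variable {k : Type u} [Field k] {σ : Type}
  {M : Type u} [AddCommGroup M] [Module k M] [Module (MvPolynomial σ k) M]
  {ℳ : ℤ → Submodule k M} [DirectSum.Decomposition ℳ] [SetLike.GradedSMul (stdGr k σ) ℳ]
  {N : Type u} [AddCommGroup N] [Module k N] [Module (MvPolynomial σ k) N]
  {𝒩 : ℤ → Submodule k N} [DirectSum.Decomposition 𝒩] [SetLike.GradedSMul (stdGr k σ) 𝒩]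

/-- transport of a resolution along a graded isomorphism -/
noncomputable def transportRes (F : FreeRes (stdGr k σ) ℳ) (π : M →ₗ[MvPolynomial σ k] N)
    (hπ : Function.Bijective π) (hπg : GrLC.IsGrHom ℳ 𝒩 π) : FreeRes (stdGr k σ) 𝒩 where
  rk := F.rk
  deg := F.deg
  d := F.d
  aug := fun b => π (F.aug b)
  d_mem := F.d_mem
  aug_mem := fun b => hπg _ _ (F.aug_mem b)
  aug_surjective := by
    intro q
    obtain ⟨m, rfl⟩ := hπ.2 q
    obtain ⟨v, rfl⟩ := F.aug_surjective m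
    refine ⟨v, ?_⟩
    simp only [Fintype.linearCombination_apply, map_sum, map_smul]
  exact_zero := by
    rw [← F.exact_zero]
    ext v
    simp only [LinearMap.mem_ker, Fintype.linearCombination_apply]
    rw [← hπ.1.eq_iff, map_sum, map_zero]
    simp only [map_smul]
  exact_succ := F.exact_succ

theorem isRegLE_of_bijective (𝔪 : Ideal (MvPolynomial σ k)) (π : M →ₗ[MvPolynomial σ k] N)
    (hπ : Function.Bijective π) (hπg : GrLC.IsGrHom ℳ 𝒩 π) (ρ : ℤ)
    (h : IsRegLE (stdGr k σ) ℳ 𝔪 ρ) : IsRegLE (stdGr k σ) 𝒩 𝔪 ρ := by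
  obtain ⟨F, hF, hg⟩ := h
  exact ⟨transportRes F π hπ hπg, hF, hg⟩

end Transport


section Step

variable {k : Type u} [Field k] {σ : Type} [Finite σ]
  {M : Type u} [AddCommGroup M] [Module k M] [Module (MvPolynomial σ k) M]
  [Module.Finite (MvPolynomial σ k) M]
  {ℳ : ℤ → Submodule k M} [DirectSum.Decomposition ℳ] [SetLike.GradedSMul (stdGr k σ) ℳ]
  {N : Type u} [AddCommGroup N] [Module k N] [Module (MvPolynomial σ k) N]
  [Module.Finite (MvPolynomial σ k) N]
  {𝒩 : ℤ → Submodule k N} [DirectSum.Decomposition 𝒩] [SetLike.GradedSMul (stdGr k σ) 𝒩]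
  {y : MvPolynomial σ k} (hy : y ∈ stdGr k σ 1) (hreg : IsSMulRegular M y)
  {π : M →ₗ[MvPolynomial σ k] N} (hπ : Function.Surjective π) (hπg : GrLC.IsGrHom ℳ 𝒩 π)
  (hker : LinearMap.ker π = y • (⊤ : Submodule (MvPolynomial σ k) M))

include hy in
theorem isGrHom_lsmul :
    GrLC.IsGrHom (shiftGr ℳ 1) ℳ (LinearMap.lsmul (MvPolynomial σ k) M y) := by
  intro n m hm
  have h1 : m ∈ ℳ (n - 1) := hm
  have h2 := SetLike.GradedSMul.smul_mem (A := stdGr k σ) (B := ℳ) hy h1
  have e : (1 : ℤ) + (n - 1) = n := by ring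
  rw [vadd_eq_add, e] at h2
  exact h2

include hreg in
theorem lsmul_injective :
    Function.Injective (LinearMap.lsmul (MvPolynomial σ k) M y) :=
  fun a b hab => hreg hab

include hker in
theorem range_lsmul :
    LinearMap.range (LinearMap.lsmul (MvPolynomial σ k) M y) = LinearMap.ker π := by
  rw [hker]
  ext x
  rw [Submodule.mem_smul_pointwise_iff_exists]
  constructor
  · rintro ⟨m, rfl⟩
    exact ⟨m, Submodule.mem_top, rfl⟩
  · rintro ⟨m, -, rfl⟩
    exact ⟨m, rfl⟩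

include hy hreg hπ hπg hker in
theorem step_forward (ρ : ℤ) (h : IsRegLE (stdGr k σ) ℳ (irrel (stdGr k σ)).toIdeal ρ) :
    IsRegLE (stdGr k σ) 𝒩 (irrel (stdGr k σ)).toIdeal ρ := by
  letI := shiftDecomposition ℳ 1
  haveI := shiftGradedSMul (σ := σ) ℳ 1
  exact part3 (ℳ₁ := shiftGr ℳ 1) (ℳ₂ := ℳ) (ℳ₃ := 𝒩) (lsmul_injective hreg) hπ (range_lsmul hker)
    (isGrHom_lsmul hy) hπg ρ (isRegLE_shift ℳ 1 _ ρ h) h

include hy hreg hπ hπg hker in
theorem step_backward_aux (ρ : ℤ) (h3 : IsRegLE (stdGr k σ) 𝒩 (irrel (stdGr k σ)).toIdeal ρ) :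
    ∀ (n : ℕ) (ρ' : ℤ), ρ' = ρ + n → IsRegLE (stdGr k σ) ℳ (irrel (stdGr k σ)).toIdeal ρ' →
      IsRegLE (stdGr k σ) ℳ (irrel (stdGr k σ)).toIdeal ρ := by
  intro n
  induction n with
  | zero =>
    intro ρ' hρ' h
    have : ρ' = ρ := by simpa using hρ'
    rw [← this]; exact h
  | succ n ih =>
    intro ρ' hρ' h
    letI := shiftDecomposition ℳ 1
    haveI := shiftGradedSMul (σ := σ) ℳ 1
    have h3' : IsRegLE (stdGr k σ) 𝒩 (irrel (stdGr k σ)).toIdeal (ρ' - 1) :=
      isRegLE_mono 𝒩 _ (by push_cast at hρ'; omega) h3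
    have h1 := part1 (ℳ₁ := shiftGr ℳ 1) (ℳ₂ := ℳ) (ℳ₃ := 𝒩) (lsmul_injective hreg) hπ (range_lsmul hker)
      (isGrHom_lsmul hy) hπg ρ' h h3'
    have h1' := isRegLE_unshift ℳ 1 _ ρ' h1
    exact ih (ρ' - 1) (by push_cast at hρ'; omega) h1'

include hy hreg hπ hπg hker in
theorem step_backward (ρ ρ' : ℤ) (h3 : IsRegLE (stdGr k σ) 𝒩 (irrel (stdGr k σ)).toIdeal ρ)
    (h : IsRegLE (stdGr k σ) ℳ (irrel (stdGr k σ)).toIdeal ρ') :
    IsRegLE (stdGr k σ) ℳ (irrel (stdGr k σ)).toIdeal ρ := by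
  by_cases hle : ρ' ≤ ρ
  · exact isRegLE_mono ℳ _ hle h
  · rw [not_le] at hle
    obtain ⟨n, hn⟩ := Int.eq_ofNat_of_zero_le (sub_nonneg.mpr hle.le)
    exact step_backward_aux hy hreg hπ hπg hker ρ h3 n ρ' (by omega) h

end Step


section Syzygy

open CategoryTheory

variable {k : Type u} [Field k] {σ : Type} [Finite σ]
  {M : Type u} [AddCommGroup M] [Module k M] [Module (MvPolynomial σ k) M]
  [Module.Finite (MvPolynomial σ k) M]
  (ℳ : ℤ → Submodule k M) [DirectSum.Decomposition ℳ] [SetLike.GradedSMul (stdGr k σ) ℳ]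

theorem ringKrullDim_mvPolynomial :
    ringKrullDim (MvPolynomial σ k) = ((Nat.card σ : ℕ) : WithBot ℕ∞) := by
  rw [MvPolynomial.ringKrullDim_of_isNoetherianRing, ringKrullDim_eq_zero_of_field]
  simp

/-- Hilbert's syzygy theorem for minimal graded free resolutions -/
theorem hasLengthLE_of_isMinimal (F : FreeRes (stdGr k σ) ℳ)
    (hF : F.IsMinimal (irrel (stdGr k σ)).toIdeal) : F.HasLengthLE (Nat.card σ) := by
  rw [Groth.Agent.Helper23.GrSyzProj.hasLengthLE_iff F (irrel (stdGr k σ)).toIdeal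
    (Groth.Agent.Helper23.GrSyzProj.irrel_isMaximal k σ).ne_top hF]
  exact Groth.Agent.Helper11.DC.glDim_of_isRegularRing (Nat.card σ) ringKrullDim_mvPolynomial _

theorem exists_isRegLE : ∃ ρ : ℤ, IsRegLE (stdGr k σ) ℳ (irrel (stdGr k σ)).toIdeal ρ := by
  obtain ⟨F, hF⟩ := exists_freeRes_isMinimal (k := k) (σ := σ) ℳ
  have hlen := hasLengthLE_of_isMinimal ℳ F hF
  refine ⟨∑ i ∈ Finset.range (Nat.card σ + 1), ∑ b : Fin (F.rk i), |F.deg i b|, F, hF, ?_⟩
  intro i b
  by_cases hi : i ≤ Nat.card σ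
  · have h1 : |F.deg i b| ≤ ∑ b : Fin (F.rk i), |F.deg i b| :=
      Finset.single_le_sum (f := fun b : Fin (F.rk i) => |F.deg i b|)
        (fun _ _ => abs_nonneg _) (Finset.mem_univ b)
    have h2 : ∑ b : Fin (F.rk i), |F.deg i b| ≤
        ∑ i ∈ Finset.range (Nat.card σ + 1), ∑ b : Fin (F.rk i), |F.deg i b| :=
      Finset.single_le_sum (f := fun i => ∑ b : Fin (F.rk i), |F.deg i b|)
        (fun _ _ => Finset.sum_nonneg (fun _ _ => abs_nonneg _))
        (Finset.mem_range.mpr (by omega))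
    have h3 := le_abs_self (F.deg i b)
    have h4 : (0 : ℤ) ≤ i := Int.natCast_nonneg i
    omega
  · exfalso
    have := hlen i (by omega)
    rw [this] at b
    exact b.elim0

end Syzygy


section ListInd

variable {k : Type u} [Field k] {σ : Type} [Finite σ]

section One
variable {M : Type u} [AddCommGroup M] [Module k M] [Module (MvPolynomial σ k) M]
  [IsScalarTower k (MvPolynomial σ k) M] [Module.Finite (MvPolynomial σ k) M]
  (ℳ : ℤ → Submodule k M) [DirectSum.Decomposition ℳ] [SetLike.GradedSMul (stdGr k σ) ℳ]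
  {N : Type u} [AddCommGroup N] [Module k N] [Module (MvPolynomial σ k) N]
  [IsScalarTower k (MvPolynomial σ k) N] [Module.Finite (MvPolynomial σ k) N]
  (𝒩 : ℤ → Submodule k N) [DirectSum.Decomposition 𝒩] [SetLike.GradedSMul (stdGr k σ) 𝒩]

/-- homogeneity of the kernel of `M → M/yM` -/
theorem mkQ_projM_eq_zero {y : MvPolynomial σ k} (hy : y ∈ stdGr k σ 1) (x : M)
    (hx : Submodule.mkQ (y • (⊤ : Submodule (MvPolynomial σ k) M)) x = 0) (n : ℤ) :
    Submodule.mkQ (y • (⊤ : Submodule (MvPolynomial σ k) M)) (projM ℳ n x) = 0 := by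
  rw [Submodule.mkQ_apply, Submodule.Quotient.mk_eq_zero] at hx ⊢
  rw [Submodule.mem_smul_pointwise_iff_exists] at hx ⊢
  obtain ⟨m, -, rfl⟩ := hx
  exact ⟨projM ℳ (n - 1) m, Submodule.mem_top, (projM_smul_of_mem ℳ hy m n).symm⟩

/-- the inverse of a bijective graded map is graded -/
theorem isGrHom_symm (π : M →ₗ[MvPolynomial σ k] N) (hπ : Function.Bijective π)
    (hπg : GrLC.IsGrHom ℳ 𝒩 π) :
    GrLC.IsGrHom 𝒩 ℳ (LinearEquiv.ofBijective π hπ).symm.toLinearMap := by
  classical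
  intro n q hq
  set m := (LinearEquiv.ofBijective π hπ).symm q with hm
  have hπm : π m = q := (LinearEquiv.ofBijective π hπ).apply_symm_apply q
  have hz : ∀ j, j ≠ n → projM ℳ j m = 0 := by
    intro j hj
    apply hπ.1
    rw [map_zero, ← projM_map ℳ 𝒩 π hπg, hπm, projM_of_mem 𝒩 hq, if_neg (Ne.symm hj)]
  obtain ⟨E, hE⟩ := exists_sum_projM ℳ m
  show m ∈ ℳ n
  rw [hE]
  refine Submodule.sum_mem _ (fun j _ => ?_)
  by_cases hj : j = n
  · subst hj; exact projM_mem ℳ j m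
  · rw [hz j hj]; exact Submodule.zero_mem _

end One

/-- Regularity is unchanged by dividing out a weakly regular sequence of linear forms. -/
theorem isRegLE_iff_quot : ∀ (ys : List (MvPolynomial σ k)), (∀ y ∈ ys, y ∈ stdGr k σ 1) →
    ∀ (M : Type u) [AddCommGroup M] [Module k M] [Module (MvPolynomial σ k) M]
      [IsScalarTower k (MvPolynomial σ k) M] [Module.Finite (MvPolynomial σ k) M]
      (ℳ : ℤ → Submodule k M) [DirectSum.Decomposition ℳ] [SetLike.GradedSMul (stdGr k σ) ℳ],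
      RingTheory.Sequence.IsWeaklyRegular M ys →
    ∀ (N : Type u) [AddCommGroup N] [Module k N] [Module (MvPolynomial σ k) N]
      [IsScalarTower k (MvPolynomial σ k) N] [Module.Finite (MvPolynomial σ k) N]
      (𝒩 : ℤ → Submodule k N) [DirectSum.Decomposition 𝒩] [SetLike.GradedSMul (stdGr k σ) 𝒩]
      (π : M →ₗ[MvPolynomial σ k] N), Function.Surjective π → GrLC.IsGrHom ℳ 𝒩 π →
      LinearMap.ker π = Ideal.ofList ys • (⊤ : Submodule (MvPolynomial σ k) M) →
    ∀ ρ : ℤ, IsRegLE (stdGr k σ) ℳ (irrel (stdGr k σ)).toIdeal ρ ↔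
      IsRegLE (stdGr k σ) 𝒩 (irrel (stdGr k σ)).toIdeal ρ := by
  intro ys
  induction ys with
  | nil =>
    intro _ M _ _ _ _ _ ℳ _ _ _ N _ _ _ _ _ 𝒩 _ _ π hπ hπg hker ρ
    have hinj : Function.Injective π := by
      rw [← LinearMap.ker_eq_bot, hker, Ideal.ofList_nil, Submodule.bot_smul]
    have hbij : Function.Bijective π := ⟨hinj, hπ⟩
    constructor
    · exact isRegLE_of_bijective _ π hbij hπg ρ
    · exact isRegLE_of_bijective _ (LinearEquiv.ofBijective π hbij).symm.toLinearMap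
        (LinearEquiv.ofBijective π hbij).symm.bijective (isGrHom_symm ℳ 𝒩 π hbij hπg) ρ
  | cons y ys ih =>
    intro hys M _ _ _ _ _ ℳ _ _ hreg N _ _ _ _ _ 𝒩 _ _ π hπ hπg hker ρ
    have hy : y ∈ stdGr k σ 1 := hys y List.mem_cons_self
    have hys' : ∀ z ∈ ys, z ∈ stdGr k σ 1 := fun z hz => hys z (List.mem_cons_of_mem _ hz)
    obtain ⟨hreg1, hreg2⟩ := (RingTheory.Sequence.isWeaklyRegular_cons_iff M y ys).mp hreg
    let π₀ : M →ₗ[MvPolynomial σ k] QuotSMulTop y M :=
      Submodule.mkQ (y • (⊤ : Submodule (MvPolynomial σ k) M))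
    have hπ₀ : Function.Surjective π₀ := Submodule.mkQ_surjective _
    letI : DirectSum.Decomposition (imGr ℳ π₀) :=
      imDecomposition ℳ π₀ hπ₀ (fun x hx n => mkQ_projM_eq_zero ℳ hy x hx n)
    haveI : SetLike.GradedSMul (stdGr k σ) (imGr ℳ π₀) := imGradedSMul ℳ π₀
    have hπ₀g : GrLC.IsGrHom ℳ (imGr ℳ π₀) π₀ := isGrHom_imGr ℳ π₀
    have hker₀ : LinearMap.ker π₀ = y • (⊤ : Submodule (MvPolynomial σ k) M) :=
      Submodule.ker_mkQ _
    -- first step
    have step1 : IsRegLE (stdGr k σ) ℳ (irrel (stdGr k σ)).toIdeal ρ ↔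
        IsRegLE (stdGr k σ) (imGr ℳ π₀) (irrel (stdGr k σ)).toIdeal ρ := by
      constructor
      · exact step_forward hy hreg1 hπ₀ hπ₀g hker₀ ρ
      · intro h3
        obtain ⟨ρ', hρ'⟩ := exists_isRegLE (k := k) (σ := σ) ℳ
        exact step_backward hy hreg1 hπ₀ hπ₀g hker₀ ρ ρ' h3 hρ'
    -- the induced map
    have hle : y • (⊤ : Submodule (MvPolynomial σ k) M) ≤ LinearMap.ker π := by
      rw [hker, Ideal.ofList_cons, Submodule.sup_smul, Submodule.ideal_span_singleton_smul]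
      exact le_sup_left
    let π₁ : QuotSMulTop y M →ₗ[MvPolynomial σ k] N :=
      Submodule.liftQ (y • (⊤ : Submodule (MvPolynomial σ k) M)) π hle
    have hπ₁ : Function.Surjective π₁ := by
      intro q
      obtain ⟨m, rfl⟩ := hπ q
      exact ⟨π₀ m, Submodule.liftQ_apply _ _ _⟩
    have hπ₁g : GrLC.IsGrHom (imGr ℳ π₀) 𝒩 π₁ := by
      intro n q hq
      obtain ⟨m, hm, rfl⟩ := (mem_imGr ℳ π₀ n q).mp hq
      have : π₁ (π₀ m) = π m := Submodule.liftQ_apply _ _ _
      rw [this]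
      exact hπg n m hm
    have hsmul0 : y • (⊤ : Submodule (MvPolynomial σ k) (QuotSMulTop y M)) = ⊥ := by
      rw [eq_bot_iff]
      intro q hq
      rw [Submodule.mem_smul_pointwise_iff_exists] at hq
      obtain ⟨q', -, rfl⟩ := hq
      obtain ⟨m, rfl⟩ := hπ₀ q'
      rw [Submodule.mem_bot, ← map_smul]
      show Submodule.mkQ _ (y • m) = 0
      rw [Submodule.mkQ_apply, Submodule.Quotient.mk_eq_zero,
        Submodule.mem_smul_pointwise_iff_exists]
      exact ⟨m, Submodule.mem_top, rfl⟩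
    have hker₁ : LinearMap.ker π₁ =
        Ideal.ofList ys • (⊤ : Submodule (MvPolynomial σ k) (QuotSMulTop y M)) := by
      show LinearMap.ker (Submodule.liftQ _ π hle) = _
      rw [Submodule.ker_liftQ, hker, Submodule.map_smul'', Submodule.map_top,
        Submodule.range_mkQ, Ideal.ofList_cons, Submodule.sup_smul,
        Submodule.ideal_span_singleton_smul, hsmul0, bot_sup_eq]
    rw [step1]
    exact ih hys' (QuotSMulTop y M) (imGr ℳ π₀) hreg2 N 𝒩 π₁ hπ₁ hπ₁g hker₁ ρ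

end ListInd

end Groth.Agent.Helper23.GrSyzReg
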