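import Groth.Agent.Lib.Helper23.GrSyzHorse2

set_option autoImplicit false
set_option linter.unusedSectionVars false
set_option linter.unusedVariables false

universe u

open GrSyz

namespace Groth.Agent.Helper23.GrSyzHorse
open MvPolynomial DirectSum
open Groth.Agent.Helper23.GrSyzHilb Groth.Agent.Helper23.GrSyzLib Groth.Agent.Helper23.GrSyzCmp
open Groth.Agent.Helper23.GrSyzMin

variable {k : Type u} [Field k] {σ : Type} [Finite σ]
  {M₁ : Type u} [AddCommGroup M₁] [Module k M₁] [Module (MvPolynomial σ k) M₁]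
  [Module.Finite (MvPolynomial σ k) M₁]
  {ℳ₁ : ℤ → Submodule k M₁} [DirectSum.Decomposition ℳ₁] [SetLike.GradedSMul (stdGr k σ) ℳ₁]
  {M₂ : Type u} [AddCommGroup M₂] [Module k M₂] [Module (MvPolynomial σ k) M₂]
  [Module.Finite (MvPolynomial σ k) M₂]
  {ℳ₂ : ℤ → Submodule k M₂} [DirectSum.Decomposition ℳ₂] [SetLike.GradedSMul (stdGr k σ) ℳ₂]
  {M₃ : Type u} [AddCommGroup M₃] [Module k M₃] [Module (MvPolynomial σ k) M₃]
  [Module.Finite (MvPolynomial σ k) M₃]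
  {ℳ₃ : ℤ → Submodule k M₃} [DirectSum.Decomposition ℳ₃] [SetLike.GradedSMul (stdGr k σ) ℳ₃]
  {f : M₁ →ₗ[MvPolynomial σ k] M₂} {g : M₂ →ₗ[MvPolynomial σ k] M₃}
  (hf : Function.Injective f) (hg : Function.Surjective g)
  (hfg : LinearMap.range f = LinearMap.ker g)
  (hfgr : GrLC.IsGrHom ℳ₁ ℳ₂ f) (hggr : GrLC.IsGrHom ℳ₂ ℳ₃ g)

theorem cc_eq_zero_of_deg_ne {n : ℤ} {p : MvPolynomial σ k} (hp : p ∈ stdGr k σ n) (hn : n ≠ 0) :
    constantCoeff p = 0 := by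
  by_contra h
  exact hn (deg_eq_zero_of_constantCoeff_ne_zero hp h)

include hf hg hfg hfgr hggr in
theorem part2 (r : ℤ) (h1 : IsRegLE (stdGr k σ) ℳ₁ (irrel (stdGr k σ)).toIdeal r)
    (h3 : IsRegLE (stdGr k σ) ℳ₃ (irrel (stdGr k σ)).toIdeal r) :
    IsRegLE (stdGr k σ) ℳ₂ (irrel (stdGr k σ)).toIdeal r := by
  obtain ⟨F₁, hF₁m, hF₁r⟩ := h1
  obtain ⟨F₃, hF₃m, hF₃r⟩ := h3
  obtain ⟨D⟩ := exists_data (F₁ := F₁) (F₃ := F₃) hf hg hfg hfgr hggr
  obtain ⟨F₂, hF₂⟩ := exists_freeRes_isMinimal (k := k) (σ := σ) ℳ₂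
  refine ⟨F₂, hF₂, ?_⟩
  intro i b
  obtain ⟨a, ha⟩ := exists_deg_eq F₂ (D.res hf hfg hfgr) hF₂ i b
  rw [← ha]
  revert a
  intro a
  refine Fin.addCases (fun a' => ?_) (fun a' => ?_) a
  · intro _
    change Fin.append (F₁.deg i) (F₃.deg i) (Fin.castAdd _ a') ≤ _
    rw [Fin.append_left]
    exact hF₁r i a'
  · intro _
    change Fin.append (F₁.deg i) (F₃.deg i) (Fin.natAdd _ a') ≤ _
    rw [Fin.append_right]
    exact hF₃r i a'

include hf hg hfg hfgr hggr in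
theorem part1 (r : ℤ) (h2 : IsRegLE (stdGr k σ) ℳ₂ (irrel (stdGr k σ)).toIdeal r)
    (h3 : IsRegLE (stdGr k σ) ℳ₃ (irrel (stdGr k σ)).toIdeal (r - 1)) :
    IsRegLE (stdGr k σ) ℳ₁ (irrel (stdGr k σ)).toIdeal r := by
  obtain ⟨F₂, hF₂m, hF₂r⟩ := h2
  obtain ⟨F₃, hF₃m, hF₃r⟩ := h3
  obtain ⟨G, hG⟩ := exists_freeRes_isMinimal (k := k) (σ := σ) ℳ₁
  obtain ⟨D⟩ := exists_data (F₁ := G) (F₃ := F₃) hf hg hfg hfgr hggr
  refine ⟨G, hG, ?_⟩
  intro i b
  by_contra hlt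
  rw [not_le] at hlt
  have hrow : ∀ (i : ℕ) (b : Fin (G.rk i)), r + i < G.deg i b →
      ∀ c, constantCoeff ((D.res hf hfg hfgr).d i (Fin.castAdd (F₃.rk i) b) c) = 0 := by
    intro i b hlt c
    refine Fin.addCases (fun c' => ?_) (fun c' => ?_) c
    · change constantCoeff (blk (G.d i) (D.θ i) 0 (F₃.d i) (Fin.castAdd _ b) (Fin.castAdd _ c')) = 0
      rw [blk_ll]
      exact constantCoeff_eq_zero_of_mem_irrel k σ (hG i b c')
    · change constantCoeff (blk (G.d i) (D.θ i) 0 (F₃.d i) (Fin.castAdd _ b) (Fin.natAdd _ c')) = 0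
      rw [blk_lr]
      apply cc_eq_zero_of_deg_ne (D.θ_gr i b c')
      have := hF₃r (i + 1) c'
      push_cast at this
      omega
  cases i with
  | zero =>
    refine key_zero (D.res hf hfg hfgr) F₂ hF₂m r hF₂r (Fin.castAdd (F₃.rk 0) b) ?_ (hrow 0 b hlt)
    change r < Fin.append (G.deg 0) (F₃.deg 0) (Fin.castAdd _ b)
    rw [Fin.append_left]
    simpa using hlt
  | succ i =>
    refine key_succ (D.res hf hfg hfgr) F₂ hF₂m r hF₂r i (Fin.castAdd (F₃.rk (i + 1)) b) ?_ ?_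
      (hrow (i + 1) b hlt)
    · change r + ((i + 1 : ℕ) : ℤ) < Fin.append (G.deg (i + 1)) (F₃.deg (i + 1)) (Fin.castAdd _ b)
      rw [Fin.append_left]
      exact hlt
    · intro a
      refine Fin.addCases (fun a' => ?_) (fun a' => ?_) a
      · change constantCoeff (blk (G.d i) (D.θ i) 0 (F₃.d i) (Fin.castAdd _ a') (Fin.castAdd _ b)) = 0
        rw [blk_ll]
        exact constantCoeff_eq_zero_of_mem_irrel k σ (hG i a' b)
      · change constantCoeff (blk (G.d i) (D.θ i) 0 (F₃.d i) (Fin.natAdd _ a') (Fin.castAdd _ b)) = 0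
        rw [blk_rl]
        simp

include hf hg hfg hfgr hggr in
theorem part3 (r : ℤ) (h1 : IsRegLE (stdGr k σ) ℳ₁ (irrel (stdGr k σ)).toIdeal (r + 1))
    (h2 : IsRegLE (stdGr k σ) ℳ₂ (irrel (stdGr k σ)).toIdeal r) :
    IsRegLE (stdGr k σ) ℳ₃ (irrel (stdGr k σ)).toIdeal r := by
  obtain ⟨F₁, hF₁m, hF₁r⟩ := h1
  obtain ⟨F₂, hF₂m, hF₂r⟩ := h2
  obtain ⟨G, hG⟩ := exists_freeRes_isMinimal (k := k) (σ := σ) ℳ₃
  obtain ⟨D⟩ := exists_data (F₁ := F₁) (F₃ := G) hf hg hfg hfgr hggr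
  refine ⟨G, hG, ?_⟩
  intro i b
  by_contra hlt
  rw [not_le] at hlt
  have hrow : ∀ (i : ℕ) (b : Fin (G.rk i)),
      ∀ c, constantCoeff ((D.res hf hfg hfgr).d i (Fin.natAdd (F₁.rk i) b) c) = 0 := by
    intro i b c
    refine Fin.addCases (fun c' => ?_) (fun c' => ?_) c
    · change constantCoeff (blk (F₁.d i) (D.θ i) 0 (G.d i) (Fin.natAdd _ b) (Fin.castAdd _ c')) = 0
      rw [blk_rl]
      simp
    · change constantCoeff (blk (F₁.d i) (D.θ i) 0 (G.d i) (Fin.natAdd _ b) (Fin.natAdd _ c')) = 0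
      rw [blk_rr]
      exact constantCoeff_eq_zero_of_mem_irrel k σ (hG i b c')
  cases i with
  | zero =>
    refine key_zero (D.res hf hfg hfgr) F₂ hF₂m r hF₂r (Fin.natAdd (F₁.rk 0) b) ?_ (hrow 0 b)
    change r < Fin.append (F₁.deg 0) (G.deg 0) (Fin.natAdd _ b)
    rw [Fin.append_right]
    simpa using hlt
  | succ i =>
    refine key_succ (D.res hf hfg hfgr) F₂ hF₂m r hF₂r i (Fin.natAdd (F₁.rk (i + 1)) b) ?_ ?_
      (hrow (i + 1) b)
    · change r + ((i + 1 : ℕ) : ℤ) < Fin.append (F₁.deg (i + 1)) (G.deg (i + 1)) (Fin.natAdd _ b)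
      rw [Fin.append_right]
      exact hlt
    · intro a
      refine Fin.addCases (fun a' => ?_) (fun a' => ?_) a
      · change constantCoeff (blk (F₁.d i) (D.θ i) 0 (G.d i) (Fin.castAdd _ a') (Fin.natAdd _ b)) = 0
        rw [blk_lr]
        apply cc_eq_zero_of_deg_ne (D.θ_gr i a' b)
        have := hF₁r i a'
        push_cast at hlt
        omega
      · change constantCoeff (blk (F₁.d i) (D.θ i) 0 (G.d i) (Fin.natAdd _ a') (Fin.natAdd _ b)) = 0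
        rw [blk_rr]
        exact constantCoeff_eq_zero_of_mem_irrel k σ (hG i a' b)

end Groth.Agent.Helper23.GrSyzHorse
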