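import Groth.Agent.Lib.Helper4.GrpAff

set_option autoImplicit false
set_option linter.style.haveILetI false
universe u
open CategoryTheory CategoryTheory.Limits AlgebraicGeometry MonoidalCategory CartesianMonoidalCategory
  MonObj GrpObj

namespace Groth.Agent.Helper23.GrpCompQc

open Groth.Agent.Helper4.GrpAff Groth.Agent.Helper4.GrpConn Groth.Agent.Helper4.BCTower
open scoped CategoryTheory.Obj

section AlgClosed

variable {K : Type u} [Field K] [IsAlgClosed K] (G : Over (Spec (CommRingCat.of K))) [GrpObj G]
  [LocallyOfFiniteType G.hom]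

theorem isCompact_cc_algClosed (x : G.left) : IsCompact (connectedComponent x) := by
  have hopen := isOpen_cc G x
  haveI : JacobsonSpace G.left := LocallyOfFiniteType.jacobsonSpace G.hom
  obtain ⟨h, hhC, hhcl⟩ := nonempty_inter_closedPoints
    (⟨x, mem_connectedComponent⟩ : (connectedComponent x).Nonempty) hopen.isLocallyClosed
  obtain ⟨ψ, hψ⟩ := exists_rational G h hhcl
  rw [connectedComponent_eq hhC, ← hψ, ← trans_image_cc]
  exact (connectedComponent_unit_irreducible_compact G).2.image
    (Groth.Agent.Helper16.GrpIrr.trans G ψ).left.continuous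

end AlgClosed

section Field

variable {k : Type u} [Field k] (G : Over (Spec (CommRingCat.of k))) [GrpObj G]
  [LocallyOfFiniteType G.hom]

theorem isCompact_cc_field (x : G.left) : IsCompact (connectedComponent x) := by
  haveI : LocallyOfFiniteType ((Over.pullback (yK (k := k) (AlgebraicClosure k))).obj G).hom :=
    (inferInstance : LocallyOfFiniteType (pullback.snd G.hom (yK (k := k) (AlgebraicClosure k))))
  haveI : Surjective (yK (k := k) (AlgebraicClosure k)) :=
    ⟨fun y => ⟨IsLocalRing.closedPoint _, Subsingleton.elim (α := PrimeSpectrum k) _ _⟩⟩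
  obtain ⟨x', rfl⟩ := (pullback.fst G.hom (yK (k := k) (AlgebraicClosure k))).surjective x
  rw [← Groth.Agent.Helper4.ConnCompImage.image_connectedComponent G.hom (AlgebraicClosure k) x']
  exact (isCompact_cc_algClosed ((Over.pullback (yK (k := k) (AlgebraicClosure k))).obj G) x').image
    (pullback.fst G.hom _).continuous

end Field

section Artin

variable (A : Type u) [CommRing A] [IsArtinianRing A] [IsLocalRing A]
  (G : Over (Spec (CommRingCat.of A))) [GrpObj G] [LocallyOfFiniteType G.hom]

theorem isCompact_cc_artin (g : G.left) : IsCompact (connectedComponent g) := by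
  let i : Spec (CommRingCat.of (IsLocalRing.ResidueField A)) ⟶ Spec (CommRingCat.of A) :=
    Spec.map (CommRingCat.ofHom (IsLocalRing.residue A))
  haveI : IsClosedImmersion i :=
    IsClosedImmersion.spec_of_surjective _ IsLocalRing.residue_surjective
  haveI : Subsingleton (PrimeSpectrum A) := by
    refine ⟨fun x y => PrimeSpectrum.ext ?_⟩
    haveI := x.2
    haveI := y.2
    rw [IsLocalRing.eq_maximalIdeal (Ideal.IsPrime.isMaximal' x.2),
      IsLocalRing.eq_maximalIdeal (Ideal.IsPrime.isMaximal' y.2)]
  haveI : Surjective i :=
    ⟨fun y => ⟨IsLocalRing.closedPoint _, Subsingleton.elim (α := PrimeSpectrum A) _ _⟩⟩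
  haveI : LocallyOfFiniteType ((Over.pullback i).obj G).hom :=
    (inferInstance : LocallyOfFiniteType (pullback.snd G.hom i))
  let q := pullback.fst G.hom i
  have hq : Topology.IsEmbedding q.base := q.isClosedEmbedding.isEmbedding
  let e := hq.toHomeomorphOfSurjective q.surjective
  obtain ⟨x₀, rfl⟩ := q.surjective g
  have h1 := homeomorph_image_cc e x₀
  have h2 : connectedComponent (q x₀) = q.base '' connectedComponent x₀ := h1.symm
  rw [h2]
  exact (isCompact_cc_field ((Over.pullback i).obj G) x₀).image q.continuous

end Artin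

end Groth.Agent.Helper23.GrpCompQc
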