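import Mathlib
import Groth.Prelude
import Groth.Agent.S7457
import Groth.Agent.Lib.Helper23.HomogDim1
import Groth.Agent.Lib.Helper16.Sch.FTDim10
import Groth.Agent.Lib.Helper16.Sch.FTDim7

set_option autoImplicit false
set_option linter.style.haveILetI false
set_option linter.unusedSectionVars false
universe u
open CategoryTheory CategoryTheory.Limits AlgebraicGeometry

noncomputable section

namespace Groth.Agent.Helper23.GrpdDim

open Groth.Agent.Helper11.GrpdLib Groth.Agent.Helper14 Groth.Agent.Helper16.FTDim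
  Groth.Agent.Helper23.HomogDim

variable {S : Scheme.{u}} (G : Grpd.GroupoidScheme S)

theorem isPullback_c_snd : IsPullback G.c (pullback.snd G.s G.t) G.s G.s :=
  (Groth.Agent.S7457.result S G).2

theorem isPullback_fst_c : IsPullback (pullback.fst G.s G.t) G.c G.t G.t := by
  have hct : G.c ≫ G.t = pullback.fst G.s G.t ≫ G.t := by
    rw [← m_fst_snd, m_t pullback.condition]
  refine ⟨⟨hct.symm⟩, ⟨PullbackCone.IsLimit.mk _
    (fun sc => pullback.lift sc.fst (m G (sc.fst ≫ G.i) sc.snd) (by
      have h : (sc.fst ≫ G.i) ≫ G.s = sc.snd ≫ G.t := by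
        rw [Category.assoc, G.i_s]; exact sc.condition
      rw [m_t h, Category.assoc, G.i_t])) ?_ ?_ ?_⟩⟩
  · intro sc
    exact pullback.lift_fst _ _ _
  · intro sc
    have h : (sc.fst ≫ G.i) ≫ G.s = sc.snd ≫ G.t := by
      rw [Category.assoc, G.i_s]; exact sc.condition
    have h1 : sc.fst ≫ G.s = (sc.fst ≫ G.i) ≫ G.t := by rw [Category.assoc, G.i_t]
    have h2 : sc.fst ≫ G.t ≫ G.e = sc.snd ≫ G.t ≫ G.e := by
      rw [← Category.assoc, sc.condition, Category.assoc]
    rw [← m_fst_snd, comp_m _ pullback.condition, pullback.lift_fst, pullback.lift_snd,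
      ← m_assoc h1 h, m_i, h2, e_m]
  · intro sc v hv1 hv2
    have hc : sc.fst ≫ G.s = (v ≫ pullback.snd G.s G.t) ≫ G.t := by
      rw [← hv1, Category.assoc, pullback.condition, Category.assoc]
    have hy : sc.snd = m G sc.fst (v ≫ pullback.snd G.s G.t) := by
      rw [← hv2, ← m_fst_snd, comp_m _ pullback.condition, hv1]
    have h0 : (sc.fst ≫ G.i) ≫ G.s = sc.fst ≫ G.t := by rw [Category.assoc, G.i_s]
    apply pullback.hom_ext
    · rw [pullback.lift_fst, hv1]
    · rw [pullback.lift_snd, hy, ← m_assoc h0 hc, i_m]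
      have : sc.fst ≫ G.s ≫ G.e = (v ≫ pullback.snd G.s G.t) ≫ G.t ≫ G.e := by
        rw [← Category.assoc, hc, Category.assoc]
      rw [this, e_m]

section Field

variable (k : Type u) [Field k] (eU : G.U ≅ Spec (CommRingCat.of k))

include eU in
theorem subsingleton_U : Subsingleton G.U := by
  haveI : Subsingleton ↥(Spec (CommRingCat.of k)) :=
    inferInstanceAs (Subsingleton (PrimeSpectrum k))
  exact (Scheme.homeoOfIso eU).injective.subsingleton

variable [LocallyOfFiniteType G.s] [LocallyOfFiniteType G.t]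

include eU in
/-- the transcendence degrees over `s` and over `t` agree -/
theorem td_s_eq_td_t (η : G.R) : td G.s η = td G.t η := by
  haveI := subsingleton_U G k eU
  have h1 := dim_closure k (G.s ≫ eU.hom) η
  have h2 := dim_closure k (G.t ≫ eU.hom) η
  rw [td_comp G.s eU.hom η] at h1
  rw [td_comp G.t eU.hom η, h1, Subsingleton.elim (G.t η) (G.s η)] at h2
  have h3 : td eU.hom (G.s η) + td G.s η = td eU.hom (G.s η) + td G.t η := by exact_mod_cast h2
  omega

include eU in
/-- the key equality at generic points of irreducible components -/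
theorem td_generic_eq {Z Z' : Set G.R} (hZ : Z ∈ irreducibleComponents G.R)
    (hZ' : Z' ∈ irreducibleComponents G.R) {ξ ξ' : G.R}
    (hξ : IsGenericPoint ξ Z) (hξ' : IsGenericPoint ξ' Z') :
    td G.s ξ = td G.s ξ' := by
  haveI := subsingleton_U G k eU
  obtain ⟨ζ₀, h01, h02⟩ := Scheme.Pullback.exists_preimage_pullback (f := G.s) (g := G.t) ξ ξ'
    (Subsingleton.elim _ _)
  obtain ⟨ζ, hζ, hmax⟩ := exists_maximal_generization ζ₀
  have e1 : pullback.fst G.s G.t ζ = ξ :=
    eq_of_specializes_genericPoint hZ hξ (h01 ▸ hζ.map (pullback.fst G.s G.t).continuous)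
  have e2 : pullback.snd G.s G.t ζ = ξ' :=
    eq_of_specializes_genericPoint hZ' hξ' (h02 ▸ hζ.map (pullback.snd G.s G.t).continuous)
  have B := td_eq_of_pullback (isPullback_c_snd G).flip ζ hmax
  have C := td_eq_of_pullback (isPullback_fst_c G) ζ hmax
  rw [B, e1, e2, ← td_s_eq_td_t G k eU ξ] at C
  exact C.symm

include eU in
theorem dim_closure_eq (η : G.R) :
    topologicalKrullDim ↥(closure ({η} : Set G.R)) =
      ((td eU.hom (G.s η) + td G.s η : ℕ) : WithBot ℕ∞) := by
  rw [dim_closure k (G.s ≫ eU.hom) η, td_comp G.s eU.hom η]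

include eU in
theorem dim_component_eq {Z Z' : Set G.R} (hZ : Z ∈ irreducibleComponents G.R)
    (hZ' : Z' ∈ irreducibleComponents G.R) :
    topologicalKrullDim ↥Z = topologicalKrullDim ↥Z' := by
  haveI := subsingleton_U G k eU
  obtain ⟨ξ, hξ⟩ := QuasiSober.sober hZ.1 (isClosed_of_mem_irreducibleComponents Z hZ)
  obtain ⟨ξ', hξ'⟩ := QuasiSober.sober hZ'.1 (isClosed_of_mem_irreducibleComponents Z' hZ')
  rw [← hξ.def, ← hξ'.def, dim_closure_eq G k eU, dim_closure_eq G k eU,
    td_generic_eq G k eU hZ hZ' hξ hξ', Subsingleton.elim (G.s ξ) (G.s ξ')]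

include eU in
theorem dim_component_eq_dim {Z : Set G.R} (hZ : Z ∈ irreducibleComponents G.R) :
    topologicalKrullDim ↥Z = topologicalKrullDim ↥G.R := by
  apply le_antisymm (dim_subset_le Z)
  rw [← dim_univ]
  apply dim_le_of_forall_closure _ isClosed_univ
  intro z _
  rw [← dim_component_eq G k eU (irreducibleComponent_mem_irreducibleComponents z) hZ]
  apply dim_mono
  exact isClosed_irreducibleComponent.closure_subset_iff.mpr
    (Set.singleton_subset_iff.mpr mem_irreducibleComponent)

include eU in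
theorem localDim_eq_dim (r : G.R) :
    FlatMor.localDim ↥G.R r = topologicalKrullDim ↥G.R := by
  apply le_antisymm (Groth.Agent.Helper9.TopDim.localDim_le_dim r)
  unfold FlatMor.localDim
  refine le_iInf ?_
  rintro ⟨V, hrV⟩
  have hZ := irreducibleComponent_mem_irreducibleComponents r
  obtain ⟨ξ, hξ⟩ := QuasiSober.sober hZ.1 (isClosed_of_mem_irreducibleComponents _ hZ)
  have hξr : ξ ⤳ r := by
    rw [specializes_iff_mem_closure, hξ.def]
    exact mem_irreducibleComponent
  have hξV : ξ ∈ V := hξr.mem_open V.isOpen hrV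
  rw [← dim_component_eq_dim G k eU hZ, ← hξ.def, dim_closure k (G.s ≫ eU.hom) ξ]
  let W : G.R.Opens := V
  let ξ' : (W : Scheme.{u}) := ⟨ξ, hξV⟩
  have h1 := dim_closure k (W.ι ≫ G.s ≫ eU.hom) ξ'
  rw [td_comp W.ι (G.s ≫ eU.hom) ξ'] at h1
  have h2 : topologicalKrullDim ↥(closure ({ξ'} : Set (W : Scheme.{u}))) ≤
      topologicalKrullDim ↥(W : Scheme.{u}) := dim_subset_le _
  rw [h1] at h2
  refine le_trans ?_ h2
  have h3 : W.ι ξ' = ξ := rfl
  rw [h3]
  exact_mod_cast Nat.le_add_right _ _

end Field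

end Groth.Agent.Helper23.GrpdDim
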