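import Mathlib
import Groth.Prelude
import Groth.Agent.Lib.Helper23.GrpdDim1
import Groth.Agent.Lib.Helper23.GeomFib1
import Groth.Agent.Lib.Helper19.SepPtsSp.Main
import Groth.Agent.Lib.Helper14.LocalDimSch

set_option autoImplicit false
set_option linter.style.haveILetI false
set_option linter.unusedSectionVars false
universe u
open CategoryTheory CategoryTheory.Limits AlgebraicGeometry

noncomputable section

namespace Groth.Agent.Helper23.GrpdDim

open Groth.Agent.Helper14

open Groth.Agent.Helper23.ZetaPt Groth.Agent.Helper23.GeomFib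

/-- the prelude's structure map `k → κ(x)` is the one through the residue field of the base -/
theorem resMap_eq_strMap (k : Type u) [Field k] (X : Scheme.{u}) [X.Over (Spec (CommRingCat.of k))]
    (x : X) : Curv2.resMap k X x = strMap (X ↘ Spec (CommRingCat.of k)) x := by
  have h1 := Groth.Agent.Helper19.SepPtsSp.spec_map_resMap k X x
  have h2 := fromSpecResidueField_comp (X ↘ Spec (CommRingCat.of k)) x
  have h3 := Spec.map_injective (h1.trans h2)
  exact congrArg CommRingCat.Hom.hom h3

/-- a closed point of a scheme locally of finite type over a field has residue field of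
transcendence degree zero -/
theorem trdeg_resAlgebra_closed (k : Type u) [Field k] (X : Scheme.{u})
    [X.Over (Spec (CommRingCat.of k))] [LocallyOfFiniteType (X ↘ Spec (CommRingCat.of k))]
    (x : X) (hx : IsClosed ({x} : Set X)) :
    @Algebra.trdeg k (X.residueField x) _ _ (Curv2.resAlgebra k X x) = ((0 : ℕ) : Cardinal) := by
  show @Algebra.trdeg k (X.residueField x) _ _ (Curv2.resMap k X x).toAlgebra = _
  rw [resMap_eq_strMap]
  letI alg : Algebra k (X.residueField x) := (strMap (X ↘ Spec (CommRingCat.of k)) x).toAlgebra
  haveI : Module.Finite k (X.residueField x) :=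
    finite_residueField (X ↘ Spec (CommRingCat.of k)) x hx
  rw [Nat.cast_zero]
  exact _root_.trdeg_eq_zero

variable {S : Scheme.{u}} (G : Grpd.GroupoidScheme S)
variable (k : Type u) [Field k] (eU : G.U ≅ Spec (CommRingCat.of k))
variable [LocallyOfFiniteType G.s] [LocallyOfFiniteType G.t]

include eU in
theorem stalk_dim (r : G.R) (hr : IsClosed ({r} : Set G.R)) :
    (ringKrullDim (G.R.presheaf.stalk r) : WithBot ℕ∞) = topologicalKrullDim G.R := by
  letI : G.R.Over (Spec (CommRingCat.of k)) := ⟨G.s ≫ eU.hom⟩
  haveI : LocallyOfFiniteType (G.R ↘ Spec (CommRingCat.of k)) :=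
    (inferInstance : LocallyOfFiniteType (G.s ≫ eU.hom))
  have h1 := LocalDimSch.localDim_eq k G.R r 0 (trdeg_resAlgebra_closed k G.R r hr)
  rw [localDim_eq_dim G k eU r] at h1
  rw [h1]
  simp

end Groth.Agent.Helper23.GrpdDim
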