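import Groth.Agent.Lib.Helper1.HenselFinite
import Mathlib.RingTheory.Spectrum.Prime.Topology

/-!
# The spectrum of a finite algebra over a henselian local ring, topologically (helper23)

It is a finite union of clopen subsets each of which has a closed point to which all of its points
specialise.  Also: descent of clopen subsets along closed maps over such spaces.
-/

set_option autoImplicit false

universe u

namespace Groth.Agent.Helper23.HensTop

/-- the topological structure: a finite cover by clopens `T i` with centres `t i` -/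
def HasLocalCover (T : Type*) [TopologicalSpace T] : Prop :=
  ∃ (ι : Type) (_ : Finite ι) (Ti : ι → Set T) (t : ι → T),
    (∀ i, IsClopen (Ti i)) ∧ (∀ i, IsClosed ({t i} : Set T)) ∧
    (∀ i, ∀ x ∈ Ti i, x ⤳ t i) ∧ (⋃ i, Ti i) = Set.univ

theorem henselianLocalRing_of_isAdicComplete (R : Type*) [CommRing R] [IsLocalRing R]
    [IsAdicComplete (IsLocalRing.maximalIdeal R) R] : HenselianLocalRing R where
  is_henselian := by
    intro f hf a₀ h₁ h₂
    exact HenselianRing.is_henselian (I := IsLocalRing.maximalIdeal R) f hf a₀ h₁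
      (h₂.map (Ideal.Quotient.mk (IsLocalRing.maximalIdeal R)))

theorem hasLocalCover_primeSpectrum (A : Type u) [CommRing A] [HenselianLocalRing A]
    (B : Type u) [CommRing B] [Algebra A B] [Module.Finite A B] :
    HasLocalCover (PrimeSpectrum B) := by
  classical
  obtain ⟨hfin, e, he, hen, -⟩ :=
    Groth.Agent.Helper1.exists_completeOrthogonalIdempotents_forall_isLocalRing A B
  have hfin' : Finite (MaximalSpectrum B) := Finite.of_fintype _
  obtain ⟨n, ⟨eqv⟩⟩ := Finite.exists_equiv_fin (MaximalSpectrum B)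
  refine ⟨Fin n, inferInstance,
    fun i => (PrimeSpectrum.basicOpen (e (eqv.symm i)) : Set (PrimeSpectrum B)),
    fun i => ⟨(eqv.symm i).asIdeal, (eqv.symm i).isMaximal.isPrime⟩, ?_, ?_, ?_, ?_⟩
  · intro i
    refine PrimeSpectrum.isClopen_basicOpen_of_mul_add (e (eqv.symm i)) (1 - e (eqv.symm i)) ?_
      (by ring)
    have := (he.idem (eqv.symm i)).eq
    rw [mul_sub, mul_one, this, sub_self]
  · intro i
    rw [PrimeSpectrum.isClosed_singleton_iff_isMaximal]
    exact (eqv.symm i).isMaximal
  · intro i x hx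
    set m := eqv.symm i with hm
    have hx' : e m ∉ x.asIdeal := hx
    rw [← PrimeSpectrum.le_iff_specializes]
    show x.asIdeal ≤ m.asIdeal
    obtain ⟨M, hM, hxM⟩ := Ideal.exists_le_maximal x.asIdeal x.2.ne_top
    have h1 : 1 - e m ∈ x.asIdeal := by
      have h0 : e m * (1 - e m) ∈ x.asIdeal := by
        have := (he.idem m).eq
        rw [mul_sub, mul_one, this, sub_self]
        exact x.asIdeal.zero_mem
      exact (x.2.mem_or_mem h0).resolve_left hx'
    have h2 : e m ∉ M := by
      intro h
      have : (1 : B) ∈ M := by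
        have := M.add_mem (hxM h1) h
        simpa using this
      exact hM.ne_top ((Ideal.eq_top_iff_one _).2 this)
    let m' : MaximalSpectrum B := ⟨M, hM⟩
    have hmm : m' = m := by
      by_contra hne
      have h0 : e m * e m' ∈ M := by
        rw [he.ortho (Ne.symm hne)]
        exact M.zero_mem
      rcases hM.isPrime.mem_or_mem h0 with h | h
      · exact h2 h
      · exact hen m' h
    rw [← hmm]
    exact hxM
  · rw [Set.eq_univ_iff_forall]
    intro x
    by_contra hx
    rw [Set.mem_iUnion, not_exists] at hx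
    have hall : ∀ m : MaximalSpectrum B, e m ∈ x.asIdeal := by
      intro m
      have := hx (eqv m)
      rw [Equiv.symm_apply_apply] at this
      by_contra h
      exact this h
    have h1 : (1 : B) ∈ x.asIdeal := by
      rw [← he.complete]
      exact Ideal.sum_mem _ fun m _ => hall m
    exact x.2.ne_top ((Ideal.eq_top_iff_one _).2 h1)

theorem HasLocalCover.of_homeomorph {T T' : Type*} [TopologicalSpace T] [TopologicalSpace T']
    (φ : T ≃ₜ T') (h : HasLocalCover T') : HasLocalCover T := by
  obtain ⟨ι, hι, Ti, t, h1, h2, h3, h4⟩ := h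
  refine ⟨ι, hι, fun i => φ ⁻¹' Ti i, fun i => φ.symm (t i), ?_, ?_, ?_, ?_⟩
  · intro i
    exact (h1 i).preimage φ.continuous
  · intro i
    have := (h2 i).preimage φ.continuous
    convert this using 1
    ext x
    simp only [Set.mem_singleton_iff, Set.mem_preimage]
    constructor
    · rintro rfl
      simp
    · intro hx
      rw [← hx]
      simp
  · intro i x hx
    have := h3 i (φ x) hx
    rw [← φ.isInducing.specializes_iff]
    simpa using this
  · rw [← Set.preimage_iUnion, h4, Set.preimage_univ]

/-- descent of clopen subsets along a closed map to a space with a local cover, provided the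
fibres over the centres are preconnected -/
theorem exists_isClopen_preimage {P T : Type*} [TopologicalSpace P] [TopologicalSpace T]
    (q : P → T) (hq : IsClosedMap q) (hT : HasLocalCover T)
    (hfib : ∀ t : T, IsClosed ({t} : Set T) → IsPreconnected (q ⁻¹' {t}))
    (Z : Set P) (hZ : IsClopen Z) :
    ∃ W : Set T, IsClopen W ∧ q ⁻¹' W = Z := by
  classical
  obtain ⟨ι, hι, Ti, t, h1, h2, h3, h4⟩ := hT
  have key : ∀ i, (Z ∩ q ⁻¹' Ti i).Nonempty → q ⁻¹' Ti i ⊆ Z := by
    intro i hne y hy
    by_contra hyZ
    have hcl : ∀ Z' : Set P, IsClosed Z' → (Z' ∩ q ⁻¹' Ti i).Nonempty → ∃ y' ∈ Z', q y' = t i := by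
      intro Z' hZ' hne'
      obtain ⟨z, hz1, hz2⟩ := hne'
      have hc : IsClosed (q '' Z') := hq _ hZ'
      have hmem : q z ∈ q '' Z' := ⟨z, hz1, rfl⟩
      have := (h3 i (q z) hz2).mem_closed hc hmem
      obtain ⟨y', hy', hqy'⟩ := this
      exact ⟨y', hy', hqy'⟩
    obtain ⟨z', hz'Z, hz't⟩ := hcl Z hZ.isClosed hne
    obtain ⟨y', hy'Z, hy't⟩ := hcl Zᶜ hZ.compl.isClosed ⟨y, hyZ, hy⟩
    have hsub : q ⁻¹' {t i} ⊆ Z :=
      (hfib (t i) (h2 i)).subset_isClopen hZ ⟨z', hz't, hz'Z⟩
    exact hy'Z (hsub hy't)
  haveI : Finite ι := hι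
  refine ⟨⋃ i ∈ {i | (Z ∩ q ⁻¹' Ti i).Nonempty}, Ti i, ?_, ?_⟩
  · constructor
    · exact Set.Finite.isClosed_biUnion (Set.toFinite _) fun i _ => (h1 i).isClosed
    · exact isOpen_biUnion fun i _ => (h1 i).isOpen
  · ext x
    simp only [Set.mem_preimage, Set.mem_iUnion, Set.mem_ofPred_eq, exists_prop]
    constructor
    · rintro ⟨i, hne, hx⟩
      exact key i hne hx
    · intro hx
      have : q x ∈ ⋃ i, Ti i := by
        rw [h4]
        trivial
      obtain ⟨i, hi⟩ := Set.mem_iUnion.1 this
      exact ⟨i, ⟨x, hx, hi⟩, hi⟩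

/-- a locally constant function which takes a given value at all closed points of a space with a
local cover takes this value everywhere -/
theorem eq_of_isLocallyConstant {T α : Type*} [TopologicalSpace T] (hT : HasLocalCover T)
    (d : T → α) (hd : IsLocallyConstant d) (a : α)
    (h : ∀ t : T, IsClosed ({t} : Set T) → d t = a) (x : T) : d x = a := by
  obtain ⟨ι, hι, Ti, t, h1, h2, h3, h4⟩ := hT
  have : x ∈ ⋃ i, Ti i := by
    rw [h4]
    trivial
  obtain ⟨i, hi⟩ := Set.mem_iUnion.1 this
  have hsp := h3 i x hi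
  have hopen : IsOpen (d ⁻¹' {d (t i)}) := hd.isOpen_fiber _
  have hx : x ∈ d ⁻¹' {d (t i)} := hsp.mem_open hopen rfl
  rw [Set.mem_preimage, Set.mem_singleton_iff] at hx
  rw [hx]
  exact h (t i) (h2 i)

end Groth.Agent.Helper23.HensTop
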