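import Groth.Agent.Lib.Helper23.HensTop
import Mathlib.AlgebraicGeometry.Morphisms.Finite
import Mathlib.AlgebraicGeometry.AlgClosed.Basic
import Mathlib.AlgebraicGeometry.PullbackCarrier

/-!
# Finite schemes over a henselian local ring, and fibres over closed points (helper23)
-/

set_option autoImplicit false
set_option linter.style.haveILetI false

open CategoryTheory CategoryTheory.Limits AlgebraicGeometry

universe u

namespace Groth.Agent.Helper23.HensTop

theorem hasLocalCover_of_isFinite (A : Type u) [CommRing A] [HenselianLocalRing A]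
    {T : Scheme.{u}} (g : T ⟶ Spec (CommRingCat.of A)) [IsFinite g] : HasLocalCover ↥T := by
  haveI : IsAffine T := isAffine_of_isAffineHom g
  have hfin : (g.appTop).hom.Finite :=
    ((HasAffineProperty.iff_of_isAffine (P := @IsFinite)).1 ‹IsFinite g›).2
  let φ : CommRingCat.of A ⟶ Γ(T, ⊤) := (Scheme.ΓSpecIso (CommRingCat.of A)).inv ≫ g.appTop
  have hφ : φ.hom.Finite := by
    have h1 : ((Scheme.ΓSpecIso (CommRingCat.of A)).inv).hom.Finite :=
      RingHom.Finite.of_surjective _
        (ConcreteCategory.bijective_of_isIso (Scheme.ΓSpecIso (CommRingCat.of A)).inv).2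
    exact hfin.comp h1
  algebraize [φ.hom]
  have h := hasLocalCover_primeSpectrum A Γ(T, ⊤)
  exact HasLocalCover.of_homeomorph (Scheme.homeoOfIso T.isoSpec) h

theorem map_closed_eq_closedPoint (A : Type u) [CommRing A] [IsLocalRing A]
    {T : Scheme.{u}} (g : T ⟶ Spec (CommRingCat.of A)) [IsFinite g] (t : T)
    (ht : IsClosed ({t} : Set T)) : g.base t = IsLocalRing.closedPoint A := by
  have h1 : IsClosed (g.base '' {t}) := g.isClosedMap _ ht
  rw [Set.image_singleton] at h1
  have h2 : (g.base t : PrimeSpectrum A).asIdeal.IsMaximal :=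
    (PrimeSpectrum.isClosed_singleton_iff_isMaximal _).1 h1
  apply PrimeSpectrum.ext
  exact IsLocalRing.eq_maximalIdeal h2

theorem closedPoint_mem_range (A : Type u) [CommRing A] [IsLocalRing A] {Ω : Type u} [Field Ω]
    (φ : A →+* Ω) [IsLocalHom φ] :
    IsLocalRing.closedPoint A ∈ Set.range (Spec.map (CommRingCat.ofHom φ)).base := by
  refine ⟨IsLocalRing.closedPoint Ω, ?_⟩
  exact IsLocalRing.comap_closedPoint φ

/-- the fibre of a base change of `f` over a closed point lying over the image of a geometric
point `ξ` is connected as soon as `X ×_S ξ` is -/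
theorem isConnected_fiber_of_closedPoint {X S T : Scheme.{u}} (f : X ⟶ S) (g : T ⟶ S) [IsFinite g]
    {Ω : Type u} [Field Ω] [IsAlgClosed Ω] (ξ : Spec (CommRingCat.of Ω) ⟶ S)
    [ConnectedSpace ↥(pullback f ξ)] (t : T) (ht : IsClosed ({t} : Set T))
    (hts : g.base t ∈ Set.range ξ.base) :
    _root_.IsConnected ((pullback.fst g f).base ⁻¹' {t}) := by
  obtain ⟨pt, hpt⟩ := hts
  haveI : CompactSpace ↥(pullback g ξ) :=
    QuasiCompact.compactSpace_of_compactSpace (pullback.snd g ξ)
  have hF : IsClosed ((pullback.fst g ξ).base ⁻¹' {t}) := ht.preimage (pullback.fst g ξ).continuous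
  have hne : ((pullback.fst g ξ).base ⁻¹' {t}).Nonempty := by
    obtain ⟨z, hz1, -⟩ := Scheme.Pullback.exists_preimage_pullback (f := g) (g := ξ) t pt hpt.symm
    exact ⟨z, hz1⟩
  obtain ⟨τ, hτF, hτ⟩ := hF.exists_closed_singleton hne
  let σ : Spec (CommRingCat.of Ω) ⟶ pullback g ξ := pointOfClosedPoint (pullback.snd g ξ) τ hτ
  have hσ : σ ≫ pullback.snd g ξ = 𝟙 _ := pointOfClosedPoint_comp _ _ _
  let τt : Spec (CommRingCat.of Ω) ⟶ T := σ ≫ pullback.fst g ξ
  have hτt : τt ≫ g = ξ := by
    simp only [τt, Category.assoc, pullback.condition]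
    rw [← Category.assoc, hσ, Category.id_comp]
  have hrange : Set.range τt.base = {t} := by
    ext y
    constructor
    · rintro ⟨z, rfl⟩
      simp only [τt, Scheme.Hom.comp_base, TopCat.hom_comp, ContinuousMap.comp_apply,
        Set.mem_singleton_iff]
      have : σ.base z = τ := pointOfClosedPoint_apply _ _ _ z
      rw [this]
      exact hτF
    · rintro rfl
      refine ⟨pt, ?_⟩
      simp only [τt, Scheme.Hom.comp_base, TopCat.hom_comp, ContinuousMap.comp_apply]
      have : σ.base pt = τ := pointOfClosedPoint_apply _ _ _ pt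
      rw [this]
      exact hτF
  let e : pullback τt (pullback.fst g f) ≅ pullback f ξ :=
    pullbackRightPullbackFstIso g f τt ≪≫ pullback.congrHom hτt rfl ≪≫ pullbackSymmetry _ _
  haveI : ConnectedSpace ↥(pullback τt (pullback.fst g f)) :=
    (Scheme.homeoOfIso e.symm).surjective.connectedSpace (Scheme.homeoOfIso e.symm).continuous
  have h2 : Set.range (pullback.snd τt (pullback.fst g f)).base =
      (pullback.fst g f).base ⁻¹' {t} := by
    rw [← hrange]
    exact Scheme.Pullback.range_snd τt (pullback.fst g f)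
  rw [← h2]
  exact isConnected_range (pullback.snd τt (pullback.fst g f)).continuous

end Groth.Agent.Helper23.HensTop
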