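import Mathlib

set_option autoImplicit false
set_option linter.unusedSectionVars false
set_option linter.unusedVariables false
universe u
open Polynomial

namespace Groth.Agent.Helper23.HermHyp

variable {k : Type u} [Field k] {n : ℕ}

/-- the linear form evaluated on a vector of polynomials -/
noncomputable def Lval (c : Fin (n + 1) ⊕ Fin (n + 1) → k) (x : Fin (n + 1) ⊕ Fin (n + 1) → k[X]) : k[X] :=
  ∑ v, C (c v) * x v

/-- the Hermitian-type form evaluated on a vector of polynomials -/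
noncomputable def Fval (q : ℕ) (x : Fin (n + 1) ⊕ Fin (n + 1) → k[X]) : k[X] :=
  ∑ i : Fin (n + 1), (x (Sum.inl i) * x (Sum.inr i) ^ q - x (Sum.inr i) * x (Sum.inl i) ^ q)

/-- the singular point -/
def Pt (c : Fin (n + 1) ⊕ Fin (n + 1) → k) : Fin (n + 1) ⊕ Fin (n + 1) → k :=
  Sum.elim (fun i => - c (Sum.inr i)) (fun i => c (Sum.inl i))

theorem Lval_split (c : Fin (n + 1) ⊕ Fin (n + 1) → k) (x : Fin (n + 1) ⊕ Fin (n + 1) → k[X]) :
    Lval c x = ∑ i : Fin (n + 1), (C (c (Sum.inl i)) * x (Sum.inl i) + C (c (Sum.inr i)) * x (Sum.inr i)) := by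
  unfold Lval
  rw [Fintype.sum_sum_type, Finset.sum_add_distrib]

theorem Lval_add (c : Fin (n + 1) ⊕ Fin (n + 1) → k) (x y : Fin (n + 1) ⊕ Fin (n + 1) → k[X]) :
    Lval c (x + y) = Lval c x + Lval c y := by
  unfold Lval
  rw [← Finset.sum_add_distrib]
  apply Finset.sum_congr rfl
  intro v _
  simp only [Pi.add_apply]; ring

theorem Lval_smul (c : Fin (n + 1) ⊕ Fin (n + 1) → k) (a : k[X]) (x : Fin (n + 1) ⊕ Fin (n + 1) → k[X]) :
    Lval c (fun v => a * x v) = a * Lval c x := by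
  unfold Lval
  rw [Finset.mul_sum]
  apply Finset.sum_congr rfl
  intro v _
  ring

theorem Lval_Pt (c : Fin (n + 1) ⊕ Fin (n + 1) → k) : Lval c (fun v => C (Pt c v)) = 0 := by
  rw [Lval_split]
  apply Finset.sum_eq_zero
  intro i _
  simp only [Pt, Sum.elim_inl, Sum.elim_inr, map_neg]
  ring

variable (p m : ℕ) [hp : Fact p.Prime] [CharP k p]

theorem C_pow_q [Fintype k] (hq : Fintype.card k = p ^ m) (a : k) : (C a : k[X]) ^ (p ^ m) = C a := by
  rw [← C_pow, ← hq, FiniteField.pow_card]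

theorem Lval_pow [Fintype k] (hq : Fintype.card k = p ^ m) (c : Fin (n + 1) ⊕ Fin (n + 1) → k)
    (x : Fin (n + 1) ⊕ Fin (n + 1) → k[X]) :
    (Lval c x) ^ (p ^ m) = Lval c (fun v => x v ^ (p ^ m)) := by
  unfold Lval
  rw [sum_pow_char_pow]
  apply Finset.sum_congr rfl
  intro v _
  rw [mul_pow, C_pow_q p m hq]

theorem hermitian_identity [Fintype k] (hq : Fintype.card k = p ^ m) (c : Fin (n + 1) ⊕ Fin (n + 1) → k)
    (y : Fin (n + 1) ⊕ Fin (n + 1) → k[X]) :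
    Fval (p ^ m) (fun v => C (Pt c v) + y v) = Lval c y - (Lval c y) ^ (p ^ m) + Fval (p ^ m) y := by
  rw [Lval_pow p m hq, Lval_split, Lval_split]
  unfold Fval
  rw [← Finset.sum_sub_distrib, ← Finset.sum_add_distrib]
  apply Finset.sum_congr rfl
  intro i _
  simp only [add_pow_char_pow, C_pow_q p m hq, Pt, Sum.elim_inl, Sum.elim_inr]
  simp only [map_neg]
  ring

theorem dvd_pow_sub [Fintype k] (hq : Fintype.card k = p ^ m) (hm : p ^ m ≠ 0) (a : k) (g : k[X])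
    (h : X ∣ g - C a) : X ∣ g ^ (p ^ m) - C a := by
  rw [← C_pow_q p m hq a, ← sub_pow_char_pow]
  exact dvd_pow h hm

theorem perturb [Fintype k] (hq : Fintype.card k = p ^ m) (c : Fin (n + 1) ⊕ Fin (n + 1) → k)
    (N : ℕ) (hN : N + 1 ≤ N * p ^ m) (γ r : Fin (n + 1) ⊕ Fin (n + 1) → k[X])
    (hγ : ∀ v, X ∣ γ v - C (Pt c v)) :
    X ^ (N + 1) ∣ Fval (p ^ m) (fun v => γ v + X ^ N * r v) - Fval (p ^ m) γ - X ^ N * Lval c r := by
  have hm : p ^ m ≠ 0 := pow_ne_zero _ hp.out.ne_zero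
  rw [Lval_split]
  unfold Fval
  rw [Finset.mul_sum, ← Finset.sum_sub_distrib, ← Finset.sum_sub_distrib]
  apply Finset.dvd_sum
  intro i _
  obtain ⟨sl, hsl⟩ := dvd_pow_sub p m hq hm _ _ (hγ (Sum.inl i))
  obtain ⟨sr, hsr⟩ := dvd_pow_sub p m hq hm _ _ (hγ (Sum.inr i))
  obtain ⟨d, hd⟩ := Nat.exists_eq_add_of_le hN
  have hl : γ (Sum.inl i) ^ (p ^ m) = C (- c (Sum.inr i)) + X * sl := by
    have := sub_eq_iff_eq_add'.1 hsl
    simpa [Pt] using this
  have hr : γ (Sum.inr i) ^ (p ^ m) = C (c (Sum.inl i)) + X * sr := by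
    have := sub_eq_iff_eq_add'.1 hsr
    simpa [Pt] using this
  refine ⟨r (Sum.inl i) * sr - r (Sum.inr i) * sl +
    X ^ d * ((γ (Sum.inl i) + X ^ N * r (Sum.inl i)) * r (Sum.inr i) ^ (p ^ m) -
      (γ (Sum.inr i) + X ^ N * r (Sum.inr i)) * r (Sum.inl i) ^ (p ^ m)), ?_⟩
  simp only [add_pow_char_pow, mul_pow]
  rw [← pow_mul, hd, hl, hr, map_neg]
  ring

section specific

variable (c : Fin (n + 1) ⊕ Fin (n + 1) → k) (v₀ : Fin (n + 1) ⊕ Fin (n + 1)) (j : Fin (n + 1))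

/-- the third coordinate of the curve -/
noncomputable def zz : k[X] :=
  - C ((c v₀)⁻¹) * (C (c (Sum.inl j)) * X ^ 2 + C (c (Sum.inr j)) * X)

/-- the curve direction -/
noncomputable def yy : Fin (n + 1) ⊕ Fin (n + 1) → k[X] := fun v =>
  (if v = Sum.inl j then X ^ 2 else 0) + (if v = Sum.inr j then X else 0) +
    (if v = v₀ then zz c v₀ j else 0)

theorem X_dvd_zz : X ∣ zz c v₀ j := by
  unfold zz
  refine Dvd.dvd.mul_left ?_ _
  exact dvd_add (Dvd.dvd.mul_left (dvd_pow_self X (by norm_num)) _) (Dvd.dvd.mul_left dvd_rfl _)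

theorem X_dvd_yy (v : Fin (n + 1) ⊕ Fin (n + 1)) : X ∣ yy c v₀ j v := by
  unfold yy
  refine dvd_add (dvd_add ?_ ?_) ?_
  · split_ifs
    · exact dvd_pow_self X (by norm_num)
    · exact dvd_zero _
  · split_ifs
    · exact dvd_rfl
    · exact dvd_zero _
  · split_ifs
    · exact X_dvd_zz c v₀ j
    · exact dvd_zero _

theorem Lval_yy (hc : c v₀ ≠ 0) : Lval c (yy c v₀ j) = 0 := by
  unfold Lval yy
  simp only [mul_add, mul_ite, mul_zero, Finset.sum_add_distrib, Finset.sum_ite_eq', Finset.mem_univ,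
    if_true]
  unfold zz
  have : C (c v₀) * C ((c v₀)⁻¹) = (1 : k[X]) := by
    rw [← C_mul, mul_inv_cancel₀ hc, C_1]
  linear_combination (-(C (c (Sum.inl j)) * X ^ 2 + C (c (Sum.inr j)) * X)) * this

theorem yy_swap (h1 : Sum.inl j ≠ v₀) (h2 : Sum.inr j ≠ v₀) : yy c v₀ j (Sum.swap v₀) = 0 := by
  unfold yy
  have a1 : Sum.swap v₀ ≠ Sum.inl j := by
    intro h
    apply h2
    have := congrArg Sum.swap h
    simpa using this.symm
  have a2 : Sum.swap v₀ ≠ Sum.inr j := by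
    intro h
    apply h1
    have := congrArg Sum.swap h
    simpa using this.symm
  have a3 : Sum.swap v₀ ≠ v₀ := by
    cases v₀ <;> simp
  rw [if_neg a1, if_neg a2, if_neg a3]
  ring

theorem Fval_yy (q : ℕ) (hq0 : q ≠ 0) (h1 : Sum.inl j ≠ v₀) (h2 : Sum.inr j ≠ v₀) :
    Fval q (yy c v₀ j) = X ^ (q + 2) - X ^ (2 * q + 1) := by
  unfold Fval
  rw [Finset.sum_eq_single j]
  · unfold yy
    have e1 : (Sum.inl j : Fin (n + 1) ⊕ Fin (n + 1)) ≠ Sum.inr j := by simp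
    rw [if_pos rfl, if_neg e1, if_neg h1, if_neg e1.symm, if_pos rfl, if_neg h2]
    ring
  · intro i _ hij
    unfold yy
    have e1 : (Sum.inl i : Fin (n + 1) ⊕ Fin (n + 1)) ≠ Sum.inl j := by simpa using hij
    have e2 : (Sum.inl i : Fin (n + 1) ⊕ Fin (n + 1)) ≠ Sum.inr j := by simp
    have e3 : (Sum.inr i : Fin (n + 1) ⊕ Fin (n + 1)) ≠ Sum.inl j := by simp
    have e4 : (Sum.inr i : Fin (n + 1) ⊕ Fin (n + 1)) ≠ Sum.inr j := by simpa using hij
    rw [if_neg e1, if_neg e2, if_neg e3, if_neg e4]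
    by_cases hl : Sum.inl i = v₀
    · have hr : Sum.inr i ≠ v₀ := by rw [← hl]; simp
      rw [if_neg hr]
      simp [hq0]
    · rw [if_neg hl]
      simp [hq0]
  · intro h; exact absurd (Finset.mem_univ j) h

end specific

/-- the curve through the singular point -/
noncomputable def gam (c : Fin (n + 1) ⊕ Fin (n + 1) → k) (v₀ : Fin (n + 1) ⊕ Fin (n + 1))
    (j : Fin (n + 1)) : Fin (n + 1) ⊕ Fin (n + 1) → k[X] :=
  fun v => C (Pt c v) + yy c v₀ j v

theorem Lval_gam (c : Fin (n + 1) ⊕ Fin (n + 1) → k) (v₀ : Fin (n + 1) ⊕ Fin (n + 1))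
    (j : Fin (n + 1)) (hc : c v₀ ≠ 0) : Lval c (gam c v₀ j) = 0 := by
  have : gam c v₀ j = (fun v => C (Pt c v)) + yy c v₀ j := rfl
  rw [this, Lval_add, Lval_Pt, Lval_yy c v₀ j hc, add_zero]

theorem Fval_gam [Fintype k] (hq : Fintype.card k = p ^ m) (c : Fin (n + 1) ⊕ Fin (n + 1) → k)
    (v₀ : Fin (n + 1) ⊕ Fin (n + 1)) (j : Fin (n + 1)) (hc : c v₀ ≠ 0)
    (h1 : Sum.inl j ≠ v₀) (h2 : Sum.inr j ≠ v₀) :
    Fval (p ^ m) (gam c v₀ j) = X ^ (p ^ m + 2) - X ^ (2 * p ^ m + 1) := by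
  have hm : p ^ m ≠ 0 := pow_ne_zero _ hp.out.ne_zero
  unfold gam
  rw [hermitian_identity p m hq, Lval_yy c v₀ j hc, zero_pow hm, sub_zero, zero_add,
    Fval_yy c v₀ j _ hm h1 h2]

theorem poly_contra [Fintype k] (hq : Fintype.card k = p ^ m) (hq2 : 2 ≤ p ^ m)
    (c : Fin (n + 1) ⊕ Fin (n + 1) → k)
    (v₀ : Fin (n + 1) ⊕ Fin (n + 1)) (j : Fin (n + 1)) (hc : c v₀ ≠ 0)
    (h1 : Sum.inl j ≠ v₀) (h2 : Sum.inr j ≠ v₀)
    (P' : Fin (n + 1) ⊕ Fin (n + 1) → k[X])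
    (hP' : ∀ v, X ^ (p ^ m + 2) ∣ P' v - gam c v₀ j v)
    (hL : X ^ (p ^ m + 2 + 1) ∣ Lval c P') (hF : X ^ (p ^ m + 2 + 1) ∣ Fval (p ^ m) P') : False := by
  set q := p ^ m with hq_def
  choose r hr using hP'
  have hP'eq : P' = fun v => gam c v₀ j v + X ^ (q + 2) * r v := by
    funext v
    have := hr v
    linear_combination this
  have hX0 : (X : k[X]) ^ (q + 2) ≠ 0 := pow_ne_zero _ X_ne_zero
  -- the linear form
  have hL' : X ∣ Lval c r := by
    have e : Lval c P' = X ^ (q + 2) * Lval c r := by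
      rw [hP'eq]
      have : (fun v => gam c v₀ j v + X ^ (q + 2) * r v) =
          gam c v₀ j + (fun v => X ^ (q + 2) * r v) := rfl
      rw [this, Lval_add, Lval_gam c v₀ j hc, zero_add, Lval_smul]
    rw [e, pow_succ] at hL
    exact (mul_dvd_mul_iff_left hX0).1 hL
  -- the Hermitian form
  have hpert := perturb p m hq c (q + 2) (by nlinarith) (gam c v₀ j) r (by
    intro v
    unfold gam
    rw [add_sub_cancel_left]
    exact X_dvd_yy c v₀ j v)
  rw [← hP'eq, Fval_gam p m hq c v₀ j hc h1 h2] at hpert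
  have h3 : X ^ (q + 2 + 1) ∣ X ^ (q + 2) * (1 - X ^ (q - 1) + Lval c r) := by
    have e : X ^ (q + 2) * (1 - X ^ (q - 1) + Lval c r) =
        Fval q P' - (Fval q P' - (X ^ (q + 2) - X ^ (2 * q + 1)) - X ^ (q + 2) * Lval c r) := by
      have : 2 * q + 1 = (q + 2) + (q - 1) := by omega
      rw [this, pow_add]
      ring
    rw [e]
    exact dvd_sub hF hpert
  rw [pow_succ] at h3
  have h4 : X ∣ 1 - X ^ (q - 1) + Lval c r := (mul_dvd_mul_iff_left hX0).1 h3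
  have h5 : (X : k[X]) ∣ 1 := by
    have : (1 : k[X]) = (1 - X ^ (q - 1) + Lval c r) + X ^ (q - 1) - Lval c r := by ring
    rw [this]
    exact dvd_sub (dvd_add h4 (dvd_pow_self X (by omega))) hL'
  exact not_isUnit_X (isUnit_of_dvd_one h5)

end Groth.Agent.Helper23.HermHyp
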