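import Mathlib
import Groth.Prelude
import Groth.Agent.Lib.Helper23.FEtFull

/-!
# Descent of sections along universal homeomorphisms; purely inseparable field extensions (helper23)
-/

set_option autoImplicit false
universe u
open AlgebraicGeometry CategoryTheory CategoryTheory.Limits

namespace Groth.Agent.Helper23.HomSeq

/-- `Spec F ⟶ Spec E` is universally injective for a purely inseparable field extension. -/
theorem universallyInjective_of_purelyInseparable (E F : Type u) [Field E] [Field F] [Algebra E F]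
    [IsPurelyInseparable E F] :
    UniversallyInjective (Spec.map (CommRingCat.ofHom (algebraMap E F))) := by
  refine ((tfae_universallyInjective (Spec.map (CommRingCat.ofHom (algebraMap E F)))).out 1 0).mp ?_
  intro L _ g₁ g₂ h
  obtain ⟨ψ₁, rfl⟩ := Spec.map_surjective g₁
  obtain ⟨ψ₂, rfl⟩ := Spec.map_surjective g₂
  dsimp only at h
  rw [← Spec.map_comp, ← Spec.map_comp] at h
  have h' := Spec.map_injective h
  have h2 : ψ₁.hom.comp (algebraMap E F) = ψ₂.hom.comp (algebraMap E F) := by
    have := congrArg CommRingCat.Hom.hom h'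
    simpa using this
  have := IsPurelyInseparable.injective_comp_algebraMap E F L h2
  congr 1
  exact CommRingCat.hom_ext this

theorem surjective_spec_field (E F : Type u) [Field E] [Field F] [Algebra E F] :
    Surjective (Spec.map (CommRingCat.ofHom (algebraMap E F))) := by
  constructor
  intro x
  have : Subsingleton ↥(Spec (CommRingCat.of E)) :=
    inferInstanceAs (Subsingleton (PrimeSpectrum E))
  exact ⟨(⊥ : PrimeSpectrum F), Subsingleton.elim _ _⟩

theorem isIntegralHom_spec_field (E F : Type u) [Field E] [Field F] [Algebra E F]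
    [Algebra.IsAlgebraic E F] :
    IsIntegralHom (Spec.map (CommRingCat.ofHom (algebraMap E F))) := by
  rw [IsIntegralHom.SpecMap_iff]
  exact fun x => (Algebra.IsAlgebraic.isAlgebraic x).isIntegral

/-- Sections descend along universal homeomorphisms. -/
theorem exists_section_descent {X' Y' X U : Scheme.{u}} (ρ : X' ⟶ Y') [IsIntegralHom ρ]
    [UniversallyInjective ρ] [Surjective ρ] (u : U ⟶ X) [IsFinite u] [Etale u] (y : Y' ⟶ X)
    (σ : X' ⟶ U) (hσ : σ ≫ u = ρ ≫ y) :
    ∃ τ : Y' ⟶ U, τ ≫ u = y ∧ ρ ≫ τ = σ := by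
  let b : pullback u y ⟶ Y' := pullback.snd u y
  haveI : IsFinite b := MorphismProperty.pullback_snd (P := @IsFinite) _ _ inferInstance
  haveI : Etale b := MorphismProperty.pullback_snd (P := @Etale) _ _ inferInstance
  let φ : pullback (𝟙 Y') ρ ⟶ pullback b ρ :=
    pullback.lift (pullback.snd _ _ ≫ pullback.lift σ ρ hσ) (pullback.snd _ _)
      (by rw [Category.assoc]; erw [pullback.lift_snd])
  have hφ : φ ≫ pullback.snd b ρ = pullback.snd (𝟙 Y') ρ := pullback.lift_snd _ _ _
  obtain ⟨ψ, hψ1, hψ2⟩ := Groth.Agent.Helper23.FEtFull.exists_descent ρ (𝟙 Y') b φ hφ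
  refine ⟨ψ ≫ pullback.fst u y, ?_, ?_⟩
  · rw [Category.assoc, pullback.condition, ← Category.assoc]
    show (ψ ≫ b) ≫ y = y
    rw [hψ1, Category.id_comp]
  · have h1 : pullback.lift ρ (𝟙 X') (by simp) ≫ pullback.fst (𝟙 Y') ρ = ρ :=
      pullback.lift_fst _ _ _
    have h2 : ρ ≫ ψ = pullback.lift σ ρ hσ := by
      calc ρ ≫ ψ = (pullback.lift ρ (𝟙 X') (by simp) ≫ pullback.fst (𝟙 Y') ρ) ≫ ψ := by rw [h1]
        _ = pullback.lift ρ (𝟙 X') (by simp) ≫ φ ≫ pullback.fst b ρ := by
          rw [Category.assoc, hψ2]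
        _ = pullback.lift σ ρ hσ := by
          rw [pullback.lift_fst, ← Category.assoc, pullback.lift_snd, Category.id_comp]
    rw [← Category.assoc, h2, pullback.lift_fst]

end Groth.Agent.Helper23.HomSeq
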