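import Mathlib
import Groth.Prelude
import Groth.Agent.Lib.Helper14.FieldLim

/-!
# Sections over `X ×_k A` descend to a finite stage; stages of separable extensions (helper23)
-/

set_option autoImplicit false
universe u
open AlgebraicGeometry CategoryTheory CategoryTheory.Limits Opposite

namespace Groth.Agent.Helper23.HomSeq

open Groth.Agent.Helper4.LimSubalgK Groth.Agent.Helper14.FieldLim

variable {k : Type u} [Field k] (A : Type u) [Field A] [Algebra k A]
  {X : Scheme.{u}} (f : X ⟶ Spec (CommRingCat.of k))

/-- the structure transformation to `X` -/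
noncomputable def tX : E A f ⟶ (Functor.const (J k A)ᵒᵖ).obj X where
  app S := pullback.fst f (sm k A S)
  naturality S T g := by
    simp only [Functor.const_obj_obj, Functor.const_obj_map, Category.comp_id]
    exact E_map_fst A f g

set_option backward.isDefEq.respectTransparency false in
theorem exists_stage [CompactSpace X] [QuasiSeparatedSpace X] {U : Scheme.{u}} (u : U ⟶ X)
    [LocallyOfFinitePresentation u]
    (τ : pullback f (Spec.map (CommRingCat.ofHom (algebraMap k A))) ⟶ U)
    (hτ : τ ≫ u = pullback.fst f (Spec.map (CommRingCat.ofHom (algebraMap k A)))) :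
    ∃ (S : (J k A)ᵒᵖ) (g : pullback f (sm k A S) ⟶ U),
      g ≫ u = pullback.fst f (sm k A S) ∧ (cE A f).π.app S ≫ g = τ := by
  haveI : ∀ S, CompactSpace ((E A f).obj S) := fun S => E_compactSpace A f S
  haveI : ∀ S, QuasiSeparatedSpace ((E A f).obj S) := fun S => E_quasiSeparatedSpace A f S
  have ha : (cE A f).π ≫ tX A f = (Functor.const _).map (τ ≫ u) := by
    ext S : 2
    simp only [NatTrans.comp_app, Functor.const_map_app, tX]
    rw [hτ]
    exact cE_π_fst A f S
  obtain ⟨S, g, hg1, hg2⟩ := Scheme.exists_π_app_comp_eq_of_locallyOfFinitePresentation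
    (E A f) (tX A f) u (cE A f) (isLimitCE A f) τ ha
  exact ⟨S, g, hg2, hg1⟩

/-- moving a stage map to a smaller stage -/
theorem stage_map {U : Scheme.{u}} (u : U ⟶ X) {S T : (J k A)ᵒᵖ} (φ : T ⟶ S)
    (g : pullback f (sm k A S) ⟶ U) (hg : g ≫ u = pullback.fst f (sm k A S)) :
    ((E A f).map φ ≫ g) ≫ u = pullback.fst f (sm k A T) ∧
      (cE A f).π.app T ≫ ((E A f).map φ ≫ g) = (cE A f).π.app S ≫ g := by
  constructor
  · exact (Category.assoc _ _ _).trans
      ((congrArg (fun z => (E A f).map φ ≫ z) hg).trans (E_map_fst A f φ))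
  · exact (Category.assoc _ _ _).symm.trans (congrArg (fun z => z ≫ g) ((cE A f).w φ))

/-- a finitely generated subalgebra of a separable algebraic extension is finite étale -/
theorem prop_sm [Algebra.IsSeparable k A] (S : (J k A)ᵒᵖ) : FEt.prop (sm k A S) := by
  have hS : S.unop.1.FG := S.unop.2
  haveI : Algebra.IsAlgebraic k A := inferInstance
  letI : Field S.unop.1 := (Subalgebra.isField_of_algebraic S.unop.1).toField
  haveI : Algebra.FiniteType k S.unop.1 := (Subalgebra.fg_iff_finiteType S.unop.1).mp hS
  haveI : Algebra.IsSeparable k S.unop.1 :=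
    Algebra.isSeparable_tower_bot_of_isSeparable k S.unop.1 A
  haveI : Algebra.IsIntegral k S.unop.1 := inferInstance
  haveI : Module.Finite k S.unop.1 := Algebra.IsIntegral.finite
  haveI : Algebra.FormallyEtale k S.unop.1 := Algebra.FormallyEtale.of_isSeparable k S.unop.1
  haveI : Algebra.FinitePresentation k S.unop.1 := Algebra.FinitePresentation.of_finiteType.mp inferInstance
  haveI : Algebra.Etale k S.unop.1 := ⟨inferInstance, inferInstance⟩
  rw [sm_eq]
  refine ⟨?_, ?_⟩
  · refine (IsFinite.SpecMap_iff (CommRingCat.ofHom (algebraMap k S.unop.1))).mpr ?_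
    exact (RingHom.finite_algebraMap).mpr inferInstance
  · refine (HasRingHomProperty.Spec_iff (P := @Etale)
      (φ := CommRingCat.ofHom (algebraMap k S.unop.1))).mpr ?_
    exact (RingHom.etale_algebraMap).mpr inferInstance

end Groth.Agent.Helper23.HomSeq
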