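import Mathlib
import Groth.Prelude
import Groth.Agent.Lib.Helper4.LimBC
import Groth.Agent.Lib.Helper23.HomSeq1
import Groth.Agent.Lib.Helper23.HomSeq2

/-!
# Sections over `X ×_k K` (K/k algebraic) of a finite étale cover descend to a finite separable
stage (helper23)
-/

set_option autoImplicit false
universe u
open AlgebraicGeometry CategoryTheory CategoryTheory.Limits Opposite

namespace Groth.Agent.Helper23.HomSeq

open Groth.Agent.Helper4.LimSubalgK Groth.Agent.Helper14.FieldLim

variable {k : Type u} [Field k] (K : Type u) [Field K] [Algebra k K] [Algebra.IsAlgebraic k K]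
  {X : Scheme.{u}} (f : X ⟶ Spec (CommRingCat.of k))

/-- the separable closure of `k` in `K` -/
abbrev Ks : Type u := ↥(separableClosure k K)

/-- `Spec K ⟶ Spec Ks` -/
noncomputable abbrev sK : Spec (CommRingCat.of K) ⟶ Spec (CommRingCat.of (Ks (k := k) K)) :=
  Spec.map (CommRingCat.ofHom (algebraMap (Ks (k := k) K) K))

omit [Algebra.IsAlgebraic k K] in
theorem sK_comp : sK (k := k) K ≫ Spec.map (CommRingCat.ofHom (algebraMap k (Ks (k := k) K))) =
    Spec.map (CommRingCat.ofHom (algebraMap k K)) := by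
  rw [← Spec.map_comp]
  congr 1

/-- the projection `X_K ⟶ X_{Ks}` -/
noncomputable def ρ : pullback f (Spec.map (CommRingCat.ofHom (algebraMap k K))) ⟶
    pullback f (Spec.map (CommRingCat.ofHom (algebraMap k (Ks (k := k) K)))) :=
  pullback.map f (Spec.map (CommRingCat.ofHom (algebraMap k K))) f
    (Spec.map (CommRingCat.ofHom (algebraMap k (Ks (k := k) K)))) (𝟙 X) (sK K) (𝟙 _) (by simp)
    (by rw [Category.comp_id, sK_comp])

theorem ρ_fst : ρ K f ≫ pullback.fst f _ = pullback.fst f _ := by
  unfold ρ pullback.map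
  rw [pullback.lift_fst, Category.comp_id]

theorem isPullback_ρ : IsPullback (ρ K f) (pullback.snd f _) (pullback.snd f _) (sK (k := k) K) :=
  Groth.Agent.Helper4.LimBC.isPullback_map f _ _ (sK K) (sK_comp K)

instance : IsIntegralHom (ρ K f) :=
  MorphismProperty.of_isPullback (P := @IsIntegralHom) (isPullback_ρ K f).flip
    (isIntegralHom_spec_field _ _)

instance : UniversallyInjective (ρ K f) :=
  MorphismProperty.of_isPullback (P := @UniversallyInjective) (isPullback_ρ K f).flip
    (universallyInjective_of_purelyInseparable _ _)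

instance : Surjective (ρ K f) :=
  MorphismProperty.of_isPullback (P := @Surjective) (isPullback_ρ K f).flip
    (surjective_spec_field _ _)

/-- Lemma L: a section over `X_K` descends to a finite separable stage. -/
theorem exists_stage_of_section [CompactSpace X] [QuasiSeparatedSpace X] {U : Scheme.{u}}
    (u : U ⟶ X) [IsFinite u] [Etale u]
    (σ : pullback f (Spec.map (CommRingCat.ofHom (algebraMap k K))) ⟶ U)
    (hσ : σ ≫ u = pullback.fst f _) :
    ∃ (S : (J k (Ks (k := k) K))ᵒᵖ) (g : pullback f (sm k (Ks (k := k) K) S) ⟶ U),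
      g ≫ u = pullback.fst f (sm k (Ks (k := k) K) S) ∧
      (ρ K f ≫ (cE (Ks (k := k) K) f).π.app S) ≫ g = σ := by
  obtain ⟨τ, hτ1, hτ2⟩ := exists_section_descent (ρ K f) u (pullback.fst f _) σ
    (by rw [hσ, ρ_fst])
  obtain ⟨S, g, hg1, hg2⟩ := exists_stage (Ks (k := k) K) f u τ hτ1
  exact ⟨S, g, hg1, (Category.assoc _ _ _).trans
    ((congrArg (fun z => ρ K f ≫ z) hg2).trans hτ2)⟩

/-- finite family version -/
theorem exists_stage_of_sections [CompactSpace X] [QuasiSeparatedSpace X] {U : Scheme.{u}}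
    (u : U ⟶ X) [IsFinite u] [Etale u] {ι : Type*} [Finite ι]
    (σ : ι → (pullback f (Spec.map (CommRingCat.ofHom (algebraMap k K))) ⟶ U))
    (hσ : ∀ i, σ i ≫ u = pullback.fst f _) :
    ∃ (S : (J k (Ks (k := k) K))ᵒᵖ) (g : ι → (pullback f (sm k (Ks (k := k) K) S) ⟶ U)),
      (∀ i, g i ≫ u = pullback.fst f (sm k (Ks (k := k) K) S)) ∧
      ∀ i, (ρ K f ≫ (cE (Ks (k := k) K) f).π.app S) ≫ g i = σ i := by
  classical
  haveI := Fintype.ofFinite ι
  choose S g hg1 hg2 using fun i => exists_stage_of_section K f u (σ i) (hσ i)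
  obtain ⟨T, hT⟩ := IsCofiltered.inf_objs_exists (Finset.univ.image S)
  have φ : ∀ i, T ⟶ S i := fun i => (hT (Finset.mem_image_of_mem S (Finset.mem_univ i))).some
  refine ⟨T, fun i => (E (Ks (k := k) K) f).map (φ i) ≫ g i, fun i => ?_, fun i => ?_⟩
  · exact (stage_map (Ks (k := k) K) f u (φ i) (g i) (hg1 i)).1
  · exact (Category.assoc _ _ _).trans ((congrArg (fun z => ρ K f ≫ z)
      (stage_map (Ks (k := k) K) f u (φ i) (g i) (hg1 i)).2).trans
      ((Category.assoc _ _ _).symm.trans (hg2 i)))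

end Groth.Agent.Helper23.HomSeq
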