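import Mathlib
import Groth.Prelude
import Groth.Agent.Lib.Helper23.HomSeq3
import Groth.Agent.Lib.Helper23.FibColim3

/-!
# Covers dominated by sections over `X_K` are dominated from a finite étale `k`-scheme (helper23)
-/

set_option autoImplicit false
universe u
open AlgebraicGeometry CategoryTheory CategoryTheory.Limits Opposite

namespace Groth.Agent.Helper23.HomSeq

open Groth.Agent.Helper4.LimSubalgK Groth.Agent.Helper14.FieldLim

variable {k : Type u} [Field k] (K : Type u) [Field K] [Algebra k K] [Algebra.IsAlgebraic k K]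
  {X : Scheme.{u}} (f : X ⟶ Spec (CommRingCat.of k))

/-- the stage `Spec S ⟶ Spec k` as a finite étale cover -/
noncomputable def stageObj (S : (J k (Ks (k := k) K))ᵒᵖ) : FEt.Cat (Spec (CommRingCat.of k)) :=
  MorphismProperty.Over.mk ⊤ (sm k (Ks (k := k) K) S) (prop_sm (Ks (k := k) K) S)

/-- a stage map as a morphism of finite étale covers of `X` -/
noncomputable def stageHom (U : FEt.Cat X) (S : (J k (Ks (k := k) K))ᵒᵖ)
    (g : pullback f (sm k (Ks (k := k) K) S) ⟶ U.left)
    (hg : g ≫ U.hom = pullback.fst f (sm k (Ks (k := k) K) S)) :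
    (FEt.restrict f).obj (stageObj K S) ⟶ U :=
  MorphismProperty.Over.homMk ((pullbackSymmetry (sm k (Ks (k := k) K) S) f).hom ≫ g) (by
    have h := pullbackSymmetry_hom_comp_fst (sm k (Ks (k := k) K) S) f
    show ((pullbackSymmetry (sm k (Ks (k := k) K) S) f).hom ≫ g) ≫ U.hom =
      pullback.snd (sm k (Ks (k := k) K) S) f
    rw [Category.assoc, hg]
    exact h)

theorem stageHom_left (U : FEt.Cat X) (S : (J k (Ks (k := k) K))ᵒᵖ)
    (g : pullback f (sm k (Ks (k := k) K) S) ⟶ U.left)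
    (hg : g ≫ U.hom = pullback.fst f (sm k (Ks (k := k) K) S)) :
    (stageHom K f U S g hg).left = (pullbackSymmetry (sm k (Ks (k := k) K) S) f).hom ≫ g := rfl

set_option backward.isDefEq.respectTransparency false in
theorem dominated_of_sections [CompactSpace X] [QuasiSeparatedSpace X] (U : FEt.Cat X)
    {ι : Type u} [Finite ι]
    (σ : ι → (pullback f (Spec.map (CommRingCat.ofHom (algebraMap k K))) ⟶ U.left))
    (hσ : ∀ i, σ i ≫ U.hom = pullback.fst f _)
    (hsurj : ∀ u₀ : U.left, ∃ i w, (σ i).base w = u₀) :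
    ∃ (V : FEt.Cat (Spec (CommRingCat.of k))) (e : (FEt.restrict f).obj V ⟶ U),
      Surjective e.left := by
  haveI : IsFinite U.hom := U.prop.1
  haveI : Etale U.hom := U.prop.2
  obtain ⟨S, g, hg1, hg2⟩ := exists_stage_of_sections K f U.hom σ hσ
  let n := Nat.card ι
  let eqv : ι ≃ Fin n := Finite.equivFin ι
  haveI := Groth.Agent.Helper23.FEtCoeq.hasFiniteCoproducts (Spec (CommRingCat.of k))
  haveI := Groth.Agent.Helper23.FibColim.preservesFiniteColimits_restrict f
  let V₀ := stageObj (k := k) K S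
  let V : FEt.Cat (Spec (CommRingCat.of k)) := ∐ (fun _ : Fin n => V₀)
  let c : Cofan (fun _ : Fin n => V₀) := Cofan.mk V (Sigma.ι (fun _ : Fin n => V₀))
  have hc : IsColimit c := coproductIsCoproduct _
  have hc' : IsColimit ((FEt.restrict f).mapCocone c) := isColimitOfPreserves (FEt.restrict f) hc
  let ej : Fin n → ((FEt.restrict f).obj V₀ ⟶ U) := fun j =>
    stageHom K f U S (g (eqv.symm j)) (hg1 _)
  let t : Cocone (Discrete.functor (fun _ : Fin n => V₀) ⋙ FEt.restrict f) :=
    { pt := U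
      ι := Discrete.natTrans (fun j => ej j.as) }
  let e : (FEt.restrict f).obj V ⟶ U := hc'.desc t
  have he : ∀ j, (FEt.restrict f).map (Sigma.ι (fun _ : Fin n => V₀) j) ≫ e = ej j := fun j =>
    hc'.fac t ⟨j⟩
  refine ⟨V, e, ⟨fun u₀ => ?_⟩⟩
  obtain ⟨i, w, hw⟩ := hsurj u₀
  have h1 := he (eqv i)
  have h2 : ((FEt.restrict f).map (Sigma.ι (fun _ : Fin n => V₀) (eqv i))).left ≫ e.left =
      (ej (eqv i)).left := by
    rw [← h1]; rfl
  have h3 : (ej (eqv i)).left = (pullbackSymmetry (sm k (Ks (k := k) K) S) f).hom ≫ g i := by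
    show (pullbackSymmetry (sm k (Ks (k := k) K) S) f).hom ≫ g (eqv.symm (eqv i)) = _
    rw [Equiv.symm_apply_apply]
  obtain ⟨P0, hP⟩ : ∃ P0 : pullback f (Spec.map (CommRingCat.ofHom (algebraMap k K))) ⟶
      pullback f (sm k (Ks (k := k) K) S), P0 ≫ g i = σ i := ⟨_, hg2 i⟩
  let q : pullback f (Spec.map (CommRingCat.ofHom (algebraMap k K))) ⟶
      ((FEt.restrict f).obj V).left :=
    P0 ≫ (pullbackSymmetry (sm k (Ks (k := k) K) S) f).inv ≫
      ((FEt.restrict f).map (Sigma.ι (fun _ : Fin n => V₀) (eqv i))).left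
  have key : q ≫ e.left = σ i := by
    calc q ≫ e.left = P0 ≫ (pullbackSymmetry (sm k (Ks (k := k) K) S) f).inv ≫
          (((FEt.restrict f).map (Sigma.ι (fun _ : Fin n => V₀) (eqv i))).left ≫ e.left) := by
          simp only [q, Category.assoc]
      _ = P0 ≫ (pullbackSymmetry (sm k (Ks (k := k) K) S) f).inv ≫
          (pullbackSymmetry (sm k (Ks (k := k) K) S) f).hom ≫ g i := by rw [h2, h3]
      _ = P0 ≫ g i := by rw [Iso.inv_hom_id_assoc]
      _ = σ i := hP
  refine ⟨q.base w, ?_⟩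
  rw [← Scheme.Hom.comp_apply, key]
  exact hw

end Groth.Agent.Helper23.HomSeq
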