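import Mathlib
import Groth.Prelude
import Groth.Agent.Lib.Helper23.GalCat3
import Groth.Agent.Lib.Helper23.GalEss2
import Groth.Agent.Lib.Helper23.HomSeq4
import Groth.Agent.S0268

/-!
# Connected covers with a section over `X_K` come from the base field (helper23)
-/

set_option autoImplicit false
set_option linter.style.haveILetI false
universe u
open AlgebraicGeometry CategoryTheory CategoryTheory.Limits Opposite

namespace Groth.Agent.Helper23.HomSeq

open Groth.Agent.Helper4.LimSubalgK Groth.Agent.Helper14.FieldLim
open Groth.Agent.Helper23.GalCat Groth.Agent.Helper23.FibColim CategoryTheory.PreGaloisCategory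

theorem galoisCategory_of_connected (X : Scheme.{u}) [ConnectedSpace X] :
    GaloisCategory (FEt.Cat X) := by
  obtain ⟨Ω, _, _, ξ, -⟩ := exists_geomPoint X (Classical.arbitrary X)
  exact
    { preGalois X with
      hasFiberFunctor := ⟨fibFin ξ, ⟨by
        haveI := preGalois X
        exact fiberFunctor ξ⟩⟩ }

theorem isConnected_of_connectedSpace {X : Scheme.{u}} [ConnectedSpace X] (Y : FEt.Cat X)
    [ConnectedSpace Y.left] :
    haveI := galoisCategory_of_connected X
    PreGaloisCategory.IsConnected Y := by
  haveI := galoisCategory_of_connected X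
  constructor
  · intro hY
    obtain ⟨y⟩ : Nonempty Y.left := inferInstance
    obtain ⟨Ω, _, _, ω, -⟩ := exists_geomPoint Y.left y
    let ξ' : Spec (CommRingCat.of Ω) ⟶ X := ω ≫ Y.hom
    haveI : FiberFunctor (fibFin ξ') := fiberFunctor ξ'
    exact not_initial_of_inhabited (fibFin ξ')
      (⟨ω, rfl⟩ : FEt.fiberObj ξ' Y) hY
  · intro Z i _ hZ
    obtain ⟨Ω, _, _, ξ, -⟩ := exists_geomPoint X (Classical.arbitrary X)
    haveI : FiberFunctor (fibFin ξ) := fiberFunctor ξ
    obtain ⟨s⟩ := (not_initial_iff_fiber_nonempty (fibFin ξ) Z).1 hZ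
    have s' : FEt.fiberObj ξ Z := s
    haveI := mono_left i
    haveI : IsFinite i.left := (prop_left i).1
    haveI : Etale i.left := (prop_left i).2
    haveI : IsOpenImmersion i.left := IsOpenImmersion.of_flat_of_mono _
    have hcl : IsClosed (Set.range i.left.base) := i.left.isClosedMap.isClosed_range
    have hop : IsOpen (Set.range i.left.base) := i.left.isOpenEmbedding.isOpen_range
    have hne : (Set.range i.left.base).Nonempty :=
      ⟨i.left.base (s'.1.base default), ⟨_, rfl⟩⟩
    have huniv : Set.range i.left.base = Set.univ := IsClopen.eq_univ ⟨hcl, hop⟩ hne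
    have htop : i.left.opensRange = ⊤ := by
      apply TopologicalSpace.Opens.ext
      exact huniv
    haveI : IsIso i.left := isIso_of_isOpenImmersion_of_opensRange_eq_top i.left htop
    haveI : IsIso ((MorphismProperty.Over.forget FEt.prop.{u} ⊤ X ⋙ Over.forget X).map i) := this
    exact isIso_of_reflects_iso i (MorphismProperty.Over.forget FEt.prop.{u} ⊤ X ⋙ Over.forget X)

set_option backward.isDefEq.respectTransparency false in
/-- S5117: a connected finite étale cover of `X` whose base change to `k̄` has a section is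
pulled back from a finite étale `k`-scheme. -/
theorem exists_iso_restrict_of_section (k : Type u) [Field k] {X : Scheme.{u}}
    (f : X ⟶ Spec (CommRingCat.of k)) [CompactSpace X] [QuasiSeparatedSpace X]
    [ConnectedSpace ↥(pullback f (Spec.map (CommRingCat.ofHom (algebraMap k (AlgebraicClosure k)))))]
    (X' : FEt.Cat X) [ConnectedSpace X'.left]
    (σ : pullback f (Spec.map (CommRingCat.ofHom (algebraMap k (AlgebraicClosure k)))) ⟶ X'.left)
    (hσ : σ ≫ X'.hom = pullback.fst f (Spec.map (CommRingCat.ofHom (algebraMap k (AlgebraicClosure k))))) :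
    ∃ S' : FEt.Cat (Spec (CommRingCat.of k)), Nonempty ((FEt.restrict f).obj S' ≅ X') := by
  haveI : IsFinite X'.hom := X'.prop.1
  haveI : Etale X'.hom := X'.prop.2
  -- `X` is connected
  haveI : Surjective (Spec.map (CommRingCat.ofHom (algebraMap k (AlgebraicClosure k)))) :=
    surjective_spec_field k (AlgebraicClosure k)
  haveI : Surjective (pullback.fst f (Spec.map (CommRingCat.ofHom
      (algebraMap k (AlgebraicClosure k))))) :=
    MorphismProperty.pullback_fst _ _ inferInstance
  haveI : ConnectedSpace X :=
    Function.Surjective.connectedSpace (pullback.fst f (Spec.map (CommRingCat.ofHom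
      (algebraMap k (AlgebraicClosure k))))).surjective
      (pullback.fst f _).continuous
  haveI gC : GaloisCategory (FEt.Cat (Spec (CommRingCat.of k))) := GalCat.galoisCategory k
  haveI gD : GaloisCategory (FEt.Cat X) := galoisCategory_of_connected X
  haveI : PreGaloisCategory.IsConnected X' := isConnected_of_connectedSpace X'
  haveI := preservesFiniteLimits_restrict f
  haveI := preservesFiniteColimits_restrict f
  obtain ⟨hfull, hfaith⟩ := Groth.Agent.S0268.result k f
  -- the stage
  obtain ⟨S, g, hg1, hg2⟩ := exists_stage_of_section (AlgebraicClosure k) f X'.hom σ hσ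
  let V₀ := stageObj (k := k) (AlgebraicClosure k) S
  let e₀ : (FEt.restrict f).obj V₀ ⟶ X' := stageHom (AlgebraicClosure k) f X' S g hg1
  -- a geometric point of `(restrict f).obj V₀`
  obtain ⟨w⟩ : Nonempty ↥(pullback f (Spec.map (CommRingCat.ofHom
      (algebraMap k (AlgebraicClosure k))))) := inferInstance
  let z : ((FEt.restrict f).obj V₀).left :=
    ((ρ (AlgebraicClosure k) f ≫ (cE (Ks (k := k) (AlgebraicClosure k)) f).π.app S) ≫
      (pullbackSymmetry (sm k (Ks (k := k) (AlgebraicClosure k)) S) f).inv).base w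
  obtain ⟨Ω, _, _, ω, -⟩ := exists_geomPoint ((FEt.restrict f).obj V₀).left z
  let ξ : Spec (CommRingCat.of Ω) ⟶ X := ω ≫ ((FEt.restrict f).obj V₀).hom
  haveI : FiberFunctor (fibFin ξ) := fiberFunctor ξ
  let F : FEt.Cat X ⥤ FintypeCat.{u+1} := fibFin ξ ⋙ FintypeCat.uSwitch.{u, u+1}
  haveI : FiberFunctor F := inferInstance
  let a₀ : FEt.fiberObj ξ ((FEt.restrict f).obj V₀) := ⟨ω, rfl⟩
  let a : F.obj ((FEt.restrict f).obj V₀) :=
    (FintypeCat.uSwitchEquiv ((fibFin ξ).obj ((FEt.restrict f).obj V₀))).symm a₀
  exact Groth.Agent.Helper23.GalEss.exists_iso_of_dominated (FEt.restrict f) F X' V₀ e₀ a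

end Groth.Agent.Helper23.HomSeq
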