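import Mathlib
import Groth.Prelude.Def_Pic
import Groth.Prelude.Def_Coh
import Groth.Agent.Lib.Helper13.InvTensor
import Groth.Agent.Lib.Helper13.GenLocus
import Groth.Agent.Lib.Helper23.PicCalc

set_option autoImplicit false
universe u
open CategoryTheory CategoryTheory.Limits AlgebraicGeometry Opposite TopologicalSpace TensorProduct
open Groth.Agent.Helper13 Groth.Agent.Helper13.Inv Groth.Agent.Helper13.Tensor
open Groth.Agent.Helper13.GenLoc

namespace Groth.Agent.Helper23.IntSec

variable {X : Scheme.{u}}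

/-- on an integral scheme, a global section of an invertible module with a vanishing germ is
zero. -/
theorem eq_zero_of_germ_eq_zero [IsIntegral X] (M : X.Modules) (hM : PicF.IsInvertible M)
    (s : Γ(M, ⊤)) (y : X) (h : M.presheaf.germ ⊤ y trivial s = 0) : s = 0 := by
  have h0 : M.presheaf.germ ⊤ y trivial s = M.presheaf.germ ⊤ y trivial 0 := by
    rw [h, map_zero]
  obtain ⟨U, hyU, i₁, i₂, hc⟩ := TopCat.Presheaf.germ_eq M.presheaf y (U := ⊤) (V := ⊤) trivial trivial _ _ h0
  rw [map_zero] at hc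
  apply TopCat.Presheaf.section_ext ⟨M.presheaf, M.isSheaf⟩ ⊤
  intro x hx
  obtain ⟨V, hxV, e, he⟩ := (isInvertible_iff_exists_isGen M).1 hM x
  obtain ⟨W, hxW, hWV, hWT, a, ha⟩ :=
    exists_eq_smul_of_isGen M e x hxV (he x hxV) (V := ⊤) trivial s
  obtain ⟨z, hzW, hzU⟩ : ((W : Set X) ∩ U).Nonempty :=
    nonempty_preirreducible_inter W.2 U.2 ⟨x, hxW⟩ ⟨y, hyU⟩
  have hz : X.presheaf.germ W z hzW a = 0 := by
    apply (he z (hWV hzW)).1
    change X.presheaf.germ W z hzW a • M.presheaf.germ V z (hWV hzW) e =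
      (0 : X.presheaf.stalk z) • M.presheaf.germ V z (hWV hzW) e
    rw [zero_smul, ← TopCat.Presheaf.germ_res_apply M.presheaf (homOfLE hWV) z hzW e,
      ← Tensor.germ_smul, ← ha, TopCat.Presheaf.germ_res_apply,
      ← TopCat.Presheaf.germ_res_apply M.presheaf i₁ z hzU s, hc, map_zero]
  have ha0 : a = 0 := germ_injective_of_isIntegral X z hzW (hz.trans (map_zero _).symm)
  rw [ha0, zero_smul] at ha
  change M.presheaf.germ ⊤ x hx s = M.presheaf.germ ⊤ x hx 0
  rw [map_zero, ← TopCat.Presheaf.germ_res_apply M.presheaf (homOfLE hWT) x hxW s, ha, map_zero]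

/-- on an integral scheme, the product of two nonzero sections of invertible modules is
nonzero. -/
theorem tmul_ne_zero [IsIntegral X] (M N : X.Modules) (hM : PicF.IsInvertible M)
    (hN : PicF.IsInvertible N) (s : Γ(M, ⊤)) (t : Γ(N, ⊤)) (hs : s ≠ 0) (ht : t ≠ 0) :
    tmul M N s t ≠ 0 := by
  intro h0
  obtain ⟨y⟩ : Nonempty X := inferInstance
  have h1 : stalkTensorEquiv M N y (M.presheaf.germ ⊤ y trivial s ⊗ₜ N.presheaf.germ ⊤ y trivial t)
      = 0 := by
    rw [stalkTensorEquiv_germ, h0, map_zero]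
  have h2 : M.presheaf.germ ⊤ y trivial s ⊗ₜ[X.presheaf.stalk y] N.presheaf.germ ⊤ y trivial t
      = 0 := by
    have := (stalkTensorEquiv M N y).injective (h1.trans (map_zero _).symm)
    exact this
  obtain ⟨V, hyV, e, he⟩ := (isInvertible_iff_exists_isGen M).1 hM y
  obtain ⟨V', hyV', e', he'⟩ := (isInvertible_iff_exists_isGen N).1 hN y
  obtain ⟨f, hf⟩ := (he y hyV).2 (M.presheaf.germ ⊤ y trivial s)
  obtain ⟨g, hg⟩ := (he' y hyV').2 (N.presheaf.germ ⊤ y trivial t)
  simp only [] at hf hg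
  rw [← hf, ← hg, TensorProduct.smul_tmul_smul] at h2
  have h3 : f * g = 0 := by
    apply (bijective_smul_tmul _ _ (he y hyV) (he' y hyV')).1
    simp only []
    rw [h2, zero_smul]
  rcases mul_eq_zero.1 h3 with h | h
  · apply hs
    apply eq_zero_of_germ_eq_zero M hM s y
    rw [← hf, h, zero_smul]
  · apply ht
    apply eq_zero_of_germ_eq_zero N hN t y
    rw [← hg, h, zero_smul]

/-- on an integral scheme with a field of global functions, an invertible module and its inverse
both having a nonzero section forces triviality. -/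
theorem nonempty_iso_unit_of_sections [IsIntegral X] (hfield : IsField Γ(X, ⊤))
    (M N : X.Modules) (hM : PicF.IsInvertible M) (hN : PicF.IsInvertible N)
    (e : CohB1.tensorMod M N ≅ Coh.structureModule X) (s : Γ(M, ⊤)) (t : Γ(N, ⊤)) (hs : s ≠ 0)
    (ht : t ≠ 0) : Nonempty (M ≅ Coh.structureModule X) := by
  let r : Γ(X, ⊤) := LocFree.ofO ⊤ (e.hom.app ⊤ (tmul M N s t))
  have hr : r ≠ 0 := by
    intro hr0
    apply tmul_ne_zero M N hM hN s t hs ht
    have h1 : e.hom.app ⊤ (tmul M N s t) = 0 := hr0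
    have h2 := congrArg (e.inv.app ⊤) h1
    rw [map_zero] at h2
    have h3 : e.inv.app ⊤ (e.hom.app ⊤ (tmul M N s t)) = tmul M N s t := by
      have := congrArg (fun φ : CohB1.tensorMod M N ⟶ CohB1.tensorMod M N =>
        φ.app ⊤ (tmul M N s t)) e.hom_inv_id
      exact this
    rw [← h3, h2]
  obtain ⟨r', hr'⟩ := hfield.mul_inv_cancel hr
  have hgen : ∀ y, IsGen M s y trivial := by
    intro y
    apply bijective_smul_of_tensor_equiv (εStalk M N e y) _
      (X.presheaf.germ ⊤ y trivial r' • N.presheaf.germ ⊤ y trivial t)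
    rw [TensorProduct.tmul_smul, map_smul, εStalk_germ, smul_eq_mul, ← map_mul]
    change X.presheaf.germ ⊤ y trivial (r' * r) = 1
    rw [mul_comm, hr', map_one]
  haveI := isIso_homOfSec M s hgen
  exact ⟨(asIso (LocFree.homOfSec M s)).symm⟩

/-- `H⁰` is nontrivial iff there is a nonzero global section. -/
theorem nontrivial_HH0_iff (M : X.Modules) :
    Nontrivial (Coh.HH X M 0) ↔ ∃ s : Γ(M, ⊤), s ≠ 0 := by
  let E : Coh.HH X M 0 ≃+ Γ(M, ⊤) :=
    Sheaf.H.equiv₀ (Coh.toAb M) (isTerminalTop : IsTerminal (⊤ : Opens X))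
  constructor
  · intro h
    obtain ⟨a, ha⟩ := exists_ne (0 : Coh.HH X M 0)
    exact ⟨E a, fun h0 => ha (E.injective (h0.trans (map_zero E).symm))⟩
  · rintro ⟨s, hs⟩
    refine ⟨⟨E.symm s, 0, fun h0 => hs ?_⟩⟩
    have := congrArg E h0
    rwa [AddEquiv.apply_symm_apply, map_zero] at this

open Groth.Agent.Helper23.PicCalc in
theorem cl_tensorPow (L : X.Modules) (hL : PicF.IsInvertible L) (n : ℕ) :
    cl (CohB1.tensorPow L n) (isInvertible_tensorPow L hL n) = n • cl L hL := by
  induction n with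
  | zero => rw [zero_smul]; rfl
  | succ n ih =>
    rw [succ_nsmul, ← ih]
    rfl

end Groth.Agent.Helper23.IntSec
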