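import Mathlib
import Groth.Prelude.Def_W4c2invhilbsl2HJ

set_option autoImplicit false

namespace Groth.Agent.Helper23.InvHilbHJ
open W4c2invhilbsl2 HJFrac

theorem hjP_succ_succ (c : List ℤ) (i : ℕ) :
    hjP c (i + 2) = c.getD i 0 * hjP c (i + 1) - hjP c i := rfl

theorem hjQ_succ_succ (c : List ℤ) (i : ℕ) :
    hjQ c (i + 2) = c.getD i 0 * hjQ c (i + 1) - hjQ c i := rfl

@[simp] theorem hjP_zero (c : List ℤ) : hjP c 0 = 0 := rfl
@[simp] theorem hjP_one (c : List ℤ) : hjP c 1 = 1 := rfl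
@[simp] theorem hjQ_zero (c : List ℤ) : hjQ c 0 = -1 := rfl
@[simp] theorem hjQ_one (c : List ℤ) : hjQ c 1 = 0 := rfl

theorem hj_cons (a : ℤ) (l : List ℤ) : ∀ i : ℕ,
    hjP (a :: l) (i + 1) = a * hjP l i - hjQ l i ∧ hjQ (a :: l) (i + 1) = hjP l i
  | 0 => by simp
  | 1 => by
    constructor
    · rw [hjP_succ_succ]; simp
    · rw [hjQ_succ_succ]; simp
  | i + 2 => by
    obtain ⟨h1, h1'⟩ := hj_cons a l i
    obtain ⟨h2, h2'⟩ := hj_cons a l (i + 1)
    constructor
    · rw [hjP_succ_succ (a :: l) (i + 1), List.getD_cons_succ, h2, h1, hjP_succ_succ l i,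
        hjQ_succ_succ l i]
      ring
    · rw [hjQ_succ_succ (a :: l) (i + 1), List.getD_cons_succ, h2', h1', hjP_succ_succ l i]

/-- determinant identity -/
theorem hj_det (c : List ℤ) : ∀ i : ℕ, hjP c i * hjQ c (i + 1) - hjP c (i + 1) * hjQ c i = 1
  | 0 => by simp
  | i + 1 => by
    have h := hj_det c i
    rw [hjP_succ_succ, hjQ_succ_succ]
    linarith [h, mul_comm (hjP c (i+1)) (c.getD i 0 * hjQ c (i+1))]

/-- positivity, and the value of the continued fraction. -/
theorem hj_val (c : List ℤ) (hc : ∀ x ∈ c, (2 : ℤ) ≤ x) :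
    0 ≤ hjQ c (c.length + 1) ∧ hjQ c (c.length + 1) < hjP c (c.length + 1) ∧
      hjVal c = (hjP c (c.length + 1) : ℚ) / (hjQ c (c.length + 1) : ℚ) := by
  induction c with
  | nil => simp [hjVal]
  | cons a l ih =>
    obtain ⟨h0, h1, h2⟩ := ih (fun x hx => hc x (List.mem_cons_of_mem _ hx))
    have ha : (2 : ℤ) ≤ a := hc a List.mem_cons_self
    obtain ⟨e1, e2⟩ := hj_cons a l (l.length + 1)
    rw [List.length_cons, e1, e2]
    refine ⟨by linarith, by nlinarith, ?_⟩
    rw [hjVal, h2, inv_div]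
    have hP : (hjP l (l.length + 1) : ℚ) ≠ 0 := by
      have : 0 < hjP l (l.length + 1) := by linarith
      exact_mod_cast this.ne'
    push_cast
    field_simp

theorem basic_arith (p q m : ℕ) (hp : 0 < p) (hpq : p < q) (hcop : Nat.Coprime p q) (hm : 0 < m) :
    0 < gcdK p q m ∧ q - p = gcdK p q m * bB p q m ∧ 0 < bB p q m ∧ 0 < tT p q m ∧
    gcdK p q m * tT p q m + m * p = (q - p) * (alpha p q m + 1) ∧
    Nat.Coprime (bB p q m) (tT p q m) ∧ gcdK p q m ∣ m := by
  unfold bB tT alpha gcdK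
  set D := q - p with hD
  have hDpos : 0 < D := by omega
  set g := Nat.gcd m D with hg
  have hgpos : 0 < g := Nat.gcd_pos_of_pos_left _ hm
  have hgD : g ∣ D := Nat.gcd_dvd_right _ _
  have hgm : g ∣ m := Nat.gcd_dvd_left _ _
  have hb : D = g * (D / g) := (Nat.mul_div_cancel' hgD).symm
  have hbpos : 0 < D / g := Nat.div_pos (Nat.le_of_dvd hDpos hgD) hgpos
  have hβ : m * p % D < D := Nat.mod_lt _ hDpos
  have hgβ : g ∣ m * p % D := (Nat.dvd_mod_iff hgD).2 (Dvd.dvd.mul_right hgm p)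
  have hgt : g ∣ D - m * p % D := Nat.dvd_sub hgD hgβ
  have ht : g * ((D - m * p % D) / g) = D - m * p % D := Nat.mul_div_cancel' hgt
  have htpos : 0 < (D - m * p % D) / g :=
    Nat.div_pos (Nat.le_of_dvd (by omega) hgt) hgpos
  have hdm := Nat.div_add_mod (m * p) D
  refine ⟨hgpos, hb, hbpos, htpos, ?_, ?_, hgm⟩
  · rw [ht, mul_add, mul_one]
    omega
  · have h1 : Nat.gcd D (D - m * p % D) = g := by
      rw [Nat.gcd_self_sub_right hβ.le, Nat.gcd_comm, ← Nat.gcd_rec]
      have hcopDp : Nat.Coprime p D := by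
        rw [hD, Nat.coprime_sub_self_right hpq.le]; exact hcop
      rw [hcopDp.gcd_mul_right_cancel_right m, Nat.gcd_comm]
    have h2 : Nat.gcd D (D - m * p % D) = g * Nat.gcd (D / g) ((D - m * p % D) / g) := by
      rw [← Nat.gcd_mul_left, ht, ← hb]
    rw [h1] at h2
    have : g * 1 = g * Nat.gcd (D / g) ((D - m * p % D) / g) := by rw [mul_one]; exact h2
    exact (Nat.eq_of_mul_eq_mul_left hgpos this).symm

theorem getD_ge_two (c : List ℤ) (hc : ∀ x ∈ c, (2 : ℤ) ≤ x) (i : ℕ) (hi : i < c.length) :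
    2 ≤ c.getD i 0 := by
  rw [List.getD_eq_getElem c 0 hi]
  exact hc _ (List.getElem_mem hi)

theorem hj_top (p q m : ℕ) (hp : 0 < p) (hpq : p < q) (hcop : Nat.Coprime p q) (hm : 0 < m)
    (c : List ℤ) (hc : IsHJDigits p q m c) :
    hjP c (c.length + 1) = bB p q m ∧ hjQ c (c.length + 1) = tT p q m := by
  obtain ⟨hg, hD, hb, ht, h5, hbt, -⟩ := basic_arith p q m hp hpq hcop hm
  obtain ⟨hQ0, hQP, hval⟩ := hj_val c hc.1
  have hv := hc.2
  rw [hval] at hv
  have hbQ : ((bB p q m : ℕ) : ℚ) ≠ 0 := by exact_mod_cast hb.ne'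
  have htQ : ((tT p q m : ℕ) : ℚ) ≠ 0 := by exact_mod_cast ht.ne'
  rcases hQ0.eq_or_lt with h0 | hpos
  · exfalso
    rw [← h0] at hv
    simp only [Int.cast_zero, div_zero] at hv
    have := div_ne_zero hbQ htQ
    exact this hv.symm
  · have hQne : ((hjQ c (c.length + 1) : ℤ) : ℚ) ≠ 0 := by exact_mod_cast hpos.ne'
    rw [div_eq_div_iff hQne htQ] at hv
    have hv' : hjP c (c.length + 1) * (tT p q m : ℤ) = (bB p q m : ℤ) * hjQ c (c.length + 1) := by
      exact_mod_cast hv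
    have hcop1 : IsCoprime ((bB p q m : ℕ) : ℤ) ((tT p q m : ℕ) : ℤ) := by
      rw [Int.isCoprime_iff_gcd_eq_one]; simpa [Int.gcd_natCast_natCast] using hbt
    have hdet := hj_det c c.length
    have hcop2 : IsCoprime (hjP c (c.length + 1)) (hjQ c (c.length + 1)) :=
      ⟨-(hjQ c c.length), hjP c c.length, by linarith⟩
    have d1 : ((bB p q m : ℕ) : ℤ) ∣ hjP c (c.length + 1) := by
      apply hcop1.dvd_of_dvd_mul_right
      rw [hv']; exact dvd_mul_right _ _
    have d2 : hjP c (c.length + 1) ∣ ((bB p q m : ℕ) : ℤ) := by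
      apply hcop2.dvd_of_dvd_mul_right
      rw [← hv']; exact dvd_mul_right _ _
    have hPpos : 0 ≤ hjP c (c.length + 1) := by linarith
    have e1 : hjP c (c.length + 1) = bB p q m :=
      Int.dvd_antisymm hPpos (Int.natCast_nonneg _) d2 d1
    refine ⟨e1, ?_⟩
    rw [e1] at hv'
    have hb' : ((bB p q m : ℕ) : ℤ) ≠ 0 := by exact_mod_cast hb.ne'
    exact (mul_left_cancel₀ hb' hv').symm

theorem nN_eq (p q m : ℕ) (hp : 0 < p) (hpq : p < q) (hcop : Nat.Coprime p q) (hm : 0 < m)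
    (c : List ℤ) (i : ℕ) :
    nN p q m c i = (gcdK p q m : ℤ) * ((tT p q m : ℤ) * hjP c i - (bB p q m : ℤ) * hjQ c i) := by
  obtain ⟨hg, hD, hb, ht, h5, hbt, -⟩ := basic_arith p q m hp hpq hcop hm
  have hD' : (q : ℤ) - p = (gcdK p q m : ℤ) * (bB p q m : ℤ) := by
    have : ((q - p : ℕ) : ℤ) = (gcdK p q m : ℤ) * (bB p q m : ℤ) := by exact_mod_cast hD
    rw [← this]; push_cast [Nat.cast_sub hpq.le]; ring
  have h5' : (gcdK p q m : ℤ) * (tT p q m : ℤ) + (m : ℤ) * p = ((q : ℤ) - p) * ((alpha p q m : ℤ) + 1) := by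
    have : ((gcdK p q m * tT p q m + m * p : ℕ) : ℤ) = (((q - p) * (alpha p q m + 1) : ℕ) : ℤ) := by
      exact_mod_cast h5
    push_cast [Nat.cast_sub hpq.le] at this
    linarith
  unfold nN eE lL
  push_cast
  linear_combination (-(hjP c i)) * h5' - (hjQ c i) * hD'

theorem nN_succ_succ (p q m : ℕ) (c : List ℤ) (i : ℕ) :
    nN p q m c (i + 2) = c.getD i 0 * nN p q m c (i + 1) - nN p q m c i := by
  unfold nN eE lL
  rw [hjP_succ_succ, hjQ_succ_succ]
  ring

theorem nN_zero (p q m : ℕ) (c : List ℤ) : nN p q m c 0 = (q : ℤ) - p := by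
  unfold nN eE lL
  simp
  ring

theorem nN_top (p q m : ℕ) (hp : 0 < p) (hpq : p < q) (hcop : Nat.Coprime p q) (hm : 0 < m)
    (c : List ℤ) (hc : IsHJDigits p q m c) :
    nN p q m c c.length = gcdK p q m ∧ nN p q m c (c.length + 1) = 0 := by
  obtain ⟨e1, e2⟩ := hj_top p q m hp hpq hcop hm c hc
  have hdet := hj_det c c.length
  rw [nN_eq p q m hp hpq hcop hm, nN_eq p q m hp hpq hcop hm, e1, e2]
  rw [e1, e2] at hdet
  constructor
  · have : (tT p q m : ℤ) * hjP c c.length - (bB p q m : ℤ) * hjQ c c.length = 1 := by linarith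
    rw [this, mul_one]
  · ring

theorem nN_decr (p q m : ℕ) (hp : 0 < p) (hpq : p < q) (hcop : Nat.Coprime p q) (hm : 0 < m)
    (c : List ℤ) (hc : IsHJDigits p q m c) :
    ∀ k i : ℕ, i + k = c.length → nN p q m c (i + 1) < nN p q m c i ∧ 0 ≤ nN p q m c (i + 1) := by
  obtain ⟨hg, -⟩ := basic_arith p q m hp hpq hcop hm
  obtain ⟨t1, t2⟩ := nN_top p q m hp hpq hcop hm c hc
  intro k
  induction k with
  | zero =>
    intro i hi
    have : i = c.length := by omega
    subst this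
    rw [t1, t2]
    exact ⟨by exact_mod_cast hg, le_refl _⟩
  | succ k ih =>
    intro i hi
    obtain ⟨h1, h2⟩ := ih (i + 1) (by omega)
    have hrec := nN_succ_succ p q m c i
    have hci := getD_ge_two c hc.1 i (by omega)
    constructor
    · nlinarith
    · linarith

theorem hjP_incr (c : List ℤ) (hc : ∀ x ∈ c, (2 : ℤ) ≤ x) :
    ∀ i : ℕ, i ≤ c.length → 0 ≤ hjP c i ∧ hjP c i < hjP c (i + 1) := by
  intro i
  induction i with
  | zero => intro _; simp
  | succ i ih =>
    intro hi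
    obtain ⟨h1, h2⟩ := ih (by omega)
    have hci := getD_ge_two c hc i (by omega)
    rw [hjP_succ_succ]
    constructor
    · linarith
    · nlinarith

/-- Claim A in coordinates `(A,B)` w.r.t. the basis `v', v`. -/
theorem latticeA_AB (P' P T' T A B : ℤ) (hP' : 0 < P') (hP : P' < P) (hT : 0 ≤ T) (hT' : T < T')
    (hx0 : 0 < A * P' + B * P) (hx1 : A * P' + B * P < P) (hl : 0 ≤ A * T' + B * T) :
    T' ≤ A * T' + B * T := by
  rcases lt_trichotomy B 0 with hB | hB | hB
  · -- B ≤ -1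
    have hA : -B + 1 ≤ A := by
      by_contra hlt
      push Not at hlt
      have h1 : A ≤ -B := by omega
      have : A * P' ≤ -B * P' := mul_le_mul_of_nonneg_right h1 hP'.le
      have : -B * P' ≤ -B * P := mul_le_mul_of_nonneg_left hP.le (by omega)
      nlinarith
    have h2 : (-B + 1) * T' ≤ A * T' := mul_le_mul_of_nonneg_right hA (by linarith)
    have h3 : 0 ≤ -B * (T' - T) := mul_nonneg (by omega) (by linarith)
    nlinarith
  · subst hB
    simp only [zero_mul, add_zero] at hx0 hl ⊢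
    have hA : 1 ≤ A := by
      by_contra hlt
      push Not at hlt
      have : A ≤ 0 := by omega
      nlinarith
    nlinarith
  · -- B ≥ 1: contradiction
    exfalso
    have hB1 : 1 ≤ B := by omega
    have hA : A ≤ -1 := by
      by_contra hlt
      push Not at hlt
      have h0 : 0 ≤ A := by omega
      have : 0 ≤ A * P' := mul_nonneg h0 hP'.le
      have : P ≤ B * P := by nlinarith
      linarith
    -- a = -A ≥ 1 ; a T' ≤ B T
    have h1 : -A * T' ≤ B * T := by linarith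
    have hBa : -A + 1 ≤ B := by
      by_contra hlt
      push Not at hlt
      have h2 : B ≤ -A := by omega
      have h3 : B * T ≤ -A * T := mul_le_mul_of_nonneg_right h2 hT
      have h4 : -A * T < -A * T' := mul_lt_mul_of_pos_left hT' (by omega)
      linarith
    have h5 : (-A + 1) * P ≤ B * P := mul_le_mul_of_nonneg_right hBa (by linarith)
    have h6 : 0 ≤ (-A) * (P - P') := mul_nonneg (by omega) (by linarith)
    nlinarith

/-- Claim B in coordinates `(A,B)`. -/
theorem latticeB_AB (P' P T' T A B : ℤ) (hP' : 0 < P') (hP : P' < P) (hT : 0 ≤ T) (hT' : T < T')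
    (hx0 : 0 < A * P' + B * P) (hx1 : A * P' + B * P < P) (hl : A * T' + B * T < 0) :
    A * T' + B * T ≤ T - T' := by
  rcases lt_trichotomy B 0 with hB | hB | hB
  · exfalso
    have hA : -B + 1 ≤ A := by
      by_contra hlt
      push Not at hlt
      have h1 : A ≤ -B := by omega
      have : A * P' ≤ -B * P' := mul_le_mul_of_nonneg_right h1 hP'.le
      have : -B * P' ≤ -B * P := mul_le_mul_of_nonneg_left hP.le (by omega)
      nlinarith
    have h2 : (-B + 1) * T' ≤ A * T' := mul_le_mul_of_nonneg_right hA (by linarith)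
    have h3 : 0 ≤ -B * (T' - T) := mul_nonneg (by omega) (by linarith)
    nlinarith
  · exfalso
    subst hB
    simp only [zero_mul, add_zero] at hx0 hl
    have hA : 1 ≤ A := by
      by_contra hlt
      push Not at hlt
      have : A ≤ 0 := by omega
      nlinarith
    nlinarith
  · have hB1 : 1 ≤ B := by omega
    have hA : A ≤ -1 := by
      by_contra hlt
      push Not at hlt
      have h0 : 0 ≤ A := by omega
      have : 0 ≤ A * P' := mul_nonneg h0 hP'.le
      have : P ≤ B * P := by nlinarith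
      linarith
    have hBa : B ≤ -A := by
      by_contra hlt
      push Not at hlt
      have h2 : -A + 1 ≤ B := by omega
      have h5 : (-A + 1) * P ≤ B * P := mul_le_mul_of_nonneg_right h2 (by linarith)
      have h6 : 0 ≤ (-A) * (P - P') := mul_nonneg (by omega) (by linarith)
      nlinarith
    have h3 : B * T ≤ -A * T := mul_le_mul_of_nonneg_right hBa hT
    have h4 : (T' - T) ≤ (-A) * (T' - T) := by
      have : 1 * (T' - T) ≤ (-A) * (T' - T) := mul_le_mul_of_nonneg_right (by omega) (by linarith)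
      linarith
    nlinarith

/-- Claim A: for `(x,y)` with `0 < x < P` and `t x - b y ≥ 0` one has `t x - b y ≥ T'`. -/
theorem latticeA (P' Q' P Q t b x y : ℤ) (hdet : P' * Q - P * Q' = 1)
    (hP' : 0 < P') (hP : P' < P) (hT : 0 ≤ t * P - b * Q) (hT' : t * P - b * Q < t * P' - b * Q')
    (hx0 : 0 < x) (hx1 : x < P) (hl : 0 ≤ t * x - b * y) :
    t * P' - b * Q' ≤ t * x - b * y := by
  have ex : x = (x * Q - y * P) * P' + (y * P' - x * Q') * P := by linear_combination (-x) * hdet + x * 0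
  have el : t * x - b * y = (x * Q - y * P) * (t * P' - b * Q') + (y * P' - x * Q') * (t * P - b * Q) := by
    linear_combination (-(t * x - b * y)) * hdet
  rw [el]
  apply latticeA_AB P' P _ _ _ _ hP' hP hT hT'
  · rw [← ex]; exact hx0
  · rw [← ex]; exact hx1
  · rw [← el]; exact hl

theorem latticeB (P' Q' P Q t b x y : ℤ) (hdet : P' * Q - P * Q' = 1)
    (hP' : 0 < P') (hP : P' < P) (hT : 0 ≤ t * P - b * Q) (hT' : t * P - b * Q < t * P' - b * Q')
    (hx0 : 0 < x) (hx1 : x < P) (hl : t * x - b * y < 0) :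
    t * x - b * y ≤ (t * P - b * Q) - (t * P' - b * Q') := by
  have ex : x = (x * Q - y * P) * P' + (y * P' - x * Q') * P := by linear_combination (-x) * hdet
  have el : t * x - b * y = (x * Q - y * P) * (t * P' - b * Q') + (y * P' - x * Q') * (t * P - b * Q) := by
    linear_combination (-(t * x - b * y)) * hdet
  rw [el]
  apply latticeB_AB P' P _ _ _ _ hP' hP hT hT'
  · rw [← ex]; exact hx0
  · rw [← ex]; exact hx1
  · rw [← el]; exact hl

/-- `T_i = t P_i - b Q_i = n_i / g`. -/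
def TT (p q m : ℕ) (c : List ℤ) (i : ℕ) : ℤ :=
  (tT p q m : ℤ) * hjP c i - (bB p q m : ℤ) * hjQ c i

section
variable (p q m : ℕ) (hp : 0 < p) (hpq : p < q) (hcop : Nat.Coprime p q) (hm : 0 < m)
  (c : List ℤ)
include hp hpq hcop hm

theorem nN_eq_TT (i : ℕ) : nN p q m c i = (gcdK p q m : ℤ) * TT p q m c i :=
  nN_eq p q m hp hpq hcop hm c i

theorem nN_div (i : ℕ) : nN p q m c i / (gcdK p q m : ℤ) = TT p q m c i := by
  obtain ⟨hg, -⟩ := basic_arith p q m hp hpq hcop hm
  rw [nN_eq_TT p q m hp hpq hcop hm]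
  exact Int.mul_ediv_cancel_left _ (by exact_mod_cast hg.ne')

theorem TT_zero : TT p q m c 0 = bB p q m := by
  unfold TT; simp

theorem TT_facts (hc : IsHJDigits p q m c) (i : ℕ) (hi : i ≤ c.length) :
    0 ≤ TT p q m c (i + 1) ∧ TT p q m c (i + 1) < TT p q m c i := by
  obtain ⟨hg, -⟩ := basic_arith p q m hp hpq hcop hm
  have hg' : (0 : ℤ) < gcdK p q m := by exact_mod_cast hg
  obtain ⟨h1, h2⟩ := nN_decr p q m hp hpq hcop hm c hc (c.length - i) i (by omega)
  rw [nN_eq_TT p q m hp hpq hcop hm, nN_eq_TT p q m hp hpq hcop hm] at h1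
  rw [nN_eq_TT p q m hp hpq hcop hm] at h2
  exact ⟨nonneg_of_mul_nonneg_right h2 hg', lt_of_mul_lt_mul_left h1 hg'.le⟩

theorem TT_le_b (hc : IsHJDigits p q m c) : ∀ i : ℕ, i ≤ c.length + 1 → TT p q m c i ≤ bB p q m := by
  intro i
  induction i with
  | zero => intro _; rw [TT_zero p q m hp hpq hcop hm]
  | succ i ih =>
    intro hi
    have := (TT_facts p q m hp hpq hcop hm c hc i (by omega)).2
    have := ih (by omega)
    linarith

theorem TT_pos (hc : IsHJDigits p q m c) (i : ℕ) (hi : i ≤ c.length) : 0 < TT p q m c i := by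
  have := TT_facts p q m hp hpq hcop hm c hc i hi
  linarith

theorem claimA (hc : IsHJDigits p q m c) (j : ℕ) (hj : j + 2 ≤ c.length) (x y : ℤ)
    (hx0 : 0 < x) (hx1 : x < hjP c (j + 2)) (hl : 0 ≤ (tT p q m : ℤ) * x - (bB p q m : ℤ) * y) :
    TT p q m c (j + 1) ≤ (tT p q m : ℤ) * x - (bB p q m : ℤ) * y := by
  have hdet := hj_det c (j + 1)
  obtain ⟨a1, a2⟩ := hjP_incr c hc.1 j (by omega)
  obtain ⟨b1, b2⟩ := hjP_incr c hc.1 (j + 1) (by omega)
  obtain ⟨c1, c2⟩ := TT_facts p q m hp hpq hcop hm c hc (j + 1) (by omega)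
  exact latticeA _ _ _ _ _ _ x y hdet (by linarith) b2 c1 c2 hx0 hx1 hl

theorem claimB (hc : IsHJDigits p q m c) (j : ℕ) (hj : j + 2 ≤ c.length) (x y : ℤ)
    (hx0 : 0 < x) (hx1 : x < hjP c (j + 2)) (hl : (tT p q m : ℤ) * x - (bB p q m : ℤ) * y < 0) :
    (tT p q m : ℤ) * x - (bB p q m : ℤ) * y ≤ TT p q m c (j + 2) - TT p q m c (j + 1) := by
  have hdet := hj_det c (j + 1)
  obtain ⟨a1, a2⟩ := hjP_incr c hc.1 j (by omega)
  obtain ⟨b1, b2⟩ := hjP_incr c hc.1 (j + 1) (by omega)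
  obtain ⟨c1, c2⟩ := TT_facts p q m hp hpq hcop hm c hc (j + 1) (by omega)
  exact latticeB _ _ _ _ _ _ x y hdet (by linarith) b2 c1 c2 hx0 hx1 hl

/-- residue bounds: for `0 < x < P_{j+2}`, `ρ = (t x) mod b` satisfies
`T_{j+1} ≤ ρ ≤ b + T_{j+2} - T_{j+1}`. -/
theorem residue_bounds (hc : IsHJDigits p q m c) (j : ℕ) (hj : j + 2 ≤ c.length) (x : ℤ)
    (hx0 : 0 < x) (hx1 : x < hjP c (j + 2)) :
    TT p q m c (j + 1) ≤ ((tT p q m : ℤ) * x) % (bB p q m : ℤ) ∧
    ((tT p q m : ℤ) * x) % (bB p q m : ℤ) ≤ (bB p q m : ℤ) + TT p q m c (j + 2) - TT p q m c (j + 1) := by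
  obtain ⟨hg, hD, hb, ht, h5, hbt, -⟩ := basic_arith p q m hp hpq hcop hm
  have hb' : (0 : ℤ) < bB p q m := by exact_mod_cast hb
  have hmod := Int.emod_add_mul_ediv ((tT p q m : ℤ) * x) (bB p q m : ℤ)
  have hnn := Int.emod_nonneg ((tT p q m : ℤ) * x) hb'.ne'
  have hlt := Int.emod_lt_of_pos ((tT p q m : ℤ) * x) hb'
  set ρ := ((tT p q m : ℤ) * x) % (bB p q m : ℤ) with hρ
  set y := ((tT p q m : ℤ) * x) / (bB p q m : ℤ) with hy
  have e1 : (tT p q m : ℤ) * x - (bB p q m : ℤ) * y = ρ := by linarith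
  have e2 : (tT p q m : ℤ) * x - (bB p q m : ℤ) * (y + 1) = ρ - bB p q m := by linarith
  constructor
  · have := claimA p q m hp hpq hcop hm c hc j hj x y hx0 hx1 (by rw [e1]; exact hnn)
    rwa [e1] at this
  · have := claimB p q m hp hpq hcop hm c hc j hj x (y + 1) hx0 hx1 (by rw [e2]; linarith)
    rw [e2] at this
    linarith

end

section
variable (p q m : ℕ) (hp : 0 < p) (hpq : p < q) (hcop : Nat.Coprime p q) (hm : 0 < m)
  (c : List ℤ)

omit hp hpq hcop hm in
theorem eE_eq_lL (i : ℕ) : eE p q m c i = lL p q m c i + (m : ℤ) * hjP c i := by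
  unfold eE lL; push_cast; ring

omit hp hpq hcop hm in
theorem D_mul_lL (i : ℕ) :
    ((q : ℤ) - p) * lL p q m c i = (p : ℤ) * m * hjP c i + nN p q m c i := by
  unfold nN eE lL; push_cast; ring

include hp hpq hcop hm

theorem nN_nonneg (hc : IsHJDigits p q m c) (i : ℕ) (hi : i ≤ c.length + 1) :
    0 ≤ nN p q m c i := by
  rcases Nat.eq_zero_or_pos i with h | h
  · subst h; rw [nN_zero]; have : (p : ℤ) < q := by exact_mod_cast hpq
    linarith
  · obtain ⟨j, rfl⟩ := Nat.exists_eq_add_of_le h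
    rw [Nat.add_comm 1 j]
    exact (nN_decr p q m hp hpq hcop hm c hc (c.length - j) j (by omega)).2

theorem nN_lt_D (hc : IsHJDigits p q m c) : ∀ i : ℕ, 1 ≤ i → i ≤ c.length + 1 →
    nN p q m c i < (q : ℤ) - p := by
  intro i
  induction i with
  | zero => intro h; omega
  | succ i ih =>
    intro _ hi
    have h1 := (nN_decr p q m hp hpq hcop hm c hc (c.length - i) i (by omega)).1
    rcases Nat.eq_zero_or_pos i with h | h
    · subst h; rw [nN_zero] at h1; exact h1
    · have := ih h (by omega); linarith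

omit hp hpq hcop hm in
theorem hjP_nonneg (hc : IsHJDigits p q m c) (i : ℕ) (hi : i ≤ c.length + 1) : 0 ≤ hjP c i := by
  rcases Nat.eq_zero_or_pos i with h | h
  · subst h; simp
  · obtain ⟨j, rfl⟩ := Nat.exists_eq_add_of_le h
    rw [Nat.add_comm 1 j]
    obtain ⟨a1, a2⟩ := hjP_incr c hc.1 j (by omega)
    linarith

theorem lL_nonneg (hc : IsHJDigits p q m c) (i : ℕ) (hi : i ≤ c.length + 1) :
    0 ≤ lL p q m c i := by
  have h1 := D_mul_lL p q m c i
  have h2 := nN_nonneg p q m hp hpq hcop hm c hc i hi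
  have h3 := hjP_nonneg p q m c hc i hi
  have hD : (0 : ℤ) < (q : ℤ) - p := by have : (p : ℤ) < q := by exact_mod_cast hpq
                                        linarith
  have h4 : 0 ≤ (p : ℤ) * m * hjP c i := by positivity
  have : 0 ≤ ((q : ℤ) - p) * lL p q m c i := by linarith
  exact nonneg_of_mul_nonneg_right this hD

theorem eE_nonneg (hc : IsHJDigits p q m c) (i : ℕ) (hi : i ≤ c.length + 1) :
    0 ≤ eE p q m c i := by
  rw [eE_eq_lL]
  have h2 := lL_nonneg p q m hp hpq hcop hm c hc i hi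
  have h3 := hjP_nonneg p q m c hc i hi
  have : 0 ≤ (m : ℤ) * hjP c i := by positivity
  linarith

/-- The key divisibility fact: a monomial of weight `(n_i,0)` with `X₀`-exponent `< n_i`
has `B ≥ e_i` and `C ≥ l_i`. -/
theorem key_exponents (hc : IsHJDigits p q m c) (i : ℕ) (hi : 1 ≤ i) (hir : i ≤ c.length)
    (d0 B C : ℕ) (hn : (d0 : ℤ) - (p : ℤ) * B + (q : ℤ) * C = nN p q m c i)
    (hdvd : (m : ℤ) ∣ (B : ℤ) - C) (hlt : (d0 : ℤ) < nN p q m c i) :
    eE p q m c i ≤ B ∧ lL p q m c i ≤ C := by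
  obtain ⟨hg, hD, hb, ht, h5, hbt, -⟩ := basic_arith p q m hp hpq hcop hm
  have hg' : (0 : ℤ) < gcdK p q m := by exact_mod_cast hg
  have hqp : (p : ℤ) < q := by exact_mod_cast hpq
  have hp0 : (0 : ℤ) < p := by exact_mod_cast hp
  have hm0 : (0 : ℤ) < m := by exact_mod_cast hm
  have hD' : (q : ℤ) - p = (gcdK p q m : ℤ) * (bB p q m : ℤ) := by
    have : ((q - p : ℕ) : ℤ) = (gcdK p q m : ℤ) * (bB p q m : ℤ) := by exact_mod_cast hD
    rw [← this]; push_cast [Nat.cast_sub hpq.le]; ring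
  have h5' : (gcdK p q m : ℤ) * (tT p q m : ℤ) + (m : ℤ) * p = ((q : ℤ) - p) * ((alpha p q m : ℤ) + 1) := by
    have : ((gcdK p q m * tT p q m + m * p : ℕ) : ℤ) = (((q - p) * (alpha p q m + 1) : ℕ) : ℤ) := by
      exact_mod_cast h5
    push_cast [Nat.cast_sub hpq.le] at this
    linarith
  have hnD := nN_lt_D p q m hp hpq hcop hm c hc i hi (by omega)
  have hd0 : (0 : ℤ) ≤ d0 := Int.natCast_nonneg _
  have hB0 : (0 : ℤ) ≤ B := Int.natCast_nonneg _
  have hC0 : (0 : ℤ) ≤ C := Int.natCast_nonneg _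
  obtain ⟨x, hx⟩ := hdvd
  -- ω = p B - q C = d0 - n_i < 0
  have hω : (p : ℤ) * B - (q : ℤ) * C < 0 := by linarith
  have hωx : (p : ℤ) * B - (q : ℤ) * C = (p : ℤ) * m * x - ((q : ℤ) - p) * C := by
    have : (B : ℤ) = C + m * x := by linarith
    rw [this]; ring
  -- C ≥ 1
  have hC1 : (1 : ℤ) ≤ C := by
    by_contra hlt0
    push Not at hlt0
    have : (C : ℤ) = 0 := by omega
    rw [this] at hω
    have : 0 ≤ (p : ℤ) * B := by positivity
    linarith
  -- x > 0
  have hxpos : 0 < x := by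
    by_contra hle
    push Not at hle
    have h1 : (p : ℤ) * m * x ≤ 0 := mul_nonpos_of_nonneg_of_nonpos (by positivity) hle
    have h2 : ((q : ℤ) - p) * 1 ≤ ((q : ℤ) - p) * C := mul_le_mul_of_nonneg_left hC1 (by linarith)
    linarith
  -- x ≥ P_i
  have hxP : hjP c i ≤ x := by
    obtain ⟨j, rfl⟩ := Nat.exists_eq_add_of_le hi
    rw [Nat.add_comm 1 j] at *
    rcases Nat.eq_zero_or_pos j with h | h
    · subst h; simp; omega
    · obtain ⟨j', rfl⟩ := Nat.exists_eq_add_of_le h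
      rw [Nat.add_comm 1 j'] at *
      by_contra hlt'
      push Not at hlt'
      -- λ = t x - b y' with y' = (α+1) x - C ; g λ = -ω
      have hl : (gcdK p q m : ℤ) * ((tT p q m : ℤ) * x - (bB p q m : ℤ) * (((alpha p q m : ℤ) + 1) * x - C))
          = -((p : ℤ) * B - (q : ℤ) * C) := by
        rw [hωx]
        linear_combination x * h5' + ((((alpha p q m : ℤ) + 1) * x - C)) * hD'
      have hlpos : 0 ≤ (tT p q m : ℤ) * x - (bB p q m : ℤ) * (((alpha p q m : ℤ) + 1) * x - C) := by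
        have : 0 < (gcdK p q m : ℤ) * ((tT p q m : ℤ) * x - (bB p q m : ℤ) * (((alpha p q m : ℤ) + 1) * x - C)) := by
          rw [hl]; linarith
        exact ((mul_pos_iff_of_pos_left hg').mp this).le
      have hA := claimA p q m hp hpq hcop hm c hc j' (by omega) x _ hxpos hlt' hlpos
      have h1 := mul_le_mul_of_nonneg_left hA hg'.le
      rw [hl, ← nN_eq_TT p q m hp hpq hcop hm] at h1
      have h2 := (nN_decr p q m hp hpq hcop hm c hc (c.length - (j' + 1)) (j' + 1) (by omega)).1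
      linarith
  have hDl := D_mul_lL p q m c i
  have hlC : lL p q m c i ≤ C := by
    by_contra hlt'
    push Not at hlt'
    have h1 : (C : ℤ) + 1 ≤ lL p q m c i := by omega
    have h2 : ((q : ℤ) - p) * (C + 1) ≤ ((q : ℤ) - p) * lL p q m c i :=
      mul_le_mul_of_nonneg_left h1 (by linarith)
    have h3 : (p : ℤ) * m * hjP c i ≤ (p : ℤ) * m * x := mul_le_mul_of_nonneg_left hxP (by positivity)
    nlinarith
  refine ⟨?_, hlC⟩
  rw [eE_eq_lL]
  have h3 : (m : ℤ) * hjP c i ≤ (m : ℤ) * x := mul_le_mul_of_nonneg_left hxP hm0.le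
  linarith

end

section
variable (p q m : ℕ) (hp : 0 < p) (hpq : p < q) (hcop : Nat.Coprime p q) (hm : 0 < m)
  (c : List ℤ)
include hp hpq hcop hm

theorem nN_le_D (hc : IsHJDigits p q m c) (i : ℕ) (hi : i ≤ c.length + 1) :
    nN p q m c i ≤ (q : ℤ) - p := by
  rcases Nat.eq_zero_or_pos i with h | h
  · subst h; rw [nN_zero]
  · exact (nN_lt_D p q m hp hpq hcop hm c hc i h hi).le

/-- A monomial `X₁^B X₂^C` of torus weight `N = qC - pB` with `0 < N < n_{i-1}` and `m ∣ B - C`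
is divisible by `X₁^{e_i} X₂^{l_i}`. -/
theorem key_exponents2 (hc : IsHJDigits p q m c) (i : ℕ) (hi : 1 ≤ i) (hir : i ≤ c.length)
    (B C : ℕ) (hN0 : 0 < (q : ℤ) * C - (p : ℤ) * B)
    (hN1 : (q : ℤ) * C - (p : ℤ) * B < nN p q m c (i - 1))
    (hdvd : (m : ℤ) ∣ (B : ℤ) - C) :
    eE p q m c i ≤ B ∧ lL p q m c i ≤ C := by
  obtain ⟨hg, hD, hb, ht, h5, hbt, -⟩ := basic_arith p q m hp hpq hcop hm
  have hg' : (0 : ℤ) < gcdK p q m := by exact_mod_cast hg
  have hqp : (p : ℤ) < q := by exact_mod_cast hpq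
  have hp0 : (0 : ℤ) < p := by exact_mod_cast hp
  have hm0 : (0 : ℤ) < m := by exact_mod_cast hm
  have hD' : (q : ℤ) - p = (gcdK p q m : ℤ) * (bB p q m : ℤ) := by
    have : ((q - p : ℕ) : ℤ) = (gcdK p q m : ℤ) * (bB p q m : ℤ) := by exact_mod_cast hD
    rw [← this]; push_cast [Nat.cast_sub hpq.le]; ring
  have h5' : (gcdK p q m : ℤ) * (tT p q m : ℤ) + (m : ℤ) * p = ((q : ℤ) - p) * ((alpha p q m : ℤ) + 1) := by
    have : ((gcdK p q m * tT p q m + m * p : ℕ) : ℤ) = (((q - p) * (alpha p q m + 1) : ℕ) : ℤ) := by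
      exact_mod_cast h5
    push_cast [Nat.cast_sub hpq.le] at this
    linarith
  have hnD := nN_lt_D p q m hp hpq hcop hm c hc i hi (by omega)
  have hnD' := nN_le_D p q m hp hpq hcop hm c hc (i - 1) (by omega)
  have hB0 : (0 : ℤ) ≤ B := Int.natCast_nonneg _
  have hC0 : (0 : ℤ) ≤ C := Int.natCast_nonneg _
  obtain ⟨x, hx⟩ := hdvd
  have hωx : (q : ℤ) * C - (p : ℤ) * B = ((q : ℤ) - p) * C - (p : ℤ) * m * x := by
    have : (B : ℤ) = C + m * x := by linarith
    rw [this]; ring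
  -- C ≥ 1
  have hC1 : (1 : ℤ) ≤ C := by
    by_contra hlt0
    push Not at hlt0
    have : (C : ℤ) = 0 := by omega
    rw [this] at hN0
    have : 0 ≤ (p : ℤ) * B := by positivity
    linarith
  -- x > 0
  have hxpos : 0 < x := by
    by_contra hle
    push Not at hle
    have h1 : (p : ℤ) * m * x ≤ 0 := mul_nonpos_of_nonneg_of_nonpos (by positivity) hle
    have h2 : ((q : ℤ) - p) * 1 ≤ ((q : ℤ) - p) * C := mul_le_mul_of_nonneg_left hC1 (by linarith)
    linarith
  -- x ≥ P_i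
  have hxP : hjP c i ≤ x := by
    obtain ⟨j, rfl⟩ := Nat.exists_eq_add_of_le hi
    rw [Nat.add_comm 1 j] at *
    rcases Nat.eq_zero_or_pos j with h | h
    · subst h; simp; omega
    · obtain ⟨j', rfl⟩ := Nat.exists_eq_add_of_le h
      rw [Nat.add_comm 1 j'] at *
      by_contra hlt'
      push Not at hlt'
      have hl : (gcdK p q m : ℤ) * ((tT p q m : ℤ) * x - (bB p q m : ℤ) * (((alpha p q m : ℤ) + 1) * x - C))
          = (q : ℤ) * C - (p : ℤ) * B := by
        rw [hωx]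
        linear_combination x * h5' + ((((alpha p q m : ℤ) + 1) * x - C)) * hD'
      have hlpos : 0 ≤ (tT p q m : ℤ) * x - (bB p q m : ℤ) * (((alpha p q m : ℤ) + 1) * x - C) := by
        have : 0 < (gcdK p q m : ℤ) * ((tT p q m : ℤ) * x - (bB p q m : ℤ) * (((alpha p q m : ℤ) + 1) * x - C)) := by
          rw [hl]; linarith
        exact ((mul_pos_iff_of_pos_left hg').mp this).le
      have hA := claimA p q m hp hpq hcop hm c hc j' (by omega) x _ hxpos hlt' hlpos
      have h1 := mul_le_mul_of_nonneg_left hA hg'.le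
      rw [hl, ← nN_eq_TT p q m hp hpq hcop hm] at h1
      have e : j' + 1 + 1 - 1 = j' + 1 := by omega
      rw [e] at hN1
      linarith
  have hDl := D_mul_lL p q m c i
  have hlC : lL p q m c i ≤ C := by
    by_contra hlt'
    push Not at hlt'
    have h1 : (C : ℤ) + 1 ≤ lL p q m c i := by omega
    have h2 : ((q : ℤ) - p) * (C + 1) ≤ ((q : ℤ) - p) * lL p q m c i :=
      mul_le_mul_of_nonneg_left h1 (by linarith)
    have h3 : (p : ℤ) * m * hjP c i ≤ (p : ℤ) * m * x := mul_le_mul_of_nonneg_left hxP (by positivity)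
    nlinarith
  refine ⟨?_, hlC⟩
  rw [eE_eq_lL]
  have h3 : (m : ℤ) * hjP c i ≤ (m : ℤ) * x := mul_le_mul_of_nonneg_left hxP hm0.le
  linarith

end

end Groth.Agent.Helper23.InvHilbHJ
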