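import Mathlib
import Groth.Prelude.Def_W4c2invhilbsl2

set_option autoImplicit false

namespace Groth.Agent.Helper23.InvHilb

section Ring
variable {A : Type*} [CommRing A] (x0 x1 x2 : A) (p q : ℕ)

/-- In a ring where `x0^(q-p) = x1*x2`, two monomials with the same `(n,c)` agree. -/
theorem mono_eq_of_same (hpq : p < q) (hrel : x0 ^ (q - p) = x1 * x2)
    (d0 d1 d2 e0 e1 e2 : ℕ)
    (hn : (e0 : ℤ) - (p : ℤ) * e1 + (q : ℤ) * e2 = (d0 : ℤ) - (p : ℤ) * d1 + (q : ℤ) * d2)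
    (hc : (d1 : ℤ) - d2 = (e1 : ℤ) - e2) :
    x0 ^ d0 * x1 ^ d1 * x2 ^ d2 = x0 ^ e0 * x1 ^ e1 * x2 ^ e2 := by
  wlog h : e1 ≤ d1 generalizing d0 d1 d2 e0 e1 e2
  · exact (this e0 e1 e2 d0 d1 d2 hn.symm hc.symm (by omega)).symm
  obtain ⟨δ, rfl⟩ := Nat.exists_eq_add_of_le h
  have h2 : d2 = e2 + δ := by push_cast at hc; omega
  subst h2
  have h0 : e0 = d0 + (q - p) * δ := by
    zify [hpq.le]
    push_cast at hn; linarith
  subst h0
  rw [pow_add, pow_add, pow_add, pow_mul, hrel, mul_pow]; ring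

/-- With the extra relation `x0^(mp) x1^m = s`: if `c - c' = m j` with `j ≥ 0` then
`x^d = s^j x^e`. -/
theorem mono_eq_smul (hpq : p < q) (hrel : x0 ^ (q - p) = x1 * x2) (m : ℕ) (s : A)
    (hrel2 : x0 ^ (m * p) * x1 ^ m = s)
    (d0 d1 d2 e0 e1 e2 : ℕ)
    (hn : (e0 : ℤ) - (p : ℤ) * e1 + (q : ℤ) * e2 = (d0 : ℤ) - (p : ℤ) * d1 + (q : ℤ) * d2)
    (j : ℕ) (hc : ((d1 : ℤ) - d2) - ((e1 : ℤ) - e2) = (m : ℤ) * j) :
    x0 ^ d0 * x1 ^ d1 * x2 ^ d2 = s ^ j * (x0 ^ e0 * x1 ^ e1 * x2 ^ e2) := by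
  have h1 : x0 ^ d0 * x1 ^ d1 * x2 ^ d2 = x0 ^ (e0 + m * p * j) * x1 ^ (e1 + m * j) * x2 ^ e2 := by
    apply mono_eq_of_same x0 x1 x2 p q hpq hrel
    · push_cast; linarith
    · push_cast; linarith
  rw [h1, ← hrel2, pow_add, pow_add, mul_pow, ← pow_mul, ← pow_mul]; ring

end Ring

/-- Number theory behind the `J`-type ideals: two exponent triples with the same `n`,
`c ≡ c' mod m`, both `X₀`-exponents `< gcd(m, q-p)` and `c ≤ c'`: then `e = d + v·(0, aq, ap)`. -/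
theorem monoJ_arith (p q m : ℕ) (hpq : p < q) (hcop : Nat.Coprime p q) (hm : 0 < m)
    (d0 d1 d2 e0 e1 e2 : ℕ)
    (hn : (e0 : ℤ) - (p : ℤ) * e1 + (q : ℤ) * e2 = (d0 : ℤ) - (p : ℤ) * d1 + (q : ℤ) * d2)
    (hc : (m : ℤ) ∣ ((d1 : ℤ) - d2) - ((e1 : ℤ) - e2))
    (hd0 : d0 < Nat.gcd m (q - p)) (he0 : e0 < Nat.gcd m (q - p))
    (hle : (d1 : ℤ) - d2 ≤ (e1 : ℤ) - e2) :
    ∃ v : ℕ, e0 = d0 ∧ e1 = d1 + (m / Nat.gcd m (q - p) * q) * v ∧
      e2 = d2 + (m / Nat.gcd m (q - p) * p) * v := by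
  set g := Nat.gcd m (q - p) with hg
  have hgm : g ∣ m := Nat.gcd_dvd_left _ _
  have hgD : g ∣ (q - p) := Nat.gcd_dvd_right _ _
  have hgpos : 0 < g := Nat.gcd_pos_of_pos_left _ hm
  have hD : ((q - p : ℕ) : ℤ) = (q : ℤ) - p := by push_cast [Nat.cast_sub hpq.le]; ring
  -- d0 = e0
  have hgm' : (g : ℤ) ∣ (m : ℤ) := by exact_mod_cast hgm
  have hgD' : (g : ℤ) ∣ (q : ℤ) - p := by rw [← hD]; exact_mod_cast hgD
  have h1 : (g : ℤ) ∣ (d0 : ℤ) - e0 := by
    have : (d0 : ℤ) - e0 = (p : ℤ) * (((d1 : ℤ) - d2) - ((e1 : ℤ) - e2)) - ((q : ℤ) - p) * ((d2 : ℤ) - e2) := by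
      linarith
    rw [this]
    exact dvd_sub (Dvd.dvd.mul_left (hgm'.trans hc) _) (Dvd.dvd.mul_right hgD' _)
  have h0 : d0 = e0 := by
    obtain ⟨t, ht⟩ := h1
    have : t = 0 := by
      by_contra hne
      have : 1 ≤ |t| := Int.one_le_abs hne
      have h3 : |(d0 : ℤ) - e0| = g * |t| := by rw [ht, abs_mul]; simp
      have h4 : |(d0 : ℤ) - e0| < g := by
        rw [abs_lt]; constructor <;> omega
      nlinarith
    rw [this] at ht; omega
  subst h0
  -- p (d1 - e1) = q (d2 - e2)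
  have h2 : (p : ℤ) * ((d1 : ℤ) - e1) = (q : ℤ) * ((d2 : ℤ) - e2) := by linarith
  have hcop' : IsCoprime (q : ℤ) (p : ℤ) := by
    rw [Int.isCoprime_iff_gcd_eq_one]; simpa [Int.gcd_natCast_natCast] using hcop.symm
  have h3 : (q : ℤ) ∣ (d1 : ℤ) - e1 := by
    apply hcop'.dvd_of_dvd_mul_left
    rw [h2]; exact dvd_mul_right _ _
  obtain ⟨u, hu⟩ := h3
  have hq0 : (q : ℤ) ≠ 0 := by have : 0 < q := by omega
                               exact_mod_cast this.ne'
  have h4 : (d2 : ℤ) - e2 = p * u := by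
    have : (q : ℤ) * ((d2 : ℤ) - e2) = q * (p * u) := by rw [← h2, hu]; ring
    exact mul_left_cancel₀ hq0 this
  -- c - c' = (q-p) u, u ≤ 0
  have h5 : ((d1 : ℤ) - d2) - ((e1 : ℤ) - e2) = ((q : ℤ) - p) * u := by
    have : ((d1 : ℤ) - d2) - ((e1 : ℤ) - e2) = ((d1 : ℤ) - e1) - ((d2 : ℤ) - e2) := by ring
    rw [this, hu, h4]; ring
  have hDpos : (0 : ℤ) < (q : ℤ) - p := by
    have : (p : ℤ) < q := by exact_mod_cast hpq
    linarith
  have hu0 : u ≤ 0 := by
    by_contra hpos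
    push Not at hpos
    have : 0 < ((q : ℤ) - p) * u := mul_pos hDpos hpos
    linarith
  obtain ⟨u', hu'⟩ : ∃ u' : ℕ, u = -(u' : ℤ) := ⟨(-u).toNat, by omega⟩
  subst hu'
  -- a ∣ u'
  have h6 : m ∣ (q - p) * u' := by
    have : (m : ℤ) ∣ ((q - p : ℕ) : ℤ) * (u' : ℤ) := by
      rw [hD]
      have h7 := hc
      rw [h5] at h7
      have : ((q : ℤ) - p) * (u' : ℤ) = -(((q : ℤ) - p) * -(u' : ℤ)) := by ring
      rw [this]; exact (dvd_neg).mpr h7
    exact_mod_cast this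
  have hab : Nat.Coprime (m / g) ((q - p) / g) := Nat.coprime_div_gcd_div_gcd hgpos
  have h7 : m / g ∣ u' := by
    obtain ⟨a, ha⟩ := hgm
    obtain ⟨b, hb⟩ := hgD
    have ha' : m / g = a := by rw [ha]; exact Nat.mul_div_cancel_left _ hgpos
    have hb' : (q - p) / g = b := by rw [hb]; exact Nat.mul_div_cancel_left _ hgpos
    rw [ha', hb'] at hab
    rw [ha']
    rw [ha, hb, mul_assoc] at h6
    have : a ∣ b * u' := Nat.dvd_of_mul_dvd_mul_left hgpos h6
    exact hab.dvd_of_dvd_mul_left this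
  obtain ⟨v, hv⟩ := h7
  refine ⟨v, rfl, ?_, ?_⟩
  · have : (e1 : ℤ) = d1 + (m / g * q : ℕ) * v := by
      push_cast
      have : (u' : ℤ) = ((m / g : ℕ) : ℤ) * v := by exact_mod_cast hv
      push_cast at this
      rw [this] at hu
      linarith
    exact_mod_cast this
  · have : (e2 : ℤ) = d2 + (m / g * p : ℕ) * v := by
      push_cast
      have : (u' : ℤ) = ((m / g : ℕ) : ℤ) * v := by exact_mod_cast hv
      push_cast at this
      rw [this] at h4
      linarith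
    exact_mod_cast this

open MvPolynomial W4c2invhilbsl2


section WH
variable {k : Type*} [CommRing k] {σ : Type*} {M : Type*} [AddCommMonoid M]

theorem wh_mem_of_monomials {w : σ → M} {ν : M} (S : Submodule k (MvPolynomial σ k))
    (h : ∀ d : σ →₀ ℕ, Finsupp.weight w d = ν → monomial d (1 : k) ∈ S)
    {f : MvPolynomial σ k} (hf : f ∈ weightedHomogeneousSubmodule k w ν) : f ∈ S := by
  rw [f.as_sum]
  refine Submodule.sum_mem _ fun d hd => ?_
  have h1 : monomial d (coeff d f) = coeff d f • monomial d (1 : k) := by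
    rw [smul_monomial, smul_eq_mul, mul_one]
  rw [h1]
  exact S.smul_mem _ (h d (hf (mem_support_iff.mp hd)))

end WH

theorem weight_wt3 (p q m : ℕ) (d : Fin 3 →₀ ℕ) :
    Finsupp.weight (wt3 p q m) d =
      ((d 0 : ℤ) - (p : ℤ) * d 1 + (q : ℤ) * d 2, ((d 2 : ZMod m) - (d 1 : ZMod m))) := by
  rw [Finsupp.weight_apply, Finsupp.sum_fintype _ _ (fun i => by simp), Fin.sum_univ_three]
  simp only [wt3, Matrix.cons_val_zero, Matrix.cons_val_one, Matrix.cons_val_two, Matrix.cons_val]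
  ext
  · simp; ring
  · simp; ring

theorem weight_wt5 (p q m : ℕ) (d : Fin 5 →₀ ℕ) :
    Finsupp.weight (wt5 p q m) d =
      ((d 0 : ℤ) - (p : ℤ) * ((d 1 : ℤ) + d 2) + (q : ℤ) * ((d 3 : ℤ) + d 4),
        (((d 3 : ZMod m) + (d 4 : ZMod m)) - ((d 1 : ZMod m) + (d 2 : ZMod m)))) := by
  rw [Finsupp.weight_apply, Finsupp.sum_fintype _ _ (fun i => by simp), Fin.sum_univ_five]
  simp only [wt5, Matrix.cons_val_zero, Matrix.cons_val_one, Matrix.cons_val_two, Matrix.cons_val]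
  ext
  · simp; ring
  · simp; ring

theorem monomial_eq3 {k : Type*} [CommRing k] (d : Fin 3 →₀ ℕ) :
    (monomial d (1 : k)) = X 0 ^ d 0 * X 1 ^ d 1 * X 2 ^ d 2 := by
  rw [monomial_eq, C_1, one_mul, Finsupp.prod_fintype _ _ (fun i => by simp), Fin.prod_univ_three]

theorem monomial_eq5 {k : Type*} [CommRing k] (d : Fin 5 →₀ ℕ) :
    (monomial d (1 : k)) = X 0 ^ d 0 * X 1 ^ d 1 * X 2 ^ d 2 * X 3 ^ d 3 * X 4 ^ d 4 := by
  rw [monomial_eq, C_1, one_mul, Finsupp.prod_fintype _ _ (fun i => by simp), Fin.prod_univ_five]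

theorem wh_mono3 {k : Type*} [CommRing k] (p q m : ℕ) (a b c : ℕ) :
    IsWeightedHomogeneous (wt3 p q m) (X 0 ^ a * X 1 ^ b * X 2 ^ c : MvPolynomial (Fin 3) k)
      ((a : ℤ) - (p : ℤ) * b + (q : ℤ) * c, ((c : ZMod m) - (b : ZMod m))) := by
  have h := ((((isWeightedHomogeneous_X k (wt3 p q m) 0).pow a).mul
    ((isWeightedHomogeneous_X k (wt3 p q m) 1).pow b)).mul
    ((isWeightedHomogeneous_X k (wt3 p q m) 2).pow c))
  convert h using 1
  simp only [wt3, Matrix.cons_val_zero, Matrix.cons_val_one, Matrix.cons_val_two, Matrix.cons_val]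
  ext
  · simp; ring
  · simp; ring

theorem wh_mono5 {k : Type*} [CommRing k] (p q m : ℕ) (a b c d e : ℕ) :
    IsWeightedHomogeneous (wt5 p q m)
      (X 0 ^ a * X 1 ^ b * X 2 ^ c * X 3 ^ d * X 4 ^ e : MvPolynomial (Fin 5) k)
      ((a : ℤ) - (p : ℤ) * ((b : ℤ) + c) + (q : ℤ) * ((d : ℤ) + e),
        (((d : ZMod m) + (e : ZMod m)) - ((b : ZMod m) + (c : ZMod m)))) := by
  have h := ((((((isWeightedHomogeneous_X k (wt5 p q m) 0).pow a).mul
    ((isWeightedHomogeneous_X k (wt5 p q m) 1).pow b)).mul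
    ((isWeightedHomogeneous_X k (wt5 p q m) 2).pow c)).mul
    ((isWeightedHomogeneous_X k (wt5 p q m) 3).pow d)).mul
    ((isWeightedHomogeneous_X k (wt5 p q m) 4).pow e))
  convert h using 1
  simp only [wt5, Matrix.cons_val_zero, Matrix.cons_val_one, Matrix.cons_val_two, Matrix.cons_val]
  ext
  · simp; ring
  · simp; ring



section Gen
variable {k : Type*} [CommRing k] {σ : Type*} {M : Type*} [AddCommMonoid M]

/-- Polynomials congruent mod `P` to a combination `∑ a i * g i` with weight-zero coefficients. -/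
def genSub (w : σ → M) (P : Ideal (MvPolynomial σ k)) {ι : Type*} [Fintype ι]
    (g : ι → MvPolynomial σ k) : Submodule k (MvPolynomial σ k) where
  carrier := {f | ∃ a : ι → MvPolynomial σ k,
    (∀ i, a i ∈ weightedHomogeneousSubmodule k w 0) ∧ f - ∑ i, a i * g i ∈ P}
  add_mem' := by
    rintro f f' ⟨a, ha, h⟩ ⟨a', ha', h'⟩
    refine ⟨a + a', fun i => Submodule.add_mem _ (ha i) (ha' i), ?_⟩
    have : f + f' - ∑ i, (a + a') i * g i = (f - ∑ i, a i * g i) + (f' - ∑ i, a' i * g i) := by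
      simp only [Pi.add_apply, add_mul, Finset.sum_add_distrib]; ring
    rw [this]; exact P.add_mem h h'
  zero_mem' := ⟨0, fun i => Submodule.zero_mem _, by simp⟩
  smul_mem' := by
    rintro c f ⟨a, ha, h⟩
    refine ⟨c • a, fun i => Submodule.smul_mem _ c (ha i), ?_⟩
    have : c • f - ∑ i, (c • a) i * g i = C c * (f - ∑ i, a i * g i) := by
      simp only [Pi.smul_apply, MvPolynomial.smul_eq_C_mul, mul_sub, Finset.mul_sum, mul_assoc]
    rw [this]; exact P.mul_mem_left _ h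

theorem mem_genSub_iff (w : σ → M) (P : Ideal (MvPolynomial σ k)) {ι : Type*} [Fintype ι]
    (g : ι → MvPolynomial σ k) (f : MvPolynomial σ k) :
    f ∈ genSub w P g ↔ ∃ a : ι → MvPolynomial σ k,
      (∀ i, a i ∈ weightedHomogeneousSubmodule k w 0) ∧ f - ∑ i, a i * g i ∈ P := Iff.rfl

theorem mem_genSub_of_mul (w : σ → M) (P : Ideal (MvPolynomial σ k)) {ι : Type*} [Fintype ι]
    [DecidableEq ι] (g : ι → MvPolynomial σ k) (i : ι) (a : MvPolynomial σ k)
    (ha : a ∈ weightedHomogeneousSubmodule k w 0) : a * g i ∈ genSub w P g := by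
  refine ⟨Pi.single i a, fun j => ?_, ?_⟩
  · by_cases h : j = i
    · subst h; simpa using ha
    · rw [Pi.single_eq_of_ne h]; exact Submodule.zero_mem _
  · rw [Finset.sum_eq_single i]
    · simp
    · intro j _ hj; rw [Pi.single_eq_of_ne hj, zero_mul]
    · intro h; exact absurd (Finset.mem_univ i) h

theorem mem_genSub_of_mem (w : σ → M) (P : Ideal (MvPolynomial σ k)) {ι : Type*} [Fintype ι]
    (g : ι → MvPolynomial σ k) (f : MvPolynomial σ k) (hf : f ∈ P) : f ∈ genSub w P g :=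
  ⟨0, fun i => Submodule.zero_mem _, by simpa using hf⟩

end Gen



theorem smul_eq_mk_C_mul {σ : Type*} {k : Type*} [CommRing k] (I : Ideal (MvPolynomial σ k))
    (c : k) (v : MvPolynomial σ k ⧸ I) : c • v = Ideal.Quotient.mk I (C c) * v := by
  obtain ⟨f, rfl⟩ := Ideal.Quotient.mk_surjective v
  rw [← map_mul, ← MvPolynomial.smul_eq_C_mul]
  rfl

theorem piece_rank_le_one {σ : Type*} {k : Type*} [Field k] {M : Type*} [AddCommMonoid M]
    (w : σ → M) (I : Ideal (MvPolynomial σ k)) (ν : M) (v₀ : MvPolynomial σ k ⧸ I)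
    (h : ∀ d : σ →₀ ℕ, Finsupp.weight w d = ν →
      ∃ c : k, Ideal.Quotient.mk I (monomial d 1) = c • v₀) :
    Module.rank k (piece k w I ν) ≤ 1 := by
  rw [rank_submodule_le_one_iff']
  refine ⟨v₀, ?_⟩
  unfold piece
  rw [Submodule.map_le_iff_le_comap]
  intro f hf
  refine wh_mem_of_monomials _ ?_ hf
  intro d hd
  rw [Submodule.mem_comap, Submodule.mem_span_singleton]
  obtain ⟨c, hc⟩ := h d hd
  exact ⟨c, hc.symm⟩

theorem exists_min_c {ι : Type*} (T : Set ι) (c : ι → ℤ) (b : ℤ) (hb : ∀ d ∈ T, b ≤ c d)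
    (hT : T.Nonempty) : ∃ d ∈ T, ∀ e ∈ T, c d ≤ c e := by
  obtain ⟨lb, ⟨d, hd, hdc⟩, hmin⟩ := Int.exists_least_of_bdd (P := fun z => ∃ d ∈ T, c d = z)
    ⟨b, fun z ⟨d, hd, hz⟩ => hz ▸ hb d hd⟩ (by obtain ⟨d, hd⟩ := hT; exact ⟨c d, d, hd, rfl⟩)
  exact ⟨d, hd, fun e he => hdc ▸ hmin _ ⟨e, he, rfl⟩⟩

/-- lower bound for `c = d₁ - d₂` given the torus weight `n`. -/
theorem c_lower_bound (p q : ℕ) (hp : 0 < p) (hpq : p < q) (d0 d1 d2 : ℕ) (n : ℤ)
    (hn : (d0 : ℤ) - (p : ℤ) * d1 + (q : ℤ) * d2 = n) : -|n| ≤ (d1 : ℤ) - d2 := by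
  have hqp : (p : ℤ) < q := by exact_mod_cast hpq
  have hp0 : (0 : ℤ) < p := by exact_mod_cast hp
  have h0 : (0 : ℤ) ≤ d0 := Int.natCast_nonneg _
  have h1 : (0 : ℤ) ≤ d1 := Int.natCast_nonneg _
  have h2 : (0 : ℤ) ≤ d2 := Int.natCast_nonneg _
  rcases le_or_gt 0 ((d1 : ℤ) - d2) with h | h
  · have := abs_nonneg n; linarith
  · have h3 : (d2 : ℤ) - d1 ≤ n := by nlinarith
    have := le_abs_self n
    linarith

section Dep
variable {k : Type*} [Field k] {A : Type*} [CommRing A] [Algebra k A]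

/-- `x` and `y` are both scalar multiples of a common element. -/
def Dep (k : Type*) [Field k] {A : Type*} [CommRing A] [Algebra k A] (x y : A) : Prop :=
  ∃ z : A, ∃ α β : k, x = α • z ∧ y = β • z

theorem Dep.symm {x y : A} (h : Dep k x y) : Dep k y x := by
  obtain ⟨z, α, β, h1, h2⟩ := h
  exact ⟨z, β, α, h2, h1⟩

theorem Dep.mul_left {x y : A} (h : Dep k x y) (r : A) : Dep k (r * x) (r * y) := by
  obtain ⟨z, α, β, h1, h2⟩ := h
  exact ⟨r * z, α, β, by rw [h1, mul_smul_comm], by rw [h2, mul_smul_comm]⟩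

theorem Dep.zero_left (y : A) : Dep k 0 y := ⟨y, 0, 1, by simp, by simp⟩
theorem Dep.zero_right (x : A) : Dep k x 0 := ⟨x, 1, 0, by simp, by simp⟩
theorem Dep.refl (x : A) : Dep k x x := ⟨x, 1, 1, by simp, by simp⟩
theorem Dep.smul_left (a : k) (x : A) : Dep k (a • x) x := ⟨x, a, 1, rfl, by simp⟩
theorem Dep.of_eq {x y : A} (h : x = y) : Dep k x y := h ▸ Dep.refl x
theorem Dep.smul_smul (a b : k) (x : A) : Dep k (a • x) (b • x) := ⟨x, a, b, rfl, rfl⟩

end Dep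

section Rank
variable {k : Type*} [Field k] {σ : Type*} {M : Type*} [AddCommGroup M]

theorem rank_le_one_of_dep (w : σ → M) (I : Ideal (MvPolynomial σ k)) (ν : M)
    (h : ∀ d d' : σ →₀ ℕ, Finsupp.weight w d = ν → Finsupp.weight w d' = ν →
      Dep k (Ideal.Quotient.mk I (monomial d 1)) (Ideal.Quotient.mk I (monomial d' 1))) :
    Module.rank k (piece k w I ν) ≤ 1 := by
  by_cases hz : ∀ d : σ →₀ ℕ, Finsupp.weight w d = ν → Ideal.Quotient.mk I (monomial d 1) = 0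
  · apply piece_rank_le_one w I ν 0
    intro d hd
    exact ⟨0, by rw [hz d hd, zero_smul]⟩
  · push Not at hz
    obtain ⟨d₀, hd₀, hne⟩ := hz
    apply piece_rank_le_one w I ν (Ideal.Quotient.mk I (monomial d₀ 1))
    intro d hd
    obtain ⟨z, α, β, h1, h2⟩ := h d₀ d hd₀ hd
    have hα : α ≠ 0 := by
      rintro rfl
      rw [zero_smul] at h1
      exact hne h1
    refine ⟨β * α⁻¹, ?_⟩
    rw [h2, h1, smul_smul, mul_assoc, inv_mul_cancel₀ hα, mul_one]

/-- Reduction to pairs of monomials with disjoint supports. -/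
theorem dep_of_disjoint (w : σ → M) (I : Ideal (MvPolynomial σ k))
    (h : ∀ v v' : σ →₀ ℕ, (∀ j, v j = 0 ∨ v' j = 0) → Finsupp.weight w v = Finsupp.weight w v' →
      Dep k (Ideal.Quotient.mk I (monomial v 1)) (Ideal.Quotient.mk I (monomial v' 1)))
    (d d' : σ →₀ ℕ) (hd : Finsupp.weight w d = Finsupp.weight w d') :
    Dep k (Ideal.Quotient.mk I (monomial d 1)) (Ideal.Quotient.mk I (monomial d' 1)) := by
  classical
  have e1 : d = d ⊓ d' + (d - d ⊓ d') := (add_tsub_cancel_of_le inf_le_left).symm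
  have e2 : d' = d ⊓ d' + (d' - d ⊓ d') := (add_tsub_cancel_of_le inf_le_right).symm
  have hw : Finsupp.weight w (d - d ⊓ d') = Finsupp.weight w (d' - d ⊓ d') := by
    have h1 : Finsupp.weight w d = Finsupp.weight w (d ⊓ d') + Finsupp.weight w (d - d ⊓ d') := by
      conv_lhs => rw [e1]
      rw [map_add]
    have h2 : Finsupp.weight w d' = Finsupp.weight w (d ⊓ d') + Finsupp.weight w (d' - d ⊓ d') := by
      conv_lhs => rw [e2]
      rw [map_add]
    rw [h1, h2] at hd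
    exact add_left_cancel hd
  have hdis : ∀ j, (d - d ⊓ d') j = 0 ∨ (d' - d ⊓ d') j = 0 := by
    intro j
    simp only [Finsupp.tsub_apply, Finsupp.inf_apply]
    rcases le_total (d j) (d' j) with hle | hle
    · left; rw [min_eq_left hle]; omega
    · right; rw [min_eq_right hle]; omega
  have key := (h _ _ hdis hw).mul_left (Ideal.Quotient.mk I (monomial (d ⊓ d') 1))
  rw [← map_mul, ← map_mul, monomial_mul, monomial_mul, one_mul, ← e1, ← e2] at key
  exact key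

end Rank

end Groth.Agent.Helper23.InvHilb
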