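import Mathlib
import Groth.Agent.Lib.Helper23.InvHilbLib
import Groth.Agent.Lib.Helper23.InvHilbHJ

set_option autoImplicit false

namespace Groth.Agent.Helper23.InvHilbL
open MvPolynomial W4c2invhilbsl2 Groth.Agent.Helper23.InvHilb Groth.Agent.Helper23.InvHilbHJ

section
variable (k : Type*) [Field k] (p q m : ℕ) (c : List ℤ) (i : ℕ) (s : k)

theorem F1 : (Ideal.Quotient.mk (idealL k p q m c i s) (X 0)) ^ (nN p q m c (i - 1)).toNat = 0 := by
  rw [← map_pow, Ideal.Quotient.eq_zero_iff_mem]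
  exact Ideal.mem_sup_left (Ideal.subset_span (by simp))

theorem F2 : (Ideal.Quotient.mk (idealL k p q m c i s) (X 1)) ^ (eE p q m c i).toNat *
    (Ideal.Quotient.mk (idealL k p q m c i s) (X 2)) ^ (lL p q m c i).toNat =
    s • (Ideal.Quotient.mk (idealL k p q m c i s) (X 0)) ^ (nN p q m c i).toNat := by
  rw [smul_eq_mk_C_mul, ← map_pow, ← map_pow, ← map_pow, ← map_mul, ← map_mul, eq_comm,
    Ideal.Quotient.eq]
  exact Ideal.mem_sup_left (Ideal.subset_span (by simp))

theorem F3 (d0 d1 d2 : ℕ) (hne : ¬ (d0 = 0 ∧ d1 = 0 ∧ d2 = 0))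
    (h1 : (d0 : ℤ) - (p : ℤ) * d1 + (q : ℤ) * d2 = 0) (h2 : (m : ℤ) ∣ (d1 : ℤ) - d2) :
    (Ideal.Quotient.mk (idealL k p q m c i s) (X 0)) ^ d0 *
      (Ideal.Quotient.mk (idealL k p q m c i s) (X 1)) ^ d1 *
      (Ideal.Quotient.mk (idealL k p q m c i s) (X 2)) ^ d2 = 0 := by
  set d : Fin 3 →₀ ℕ := Finsupp.equivFunOnFinite.symm ![d0, d1, d2] with hd
  have e0 : d 0 = d0 := by simp [hd]
  have e1 : d 1 = d1 := by simp [hd]
  have e2 : d 2 = d2 := by simp [hd]
  have hmem : (monomial d (1 : k)) ∈ idealL k p q m c i s := by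
    apply Ideal.mem_sup_right
    apply Ideal.subset_span
    refine ⟨d, ?_, ?_, rfl⟩
    · intro h0
      apply hne
      rw [← e0, ← e1, ← e2, h0]; simp
    · rw [weight_wt3, e0, e1, e2]
      ext
      · simpa using h1
      · simp only [Prod.snd_zero]
        have : (((d1 : ℤ) - d2 : ℤ) : ZMod m) = 0 := (ZMod.intCast_zmod_eq_zero_iff_dvd _ _).mpr h2
        push_cast at this
        linear_combination (-1 : ZMod m) * this
  have := Ideal.Quotient.eq_zero_iff_mem.mpr hmem
  rw [monomial_eq3, e0, e1, e2] at this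
  simpa only [map_mul, map_pow] using this

end

section
variable (k : Type*) [Field k] (p q m : ℕ) (hp : 0 < p) (hpq : p < q) (hcop : Nat.Coprime p q)
  (hm : 0 < m) (c : List ℤ) (hc : IsHJDigits p q m c) (i : ℕ) (hi : 1 ≤ i) (hir : i ≤ c.length)
  (s : k)
include hp hpq hcop hm hc hi hir

theorem typeA : ∀ n a b : ℕ, a + b = n → 0 < (q : ℤ) * b - (p : ℤ) * a → (m : ℤ) ∣ (a : ℤ) - b →
    Dep k ((Ideal.Quotient.mk (idealL k p q m c i s) (X 1)) ^ a *
        (Ideal.Quotient.mk (idealL k p q m c i s) (X 2)) ^ b)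
      ((Ideal.Quotient.mk (idealL k p q m c i s) (X 0)) ^ ((q : ℤ) * b - (p : ℤ) * a).toNat) := by
  have hn0 := nN_nonneg p q m hp hpq hcop hm c hc i (by omega)
  have hn0' := nN_nonneg p q m hp hpq hcop hm c hc (i - 1) (by omega)
  have he0 := eE_nonneg p q m hp hpq hcop hm c hc i (by omega)
  have hl0 := lL_nonneg p q m hp hpq hcop hm c hc i (by omega)
  have hN : (((nN p q m c i).toNat : ℕ) : ℤ) = nN p q m c i := Int.toNat_of_nonneg hn0
  have hN' : (((nN p q m c (i - 1)).toNat : ℕ) : ℤ) = nN p q m c (i - 1) := Int.toNat_of_nonneg hn0'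
  have hE : (((eE p q m c i).toNat : ℕ) : ℤ) = eE p q m c i := Int.toNat_of_nonneg he0
  have hL : (((lL p q m c i).toNat : ℕ) : ℤ) = lL p q m c i := Int.toNat_of_nonneg hl0
  have hnEL : nN p q m c i = -(p : ℤ) * eE p q m c i + (q : ℤ) * lL p q m c i := rfl
  have hEL := eE_eq_lL p q m c i
  have hPi : 1 ≤ hjP c i := by
    obtain ⟨j, rfl⟩ := Nat.exists_eq_add_of_le hi
    rw [Nat.add_comm 1 j]
    obtain ⟨a1, a2⟩ := hjP_incr c hc.1 j (by omega)
    omega
  have hm0 : (0 : ℤ) < m := by exact_mod_cast hm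
  have hE1 : 1 ≤ eE p q m c i := by
    rw [hEL]
    have : (m : ℤ) * 1 ≤ (m : ℤ) * hjP c i := mul_le_mul_of_nonneg_left hPi hm0.le
    linarith
  set x0 := Ideal.Quotient.mk (idealL k p q m c i s) (X 0) with hx0
  set x1 := Ideal.Quotient.mk (idealL k p q m c i s) (X 1) with hx1
  set x2 := Ideal.Quotient.mk (idealL k p q m c i s) (X 2) with hx2
  have hF1 : x0 ^ (nN p q m c (i - 1)).toNat = 0 := F1 k p q m c i s
  have hF2 : x1 ^ (eE p q m c i).toNat * x2 ^ (lL p q m c i).toNat = s • x0 ^ (nN p q m c i).toNat :=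
    F2 k p q m c i s
  intro n
  induction n using Nat.strong_induction_on with
  | _ n ih =>
    intro a b hab hpos hdvd
    have hNab : ((((q : ℤ) * b - (p : ℤ) * a).toNat : ℕ) : ℤ) = (q : ℤ) * b - (p : ℤ) * a :=
      Int.toNat_of_nonneg hpos.le
    by_cases hbig : (nN p q m c (i - 1)).toNat ≤ ((q : ℤ) * b - (p : ℤ) * a).toNat
    · obtain ⟨r, hr⟩ := Nat.exists_eq_add_of_le hbig
      rw [hr, pow_add, hF1, zero_mul]
      exact Dep.zero_right _
    · push Not at hbig
      have hlt : (q : ℤ) * b - (p : ℤ) * a < nN p q m c (i - 1) := by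
        rw [← hNab, ← hN']; exact_mod_cast hbig
      obtain ⟨k1, k2⟩ := key_exponents2 p q m hp hpq hcop hm c hc i hi hir a b hpos hlt hdvd
      have k1' : (eE p q m c i).toNat ≤ a := by rw [← hE] at k1; exact_mod_cast k1
      have k2' : (lL p q m c i).toNat ≤ b := by rw [← hL] at k2; exact_mod_cast k2
      obtain ⟨a', ha'⟩ := Nat.exists_eq_add_of_le k1'
      obtain ⟨b', hb'⟩ := Nat.exists_eq_add_of_le k2'
      have hmono : x1 ^ a * x2 ^ b = (s • x0 ^ (nN p q m c i).toNat) * (x1 ^ a' * x2 ^ b') := by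
        rw [← hF2, ha', hb', pow_add, pow_add]; ring
      -- Z = q b' - p a' = N - n_i
      have hZ : (q : ℤ) * b' - (p : ℤ) * a' = ((q : ℤ) * b - (p : ℤ) * a) - nN p q m c i := by
        have ha'' : (a : ℤ) = eE p q m c i + a' := by rw [← hE]; exact_mod_cast ha'
        have hb'' : (b : ℤ) = lL p q m c i + b' := by rw [← hL]; exact_mod_cast hb'
        rw [ha'', hb'', hnEL]; ring
      have hdvd' : (m : ℤ) ∣ (a' : ℤ) - b' := by
        have ha'' : (a : ℤ) = eE p q m c i + a' := by rw [← hE]; exact_mod_cast ha'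
        have hb'' : (b : ℤ) = lL p q m c i + b' := by rw [← hL]; exact_mod_cast hb'
        have : (a' : ℤ) - b' = ((a : ℤ) - b) - (m : ℤ) * hjP c i := by
          rw [ha'', hb'', hEL]; ring
        rw [this]
        exact dvd_sub hdvd (dvd_mul_right _ _)
      rcases lt_trichotomy ((q : ℤ) * b' - (p : ℤ) * a') 0 with hZneg | hZ0 | hZpos
      · -- N < n_i
        have hlt2 : ((q : ℤ) * b - (p : ℤ) * a).toNat < (nN p q m c i).toNat := by
          have : (q : ℤ) * b - (p : ℤ) * a < nN p q m c i := by linarith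
          rw [← hNab, ← hN] at this; exact_mod_cast this
        obtain ⟨r, hr⟩ := Nat.exists_eq_add_of_lt hlt2
        have hzero : x0 ^ (r + 1) * x1 ^ a' * x2 ^ b' = 0 := by
          apply F3 k p q m c i s
          · omega
          · have : ((r + 1 : ℕ) : ℤ) = nN p q m c i - ((q : ℤ) * b - (p : ℤ) * a) := by
              rw [← hN, ← hNab]; rw [hr]; push_cast; ring
            rw [this]; linarith
          · exact hdvd'
        have : x1 ^ a * x2 ^ b = 0 := by
          rw [hmono, hr, smul_mul_assoc]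
          have : x0 ^ (((q : ℤ) * b - (p : ℤ) * a).toNat + r + 1) * (x1 ^ a' * x2 ^ b') =
              x0 ^ ((q : ℤ) * b - (p : ℤ) * a).toNat * (x0 ^ (r + 1) * x1 ^ a' * x2 ^ b') := by
            rw [add_assoc, pow_add]; ring
          rw [this, hzero, mul_zero, smul_zero]
        rw [this]
        exact Dep.zero_left _
      · by_cases hab0 : a' = 0 ∧ b' = 0
        · obtain ⟨rfl, rfl⟩ := hab0
          have : ((q : ℤ) * b - (p : ℤ) * a).toNat = (nN p q m c i).toNat := by
            have : (q : ℤ) * b - (p : ℤ) * a = nN p q m c i := by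
              rw [hZ] at hZ0; linarith
            rw [this]
          rw [hmono, this]
          simp only [pow_zero, mul_one]
          exact Dep.smul_left _ _
        · have hzero : x0 ^ 0 * x1 ^ a' * x2 ^ b' = 0 := by
            apply F3 k p q m c i s
            · omega
            · push_cast; linarith
            · exact hdvd'
          rw [pow_zero, one_mul] at hzero
          rw [hmono, hzero, mul_zero]
          exact Dep.zero_left _
      · have hE1' : 1 ≤ (eE p q m c i).toNat := by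
          have : (1 : ℤ) ≤ ((eE p q m c i).toNat : ℤ) := by rw [hE]; exact hE1
          exact_mod_cast this
        obtain ⟨z, α, β, h1, h2⟩ := ih (a' + b') (by omega) a' b' rfl hZpos hdvd'
        have hsplit : ((q : ℤ) * b - (p : ℤ) * a).toNat =
            (nN p q m c i).toNat + ((q : ℤ) * b' - (p : ℤ) * a').toNat := by
          have hZ' : ((((q : ℤ) * b' - (p : ℤ) * a').toNat : ℕ) : ℤ) = (q : ℤ) * b' - (p : ℤ) * a' :=
            Int.toNat_of_nonneg hZpos.le
          have : ((((q : ℤ) * b - (p : ℤ) * a).toNat : ℕ) : ℤ) =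
              (((nN p q m c i).toNat + ((q : ℤ) * b' - (p : ℤ) * a').toNat : ℕ) : ℤ) := by
            push_cast; rw [hNab, hN, hZ', hZ]; ring
          exact_mod_cast this
        refine ⟨x0 ^ (nN p q m c i).toNat * z, s * α, β, ?_, ?_⟩
        · rw [hmono, h1, smul_mul_assoc, mul_smul_comm, smul_smul]
        · rw [hsplit, pow_add, h2, mul_smul_comm]

end

section
variable (k : Type*) [Field k] (p q m : ℕ) (hp : 0 < p) (hpq : p < q) (hcop : Nat.Coprime p q)
  (hm : 0 < m) (c : List ℤ) (hc : IsHJDigits p q m c) (i : ℕ) (hi : 1 ≤ i) (hir : i ≤ c.length)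
  (s : k)

omit hp hpq hcop hm hc hi hir in
/-- a weight-zero monomial is `1` or `0` in the quotient. -/
theorem dep_one (d0 d1 d2 : ℕ)
    (h1 : (d0 : ℤ) - (p : ℤ) * d1 + (q : ℤ) * d2 = 0) (h2 : (m : ℤ) ∣ (d1 : ℤ) - d2) :
    Dep k ((Ideal.Quotient.mk (idealL k p q m c i s) (X 0)) ^ d0 *
      (Ideal.Quotient.mk (idealL k p q m c i s) (X 1)) ^ d1 *
      (Ideal.Quotient.mk (idealL k p q m c i s) (X 2)) ^ d2) 1 := by
  by_cases h : d0 = 0 ∧ d1 = 0 ∧ d2 = 0
  · obtain ⟨rfl, rfl, rfl⟩ := h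
    simp only [pow_zero, mul_one]
    exact Dep.refl _
  · rw [F3 k p q m c i s d0 d1 d2 h h1 h2]
    exact Dep.zero_left _

include hp hpq hcop hm hc hi hir

theorem dep_w0 (v v' : Fin 3 →₀ ℕ) (hdis : ∀ j, v j = 0 ∨ v' j = 0)
    (hw : Finsupp.weight (wt3 p q m) v = Finsupp.weight (wt3 p q m) v') (h0 : v' 0 = 0) :
    Dep k (Ideal.Quotient.mk (idealL k p q m c i s) (monomial v 1))
      (Ideal.Quotient.mk (idealL k p q m c i s) (monomial v' 1)) := by
  have hqp : (p : ℤ) < q := by exact_mod_cast hpq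
  have hp0 : (0 : ℤ) < p := by exact_mod_cast hp
  rw [weight_wt3, weight_wt3, Prod.ext_iff] at hw
  obtain ⟨h1, h2⟩ := hw
  simp only at h1 h2
  rw [h0] at h1
  have hdvd : (m : ℤ) ∣ ((v 1 : ℤ) - v 2) - ((v' 1 : ℤ) - v' 2) := by
    rw [← ZMod.intCast_zmod_eq_zero_iff_dvd]
    push_cast
    linear_combination (-1 : ZMod m) * h2
  rw [monomial_eq3, monomial_eq3, h0]
  simp only [map_mul, map_pow, pow_zero, one_mul]
  have hv0 : (0 : ℤ) ≤ v 0 := Int.natCast_nonneg _
  have hv1 : (0 : ℤ) ≤ v 1 := Int.natCast_nonneg _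
  have hv2 : (0 : ℤ) ≤ v 2 := Int.natCast_nonneg _
  have hv1' : (0 : ℤ) ≤ v' 1 := Int.natCast_nonneg _
  have hv2' : (0 : ℤ) ≤ v' 2 := Int.natCast_nonneg _
  rcases hdis 1 with h11 | h11 <;> rcases hdis 2 with h22 | h22
  · -- v = (v0,0,0), v' = (0,v1',v2') : type A
    rw [h11, h22] at h1 hdvd ⊢
    simp only [Nat.cast_zero, mul_zero, sub_zero, add_zero, zero_sub] at h1 hdvd
    simp only [pow_zero, mul_one]
    by_cases hv : v 0 = 0
    · rw [hv] at h1 ⊢
      rw [pow_zero]
      have := dep_one k p q m c i s 0 (v' 1) (v' 2) (by push_cast at h1 ⊢; linarith)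
        (by rw [← dvd_neg]; convert hdvd using 1)
      rw [pow_zero, one_mul] at this
      exact this.symm
    · have hpos : 0 < (q : ℤ) * (v' 2) - (p : ℤ) * (v' 1) := by
        have : 0 < v 0 := Nat.pos_of_ne_zero hv
        have : (0 : ℤ) < v 0 := by exact_mod_cast this
        linarith
      have := typeA k p q m hp hpq hcop hm c hc i hi hir s _ (v' 1) (v' 2) rfl hpos
        (by rw [← dvd_neg]; convert hdvd using 1)
      have e : ((q : ℤ) * (v' 2) - (p : ℤ) * (v' 1)).toNat = v 0 := by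
        have : (q : ℤ) * (v' 2) - (p : ℤ) * (v' 1) = v 0 := by linarith
        rw [this]; simp
      rw [e] at this
      exact this.symm
  · -- v = (v0,0,v2), v' = (0,v1',0): all zero
    rw [h11, h22] at h1
    simp only [Nat.cast_zero, mul_zero, sub_zero, add_zero] at h1
    have a1 : (0 : ℤ) ≤ (q : ℤ) * v 2 := by positivity
    have a2 : (0 : ℤ) ≤ (p : ℤ) * v' 1 := by positivity
    have e0 : v 0 = 0 := by
      have : (v 0 : ℤ) = 0 := by linarith
      exact_mod_cast this
    have e2 : v 2 = 0 := by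
      have : (q : ℤ) * v 2 = 0 := by linarith
      have hq : (q : ℤ) ≠ 0 := by linarith
      have : (v 2 : ℤ) = 0 := by
        rcases mul_eq_zero.mp this with h | h
        · exact absurd h hq
        · exact h
      exact_mod_cast this
    have e1 : v' 1 = 0 := by
      have : (p : ℤ) * v' 1 = 0 := by linarith
      have : (v' 1 : ℤ) = 0 := by
        rcases mul_eq_zero.mp this with h | h
        · exact absurd h hp0.ne'
        · exact h
      exact_mod_cast this
    rw [e0, e2, e1, h11, h22]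
    simp only [pow_zero, mul_one]
    exact Dep.refl _
  · -- v = (v0,v1,0), v' = (0,0,v2')
    rw [h11, h22] at h1 hdvd ⊢
    simp only [Nat.cast_zero, mul_zero, sub_zero, add_zero, zero_sub, sub_neg_eq_add] at h1 hdvd
    simp only [pow_zero, mul_one, one_mul]
    by_cases hv : v' 2 = 0
    · rw [hv] at h1 hdvd ⊢
      rw [pow_zero]
      have := dep_one k p q m c i s (v 0) (v 1) 0 (by push_cast at h1 ⊢; linarith)
        (by convert hdvd using 1; push_cast; ring)
      rw [pow_zero, mul_one] at this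
      exact this
    · -- v0 = p v1 + q v2' ≥ q ≥ n_{i-1}
      have hv2pos : (1 : ℤ) ≤ v' 2 := by
        have : 0 < v' 2 := Nat.pos_of_ne_zero hv
        exact_mod_cast this
      have hn0' := nN_nonneg p q m hp hpq hcop hm c hc (i - 1) (by omega)
      have hN' : (((nN p q m c (i - 1)).toNat : ℕ) : ℤ) = nN p q m c (i - 1) := Int.toNat_of_nonneg hn0'
      have hle := nN_le_D p q m hp hpq hcop hm c hc (i - 1) (by omega)
      have hbig : (nN p q m c (i - 1)).toNat ≤ v 0 := by
        have : nN p q m c (i - 1) ≤ (v 0 : ℤ) := by nlinarith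
        rw [← hN'] at this; exact_mod_cast this
      obtain ⟨r, hr⟩ := Nat.exists_eq_add_of_le hbig
      rw [hr, pow_add, F1 k p q m c i s, zero_mul, zero_mul]
      exact Dep.zero_left _
  · -- v' = 0
    rw [h11, h22] at h1 hdvd ⊢
    simp only [Nat.cast_zero, mul_zero, sub_zero, add_zero] at h1 hdvd
    simp only [pow_zero, mul_one]
    exact dep_one k p q m c i s (v 0) (v 1) (v 2) h1 hdvd

theorem idealL_rank_le_one (ν : ℤ × ZMod m) :
    Module.rank k (piece k (wt3 p q m) (idealL k p q m c i s) ν) ≤ 1 := by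
  apply rank_le_one_of_dep
  intro d d' hd hd'
  apply dep_of_disjoint (wt3 p q m) (idealL k p q m c i s) _ d d' (hd.trans hd'.symm)
  intro v v' hdis hw
  rcases hdis 0 with h0 | h0
  · exact (dep_w0 k p q m hp hpq hcop hm c hc i hi hir s v' v (fun j => (hdis j).symm) hw.symm h0).symm
  · exact dep_w0 k p q m hp hpq hcop hm c hc i hi hir s v v' hdis hw h0

end

end Groth.Agent.Helper23.InvHilbL
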