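import Mathlib
import Groth.Prelude
import Groth.Agent.Lib.Helper20.GrInj3

/-!
# A graded module of depth `≥ 2` over a standard graded ring has no one-dimensional pieces above
its initial degree (helper23)

`core`: let `R` be standard graded over the field `R₀`, `C` a graded module with `C_i = 0` for
`i < b` and `0 ≠ w ∈ C_b`; let `x, y` be homogeneous of positive degrees with `x` injective on `C`
and `y` injective on `C / xC`.  Then no piece `C_{b+t}`, `t > 0`, is cyclic over `R₀`.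
The argument is independent of the cardinality of `R₀` (no linear non-zero-divisor is needed).
-/

set_option autoImplicit false
set_option linter.unusedVariables false
set_option linter.unusedSectionVars false
set_option linter.style.haveILetI false

open DirectSum

namespace Groth.Agent.Helper23.KDim

open Groth.Agent.Helper20.GrInj

universe u

section Std

variable {R : Type u} [CommRing R] (𝒜 : ℤ → AddSubgroup R) [GradedRing 𝒜]

/-- `R_{k+1} = R_k · R_1` for a standard graded ring, as an induction principle -/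
theorem piece_succ_induction
    (hstd : Ideal.span (⋃ n ∈ Set.Ioi (0 : ℤ), (𝒜 n : Set R)) =
      Ideal.span ((𝒜 1 : AddSubgroup R) : Set R)) (k : ℕ) (p : R → Prop)
    (hp0 : p 0) (hadd : ∀ a b, p a → p b → p (a + b))
    (hmul : ∀ a ∈ 𝒜 (k : ℤ), ∀ ℓ ∈ 𝒜 1, p (a * ℓ)) :
    ∀ z ∈ 𝒜 ((k : ℤ) + 1), p z := by
  intro z hz'
  have hz1 : z ∈ Ideal.span ((𝒜 1 : AddSubgroup R) : Set R) := by
    rw [← hstd]
    apply Ideal.subset_span
    simp only [Set.mem_iUnion]
    exact ⟨(k : ℤ) + 1, by simp only [Set.mem_Ioi]; omega, hz'⟩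
  have key : ∀ w ∈ Ideal.span ((𝒜 1 : AddSubgroup R) : Set R), ∀ a : R,
      p ((decompose 𝒜 (a * w) ((k : ℤ) + 1) : 𝒜 ((k : ℤ) + 1)) : R) := by
    intro w hw
    induction hw using Submodule.span_induction with
    | mem y hy =>
      intro a
      rw [DirectSum.coe_decompose_mul_add_of_right_mem 𝒜 hy]
      exact hmul _ (decompose 𝒜 a k).2 _ hy
    | zero =>
      intro a
      rw [mul_zero, decompose_zero, DirectSum.zero_apply, ZeroMemClass.coe_zero]
      exact hp0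
    | add x y _ _ hx hy =>
      intro a
      rw [mul_add, decompose_add, DirectSum.add_apply, AddMemClass.coe_add]
      exact hadd _ _ (hx a) (hy a)
    | smul c x _ hx =>
      intro a
      rw [smul_eq_mul, ← mul_assoc]
      exact hx (a * c)
  have := key z hz1 1
  rw [one_mul, decompose_of_mem_same 𝒜 hz'] at this
  exact this

/-- `R_{n+m} = R_n · R_m` for a standard graded ring, as an induction principle -/
theorem piece_add_induction
    (hstd : Ideal.span (⋃ n ∈ Set.Ioi (0 : ℤ), (𝒜 n : Set R)) =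
      Ideal.span ((𝒜 1 : AddSubgroup R) : Set R)) (n : ℕ) :
    ∀ (m : ℕ) (p : R → Prop), p 0 → (∀ a b, p a → p b → p (a + b)) →
      (∀ a ∈ 𝒜 (n : ℤ), ∀ b ∈ 𝒜 (m : ℤ), p (a * b)) →
      ∀ z ∈ 𝒜 ((n : ℤ) + (m : ℤ)), p z := by
  intro m
  induction m with
  | zero =>
    intro p hp0 hadd hmul z hz
    have hz' : z ∈ 𝒜 (n : ℤ) := by
      have e : (n : ℤ) + ((0 : ℕ) : ℤ) = n := by simp
      rwa [e] at hz
    have h1 : (1 : R) ∈ 𝒜 ((0 : ℕ) : ℤ) := by
      have : (1 : R) ∈ 𝒜 0 := SetLike.GradedOne.one_mem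
      simpa using this
    have := hmul z hz' 1 h1
    rwa [mul_one] at this
  | succ m ih =>
    intro p hp0 hadd hmul z hz
    have hz' : z ∈ 𝒜 (((n + m : ℕ) : ℤ) + 1) := by
      have e : (n : ℤ) + ((m + 1 : ℕ) : ℤ) = ((n + m : ℕ) : ℤ) + 1 := by push_cast; ring
      rwa [e] at hz
    apply piece_succ_induction 𝒜 hstd (n + m) p hp0 hadd _ z hz'
    intro a ha ℓ hℓ
    have ha' : a ∈ 𝒜 ((n : ℤ) + (m : ℤ)) := by
      have e : ((n + m : ℕ) : ℤ) = (n : ℤ) + (m : ℤ) := by push_cast; ring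
      rwa [e] at ha
    refine ih (fun a => ∀ ℓ ∈ 𝒜 1, p (a * ℓ)) ?_ ?_ ?_ a ha' ℓ hℓ
    · intro ℓ _
      rw [zero_mul]
      exact hp0
    · intro a b ha hb ℓ hℓ
      rw [add_mul]
      exact hadd _ _ (ha ℓ hℓ) (hb ℓ hℓ)
    · intro a ha b hb ℓ hℓ
      rw [mul_assoc]
      apply hmul a ha
      have := SetLike.GradedMul.mul_mem (A := 𝒜) hb hℓ
      have e : ((m + 1 : ℕ) : ℤ) = (m : ℤ) + 1 := by push_cast; ring
      rwa [e]

end Std

section Core

variable {R : Type u} [CommRing R] {𝒜 : ℤ → AddSubgroup R} [GradedRing 𝒜]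
variable {C : Type u} [AddCommGroup C] [Module R C] {𝒞 : ℤ → AddSubgroup C}
  [DirectSum.Decomposition 𝒞] [SetLike.GradedSMul 𝒜 𝒞]

theorem pow_mem_piece {d : ℕ} {x : R} (hx : x ∈ 𝒜 (d : ℤ)) (k : ℕ) :
    x ^ k ∈ 𝒜 ((k * d : ℕ) : ℤ) := by
  have := SetLike.pow_mem_graded (A := 𝒜) k hx
  have e : k • (d : ℤ) = ((k * d : ℕ) : ℤ) := by
    rw [nsmul_eq_mul]
    push_cast
    ring
  rwa [e] at this

theorem pow_smul_injective {x : R} (hxreg : ∀ c : C, x • c = 0 → c = 0) (k : ℕ) :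
    ∀ c : C, x ^ k • c = 0 → c = 0 := by
  induction k with
  | zero =>
    intro c hc
    rwa [pow_zero, one_smul] at hc
  | succ k ih =>
    intro c hc
    rw [pow_succ, mul_smul] at hc
    exact hxreg c (ih _ hc)

theorem pow_quot_injective {x y : R}
    (hyreg : ∀ u u'' : C, y • u = x • u'' → ∃ v : C, u = x • v) (k : ℕ) :
    ∀ u u'' : C, y ^ k • u = x • u'' → ∃ v : C, u = x • v := by
  induction k with
  | zero =>
    intro u u'' h
    rw [pow_zero, one_smul] at h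
    exact ⟨u'', h⟩
  | succ k ih =>
    intro u u'' h
    rw [pow_succ', mul_smul] at h
    obtain ⟨v, hv⟩ := hyreg _ _ h
    exact ih u v hv

/-- **the core**: a piece above the initial degree cannot be cyclic -/
theorem core (h0 : IsField (GrLC.deg0 𝒜))
    (hstd : Ideal.span (⋃ n ∈ Set.Ioi (0 : ℤ), (𝒜 n : Set R)) =
      Ideal.span ((𝒜 1 : AddSubgroup R) : Set R))
    {d e : ℕ} (hd : 0 < d) (he : 0 < e) {x y : R} (hx : x ∈ 𝒜 (d : ℤ)) (hy : y ∈ 𝒜 (e : ℤ))
    (hxreg : ∀ c : C, x • c = 0 → c = 0)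
    (hyreg : ∀ u u'' : C, y • u = x • u'' → ∃ v : C, u = x • v)
    (b : ℤ) (hlow : ∀ i : ℤ, i < b → ∀ c ∈ 𝒞 i, c = 0)
    (w : C) (hw : w ∈ 𝒞 b) (hw0 : w ≠ 0)
    (t : ℕ) (ht : 0 < t) (u₀ : C)
    (hu₀ : ∀ c ∈ 𝒞 (b + (t : ℤ)), ∃ s ∈ 𝒜 0, c = s • u₀) : False := by
  classical
  -- inverses in the field `R₀`
  have hinv : ∀ c ∈ 𝒜 0, c ≠ 0 → ∃ c' ∈ 𝒜 0, c' * c = 1 := by
    intro c hc hc0
    have hne : (⟨c, hc⟩ : GrLC.deg0 𝒜) ≠ 0 := fun h => hc0 (congrArg Subtype.val h)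
    obtain ⟨c', hc'⟩ := h0.mul_inv_cancel hne
    refine ⟨c'.1, c'.2, ?_⟩
    have := congrArg Subtype.val hc'
    rw [mul_comm]
    exact this
  -- step 1: some element of `R_t` does not kill `w`
  have hdt : d = (d - 1) + 1 := by omega
  have h1 : ∃ s₀ ∈ 𝒜 (t : ℤ), s₀ • w ≠ 0 := by
    by_contra hcon
    push Not at hcon
    have hxt : x ^ t ∈ 𝒜 ((((d - 1) * t : ℕ) : ℤ) + (t : ℤ)) := by
      have := pow_mem_piece hx t
      have e : ((t * d : ℕ) : ℤ) = (((d - 1) * t : ℕ) : ℤ) + (t : ℤ) := by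
        have : t * d = (d - 1) * t + t := by
          conv_lhs => rw [hdt]
          ring
        rw [this]
        push_cast
        rfl
      rwa [e] at this
    have := piece_add_induction 𝒜 hstd ((d - 1) * t) t (fun z => z • w = 0) (zero_smul _ _)
      (fun a b ha hb => by rw [add_smul, ha, hb, add_zero])
      (fun a _ b hb => by rw [mul_smul, hcon b hb, smul_zero]) _ hxt
    exact hw0 (pow_smul_injective hxreg t w this)
  obtain ⟨s₀, hs₀, hs₀w⟩ := h1
  -- step 2: every element of `R_t` acts on `w` as a scalar multiple of `s₀`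
  have hs₀mem : ∀ s ∈ 𝒜 (t : ℤ), s • w ∈ 𝒞 (b + (t : ℤ)) := by
    intro s hs
    have := SetLike.GradedSMul.smul_mem (A := 𝒜) (B := 𝒞) hs hw
    rw [vadd_eq_add, add_comm] at this
    exact this
  have h2 : ∀ s ∈ 𝒜 (t : ℤ), ∃ c ∈ 𝒜 0, s • w = c • s₀ • w := by
    obtain ⟨c₀, hc₀, hc₀e⟩ := hu₀ _ (hs₀mem s₀ hs₀)
    have hc₀0 : c₀ ≠ 0 := by
      rintro rfl
      rw [zero_smul] at hc₀e
      exact hs₀w hc₀e
    obtain ⟨c₀', hc₀', hc₀'e⟩ := hinv c₀ hc₀ hc₀0
    have hu₀e : u₀ = c₀' • s₀ • w := by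
      rw [hc₀e, smul_smul, hc₀'e, one_smul]
    intro s hs
    obtain ⟨c, hc, hce⟩ := hu₀ _ (hs₀mem s hs)
    refine ⟨c * c₀', ?_, ?_⟩
    · have := SetLike.GradedMul.mul_mem (A := 𝒜) hc hc₀'
      rwa [add_zero] at this
    · rw [hce, hu₀e, smul_smul]
  -- step 3: every element of `R_{Nt}` acts on `w` as a scalar multiple of `s₀ ^ N`
  have h3 : ∀ N : ℕ, ∀ z ∈ 𝒜 (((N * t : ℕ) : ℤ)), ∃ c ∈ 𝒜 0, z • w = c • s₀ ^ N • w := by
    intro N
    induction N with
    | zero =>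
      intro z hz
      have hz' : z ∈ 𝒜 0 := by simpa using hz
      exact ⟨z, hz', by rw [pow_zero, one_smul]⟩
    | succ N ih =>
      intro z hz
      have hz' : z ∈ 𝒜 (((N * t : ℕ) : ℤ) + (t : ℤ)) := by
        have e : (((N + 1) * t : ℕ) : ℤ) = ((N * t : ℕ) : ℤ) + (t : ℤ) := by
          push_cast
          ring
        rwa [e] at hz
      refine piece_add_induction 𝒜 hstd (N * t) t
        (fun z => ∃ c ∈ 𝒜 0, z • w = c • s₀ ^ (N + 1) • w) ?_ ?_ ?_ z hz'
      · exact ⟨0, zero_mem _, by rw [zero_smul, zero_smul]⟩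
      · rintro a b ⟨c, hc, hce⟩ ⟨c', hc', hce'⟩
        exact ⟨c + c', add_mem hc hc', by rw [add_smul, hce, hce', add_smul]⟩
      · intro a ha b hb
        obtain ⟨ca, hca, hcae⟩ := ih a ha
        obtain ⟨cb, hcb, hcbe⟩ := h2 b hb
        refine ⟨cb * ca, ?_, ?_⟩
        · have := SetLike.GradedMul.mul_mem (A := 𝒜) hcb hca
          rwa [add_zero] at this
        · rw [mul_smul, hcbe, smul_comm a cb, smul_comm a s₀, hcae, pow_succ', mul_smul,
            mul_smul, smul_comm s₀ ca]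
  -- step 4
  have hx4 : x ^ (t * e) ∈ 𝒜 ((((d * e) * t : ℕ) : ℤ)) := by
    have := pow_mem_piece hx (t * e)
    have e1 : t * e * d = d * e * t := by ring
    rwa [e1] at this
  have hy4 : y ^ (t * d) ∈ 𝒜 ((((d * e) * t : ℕ) : ℤ)) := by
    have := pow_mem_piece hy (t * d)
    have e1 : t * d * e = d * e * t := by ring
    rwa [e1] at this
  obtain ⟨c₁, hc₁, hc₁e⟩ := h3 (d * e) _ hx4
  obtain ⟨c₂, hc₂, hc₂e⟩ := h3 (d * e) _ hy4
  have hc₁0 : c₁ ≠ 0 := by
    rintro rfl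
    rw [zero_smul] at hc₁e
    exact hw0 (pow_smul_injective hxreg _ w hc₁e)
  -- step 5
  have hte : t * e = (t * e - 1) + 1 := by
    have : 0 < t * e := Nat.mul_pos ht he
    omega
  have h5 : y ^ (t * d) • (c₁ • w) = x • (c₂ • x ^ (t * e - 1) • w) := by
    rw [smul_comm (y ^ (t * d)) c₁, hc₂e, smul_comm x c₂, ← mul_smul x, ← pow_succ', ← hte, hc₁e,
      smul_comm c₁ c₂]
  obtain ⟨v, hv⟩ := pow_quot_injective hyreg (t * d) _ _ h5
  obtain ⟨c₁', hc₁', hc₁'e⟩ := hinv c₁ hc₁ hc₁0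
  have hwv : w = x • (c₁' • v) := by
    rw [smul_comm x c₁', ← hv, smul_smul, hc₁'e, one_smul]
  have h6 := decompose_smul_of_mem (𝒜 := 𝒜) 𝒞 hx (c₁' • v) (b - (d : ℤ))
  rw [← hwv] at h6
  have e6 : (d : ℤ) + (b - (d : ℤ)) = b := by ring
  rw [e6, decompose_of_mem_same 𝒞 hw] at h6
  have h7 : ((decompose 𝒞 (c₁' • v) (b - (d : ℤ)) : 𝒞 (b - (d : ℤ))) : C) = 0 :=
    hlow (b - (d : ℤ)) (by
      have : (0 : ℤ) < (d : ℤ) := by exact_mod_cast hd
      omega) _ (decompose 𝒞 (c₁' • v) (b - (d : ℤ))).2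
  rw [h7, smul_zero] at h6
  exact hw0 h6

end Core

end Groth.Agent.Helper23.KDim
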