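import Mathlib
import Groth.Prelude.Def_ThetaK
import Groth.Agent.Lib.Helper23.PicCalc

set_option autoImplicit false
universe u
open CategoryTheory MonoidalCategory CartesianMonoidalCategory MonObj GrpObj AlgebraicGeometry

namespace Groth.Agent.Helper23.KLCalc

open Groth.Agent.Helper23.PicCalc

variable {k : Type u} [Field k] (X : Over (Spec (CommRingCat.of k))) [GrpObj X]
  (L : X.left.Modules) (hL : PicF.IsInvertible L)

/-- the class of `f^*L`. -/
noncomputable def br {T : Over (Spec (CommRingCat.of k))} (f : T ⟶ X) : Pic T.left :=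
  pull f.left (cl L hL)

theorem br_def {T : Over (Spec (CommRingCat.of k))} (f : T ⟶ X) :
    br X L hL f = cl ((Scheme.Modules.pullback f.left).obj L)
      (Groth.Agent.Helper13.PbInv.isInvertible_pullback f.left L hL) := rfl

theorem pull_br {T T' : Over (Spec (CommRingCat.of k))} (g : T' ⟶ T) (f : T ⟶ X) :
    pull g.left (br X L hL f) = br X L hL (g ≫ f) := by
  unfold br
  rw [pull_pull]
  rfl

theorem br_one {T : Over (Spec (CommRingCat.of k))} : br X L hL (1 : T ⟶ X) = 0 := by
  unfold br
  have h1 : (1 : T ⟶ X).left = (toUnit T).left ≫ (η[X]).left := rfl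
  rw [pull_congr h1]
  haveI : Subsingleton ↥(𝟙_ (Over (Spec (CommRingCat.of k)))).left :=
    inferInstanceAs (Subsingleton (PrimeSpectrum k))
  exact pull_eq_zero_of_factors
    (show ↥(𝟙_ (Over (Spec (CommRingCat.of k)))).left from
      (show ↥(Spec (CommRingCat.of k)) from ⟨⊥, Ideal.isPrime_bot⟩)) _ _ _

theorem whisker_mul {T : Over (Spec (CommRingCat.of k))} (z : T ⟶ X) :
    (X ◁ z) ≫ μ[X] = fst X T * (snd X T ≫ z) := by
  rw [Hom.mul_def]
  congr 1

/-- the Mumford condition in terms of classes: the auxiliary module is automatically trivial. -/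
theorem mumford_iff {T : Over (Spec (CommRingCat.of k))} (z : T ⟶ X) :
    ThetaGrp.IsMumfordTriv X L z ↔
      br X L hL (fst X T) + br X L hL (snd X T ≫ z) = br X L hL (fst X T * (snd X T ≫ z)) := by
  constructor
  · rintro ⟨M, hM, hlam⟩
    rw [isLambdaSheaf_iff _ _ _ L hL _
      (Groth.Agent.Helper13.PbInv.isInvertible_pullback _ M hM)] at hlam
    have hlam' : pull (snd X T).left (cl M hM) + br X L hL (fst X T) + br X L hL (snd X T ≫ z) =
        br X L hL ((X ◁ z) ≫ μ[X]) := hlam
    rw [whisker_mul] at hlam'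
    let e : T ⟶ X ⊗ T := lift 1 (𝟙 T)
    have he₂ : e.left ≫ (snd X T).left = 𝟙 T.left := by
      rw [← Over.comp_left, lift_snd]
      rfl
    have h2 := congrArg (pull e.left) hlam'
    rw [map_add, map_add, pull_br, pull_br, pull_br, pull_pull, pull_congr he₂, pull_id,
      MonObj.comp_mul, lift_fst, ← Category.assoc, lift_snd, Category.id_comp, _root_.one_mul,
      br_one, add_zero] at h2
    have hn : cl M hM = 0 := by simpa using h2
    rw [hn, map_zero, zero_add] at hlam'
    exact hlam'
  · intro h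
    refine ⟨Coh.structureModule T.left, Groth.Agent.Helper13.Inv.isInvertible_structureModule, ?_⟩
    rw [isLambdaSheaf_iff _ _ _ L hL _
      (Groth.Agent.Helper13.PbInv.isInvertible_pullback _ _
        Groth.Agent.Helper13.Inv.isInvertible_structureModule)]
    change pull (snd X T).left 0 + br X L hL (fst X T) + br X L hL (snd X T ≫ z) =
        br X L hL ((X ◁ z) ≫ μ[X])
    rw [whisker_mul, map_zero, zero_add]
    exact h

/-- the Mumford condition pulled back along an arbitrary pair of points. -/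
theorem mumford_pull {T : Over (Spec (CommRingCat.of k))} (z : T ⟶ X)
    (h : ThetaGrp.IsMumfordTriv X L z) {W : Over (Spec (CommRingCat.of k))} (a : W ⟶ X)
    (b : W ⟶ T) :
    br X L hL a + br X L hL (b ≫ z) = br X L hL (a * (b ≫ z)) := by
  have h1 := (mumford_iff X L hL z).1 h
  have h2 := congrArg (pull (lift a b).left) h1
  rw [map_add, pull_br, pull_br, pull_br, MonObj.comp_mul, lift_fst, ← Category.assoc,
    lift_snd] at h2
  exact h2

/-- the Mumford condition is additivity of `br`. -/
theorem br_mul_of_mumford {T : Over (Spec (CommRingCat.of k))} (z : T ⟶ X)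
    (h : ThetaGrp.IsMumfordTriv X L z) (a : T ⟶ X) :
    br X L hL (a * z) = br X L hL a + br X L hL z := by
  have := mumford_pull X L hL z h a (𝟙 T)
  rw [Category.id_comp] at this
  exact this.symm

include hL in
theorem mumford_one {T : Over (Spec (CommRingCat.of k))} :
    ThetaGrp.IsMumfordTriv X L (1 : T ⟶ X) := by
  rw [mumford_iff X L hL, MonObj.comp_one, _root_.mul_one, br_one, add_zero]

include hL in
theorem mumford_mul {T : Over (Spec (CommRingCat.of k))} (z₁ z₂ : T ⟶ X)
    (h₁ : ThetaGrp.IsMumfordTriv X L z₁) (h₂ : ThetaGrp.IsMumfordTriv X L z₂) :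
    ThetaGrp.IsMumfordTriv X L (z₁ * z₂) := by
  rw [mumford_iff X L hL, MonObj.comp_mul, ← _root_.mul_assoc,
    ← mumford_pull X L hL z₂ h₂ (fst X T * (snd X T ≫ z₁)) (snd X T),
    ← mumford_pull X L hL z₁ h₁ (fst X T) (snd X T),
    ← mumford_pull X L hL z₂ h₂ (snd X T ≫ z₁) (snd X T)]
  abel

include hL in
theorem mumford_inv {T : Over (Spec (CommRingCat.of k))} (z : T ⟶ X)
    (h : ThetaGrp.IsMumfordTriv X L z) :
    ThetaGrp.IsMumfordTriv X L z⁻¹ := by
  rw [mumford_iff X L hL]
  have h1 := mumford_pull X L hL z h (fst X T * (snd X T ≫ z⁻¹)) (snd X T)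
  have h2 := mumford_pull X L hL z h (snd X T ≫ z⁻¹) (snd X T)
  rw [GrpObj.comp_inv, inv_mul_cancel_right] at h1
  rw [GrpObj.comp_inv, inv_mul_cancel, br_one] at h2
  rw [GrpObj.comp_inv]
  have h3 : br X L hL (snd X T ≫ z)⁻¹ = - br X L hL (snd X T ≫ z) := eq_neg_of_add_eq_zero_left h2
  rw [h3, ← h1]
  abel

end Groth.Agent.Helper23.KLCalc
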