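import Mathlib
import Groth.Prelude.Def_DTen
import Groth.Prelude.Def_Koszul

/-!
# The functor `- ⊗ L` on cochain complexes of modules, extended to cochains
-/

set_option autoImplicit false
set_option linter.unusedSectionVars false
set_option linter.unusedVariables false
set_option linter.style.haveILetI false

universe u

open CategoryTheory CategoryTheory.Limits MonoidalCategory HomologicalComplex CochainComplex
  HomComplex

namespace Groth.Agent.Helper23.KoszTen

variable {A : Type u} [CommRing A] (L : DRing.Cx A)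

/-- extension of `- ⊗ L` to cochains -/
noncomputable def tc {K K' : DRing.Cx A} {m : ℤ} (z : Cochain K K' m) :
    Cochain (K ⊗ L) (K' ⊗ L) m :=
  Cochain.mk (fun n n' hn => mapBifunctorDesc (fun p q (hpq : p + q = n) =>
    (z.v p (p + m) rfl ▷ L.X q) ≫ ιTensorObj K' L (p + m) q n' (by omega)))

@[reassoc]
lemma ι_tc_v {K K' : DRing.Cx A} {m : ℤ} (z : Cochain K K' m) (p q n : ℤ) (h : p + q = n)
    (n' : ℤ) (hn : n + m = n') (p' : ℤ) (hp : p + m = p') :
    ιTensorObj K L p q n h ≫ (tc L z).v n n' hn =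
      (z.v p p' hp ▷ L.X q) ≫ ιTensorObj K' L p' q n' (by omega) := by
  subst hp
  simp only [tc, Cochain.mk_v]
  exact ι_mapBifunctorDesc _ p q h

lemma neg_whiskerRight' {X Y : ModuleCat.{u} A} (f : X ⟶ Y) (Z : ModuleCat.{u} A) :
    (-f) ▷ Z = -(f ▷ Z) :=
  (tensorRight Z).map_neg (f := f)

lemma zsmul_whiskerRight' {X Y : ModuleCat.{u} A} (n : ℤ) (f : X ⟶ Y) (Z : ModuleCat.{u} A) :
    (n • f) ▷ Z = n • (f ▷ Z) :=
  (tensorRight Z).map_zsmul (f := f) (r := n)

lemma tc_ext {K K' : DRing.Cx A} {m : ℤ} {z₁ z₂ : Cochain (K ⊗ L) (K' ⊗ L) m}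
    (h : ∀ (p q n : ℤ) (hpq : p + q = n) (n' : ℤ) (hn : n + m = n'),
      ιTensorObj K L p q n hpq ≫ z₁.v n n' hn = ιTensorObj K L p q n hpq ≫ z₂.v n n' hn) :
    z₁ = z₂ := by
  apply Cochain.ext
  intro n n' hn
  apply HomologicalComplex.mapBifunctor.hom_ext
  intro p q hpq
  exact h p q n hpq n' hn

@[simp]
lemma tc_zero {K K' : DRing.Cx A} (m : ℤ) : tc L (0 : Cochain K K' m) = 0 := by
  apply tc_ext
  intro p q n hpq n' hn
  rw [ι_tc_v L _ p q n hpq n' hn (p + m) rfl]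
  simp

lemma tc_add {K K' : DRing.Cx A} {m : ℤ} (z₁ z₂ : Cochain K K' m) :
    tc L (z₁ + z₂) = tc L z₁ + tc L z₂ := by
  apply tc_ext
  intro p q n hpq n' hn
  rw [Cochain.add_v, Preadditive.comp_add, ι_tc_v L _ p q n hpq n' hn (p + m) rfl,
    ι_tc_v L _ p q n hpq n' hn (p + m) rfl, ι_tc_v L _ p q n hpq n' hn (p + m) rfl,
    Cochain.add_v, MonoidalPreadditive.add_whiskerRight, Preadditive.add_comp]

lemma tc_neg {K K' : DRing.Cx A} {m : ℤ} (z : Cochain K K' m) :
    tc L (-z) = - tc L z := by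
  apply tc_ext
  intro p q n hpq n' hn
  rw [Cochain.neg_v, Preadditive.comp_neg, ι_tc_v L _ p q n hpq n' hn (p + m) rfl,
    ι_tc_v L _ p q n hpq n' hn (p + m) rfl, Cochain.neg_v,
    neg_whiskerRight', Preadditive.neg_comp]

lemma tc_ofHom {K K' : DRing.Cx A} (f : K ⟶ K') :
    tc L (Cochain.ofHom f) = Cochain.ofHom (f ▷ L) := by
  apply tc_ext
  intro p q n hpq n' hn
  obtain rfl : n = n' := by omega
  rw [ι_tc_v L _ p q n hpq n hn p (by omega), Cochain.ofHom_v, Cochain.ofHom_v]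
  have h := ι_mapBifunctorMap f (𝟙 L) (curriedTensor (ModuleCat.{u} A)) (ComplexShape.up ℤ)
    p q n hpq
  erw [h]
  simp

lemma tc_comp {K K' K'' : DRing.Cx A} {m₁ m₂ m : ℤ} (z₁ : Cochain K K' m₁)
    (z₂ : Cochain K' K'' m₂) (h : m₁ + m₂ = m) :
    tc L (z₁.comp z₂ h) = (tc L z₁).comp (tc L z₂) h := by
  apply tc_ext
  intro p q n hpq n' hn
  rw [ι_tc_v L _ p q n hpq n' hn (p + m) rfl,
    Cochain.comp_v _ _ h n (n + m₁) n' rfl (by omega),
    ι_tc_v_assoc L _ p q n hpq (n + m₁) rfl (p + m₁) rfl,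
    ι_tc_v L _ (p + m₁) q (n + m₁) (by omega) n' (by omega) (p + m) (by omega),
    Cochain.comp_v _ _ h p (p + m₁) (p + m) rfl (by omega), comp_whiskerRight, Category.assoc]

@[reassoc]
lemma ι_d {K : DRing.Cx A} (p q n : ℤ) (hpq : p + q = n) (n' : ℤ) (hn : n + 1 = n')
    (p' q' : ℤ) (hp' : p + 1 = p') (hq' : q + 1 = q') :
    ιTensorObj K L p q n hpq ≫ (K ⊗ L).d n n' =
      (K.d p p' ▷ L.X q) ≫ ιTensorObj K L p' q n' (by omega) +
      p.negOnePow • ((K.X p ◁ L.d q q') ≫ ιTensorObj K L p q' n' (by omega)) := by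
  subst hp' hq'
  have h1 := mapBifunctor.d₁_eq K L (curriedTensor (ModuleCat.{u} A)) (ComplexShape.up ℤ)
    (show (ComplexShape.up ℤ).Rel p (p + 1) from rfl) q n' (by dsimp; omega)
  have h2 := mapBifunctor.d₂_eq K L (curriedTensor (ModuleCat.{u} A)) (ComplexShape.up ℤ) p
    (show (ComplexShape.up ℤ).Rel q (q + 1) from rfl) n' (by dsimp; omega)
  erw [mapBifunctor.d_eq, Preadditive.comp_add, mapBifunctor.ι_D₁, mapBifunctor.ι_D₂, h1, h2]
  congr 1
  exact one_smul _ _

lemma tc_δ {K K' : DRing.Cx A} {m : ℤ} (z : Cochain K K' m) (m' : ℤ) (h : m + 1 = m') :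
    tc L (δ m m' z) = δ m m' (tc L z) := by
  apply tc_ext
  intro p q n hpq n' hn
  rw [ι_tc_v L _ p q n hpq n' hn (p + m') rfl,
    δ_v m m' h z p (p + m') rfl (p + m) (p + 1) (by omega) rfl,
    δ_v m m' h (tc L z) n n' hn (n + m) (n + 1) (by omega) rfl,
    Preadditive.comp_add, Linear.comp_units_smul, ι_tc_v_assoc L z p q n hpq (n + m) rfl (p + m) rfl,
    ι_d L (p + m) q (n + m) (by omega) n' (by omega) (p + m') (q + 1) (by omega) rfl,
    ι_d_assoc L p q n hpq (n + 1) rfl (p + 1) (q + 1) rfl rfl,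
    Preadditive.add_comp, Category.assoc, Linear.units_smul_comp, Category.assoc,
    ι_tc_v L z (p + 1) q (n + 1) (by omega) n' (by omega) (p + m') (by omega),
    ι_tc_v L z p (q + 1) (n + 1) (by omega) n' (by omega) (p + m) rfl]
  rw [MonoidalPreadditive.add_whiskerRight, comp_whiskerRight, Preadditive.add_comp,
    Category.assoc, Preadditive.comp_add, smul_add, Linear.comp_units_smul,
    ← whisker_exchange_assoc, smul_smul]
  have hs : m'.negOnePow * p.negOnePow = - (p + m).negOnePow := by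
    rw [← h, Int.negOnePow_add, Int.negOnePow_add, Int.negOnePow_one]
    simp [mul_comm]
  rw [hs]
  have hw : (m'.negOnePow • (K.d p (p + 1) ≫ z.v (p + 1) (p + m') (by omega))) ▷ L.X q =
      m'.negOnePow • ((K.d p (p + 1) ▷ L.X q) ≫ (z.v (p + 1) (p + m') (by omega) ▷ L.X q)) := by
    rw [← comp_whiskerRight]
    exact (tensorRight (L.X q)).map_units_smul _ _
  rw [hw, Linear.units_smul_comp, Category.assoc, Units.neg_smul]
  abel


end Groth.Agent.Helper23.KoszTen
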