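import Groth.Agent.Lib.Helper23.KoszTen1

/-!
# Tensoring with a complex commutes with mapping cones; Koszul complexes of concatenated sequences
-/

set_option autoImplicit false
set_option linter.unusedSectionVars false
set_option linter.unusedVariables false
set_option linter.style.haveILetI false
universe u
open CategoryTheory CategoryTheory.Limits MonoidalCategory HomologicalComplex CochainComplex
  HomComplex

namespace Groth.Agent.Helper23.KoszTen

variable {A : Type u} [CommRing A] (L : DRing.Cx A) {K K' : DRing.Cx A} (φ : K ⟶ K')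

noncomputable def coneTensorHom : mappingCone φ ⊗ L ⟶ mappingCone (φ ▷ L) :=
  mappingCone.lift (φ ▷ L)
    (Cocycle.mk (tc L (mappingCone.fst φ).1) 2 (by omega) (by
      rw [← tc_δ L _ 2 (by omega), Cocycle.δ_eq_zero, tc_zero]))
    (tc L (mappingCone.snd φ)) (by
      rw [← tc_δ L _ 1 (by omega), mappingCone.δ_snd, tc_neg, tc_comp, tc_ofHom]
      exact neg_add_cancel _)

noncomputable def coneTensorInv : mappingCone (φ ▷ L) ⟶ mappingCone φ ⊗ L :=
  mappingCone.desc (φ ▷ L) (tc L (mappingCone.inl φ)) (mappingCone.inr φ ▷ L) (by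
    rw [← tc_δ L _ 0 (by omega), mappingCone.δ_inl, tc_ofHom, comp_whiskerRight])

lemma tc_comp_v {K₁ K₂ K₃ : DRing.Cx A} {m₁ m₂ m : ℤ} (z₁ : Cochain K₁ K₂ m₁)
    (z₂ : Cochain K₂ K₃ m₂) (h : m₁ + m₂ = m) (n₁ n₂ n₃ : ℤ) (h₁ : n₁ + m₁ = n₂)
    (h₂ : n₂ + m₂ = n₃) :
    (tc L z₁).v n₁ n₂ h₁ ≫ (tc L z₂).v n₂ n₃ h₂ = (tc L (z₁.comp z₂ h)).v n₁ n₃ (by omega) := by
  rw [tc_comp, Cochain.comp_v _ _ h n₁ n₂ n₃ h₁ h₂]

lemma coneTensor_hom_inv_id : coneTensorHom L φ ≫ coneTensorInv L φ = 𝟙 _ := by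
  ext n : 2
  rw [HomologicalComplex.comp_f]
  unfold coneTensorHom coneTensorInv
  rw [mappingCone.lift_desc_f _ _ _ _ _ _ _ n (n + 1) rfl]
  simp only [Cocycle.mk_coe]
  have h := congrArg (tc L) (mappingCone.id φ)
  rw [tc_add, tc_comp, tc_comp, tc_ofHom, tc_ofHom] at h
  have h' := Cochain.congr_v h n n (add_zero n)
  rw [Cochain.add_v, Cochain.comp_v _ _ (add_neg_cancel 1) n (n + 1) n rfl (by omega),
    Cochain.comp_v _ _ (add_zero 0) n n n (add_zero n) (add_zero n), Cochain.ofHom_v,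
    Cochain.ofHom_v] at h'
  rw [h']
  simp

lemma coneTensor_inv_hom_id : coneTensorInv L φ ≫ coneTensorHom L φ = 𝟙 _ := by
  apply HomologicalComplex.hom_ext
  intro n
  rw [HomologicalComplex.comp_f, HomologicalComplex.id_f]
  unfold coneTensorHom coneTensorInv
  rw [mappingCone.ext_from_iff _ (n + 1) n rfl]
  constructor
  · rw [mappingCone.inl_v_desc_f_assoc, Category.comp_id,
      mappingCone.ext_to_iff _ n (n + 1) rfl]
    constructor
    · rw [Category.assoc, mappingCone.lift_f_fst_v, mappingCone.inl_v_fst_v]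
      simp only [Cocycle.mk_coe]
      rw [tc_comp_v L _ _ (neg_add_cancel 1), mappingCone.inl_fst, tc_ofHom, Cochain.ofHom_v]
      simp
    · rw [Category.assoc, mappingCone.lift_f_snd_v, mappingCone.inl_v_snd_v,
        tc_comp_v L _ _ (add_zero (-1)), mappingCone.inl_snd, tc_zero, Cochain.zero_v]
  · rw [mappingCone.inr_f_desc_f_assoc, Category.comp_id,
      mappingCone.ext_to_iff _ n (n + 1) rfl]
    have hinr : (mappingCone.inr φ ▷ L).f n =
        (tc L (Cochain.ofHom (mappingCone.inr φ))).v n n (add_zero n) := by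
      rw [tc_ofHom, Cochain.ofHom_v]
    constructor
    · rw [Category.assoc, mappingCone.lift_f_fst_v, mappingCone.inr_f_fst_v]
      simp only [Cocycle.mk_coe]
      rw [hinr, tc_comp_v L _ _ (zero_add 1), mappingCone.inr_fst, tc_zero, Cochain.zero_v]
    · rw [Category.assoc, mappingCone.lift_f_snd_v, mappingCone.inr_f_snd_v, hinr,
        tc_comp_v L _ _ (zero_add 0), mappingCone.inr_snd, tc_ofHom, Cochain.ofHom_v]
      simp

/-- tensoring with `L` commutes with mapping cones -/
noncomputable def coneTensorIso : mappingCone φ ⊗ L ≅ mappingCone (φ ▷ L) where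
  hom := coneTensorHom L φ
  inv := coneTensorInv L φ
  hom_inv_id := coneTensor_hom_inv_id L φ
  inv_hom_id := coneTensor_inv_hom_id L φ

end Groth.Agent.Helper23.KoszTen
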