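import Mathlib
import Groth.Prelude.Def_W4c2quivmodsheafKron

/-!
# Kronecker modules: helper lemmas (helper23)
-/

namespace Groth.Agent.Helper23.Kron

open KronMod Module

variable {K : Type*} [Field K] {V W : Type*} [AddCommGroup V] [Module K V]
  [AddCommGroup W] [Module K W] {n : ℕ}

/-- The sum map `Vⁿ → W`. -/
noncomputable def sumMap (f : Fin n → (V →ₗ[K] W)) : (Fin n → V) →ₗ[K] W :=
  ∑ j, (f j).comp (LinearMap.proj j)

@[simp] lemma sumMap_apply (f : Fin n → (V →ₗ[K] W)) (v : Fin n → V) :
    sumMap f v = ∑ j, f j (v j) := by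
  simp [sumMap, LinearMap.sum_apply]

lemma sumMap_single (f : Fin n → (V →ₗ[K] W)) (j : Fin n) (v : V) :
    sumMap f (Pi.single j v) = f j v := by
  rw [sumMap_apply, Finset.sum_eq_single j]
  · simp
  · intro b _ hb; simp [Pi.single_eq_of_ne hb]
  · simp

lemma coe_sumMap (f : Fin n → (V →ₗ[K] W)) :
    (fun v : Fin n → V => ∑ j, f j (v j)) = ⇑(sumMap f) := by
  funext v; simp

/-- The product map `V → Wⁿ`. -/
noncomputable def prodMap (f : Fin n → (V →ₗ[K] W)) : V →ₗ[K] (Fin n → W) :=
  LinearMap.pi f

@[simp] lemma prodMap_apply (f : Fin n → (V →ₗ[K] W)) (v : V) (j : Fin n) :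
    prodMap f v j = f j v := rfl

lemma coe_prodMap (f : Fin n → (V →ₗ[K] W)) :
    (fun v : V => fun j : Fin n => f j v) = ⇑(prodMap f) := rfl

lemma finrank_fun [FiniteDimensional K V] : finrank K (Fin n → V) = n * finrank K V := by
  rw [Module.finrank_pi_fintype]; simp

lemma isSubrep_iff {f : Fin n → (V →ₗ[K] W)} {V' : Submodule K V} {W' : Submodule K W} :
    IsSubrep f V' W' ↔ ∀ j, ∀ v ∈ V', f j v ∈ W' := by
  constructor
  · intro h j v hv; exact h j (Submodule.mem_map_of_mem hv)
  · intro h j w hw
    obtain ⟨v, hv, rfl⟩ := Submodule.mem_map.1 hw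
    exact h j v hv

lemma isSemistable_of_isStable {f : Fin n → (V →ₗ[K] W)} (h : IsStable f) : IsSemistable f :=
  ⟨h.1, fun V' W' hs h1 h2 => (h.2 V' W' hs h1 h2).le⟩

lemma top_ne_bot_of_finrank_pos (hV : 0 < finrank K V) : (⊤ : Submodule K V) ≠ ⊥ := by
  intro h
  have := finrank_top K V
  rw [h, finrank_bot] at this
  omega

section fd

variable [FiniteDimensional K V] [FiniteDimensional K W]

lemma mul_finrank_le_of_sumMap_injective
    {f : Fin n → (V →ₗ[K] W)} (hinj : Function.Injective (sumMap f))
    {V' : Submodule K V} {W' : Submodule K W} (h : IsSubrep f V' W') :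
    n * finrank K V' ≤ finrank K W' := by
  let g : (Fin n → V') →ₗ[K] W' :=
    LinearMap.codRestrict W' ((sumMap f).comp (V'.subtype.compLeft (Fin n))) (by
      intro v
      simp only [LinearMap.comp_apply, sumMap_apply]
      refine Submodule.sum_mem _ (fun j _ => ?_)
      exact (isSubrep_iff.1 h) j _ (by simp))
  have hg : Function.Injective g := by
    intro a b hab
    have h1 : (sumMap f) ((V'.subtype.compLeft (Fin n)) a) =
        (sumMap f) ((V'.subtype.compLeft (Fin n)) b) := by
      have := congrArg Subtype.val hab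
      simpa [g] using this
    have h2 := hinj h1
    funext j
    have := congrFun h2 j
    exact Subtype.ext (by simpa using this)
  have := LinearMap.finrank_le_finrank_of_injective hg
  rwa [finrank_fun] at this

lemma finrank_le_mul_of_prodMap_injective
    {f : Fin n → (V →ₗ[K] W)} (hinj : Function.Injective (prodMap f))
    {V' : Submodule K V} {W' : Submodule K W} (h : IsSubrep f V' W') :
    finrank K V' ≤ n * finrank K W' := by
  let g : V' →ₗ[K] (Fin n → W') :=
    LinearMap.pi (fun j => LinearMap.codRestrict W' ((f j).comp V'.subtype)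
      (fun v => (isSubrep_iff.1 h) j _ v.2))
  have hg : Function.Injective g := by
    intro a b hab
    apply Subtype.ext
    apply hinj
    funext j
    have := congrArg Subtype.val (congrFun hab j)
    simpa [g] using this
  have := LinearMap.finrank_le_finrank_of_injective hg
  rwa [finrank_fun] at this

lemma finrank_le_of_comb_injective
    {f : Fin n → (V →ₗ[K] W)} (z : Fin n → K)
    (hinj : Function.Injective ((∑ j, z j • f j : V →ₗ[K] W) : V → W))
    {V' : Submodule K V} {W' : Submodule K W} (h : IsSubrep f V' W') :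
    finrank K V' ≤ finrank K W' := by
  let g : V' →ₗ[K] W' :=
    LinearMap.codRestrict W' ((∑ j, z j • f j : V →ₗ[K] W).comp V'.subtype) (by
      intro v
      simp only [LinearMap.comp_apply, LinearMap.sum_apply, LinearMap.smul_apply,
        Submodule.subtype_apply]
      exact Submodule.sum_mem _ fun j _ => Submodule.smul_mem _ _ ((isSubrep_iff.1 h) j _ v.2))
  have hg : Function.Injective g := by
    intro a b hab
    apply Subtype.ext
    apply hinj
    have := congrArg Subtype.val hab
    simpa [g] using this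
  exact LinearMap.finrank_le_finrank_of_injective hg

lemma isSubrep_top_range (f : Fin n → (V →ₗ[K] W)) :
    IsSubrep f ⊤ (LinearMap.range (sumMap f)) := by
  rw [isSubrep_iff]; intro j v _; exact ⟨Pi.single j v, sumMap_single f j v⟩

lemma range_sumMap_eq_top {f : Fin n → (V →ₗ[K] W)} (hss : IsSemistable f)
    (hV : 0 < finrank K V) : LinearMap.range (sumMap f) = ⊤ := by
  by_contra hne
  have := hss.2 ⊤ _ (isSubrep_top_range f) (fun h => top_ne_bot_of_finrank_pos hV h.1)
    (fun h => hne h.2)
  rw [finrank_top, mul_comm] at this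
  have h2 := Nat.le_of_mul_le_mul_left this hV
  exact hne (Submodule.eq_top_of_finrank_eq (le_antisymm (Submodule.finrank_le _) h2))

lemma isSubrep_ker_bot (f : Fin n → (V →ₗ[K] W)) :
    IsSubrep f (LinearMap.ker (prodMap f)) ⊥ := by
  rw [isSubrep_iff]; intro j v hv
  have h1 : prodMap f v = 0 := hv
  have := congrFun h1 j
  simpa using this

lemma ker_prodMap_eq_bot {f : Fin n → (V →ₗ[K] W)} (hss : IsSemistable f)
    (hW : 0 < finrank K W) : LinearMap.ker (prodMap f) = ⊥ := by
  by_contra hne
  have hWtop : (⊥ : Submodule K W) ≠ ⊤ := fun h => top_ne_bot_of_finrank_pos hW h.symm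
  have := hss.2 _ ⊥ (isSubrep_ker_bot f) (fun h => hne h.1) (fun h => hWtop h.2)
  rw [finrank_bot, mul_zero] at this
  have h0 : finrank K (LinearMap.ker (prodMap f)) = 0 := by
    rcases Nat.eq_zero_or_pos (finrank K (LinearMap.ker (prodMap f))) with h | h
    · exact h
    · have := Nat.mul_pos hW h; omega
  exact hne (Submodule.finrank_eq_zero.1 h0)

/-- S15560 -/
theorem not_semistable_of_lt (f : Fin n → (V →ₗ[K] W))
    (hV : 0 < finrank K V) (hW : 0 < finrank K W)
    (h : n * finrank K V < finrank K W ∨ n * finrank K W < finrank K V) :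
    ¬ IsSemistable f := by
  intro hss
  rcases h with h | h
  · have h1 := range_sumMap_eq_top hss hV
    have h2 : finrank K (LinearMap.range (sumMap f)) ≤ finrank K (Fin n → V) :=
      LinearMap.finrank_range_le _
    rw [h1, finrank_top, finrank_fun] at h2
    omega
  · have h1 := ker_prodMap_eq_bot hss hW
    have h2 := LinearMap.finrank_range_add_finrank_ker (prodMap f)
    rw [h1, finrank_bot, add_zero] at h2
    have h3 : finrank K (LinearMap.range (prodMap f)) ≤ finrank K (Fin n → W) :=
      Submodule.finrank_le _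
    rw [finrank_fun] at h3
    omega

/-- S15561 -/
theorem semistable_iff_sumMap_bijective (f : Fin n → (V →ₗ[K] W))
    (hV : 0 < finrank K V) (hW : finrank K W = n * finrank K V) :
    IsSemistable f ↔ Function.Bijective (sumMap f) := by
  have hdim : finrank K (Fin n → V) = finrank K W := by rw [finrank_fun, hW]
  constructor
  · intro hss
    have hsurj : Function.Surjective (sumMap f) :=
      LinearMap.range_eq_top.1 (range_sumMap_eq_top hss hV)
    exact ⟨(LinearMap.injective_iff_surjective_of_finrank_eq_finrank hdim).2 hsurj, hsurj⟩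
  · intro hb
    refine ⟨by omega, fun V' W' hs _ _ => ?_⟩
    have h1 := mul_finrank_le_of_sumMap_injective hb.1 hs
    rw [hW]
    calc n * finrank K V * finrank K V' = finrank K V * (n * finrank K V') := by ring
      _ ≤ finrank K V * finrank K W' := Nat.mul_le_mul_left _ h1

/-- S15572 -/
theorem semistable_iff_prodMap_bijective (f : Fin n → (V →ₗ[K] W))
    (hW : 0 < finrank K W) (hV : finrank K V = n * finrank K W) :
    IsSemistable f ↔ Function.Bijective (prodMap f) := by
  have hdim : finrank K V = finrank K (Fin n → W) := by rw [finrank_fun, hV]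
  constructor
  · intro hss
    have hinj : Function.Injective (prodMap f) :=
      LinearMap.ker_eq_bot.1 (ker_prodMap_eq_bot hss hW)
    exact ⟨hinj, (LinearMap.injective_iff_surjective_of_finrank_eq_finrank hdim).1 hinj⟩
  · intro hb
    refine ⟨by omega, fun V' W' hs _ _ => ?_⟩
    have h1 := finrank_le_mul_of_prodMap_injective hb.1 hs
    rw [hV]
    calc finrank K W * finrank K V' ≤ finrank K W * (n * finrank K W') :=
          Nat.mul_le_mul_left _ h1
      _ = n * finrank K W * finrank K W' := by ring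

/-- S15571 -/
theorem semistable_of_comb_bijective (f : Fin n → (V →ₗ[K] W)) (k : ℕ) (hk : 1 ≤ k)
    (hV : finrank K V = k) (hW : finrank K W = k)
    (z : Fin n → K) (hz : Function.Bijective ((∑ j, z j • f j : V →ₗ[K] W) : V → W)) :
    IsSemistable f := by
  refine ⟨by omega, fun V' W' hs _ _ => ?_⟩
  have h1 := finrank_le_of_comb_injective z hz.1 hs
  rw [hV, hW]
  exact Nat.mul_le_mul_left _ h1


/-- S15562, existence -/
theorem exists_semistable_sum (hV : 0 < finrank K V) (hW : finrank K W = n * finrank K V) :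
    ∃ f : Fin n → (V →ₗ[K] W), IsSemistable f := by
  have hdim : finrank K (Fin n → V) = finrank K W := by rw [finrank_fun, hW]
  let e : (Fin n → V) ≃ₗ[K] W := LinearEquiv.ofFinrankEq _ _ hdim
  refine ⟨fun j => e.toLinearMap.comp (LinearMap.single K (fun _ => V) j), ?_⟩
  rw [semistable_iff_sumMap_bijective _ hV hW]
  have : sumMap (fun j => e.toLinearMap.comp (LinearMap.single K (fun _ => V) j)) =
      e.toLinearMap := by
    refine LinearMap.ext fun v => ?_
    rw [sumMap_apply]
    simp only [LinearMap.comp_apply, LinearEquiv.coe_coe, LinearMap.coe_single]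
    rw [← map_sum, Finset.univ_sum_single]
  rw [this]; exact e.bijective

/-- S15562, uniqueness -/
theorem areIso_of_sumMap_bijective {f f' : Fin n → (V →ₗ[K] W)}
    (hb : Function.Bijective (sumMap f)) (hb' : Function.Bijective (sumMap f')) :
    AreIso f f' := by
  let E := LinearEquiv.ofBijective (sumMap f) hb
  let E' := LinearEquiv.ofBijective (sumMap f') hb'
  refine ⟨LinearEquiv.refl K V, E.symm.trans E', fun j => ?_⟩
  refine LinearMap.ext fun v => ?_
  simp only [LinearMap.comp_apply, LinearEquiv.coe_coe, LinearEquiv.refl_apply,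
    LinearEquiv.trans_apply]
  have h1 : E.symm (f j v) = Pi.single j v := by
    rw [LinearEquiv.symm_apply_eq]
    exact (sumMap_single f j v).symm
  rw [h1]
  exact sumMap_single f' j v

/-- S15569, existence -/
theorem exists_semistable_prod (hW : 0 < finrank K W) (hV : finrank K V = n * finrank K W) :
    ∃ f : Fin n → (V →ₗ[K] W), IsSemistable f := by
  have hdim : finrank K V = finrank K (Fin n → W) := by rw [finrank_fun, hV]
  let e : V ≃ₗ[K] (Fin n → W) := LinearEquiv.ofFinrankEq _ _ hdim
  refine ⟨fun j => (LinearMap.proj j).comp e.toLinearMap, ?_⟩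
  rw [semistable_iff_prodMap_bijective _ hW hV]
  have : prodMap (fun j => (LinearMap.proj j).comp e.toLinearMap) = e.toLinearMap := by
    refine LinearMap.ext fun v => ?_
    funext j
    simp
  rw [this]; exact e.bijective

/-- S15569, uniqueness -/
theorem areIso_of_prodMap_bijective {f f' : Fin n → (V →ₗ[K] W)}
    (hb : Function.Bijective (prodMap f)) (hb' : Function.Bijective (prodMap f')) :
    AreIso f f' := by
  let E := LinearEquiv.ofBijective (prodMap f) hb
  let E' := LinearEquiv.ofBijective (prodMap f') hb'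
  refine ⟨E.trans E'.symm, LinearEquiv.refl K W, fun j => ?_⟩
  refine LinearMap.ext fun v => ?_
  simp only [LinearMap.comp_apply, LinearEquiv.coe_coe, LinearEquiv.refl_apply,
    LinearEquiv.trans_apply]
  have h1 : prodMap f' (E'.symm (E v)) = E v := E'.apply_symm_apply (E v)
  have h2 := congrFun h1 j
  exact h2.symm

/-- S15563 -/
theorem stable_iff_sum (f : Fin n → (V →ₗ[K] W))
    (hV : 0 < finrank K V) (hW : finrank K W = n * finrank K V) :
    IsStable f ↔ (IsSemistable f ∧ finrank K V = 1) := by
  constructor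
  · intro hst
    refine ⟨(isSemistable_of_isStable hst), ?_⟩
    by_contra hne
    have h2 : 2 ≤ finrank K V := by omega
    obtain ⟨v, hv⟩ := Module.finrank_pos_iff_exists_ne_zero.1 hV
    have hs : IsSubrep f (K ∙ v) (Submodule.span K (Set.range fun j => f j v)) := by
      rw [isSubrep_iff]
      intro j x hx
      obtain ⟨c, rfl⟩ := Submodule.mem_span_singleton.1 hx
      rw [map_smul]
      exact Submodule.smul_mem _ _ (Submodule.subset_span ⟨j, rfl⟩)
    have hV'1 : finrank K (K ∙ v) = 1 := finrank_span_singleton hv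
    have hbot : ¬ ((K ∙ v) = ⊥ ∧ (Submodule.span K (Set.range fun j => f j v)) = ⊥) := by
      rintro ⟨h, -⟩
      rw [h, finrank_bot] at hV'1; omega
    have htop : ¬ ((K ∙ v) = ⊤ ∧ (Submodule.span K (Set.range fun j => f j v)) = ⊤) := by
      rintro ⟨h, -⟩
      rw [h, finrank_top] at hV'1; omega
    have hlt := hst.2 _ _ hs hbot htop
    have hW'n : finrank K (Submodule.span K (Set.range fun j => f j v)) ≤ n := by
      have := finrank_range_le_card (R := K) (fun j => f j v)
      simpa [Set.finrank] using this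
    rw [hV'1, hW, mul_one] at hlt
    have := Nat.mul_le_mul_left (finrank K V) hW'n
    rw [mul_comm (finrank K V) n] at this
    omega
  · rintro ⟨hss, h1⟩
    have hb := (semistable_iff_sumMap_bijective f hV hW).1 hss
    refine ⟨hss.1, fun V' W' hs hbot htop => ?_⟩
    have hle := Submodule.finrank_le V'
    rw [h1] at hle
    rw [hW, h1, mul_one, one_mul]
    rcases Nat.lt_or_ge (finrank K V') 1 with h0 | h1'
    · have hV'0 : finrank K V' = 0 := by omega
      have hV'bot : V' = ⊥ := Submodule.finrank_eq_zero.1 hV'0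
      have hW'ne : W' ≠ ⊥ := fun h => hbot ⟨hV'bot, h⟩
      have : 0 < finrank K W' := by
        rcases Nat.eq_zero_or_pos (finrank K W') with h | h
        · exact absurd (Submodule.finrank_eq_zero.1 h) hW'ne
        · exact h
      rw [hV'0, mul_zero]; exact this
    · exfalso
      have hV'top : V' = ⊤ := Submodule.eq_top_of_finrank_eq (by omega)
      apply htop
      refine ⟨hV'top, ?_⟩
      rw [eq_top_iff, ← range_sumMap_eq_top hss hV]
      rintro w ⟨x, rfl⟩
      rw [sumMap_apply]
      exact Submodule.sum_mem _ fun j _ =>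
        (isSubrep_iff.1 hs) j _ (by rw [hV'top]; exact Submodule.mem_top)

/-- S15570 -/
theorem stable_iff_prod (f : Fin n → (V →ₗ[K] W))
    (hW : 0 < finrank K W) (hV : finrank K V = n * finrank K W) :
    IsStable f ↔ (IsSemistable f ∧ finrank K W = 1) := by
  constructor
  · intro hst
    have hss := (isSemistable_of_isStable hst)
    refine ⟨hss, ?_⟩
    by_contra hne
    have h2 : 2 ≤ finrank K W := by omega
    have hb := (semistable_iff_prodMap_bijective f hW hV).1 hss
    let E := LinearEquiv.ofBijective (prodMap f) hb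
    obtain ⟨w, hw⟩ := Module.finrank_pos_iff_exists_ne_zero.1 hW
    let g : (Fin n → (K ∙ w : Submodule K W)) →ₗ[K] V :=
      E.symm.toLinearMap.comp ((K ∙ w : Submodule K W).subtype.compLeft (Fin n))
    have hg : Function.Injective g := by
      intro a b hab
      have h1 : ((K ∙ w : Submodule K W).subtype.compLeft (Fin n)) a =
          ((K ∙ w : Submodule K W).subtype.compLeft (Fin n)) b := E.symm.injective hab
      funext j
      exact Subtype.ext (by simpa using congrFun h1 j)
    have hs : IsSubrep f (LinearMap.range g) (K ∙ w) := by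
      rw [isSubrep_iff]
      rintro j _ ⟨a, rfl⟩
      have h1 : prodMap f (E.symm (((K ∙ w : Submodule K W).subtype.compLeft (Fin n)) a)) =
          ((K ∙ w : Submodule K W).subtype.compLeft (Fin n)) a := E.apply_symm_apply _
      have h2 := congrFun h1 j
      have h3 : f j (g a) = (a j : W) := h2
      rw [h3]; exact (a j).2
    have hW'1 : finrank K (K ∙ w : Submodule K W) = 1 := finrank_span_singleton hw
    have hV'n : finrank K (LinearMap.range g) = n := by
      have := LinearMap.finrank_range_of_inj hg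
      rw [finrank_fun, hW'1, mul_one] at this
      exact this
    have hbot : ¬ (LinearMap.range g = ⊥ ∧ (K ∙ w : Submodule K W) = ⊥) := by
      rintro ⟨-, h⟩
      rw [h, finrank_bot] at hW'1; omega
    have htop : ¬ (LinearMap.range g = ⊤ ∧ (K ∙ w : Submodule K W) = ⊤) := by
      rintro ⟨-, h⟩
      rw [h, finrank_top] at hW'1; omega
    have hlt := hst.2 _ _ hs hbot htop
    rw [hV'n, hW'1, hV, mul_one, mul_comm n (finrank K W)] at hlt
    exact lt_irrefl _ hlt
  · rintro ⟨hss, h1⟩
    have hb := (semistable_iff_prodMap_bijective f hW hV).1 hss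
    refine ⟨hss.1, fun V' W' hs hbot htop => ?_⟩
    have hle := Submodule.finrank_le W'
    rw [h1] at hle
    rw [h1, one_mul]
    rcases Nat.lt_or_ge (finrank K W') 1 with h0 | h1'
    · exfalso
      have hW'0 : finrank K W' = 0 := by omega
      have hW'bot : W' = ⊥ := Submodule.finrank_eq_zero.1 hW'0
      apply hbot
      refine ⟨?_, hW'bot⟩
      rw [eq_bot_iff]
      intro v hv
      rw [Submodule.mem_bot]
      apply hb.1
      funext j
      have := (isSubrep_iff.1 hs) j v hv
      rw [hW'bot, Submodule.mem_bot] at this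
      simpa using this
    · have hW'top : W' = ⊤ := Submodule.eq_top_of_finrank_eq (by omega)
      have hV'ne : V' ≠ ⊤ := fun h => htop ⟨h, hW'top⟩
      have := Submodule.finrank_lt hV'ne
      have h11 : finrank K W' = 1 := by omega
      rw [h11, mul_one]; exact this

/-- S15564 -/
theorem one_one (f : Fin n → (V →ₗ[K] W)) (hV : finrank K V = 1) (hW : finrank K W = 1) :
    (IsSemistable f ↔ f ≠ 0) ∧ (IsStable f ↔ f ≠ 0) := by
  have hss_ne : IsSemistable f → f ≠ 0 := by
    intro hss h0
    have h1 := range_sumMap_eq_top hss (by omega)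
    have h2 : sumMap f = 0 := by
      refine LinearMap.ext fun v => ?_
      simp [h0]
    rw [h2, LinearMap.range_zero] at h1
    exact top_ne_bot_of_finrank_pos (K := K) (V := W) (by omega) h1.symm
  have hne_st : f ≠ 0 → IsStable f := by
    intro hne
    have : ∃ j v, f j v ≠ 0 := by
      by_contra hcon
      push Not at hcon
      apply hne
      funext j
      exact LinearMap.ext fun v => hcon j v
    obtain ⟨j, v, hjv⟩ := this
    refine ⟨by omega, fun V' W' hs hbot htop => ?_⟩
    have hleV := Submodule.finrank_le V'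
    have hleW := Submodule.finrank_le W'
    rw [hV] at hleV
    rw [hW] at hleW
    rw [hV, hW, one_mul, one_mul]
    rcases Nat.lt_or_ge (finrank K V') 1 with h0 | h1
    · have hV'0 : finrank K V' = 0 := by omega
      have hV'bot : V' = ⊥ := Submodule.finrank_eq_zero.1 hV'0
      have hW'ne : W' ≠ ⊥ := fun h => hbot ⟨hV'bot, h⟩
      rcases Nat.eq_zero_or_pos (finrank K W') with h | h
      · exact absurd (Submodule.finrank_eq_zero.1 h) hW'ne
      · omega
    · exfalso
      have hV'top : V' = ⊤ := Submodule.eq_top_of_finrank_eq (by omega)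
      have hmem : f j v ∈ W' :=
        (isSubrep_iff.1 hs) j v (by rw [hV'top]; exact Submodule.mem_top)
      have hW'ne : W' ≠ ⊥ := by
        intro h; rw [h, Submodule.mem_bot] at hmem; exact hjv hmem
      have hW'pos : 0 < finrank K W' := by
        rcases Nat.eq_zero_or_pos (finrank K W') with h | h
        · exact absurd (Submodule.finrank_eq_zero.1 h) hW'ne
        · exact h
      exact htop ⟨hV'top, Submodule.eq_top_of_finrank_eq (by omega)⟩
  exact ⟨⟨hss_ne, fun h => isSemistable_of_isStable (hne_st h)⟩,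
    ⟨fun h => hss_ne (isSemistable_of_isStable h), hne_st⟩⟩

omit [FiniteDimensional K V] [FiniteDimensional K W] in
lemma finrank_span_singleton_le_one (w : W) : finrank K (K ∙ w) ≤ 1 := by
  by_cases h : w = 0
  · subst h
    have h0 : (K ∙ (0 : W)) = ⊥ := Submodule.span_zero_singleton K
    rw [h0, finrank_bot]; exact Nat.zero_le _
  · rw [finrank_span_singleton h]

/-- S15565 -/
theorem not_stable_two [IsAlgClosed K] (f : Fin 2 → (V →ₗ[K] W)) (k : ℕ) (hk : 2 ≤ k)
    (hV : finrank K V = k) (hW : finrank K W = k) : ¬ IsStable f := by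
  intro hst
  have key : ∃ v : V, v ≠ 0 ∧ ∃ w : W, f 0 v ∈ K ∙ w ∧ f 1 v ∈ K ∙ w := by
    by_cases hinj : Function.Injective (f 0)
    · have hsurj : Function.Surjective (f 0) :=
        (LinearMap.injective_iff_surjective_of_finrank_eq_finrank (hV.trans hW.symm)).1 hinj
      let E : V ≃ₗ[K] W := LinearEquiv.ofBijective (f 0) ⟨hinj, hsurj⟩
      let T : Module.End K V := E.symm.toLinearMap.comp (f 1)
      have : Nontrivial V := Module.nontrivial_of_finrank_pos (R := K) (by omega)
      obtain ⟨μ, hμ⟩ := Module.End.exists_eigenvalue T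
      obtain ⟨v, hv⟩ := hμ.exists_hasEigenvector
      refine ⟨v, hv.2, f 0 v, Submodule.mem_span_singleton_self _, ?_⟩
      have h1 : T v = μ • v := hv.apply_eq_smul
      have h2 : f 1 v = μ • f 0 v := by
        have h3 : E (T v) = f 1 v := E.apply_symm_apply (f 1 v)
        rw [← h3, h1, map_smul]
        rfl
      rw [h2]
      exact Submodule.smul_mem _ _ (Submodule.mem_span_singleton_self _)
    · have : LinearMap.ker (f 0) ≠ ⊥ := fun h => hinj (LinearMap.ker_eq_bot.1 h)
      obtain ⟨v, hvker, hv⟩ := Submodule.exists_mem_ne_zero_of_ne_bot this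
      refine ⟨v, hv, f 1 v, ?_, Submodule.mem_span_singleton_self _⟩
      rw [LinearMap.mem_ker.1 hvker]; exact Submodule.zero_mem _
  obtain ⟨v, hv, w, h0, h1⟩ := key
  have hs : IsSubrep f (K ∙ v) (K ∙ w) := by
    rw [isSubrep_iff]
    intro j x hx
    obtain ⟨c, rfl⟩ := Submodule.mem_span_singleton.1 hx
    rw [map_smul]
    refine Submodule.smul_mem _ _ ?_
    fin_cases j
    · exact h0
    · exact h1
  have hV'1 : finrank K (K ∙ v) = 1 := finrank_span_singleton hv
  have hbot : ¬ ((K ∙ v) = ⊥ ∧ (K ∙ w) = ⊥) := by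
    rintro ⟨h, -⟩
    rw [h, finrank_bot] at hV'1; omega
  have htop : ¬ ((K ∙ v) = ⊤ ∧ (K ∙ w) = ⊤) := by
    rintro ⟨h, -⟩
    rw [h, finrank_top] at hV'1; omega
  have hlt := hst.2 _ _ hs hbot htop
  have hle := finrank_span_singleton_le_one (K := K) w
  rw [hV'1, hV, hW, mul_one] at hlt
  have := Nat.mul_le_mul_left k hle
  omega


omit [FiniteDimensional K V] [FiniteDimensional K W] in
lemma eq_smul_of_smul_add_smul_eq_zero {p q : W} {γ δ : K} (hδ : δ ≠ 0)
    (h : γ • p + δ • q = 0) : q = (-(δ⁻¹ * γ)) • p := by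
  have h1 : δ • q = -(γ • p) := by linear_combination (norm := module) h
  calc q = δ⁻¹ • (δ • q) := by rw [smul_smul, inv_mul_cancel₀ hδ, one_smul]
    _ = (-(δ⁻¹ * γ)) • p := by rw [h1, smul_neg, smul_smul, neg_smul]

omit [FiniteDimensional K V] [FiniteDimensional K W] in
lemma core22 {p q w : W} {α β γ δ : K} (hp : p ≠ 0) (hw : w ≠ 0)
    (h1 : ¬ (α = 0 ∧ β = 0)) (h2 : ¬ (γ = 0 ∧ δ = 0))
    (e1 : α • p + β • w + β • q = 0) (e2 : γ • p + δ • q = 0) :
    p ∈ K ∙ w ∧ q ∈ K ∙ w := by
  have hδ : δ ≠ 0 := by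
    intro h
    subst h
    rw [zero_smul, add_zero] at e2
    rcases smul_eq_zero.1 e2 with h | h
    · exact h2 ⟨h, rfl⟩
    · exact hp h
  have hq := eq_smul_of_smul_add_smul_eq_zero hδ e2
  set c : K := -(δ⁻¹ * γ) with hc
  have e1' : (α + β * c) • p + β • w = 0 := by
    rw [hq] at e1
    linear_combination (norm := module) e1
  have hβ : β ≠ 0 := by
    intro h
    subst h
    rw [zero_mul, add_zero, zero_smul, add_zero] at e1'
    rcases smul_eq_zero.1 e1' with h | h
    · exact h1 ⟨h, rfl⟩
    · exact hp h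
  have hw' := eq_smul_of_smul_add_smul_eq_zero hβ e1'
  set e : K := -(β⁻¹ * (α + β * c)) with he
  have he0 : e ≠ 0 := by
    intro h; rw [h, zero_smul] at hw'; exact hw hw'
  have hpw : p ∈ K ∙ w := by
    rw [Submodule.mem_span_singleton]
    exact ⟨e⁻¹, by rw [hw', smul_smul, inv_mul_cancel₀ he0, one_smul]⟩
  refine ⟨hpw, ?_⟩
  rw [hq]
  exact Submodule.smul_mem _ _ hpw

/-- S15566 (no algebraic closedness needed) -/
theorem exists_comb_bijective_two_two (f : Fin n → (V →ₗ[K] W))
    (hV : finrank K V = 2) (hW : finrank K W = 2) (hf : IsSemistable f) :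
    ∃ z : Fin n → K, Function.Bijective ((∑ j, z j • f j : V →ₗ[K] W) : V → W) := by
  by_contra hcon
  push Not at hcon
  have hGadd : ∀ z z' : Fin n → K, (∑ j, (z + z') j • f j : V →ₗ[K] W) =
      (∑ j, z j • f j) + ∑ j, z' j • f j := by
    intro z z'; simp [add_smul, Finset.sum_add_distrib]
  have hGsingle : ∀ j, (∑ i, (Pi.single j (1 : K) : Fin n → K) i • f i : V →ₗ[K] W) = f j := by
    intro j
    rw [Finset.sum_eq_single j]
    · simp
    · intro b _ hb; simp [Pi.single_eq_of_ne hb]
    · simp
  have hsing : ∀ z : Fin n → K, ∃ x : V, x ≠ 0 ∧ (∑ j, z j • f j : V →ₗ[K] W) x = 0 := by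
    intro z
    have hni : ¬ Function.Injective (∑ j, z j • f j : V →ₗ[K] W) := by
      intro hinj
      exact hcon z ⟨hinj,
        (LinearMap.injective_iff_surjective_of_finrank_eq_finrank (hV.trans hW.symm)).1 hinj⟩
    have : LinearMap.ker (∑ j, z j • f j : V →ₗ[K] W) ≠ ⊥ :=
      fun h => hni (LinearMap.ker_eq_bot.1 h)
    obtain ⟨x, hx, hx0⟩ := Submodule.exists_mem_ne_zero_of_ne_bot this
    exact ⟨x, hx0, hx⟩
  -- (a) no common kernel
  have hA : ∀ u : V, u ≠ 0 → ¬ (∀ j, f j u = 0) := by
    intro u hu hall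
    have hs : IsSubrep f (K ∙ u) ⊥ := by
      rw [isSubrep_iff]
      intro j x hx
      obtain ⟨c, rfl⟩ := Submodule.mem_span_singleton.1 hx
      rw [map_smul, hall j, smul_zero]; exact Submodule.zero_mem _
    have h1 : finrank K (K ∙ u) = 1 := finrank_span_singleton hu
    have := hf.2 _ _ hs (by rintro ⟨h, -⟩; rw [h, finrank_bot] at h1; omega)
      (by rintro ⟨-, h⟩; exact top_ne_bot_of_finrank_pos (K := K) (V := W) (by omega) h.symm)
    rw [h1, finrank_bot, hW, hV] at this
    omega
  -- (b) image not in a line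
  have hB : ∀ w : W, ¬ (∀ j x, f j x ∈ K ∙ w) := by
    intro w hall
    have hs : IsSubrep f ⊤ (K ∙ w) := by
      rw [isSubrep_iff]; intro j x _; exact hall j x
    have h1 := finrank_span_singleton_le_one (K := K) w
    have := hf.2 _ _ hs
      (by rintro ⟨h, -⟩; exact top_ne_bot_of_finrank_pos (K := K) (V := V) (by omega) h)
      (by rintro ⟨-, h⟩; rw [h, finrank_top] at h1; omega)
    rw [finrank_top, hW, hV] at this
    omega
  -- choose z₀ with G z₀ ≠ 0
  have hex : ∃ z₀ : Fin n → K, (∑ j, z₀ j • f j : V →ₗ[K] W) ≠ 0 := by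
    by_contra hcon2
    push Not at hcon2
    obtain ⟨u, hu⟩ := Module.finrank_pos_iff_exists_ne_zero.1 (show 0 < finrank K V by omega)
    refine hA u hu (fun j => ?_)
    rw [← hGsingle j, hcon2]; rfl
  obtain ⟨z₀, hz₀⟩ := hex
  obtain ⟨u, hu, hu0⟩ := hsing z₀
  obtain ⟨u', hu'⟩ : ∃ u', (∑ j, z₀ j • f j : V →ₗ[K] W) u' ≠ 0 := by
    by_contra hcon2; push Not at hcon2
    exact hz₀ (LinearMap.ext hcon2)
  -- u, u' span V
  have hli : LinearIndependent K ![u, u'] := by
    rw [LinearIndependent.pair_iff]
    intro s t hst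
    have h1 : (∑ j, z₀ j • f j : V →ₗ[K] W) (s • u + t • u') = 0 := by rw [hst, map_zero]
    rw [map_add, map_smul, map_smul, hu0, smul_zero, zero_add] at h1
    have ht : t = 0 := by
      rcases smul_eq_zero.1 h1 with h | h
      · exact h
      · exact absurd h hu'
    subst ht
    rw [zero_smul, add_zero] at hst
    rcases smul_eq_zero.1 hst with h | h
    · exact ⟨h, rfl⟩
    · exact absurd h hu
  have hspan : ∀ x : V, ∃ a b : K, x = a • u + b • u' := by
    have htop : Submodule.span K (Set.range ![u, u']) = ⊤ :=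
      hli.span_eq_top_of_card_eq_finrank (by simp [hV])
    intro x
    have hx : x ∈ Submodule.span K (Set.range ![u, u']) := by rw [htop]; exact Submodule.mem_top
    rw [Matrix.range_cons, Matrix.range_cons, Matrix.range_empty, Set.union_empty,
      Set.singleton_union, Submodule.mem_span_pair] at hx
    obtain ⟨a, b, rfl⟩ := hx
    exact ⟨a, b, rfl⟩
  -- key claim
  have hclaim : ∀ z : Fin n → K, (∑ j, z j • f j : V →ₗ[K] W) u = 0 ∨
      ∀ x, (∑ j, z j • f j : V →ₗ[K] W) x ∈ K ∙ ((∑ j, z₀ j • f j : V →ₗ[K] W) u') := by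
    intro z
    by_cases hgu : (∑ j, z j • f j : V →ₗ[K] W) u = 0
    · exact Or.inl hgu
    right
    obtain ⟨x₂, hx₂, hx₂0⟩ := hsing z
    obtain ⟨γ, δ, rfl⟩ := hspan x₂
    rw [map_add, map_smul, map_smul] at hx₂0
    obtain ⟨x₁, hx₁, hx₁0⟩ := hsing (z₀ + z)
    obtain ⟨α, β, rfl⟩ := hspan x₁
    rw [hGadd, LinearMap.add_apply, map_add, map_add, map_smul, map_smul, map_smul, map_smul,
      hu0, smul_zero, zero_add] at hx₁0
    have e1 : α • (∑ j, z j • f j : V →ₗ[K] W) u + β • (∑ j, z₀ j • f j : V →ₗ[K] W) u' +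
        β • (∑ j, z j • f j : V →ₗ[K] W) u' = 0 := by
      linear_combination (norm := module) hx₁0
    have h12 : ¬ (α = 0 ∧ β = 0) := by
      rintro ⟨rfl, rfl⟩
      exact hx₁ (by rw [zero_smul, zero_smul, add_zero])
    have h22 : ¬ (γ = 0 ∧ δ = 0) := by
      rintro ⟨rfl, rfl⟩
      exact hx₂ (by rw [zero_smul, zero_smul, add_zero])
    obtain ⟨hp, hq⟩ := core22 hgu hu' h12 h22 e1 hx₂0
    intro x
    obtain ⟨a, b, rfl⟩ := hspan x
    rw [map_add, map_smul, map_smul]
    exact Submodule.add_mem _ (Submodule.smul_mem _ _ hp) (Submodule.smul_mem _ _ hq)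
  -- a vector space is not the union of two proper subspaces
  by_cases hP : ∀ z : Fin n → K, (∑ j, z j • f j : V →ₗ[K] W) u = 0
  · exact hA u hu (fun j => by rw [← hGsingle j]; exact hP _)
  · by_cases hS : ∀ z : Fin n → K, ∀ x, (∑ j, z j • f j : V →ₗ[K] W) x ∈
        K ∙ ((∑ j, z₀ j • f j : V →ₗ[K] W) u')
    · exact hB _ (fun j x => by rw [← hGsingle j]; exact hS _ x)
    · push Not at hP hS
      obtain ⟨z₁, hz₁⟩ := hP
      obtain ⟨z₂, x₂, hz₂⟩ := hS
      have h1 := (hclaim z₁).resolve_left hz₁
      have h2 : (∑ j, z₂ j • f j : V →ₗ[K] W) u = 0 := by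
        rcases hclaim z₂ with h | h
        · exact h
        · exact absurd (h x₂) hz₂
      rcases hclaim (z₁ + z₂) with h | h
      · rw [hGadd, LinearMap.add_apply, h2, add_zero] at h
        exact hz₁ h
      · have := h x₂
        rw [hGadd, LinearMap.add_apply] at this
        exact hz₂ ((Submodule.add_mem_iff_right _ (h1 x₂)).1 this)

/-- generic duality statement -/
theorem cond_dual_iff (R : ℕ → ℕ → Prop)
    (hR : ∀ a a' b b' dV dW : ℕ, a + a' = dW → b + b' = dV →
      (R (dW * b') (dV * a') ↔ R (dV * a) (dW * b)))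
    (f : Fin n → (V →ₗ[K] W)) :
    (0 < finrank K V + finrank K W ∧ ∀ (V' : Submodule K V) (W' : Submodule K W),
        IsSubrep f V' W' → ¬ (V' = ⊥ ∧ W' = ⊥) → ¬ (V' = ⊤ ∧ W' = ⊤) →
        R (finrank K W * finrank K V') (finrank K V * finrank K W')) ↔
    (0 < finrank K (Dual K W) + finrank K (Dual K V) ∧
      ∀ (A : Submodule K (Dual K W)) (B : Submodule K (Dual K V)),
        IsSubrep (fun j => (f j).dualMap) A B →
        ¬ (A = ⊥ ∧ B = ⊥) → ¬ (A = ⊤ ∧ B = ⊤) →
        R (finrank K (Dual K V) * finrank K A) (finrank K (Dual K W) * finrank K B)) := by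
  have hdV : finrank K (Dual K V) = finrank K V := Subspace.dual_finrank_eq
  have hdW : finrank K (Dual K W) = finrank K W := Subspace.dual_finrank_eq
  constructor
  · rintro ⟨h0, h⟩
    refine ⟨by rw [hdV, hdW]; omega, fun A B hs hbot htop => ?_⟩
    have ea := Subspace.finrank_add_finrank_dualCoannihilator_eq A
    have eb := Subspace.finrank_add_finrank_dualCoannihilator_eq B
    have hs' : IsSubrep f B.dualCoannihilator A.dualCoannihilator := by
      rw [isSubrep_iff]
      intro j v hv
      rw [Submodule.mem_dualCoannihilator] at hv ⊢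
      intro α hα
      have := hv _ ((isSubrep_iff.1 hs) j α hα)
      simpa using this
    have hbot' : ¬ (B.dualCoannihilator = ⊥ ∧ A.dualCoannihilator = ⊥) := by
      rintro ⟨h1, h2⟩
      rw [h1, finrank_bot, add_zero] at eb
      rw [h2, finrank_bot, add_zero] at ea
      exact htop ⟨Submodule.eq_top_of_finrank_eq (by rw [ea, hdW]),
        Submodule.eq_top_of_finrank_eq (by rw [eb, hdV])⟩
    have htop' : ¬ (B.dualCoannihilator = ⊤ ∧ A.dualCoannihilator = ⊤) := by
      rintro ⟨h1, h2⟩
      rw [h1, finrank_top] at eb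
      rw [h2, finrank_top] at ea
      exact hbot ⟨Submodule.finrank_eq_zero.1 (by omega), Submodule.finrank_eq_zero.1 (by omega)⟩
    have := h _ _ hs' hbot' htop'
    rw [hdV, hdW]
    exact (hR _ _ _ _ _ _ ea eb).1 this
  · rintro ⟨h0, h⟩
    refine ⟨by rw [hdV, hdW] at h0; omega, fun V' W' hs hbot htop => ?_⟩
    have ea := Subspace.finrank_add_finrank_dualAnnihilator_eq W'
    have eb := Subspace.finrank_add_finrank_dualAnnihilator_eq V'
    have hs' : IsSubrep (fun j => (f j).dualMap) W'.dualAnnihilator V'.dualAnnihilator := by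
      rw [isSubrep_iff]
      intro j α hα
      rw [Submodule.mem_dualAnnihilator] at hα ⊢
      intro v hv
      have := hα _ ((isSubrep_iff.1 hs) j v hv)
      simpa using this
    have hbot' : ¬ (W'.dualAnnihilator = ⊥ ∧ V'.dualAnnihilator = ⊥) := by
      rintro ⟨h1, h2⟩
      rw [h1, finrank_bot, add_zero] at ea
      rw [h2, finrank_bot, add_zero] at eb
      exact htop ⟨Submodule.eq_top_of_finrank_eq eb, Submodule.eq_top_of_finrank_eq ea⟩
    have htop' : ¬ (W'.dualAnnihilator = ⊤ ∧ V'.dualAnnihilator = ⊤) := by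
      rintro ⟨h1, h2⟩
      rw [h1, finrank_top, hdW] at ea
      rw [h2, finrank_top, hdV] at eb
      exact hbot ⟨Submodule.finrank_eq_zero.1 (by omega), Submodule.finrank_eq_zero.1 (by omega)⟩
    have := h _ _ hs' hbot' htop'
    rw [hdV, hdW] at this
    exact (hR _ _ _ _ _ _ ((add_comm _ _).trans ea) ((add_comm _ _).trans eb)).2 this

/-- S15567 -/
theorem dual_iff (f : Fin n → (V →ₗ[K] W)) :
    (IsSemistable f ↔ IsSemistable (fun j => (f j).dualMap)) ∧
    (IsStable f ↔ IsStable (fun j => (f j).dualMap)) := by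
  constructor
  · exact cond_dual_iff (· ≤ ·) (by
      intro a a' b b' dV dW h1 h2
      have e1 : dV * a + dV * a' = dV * dW := by rw [← mul_add, h1]
      have e2 : dW * b + dW * b' = dV * dW := by rw [← mul_add, h2, mul_comm]
      constructor <;> intro h <;> omega) f
  · exact cond_dual_iff (· < ·) (by
      intro a a' b b' dV dW h1 h2
      have e1 : dV * a + dV * a' = dV * dW := by rw [← mul_add, h1]
      have e2 : dW * b + dW * b' = dV * dW := by rw [← mul_add, h2, mul_comm]
      constructor <;> intro h <;> omega) f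

end fd

end Groth.Agent.Helper23.Kron
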