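import Mathlib
import Groth.Prelude.Def_W4stkremschemesLRS
set_option autoImplicit false
universe u
open CategoryTheory AlgebraicGeometry TopologicalSpace Opposite

namespace Groth.Agent.Helper23.LRSClosed

theorem kerLocallyGenerated {X Y : Scheme.{u}} (f : X ⟶ Y) (h1 : Topology.IsClosedEmbedding f) :
    LRSImm.KerLocallyGenerated f.toLRSHom := by
  intro y
  obtain ⟨_, ⟨U, hU : IsAffineOpen U, rfl⟩, hyU, -⟩ :=
    Y.isBasis_affineOpens.exists_subset_of_mem_open (Set.mem_univ y) isOpen_univ
  let I : Ideal Γ(Y, U) := RingHom.ker (f.app U).hom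
  refine ⟨U, hyU, I, fun j => (j : Γ(Y, U)), ?_, ?_⟩
  · intro j
    exact j.2
  · intro x' hx'
    have hcompact : IsCompact (f ⁻¹ᵁ U).1 := h1.isCompact_preimage hU.isCompact
    obtain ⟨T, hT⟩ : ∃ T : Y.presheaf.stalk x' →+* (f.base _* X.presheaf).stalk x',
        T = ((TopCat.Presheaf.stalkFunctor CommRingCat x').map f.c).hom := ⟨_, rfl⟩
    have hTg : ∀ r : Γ(Y, U), T (Y.presheaf.germ U x' hx' r) =
        (f.base _* X.presheaf).germ U x' hx' (f.c.app (op U) r) := by
      intro r
      rw [hT]
      exact TopCat.Presheaf.stalkFunctor_map_germ_apply U x' hx' f.c r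
    suffices key : Ideal.span (Set.range fun j : I => Y.presheaf.germ U x' hx' (j : Γ(Y, U))) =
        RingHom.ker T by
      rw [hT] at key
      exact key
    clear hT
    apply le_antisymm
    · rw [Ideal.span_le]
      rintro _ ⟨j, rfl⟩
      change T (Y.presheaf.germ U x' hx' (j : Γ(Y, U))) = 0
      rw [hTg]
      have hj : (f.c.app (op U)) (j : Γ(Y, U)) = 0 := j.2
      rw [hj, map_zero]
    · intro a ha
      letI := Y.presheaf.algebra_section_stalk ⟨x', hx'⟩
      haveI := hU.isLocalization_stalk ⟨x', hx'⟩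
      obtain ⟨⟨b, c⟩, hbc⟩ := IsLocalization.surj (hU.primeIdealOf ⟨x', hx'⟩).asIdeal.primeCompl a
      have hcu : IsUnit (algebraMap Γ(Y, U) (Y.presheaf.stalk x') c) :=
        IsLocalization.map_units (Y.presheaf.stalk x') c
      have halg : ∀ r : Γ(Y, U), algebraMap Γ(Y, U) (Y.presheaf.stalk x') r =
          Y.presheaf.germ U x' hx' r := fun r => rfl
      simp only [halg] at hbc hcu
      -- image of germ b is zero
      have hb0 : T (Y.presheaf.germ U x' hx' b) = 0 := by
        rw [← hbc, map_mul, (RingHom.mem_ker).1 ha, zero_mul]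
      rw [hTg] at hb0
      obtain ⟨W, hxW, iU, iV, hW⟩ := TopCat.Presheaf.germ_eq (f.base _* X.presheaf) x' hx' hx'
        (f.c.app (op U) b) 0 (hb0.trans (map_zero _).symm)
      rw [map_zero] at hW
      obtain ⟨g, hgW, hxg⟩ := hU.exists_basicOpen_le ⟨x', hxW⟩ hx'
      have hres : (f.app U b) |_ (X.basicOpen (f.app U g)) = 0 := by
        have hle : X.basicOpen (f.app U g) ≤ f ⁻¹ᵁ W := by
          rw [← Scheme.preimage_basicOpen]
          exact (Opens.map f.base).monotone hgW
        have : (f.app U b) |_ (X.basicOpen (f.app U g)) =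
            X.presheaf.map (homOfLE hle).op
              (X.presheaf.map ((Opens.map f.base).map iU).op (f.app U b)) := by
          rw [← CommRingCat.comp_apply, ← Functor.map_comp]
          rfl
        rw [this]
        have hW' : X.presheaf.map ((Opens.map f.base).map iU).op (f.app U b) = 0 := hW
        rw [hW', map_zero]
      obtain ⟨n, hn⟩ := exists_pow_mul_eq_zero_of_res_basicOpen_eq_zero_of_isCompact X hcompact
        (f.app U b) (f.app U g) hres
      have hmem : g ^ n * b ∈ I := by
        change (f.app U).hom (g ^ n * b) = 0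
        rw [map_mul, map_pow]
        exact hn
      have hgu : IsUnit (Y.presheaf.germ U x' hx' g) := (Y.mem_basicOpen _ _ hx').1 hxg
      have hspan : Y.presheaf.germ U x' hx' (g ^ n * b) ∈
          Ideal.span (Set.range fun j : I => Y.presheaf.germ U x' hx' (j : Γ(Y, U))) :=
        Ideal.subset_span ⟨⟨_, hmem⟩, rfl⟩
      rw [map_mul, map_pow, ← hbc] at hspan
      refine (Ideal.unit_mul_mem_iff_mem _ ((hgu.pow n).mul hcu)).1 ?_
      convert hspan using 1
      ring

theorem isClosedImmersion {X Y : Scheme.{u}} (f : X ⟶ Y) (h1 : Topology.IsClosedEmbedding f)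
    (h2 : TopCat.Presheaf.IsLocallySurjective f.c) :
    LRSImm.IsClosedImmersion f.toLRSHom :=
  ⟨h1, h2, kerLocallyGenerated f h1⟩

end Groth.Agent.Helper23.LRSClosed
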