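import Mathlib
import Groth.Prelude.Def_Lef
import Groth.Agent.Lib.Helper23.LefConn2

/-!
# Helper23: Lefschetz condition ⇒ `Y` connected iff `U` connected (scheme-level form)
-/

set_option autoImplicit false
universe u
open CategoryTheory CategoryTheory.Limits AlgebraicGeometry Opposite TopologicalSpace

namespace Groth.Agent.Helper23.LefConn

open Groth.Agent.Helper13.LocFree

variable {Z : Scheme.{u}} (J : Z.IdealSheafData)

/-- `O/J^{n+1}` -/
noncomputable abbrev Q (n : ℕ) : Z.Modules := ClSub.quotMod (J ^ (n + 1))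
/-- `O → O/J^{n+1}` -/
noncomputable abbrev t (n : ℕ) : Coh.structureModule Z ⟶ Q J n := ClSub.toSubscheme (J ^ (n + 1))
/-- `O/J^{n+2} → O/J^{n+1}` -/
noncomputable abbrev q (n : ℕ) : Q J (n + 1) ⟶ Q J n := Lef.quotMap (Lef.pow_succ_le J n)

lemma t_q (n : ℕ) : t J (n + 1) ≫ q J n = t J n := toSubscheme_quotMap _

lemma support_pow' (n : ℕ) : ((J ^ (n + 1)).support : Set Z) = (J.support : Set Z) := by
  rw [Scheme.IdealSheafData.support_pow_succ]

lemma homOfSec_zero (M : Z.Modules) : homOfSec M 0 = 0 := by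
  apply hom_ext_one
  rw [homOfSec_app_top]
  rfl

variable {J}

theorem eq_bot_of_clopen (hLef : Lef.HomToFormalBijective J (Coh.structureModule Z))
    (A B : Z.Opens) (hAB : A ⊔ B = ⊤) (hdisj : A ⊓ B = ⊥)
    (hYB : (J.support : Set Z) ⊆ B) : A = ⊥ := by
  have hsub : Subsingleton Γ(Coh.structureModule Z, A ⊓ B) := by
    rw [hdisj]
    change Subsingleton Γ(Z, ⊥)
    infer_instance
  obtain ⟨e, heA, heB⟩ := exists_glue2 (Coh.structureModule Z) hAB (toO A 1) (toO B 0)
    (Subsingleton.elim _ _)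
  have hAY : Disjoint (A : Set Z) (J.support : Set Z) := by
    rw [Set.disjoint_left]
    intro z hzA hzY
    have : z ∈ A ⊓ B := ⟨hzA, hYB hzY⟩
    rw [hdisj] at this
    exact this
  have hzero : ∀ n, (t J n).app ⊤ e = 0 := by
    intro n
    apply sec_ext2 (Q J n) hAB
    · haveI : Subsingleton Γ(Q J n, A) := subsingleton_quotMod _ A (by
        rw [support_pow']; exact hAY)
      exact Subsingleton.elim _ _
    · rw [← app_res, heB]
      rw [map_zero]
      change (t J n).app B 0 = 0
      rw [map_zero]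
  have h1 : homOfSec (Coh.structureModule Z) e = 0 := by
    apply hLef.1
    intro n
    rw [homOfSec_comp, hzero n, zero_comp]
    exact homOfSec_zero _
  have he0 : e = 0 := by
    have := congrArg (fun φ => φ.app ⊤ (toO ⊤ 1)) h1
    simp only at this
    rw [homOfSec_app_top] at this
    exact this
  apply eq_bot_of_one_eq_zero
  rw [he0, map_zero] at heA
  exact heA.symm

theorem connectedSpace_of_isConnected_support
    (hLef : Lef.HomToFormalBijective J (Coh.structureModule Z))
    (hY : _root_.IsConnected (J.support : Set Z)) : ConnectedSpace Z := by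
  haveI : Nonempty Z := by
    obtain ⟨z, -⟩ := hY.nonempty
    exact ⟨z⟩
  haveI : PreconnectedSpace Z := by
    constructor
    rintro u v hu hv hcov ⟨a, -, ha⟩ ⟨b, -, hb⟩
    by_contra hne
    have hdisj' : Disjoint u v := by
      rw [Set.disjoint_left]
      intro z hzu hzv
      exact hne ⟨z, trivial, hzu, hzv⟩
    let A : Z.Opens := ⟨u, hu⟩
    let B : Z.Opens := ⟨v, hv⟩
    have hAB : A ⊔ B = ⊤ := by
      rw [eq_top_iff]
      intro z _
      exact hcov trivial
    have hdisj : A ⊓ B = ⊥ := by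
      rw [eq_bot_iff]
      rintro z ⟨h1, h2⟩
      exact Set.disjoint_left.1 hdisj' h1 h2
    rcases hY.isPreconnected.subset_or_subset hu hv hdisj' (fun z _ => hcov trivial) with h | h
    · have hB := eq_bot_of_clopen hLef B A (by rw [sup_comm]; exact hAB)
        (by rw [inf_comm]; exact hdisj) h
      have hb' : b ∈ B := hb
      rw [hB] at hb'
      exact hb'
    · have hA := eq_bot_of_clopen hLef A B hAB hdisj h
      have ha' : a ∈ A := ha
      rw [hA] at ha'
      exact ha'
  exact ConnectedSpace.mk ‹Nonempty Z›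

theorem isConnected_support_of_connectedSpace
    (hLef : Lef.HomToFormalBijective J (Coh.structureModule Z)) [ConnectedSpace Z] :
    _root_.IsConnected (J.support : Set Z) := by
  refine ⟨?_, ?_⟩
  · by_contra hne
    rw [Set.not_nonempty_iff_eq_empty] at hne
    have hsub : ∀ n, Subsingleton Γ(Q J n, ⊤) := fun n =>
      subsingleton_quotMod _ ⊤ (by rw [support_pow', hne]; exact Set.disjoint_empty _)
    have h1 : (𝟙 (Coh.structureModule Z)) = 0 := by
      apply hLef.1
      intro n
      apply hom_ext_one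
      haveI := hsub n
      exact Subsingleton.elim _ _
    have h2 : (1 : Γ(Z, ⊤)) = 0 := by
      have := congrArg (fun φ => φ.app ⊤ (toO ⊤ 1)) h1
      exact this
    have htop := eq_bot_of_one_eq_zero (⊤ : Z.Opens) h2
    obtain ⟨z⟩ := (inferInstance : Nonempty Z)
    have hz : z ∈ (⊤ : Z.Opens) := trivial
    rw [htop] at hz
    exact hz
  · rintro u v hu hv hsub ⟨x, hxY, hxu⟩ ⟨y, hyY, hyv⟩
    by_contra hne
    have hYc : IsClosed (J.support : Set Z) := J.support.isClosed
    let W' : Z.Opens := ⟨((J.support : Set Z) \ u)ᶜ, (hYc.sdiff hu).isOpen_compl⟩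
    let W'' : Z.Opens := ⟨((J.support : Set Z) \ v)ᶜ, (hYc.sdiff hv).isOpen_compl⟩
    have mW' : ∀ z, z ∈ W' ↔ ¬ (z ∈ (J.support : Set Z) ∧ z ∉ u) := fun z => Iff.rfl
    have mW'' : ∀ z, z ∈ W'' ↔ ¬ (z ∈ (J.support : Set Z) ∧ z ∉ v) := fun z => Iff.rfl
    have hcov : W' ⊔ W'' = ⊤ := by
      rw [eq_top_iff]
      intro z _
      by_cases hz : z ∈ W'
      · exact Or.inl hz
      · right
        apply (mW'' z).2
        have hz' : ¬ ¬ (z ∈ (J.support : Set Z) ∧ z ∉ u) := fun h => hz ((mW' z).2 h)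
        rw [not_not] at hz'
        rintro ⟨hzY, hzv⟩
        rcases hsub hzY with h | h
        · exact hz'.2 h
        · exact hzv h
    have hinter : Disjoint ((W' ⊓ W'' : Z.Opens) : Set Z) (J.support : Set Z) := by
      rw [Set.disjoint_left]
      rintro z ⟨h1, h2⟩ hzY
      have h1' := (mW' z).1 h1
      have h2' := (mW'' z).1 h2
      have hzu : z ∈ u := by
        by_contra h
        exact h1' ⟨hzY, h⟩
      have hzv : z ∈ v := by
        by_contra h
        exact h2' ⟨hzY, h⟩
      exact hne ⟨z, hzY, hzu, hzv⟩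
    have hxW' : x ∈ W' := by
      rw [mW']
      rintro ⟨-, h⟩
      exact h hxu
    have hyW'' : y ∈ W'' := by
      rw [mW'']
      rintro ⟨-, h⟩
      exact h hyv
    have hs : ∀ n, ∃ s : Γ(Q J n, ⊤),
        (Q J n).presheaf.map (homOfLE (le_top : W' ≤ ⊤)).op s = (t J n).app W' (toO W' 1) ∧
        (Q J n).presheaf.map (homOfLE (le_top : W'' ≤ ⊤)).op s = 0 := fun n => by
      haveI : Subsingleton Γ(Q J n, W' ⊓ W'') := subsingleton_quotMod _ _ (by
        rw [support_pow']; exact hinter)
      exact exists_glue2 (Q J n) hcov _ 0 (Subsingleton.elim _ _)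
    choose s hs1 hs2 using hs
    have hq : ∀ n, (q J n).app ⊤ (s (n + 1)) = s n := by
      intro n
      apply sec_ext2 (Q J n) hcov
      · rw [← app_res, hs1 (n + 1), hs1 n]
        exact congrArg (fun φ => φ.app W' (toO W' 1)) (t_q J n)
      · rw [← app_res, hs2 (n + 1), hs2 n, map_zero]
    let yy : ∀ n, Coh.structureModule Z ⟶ Q J n := fun n => homOfSec (Q J n) (s n)
    have hy : Lef.IsFormalHom J (Coh.structureModule Z) yy := fun n => by
      change homOfSec _ (s (n + 1)) ≫ q J n = homOfSec _ (s n)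
      rw [homOfSec_comp, hq]
    obtain ⟨φ, hφ⟩ := hLef.2 yy hy
    obtain ⟨e, he⟩ : ∃ e : Γ(Coh.structureModule Z, ⊤), e = φ.app ⊤ (toO ⊤ 1) := ⟨_, rfl⟩
    have hte : ∀ n, (t J n).app ⊤ e = s n := fun n => by
      have := congrArg (fun ψ => ψ.app ⊤ (toO ⊤ 1)) (hφ n)
      simp only at this
      change (t J n).app ⊤ (φ.app ⊤ (toO ⊤ 1)) = (homOfSec (Q J n) (s n)).app ⊤ (toO ⊤ 1) at this
      rw [homOfSec_app_top, ← he] at this
      exact this
    have hes : ∀ n, ofO ⊤ e • s n = s n := by
      intro n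
      apply sec_ext2 (Q J n) hcov
      · rw [Scheme.Modules.map_smul, hs1 n, ← Scheme.Modules.Hom.app_smul]
        have h2 : (Z.presheaf.map (homOfLE (le_top : W' ≤ ⊤)).op (ofO ⊤ e)) • toO W' 1 =
            (Coh.structureModule Z).presheaf.map (homOfLE (le_top : W' ≤ ⊤)).op e :=
          congrArg (toO W') (mul_one (Z.presheaf.map (homOfLE (le_top : W' ≤ ⊤)).op (ofO ⊤ e)))
        rw [h2, app_res, hte]
        exact hs1 n
      · rw [Scheme.Modules.map_smul, hs2 n, smul_zero]
    have hidem : ofO ⊤ e * ofO ⊤ e = ofO ⊤ e := by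
      have h3 : homOfSec (Coh.structureModule Z) (toO ⊤ (ofO ⊤ e * ofO ⊤ e)) = φ := by
        apply hLef.1
        intro n
        rw [homOfSec_comp, hφ n]
        change homOfSec (Q J n) _ = homOfSec (Q J n) (s n)
        congr 1
        have h4 : toO ⊤ (ofO ⊤ e * ofO ⊤ e) = ofO ⊤ e • e := rfl
        rw [h4, Scheme.Modules.Hom.app_smul, hte, hes]
      have := congrArg (fun ψ => ψ.app ⊤ (toO ⊤ 1)) h3
      simp only at this
      rw [homOfSec_app_top, ← he] at this
      exact this
    rcases eq_zero_or_one_of_idem (ofO ⊤ e) hidem with h0 | h1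
    · have hs0 : s 0 = 0 := by
        rw [← hte 0]
        have : e = 0 := h0
        rw [this, map_zero]
      have h4 : (t J 0).app W' (toO W' 1) = 0 := by rw [← hs1 0, hs0, map_zero]
      have h5 := disjoint_of_toSubscheme_one_eq_zero _ W' h4
      rw [support_pow'] at h5
      exact Set.disjoint_left.1 h5 hxW' hxY
    · have hs0 : s 0 = (t J 0).app ⊤ (toO ⊤ 1) := by
        rw [← hte 0]
        have : e = toO ⊤ 1 := h1
        rw [this]
      have h4 : (t J 0).app W'' (toO W'' 1) = 0 := by
        rw [← hs2 0, hs0, ← app_res]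
        congr 1
        exact (map_one (Z.presheaf.map (homOfLE (le_top : W'' ≤ ⊤)).op).hom).symm
      have h5 := disjoint_of_toSubscheme_one_eq_zero _ W'' h4
      rw [support_pow'] at h5
      exact Set.disjoint_left.1 h5 hyW'' hyY

end Groth.Agent.Helper23.LefConn
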