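import Mathlib

set_option autoImplicit false
set_option linter.unusedSectionVars false
open Polynomial
universe u

namespace Groth.Agent.Helper23.LogConn

section Basic

variable {R : Type u} [CommRing R] {r : ℕ} (θ : Fin r → R)

/-- the unit `u_i = ∏_{k ≠ i} (θ_i - θ_k)` -/
noncomputable def uu (i : Fin r) : R := ∏ k ∈ Finset.univ.erase i, (θ i - θ k)

theorem isUnit_uu (hθ : ∀ i k, i ≠ k → IsUnit (θ i - θ k)) (i : Fin r) : IsUnit (uu θ i) := by
  unfold uu
  rw [IsUnit.prod_iff]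
  intro k hk
  exact hθ i k (Finset.ne_of_mem_erase hk).symm

/-- the polynomial `Θ` -/
noncomputable def Th : R[X] := ∏ i, (X - C (θ i))

theorem Th_eq (i : Fin r) : Th θ = (X - C (θ i)) * ∏ k ∈ Finset.univ.erase i, (X - C (θ k)) := by
  unfold Th
  exact (Finset.mul_prod_erase Finset.univ (fun k => X - C (θ k)) (Finset.mem_univ i)).symm

theorem eval_Th (i : Fin r) : (Th θ).eval (θ i) = 0 := by
  rw [Th_eq θ i]; simp

theorem eval_derivative_Th (i : Fin r) : (derivative (Th θ)).eval (θ i) = uu θ i := by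
  rw [Th_eq θ i, derivative_mul]
  simp only [derivative_sub, derivative_X, derivative_C, sub_zero, one_mul, eval_add, eval_mul,
    eval_sub, eval_X, eval_C, sub_self, zero_mul, add_zero]
  rw [eval_prod]
  simp [uu]

theorem Th_monic : (Th θ).Monic := by
  unfold Th
  exact monic_prod_of_monic _ _ fun i _ => monic_X_sub_C (θ i)

theorem isCoprime_X_sub_C {a b : R} (h : IsUnit (a - b)) : IsCoprime (X - C a) (X - C b) := by
  obtain ⟨u, hu⟩ := h
  refine ⟨-C (↑u⁻¹ : R), C (↑u⁻¹ : R), ?_⟩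
  have : (↑u⁻¹ : R) * (a - b) = 1 := by rw [← hu]; exact u.inv_mul
  calc -C (↑u⁻¹ : R) * (X - C a) + C (↑u⁻¹ : R) * (X - C b)
      = C ((↑u⁻¹ : R) * (a - b)) := by rw [C_mul, C_sub]; ring
    _ = 1 := by rw [this, C_1]

theorem Th_dvd (hθ : ∀ i k, i ≠ k → IsUnit (θ i - θ k)) (p : R[X])
    (hp : ∀ i, p.eval (θ i) = 0) : Th θ ∣ p := by
  unfold Th
  apply Finset.prod_dvd_of_coprime
  · intro i _ k _ hik
    exact isCoprime_X_sub_C (hθ i k hik)
  · intro i _
    rw [dvd_iff_isRoot]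
    exact hp i

end Basic


section Conn

variable {R : Type u} [CommRing R] [IsDomain R] {d r : ℕ} (θ : Fin r → R) (Θ : R[X])

/-- componentwise `algebraMap` -/
noncomputable def ιv (v : Fin d → R[X]) : Fin d → Localization.Away Θ :=
  fun j => algebraMap R[X] (Localization.Away Θ) (v j)

theorem ιv_add (v v' : Fin d → R[X]) : ιv Θ (v + v') = ιv Θ v + ιv Θ v' := by
  funext j; simp [ιv]

theorem ιv_smul (p : R[X]) (v : Fin d → R[X]) : ιv Θ (p • v) = p • ιv Θ v := by
  funext j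
  simp only [ιv, Pi.smul_apply, smul_eq_mul, map_mul, Algebra.smul_def]

theorem exists_denominator (w : Fin d → Localization.Away Θ) :
    ∃ (N : ℕ) (g : Fin d → R[X]), (Θ ^ N) • w = ιv Θ g := by
  obtain ⟨⟨b, N, hN⟩, hb⟩ :=
    IsLocalization.exist_integer_multiples (Submonoid.powers Θ) Finset.univ w
  choose g hg using fun j => hb j (Finset.mem_univ j)
  refine ⟨N, g, ?_⟩
  funext j
  simp only [Pi.smul_apply, ιv]
  rw [hg j]
  simp only [← hN]

theorem ιv_injective (hΘ : Θ = Th θ) : Function.Injective (ιv (d := d) Θ) := by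
  have hmonic : Θ.Monic := hΘ ▸ Th_monic θ
  have hinj : Function.Injective (algebraMap R[X] (Localization.Away Θ)) := by
    apply IsLocalization.injective (M := Submonoid.powers Θ)
    apply Submonoid.powers_le.mpr
    exact mem_nonZeroDivisors_of_ne_zero hmonic.ne_zero
  intro v v' h
  funext j
  exact hinj (congrFun h j)

theorem isUnit_Θ : IsUnit (algebraMap R[X] (Localization.Away Θ) Θ) :=
  IsLocalization.Away.algebraMap_isUnit Θ

theorem smul_cancel (N : ℕ) (w w' : Fin d → Localization.Away Θ)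
    (h : (Θ ^ N) • w = (Θ ^ N) • w') : w = w' := by
  funext j
  have := congrFun h j
  simp only [Pi.smul_apply, Algebra.smul_def, map_pow] at this
  exact ((isUnit_Θ Θ).pow N).mul_left_cancel this

variable (D₀ : (Fin d → R[X]) →+ (Fin d → R[X]))
  (hD₀ : ∀ (p : R[X]) (v : Fin d → R[X]),
      D₀ (p • v) = (Θ * Polynomial.derivative p) • v + p • D₀ v)
  (D : (Fin d → Localization.Away Θ) →+ (Fin d → Localization.Away Θ))
  (hD : ∀ (p : R[X]) (w : Fin d → Localization.Away Θ),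
      D (p • w) = (Θ * Polynomial.derivative p) • w + p • D w)
  (hDD₀ : ∀ v : Fin d → R[X], D (ιv Θ v) = ιv Θ (D₀ v))
  (Res : Fin r → ((Fin d → R) →ₗ[R] (Fin d → R)))
  (hRes : ∀ (i : Fin r) (m : Fin d → R) (j : Fin d),
      (D₀ (fun j => Polynomial.C (m j)) j).eval (θ i) = uu θ i * Res i m j)

theorem Θ_mul_derivative_pow (N : ℕ) :
    Θ * derivative (Θ ^ N) = (C (N : R) * derivative Θ) * Θ ^ N := by
  rw [derivative_pow]
  cases N with
  | zero => simp
  | succ n =>
    rw [Nat.add_sub_cancel, pow_succ]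
    ring

include hD hDD₀ in
theorem key (N : ℕ) (w : Fin d → Localization.Away Θ) (g : Fin d → R[X])
    (hw : (Θ ^ N) • w = ιv Θ g) :
    ιv Θ (D₀ g) = (C (N : R) * derivative Θ) • ιv Θ g + (Θ ^ N) • D w := by
  rw [← hDD₀, ← hw, hD, Θ_mul_derivative_pow, mul_smul]

include hD₀ hRes in
theorem eval_D₀ (hΘ : Θ = Th θ) (g : Fin d → R[X]) (i : Fin r) (j : Fin d) :
    ((D₀ g) j).eval (θ i) = uu θ i * Res i (fun j' => (g j').eval (θ i)) j := by
  classical
  -- decompose g
  have hg : g = ∑ j' : Fin d, (g j') • (fun j => C (if j = j' then (1 : R) else 0) : Fin d → R[X]) := by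
    funext j0
    rw [Finset.sum_apply]
    simp only [Pi.smul_apply, smul_eq_mul]
    rw [Finset.sum_eq_single j0]
    · simp
    · intro b _ hb
      rw [if_neg (Ne.symm hb), C_0, mul_zero]
    · intro h; exact absurd (Finset.mem_univ _) h
  have hm : (fun j' => (g j').eval (θ i)) =
      ∑ j' : Fin d, ((g j').eval (θ i)) • (fun j => if j = j' then (1 : R) else 0 : Fin d → R) := by
    funext j0
    rw [Finset.sum_apply]
    simp only [Pi.smul_apply, smul_eq_mul]
    rw [Finset.sum_eq_single j0]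
    · simp
    · intro b _ hb
      rw [if_neg (Ne.symm hb), mul_zero]
    · intro h; exact absurd (Finset.mem_univ _) h
  rw [hm, map_sum]
  conv_lhs => rw [hg, map_sum]
  rw [Finset.sum_apply, Finset.sum_apply, eval_finsetSum, Finset.mul_sum]
  apply Finset.sum_congr rfl
  intro j' _
  rw [hD₀, map_smul]
  simp only [Pi.add_apply, Pi.smul_apply, smul_eq_mul, eval_add, eval_mul]
  rw [hΘ, eval_Th, zero_mul, zero_mul, zero_add, hRes]
  ring

theorem isUnit_sub_Res [Algebra ℂ R] (f : (Fin d → R) →ₗ[R] (Fin d → R))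
    (hχ : ∃ χ : ℂ[X], f.charpoly = χ.map (algebraMap ℂ R) ∧
      ∀ n : ℤ, n ≠ 0 → χ.eval (n : ℂ) ≠ 0) (N : ℕ) (hN : N ≠ 0) :
    IsUnit (algebraMap R (Module.End R (Fin d → R)) (N : R) - f) := by
  obtain ⟨χ, hχ1, hχ2⟩ := hχ
  rw [LinearMap.isUnit_iff_isUnit_det, ← LinearMap.eval_charpoly, hχ1, eval_natCast_map]
  apply IsUnit.map
  rw [isUnit_iff_ne_zero]
  have := hχ2 (N : ℤ) (by exact_mod_cast hN)
  simpa using this

include hD₀ hD hDD₀ hRes in
/-- vanishing of the values at the `θ i` of a numerator, given regularity of `D f` -/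
theorem eval_eq_zero_of_key [Algebra ℂ R] (hΘ : Θ = Th θ) (hθ : ∀ i k, i ≠ k → IsUnit (θ i - θ k))
    (hχ : ∀ i : Fin r, ∃ χ : ℂ[X], (Res i).charpoly = χ.map (algebraMap ℂ R) ∧
      ∀ n : ℤ, n ≠ 0 → χ.eval (n : ℂ) ≠ 0)
    (N : ℕ) (g h : Fin d → R[X])
    (hkey : D₀ g = (C ((N + 1 : ℕ) : R) * derivative Θ) • g + (Θ ^ (N + 1)) • h)
    (i : Fin r) (j : Fin d) : (g j).eval (θ i) = 0 := by
  let m : Fin d → R := fun j' => (g j').eval (θ i)
  have h1 : ∀ j, uu θ i * Res i m j = ((N + 1 : ℕ) : R) * uu θ i * m j := by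
    intro j
    have := eval_D₀ θ Θ D₀ hD₀ Res hRes hΘ g i j
    rw [hkey] at this
    simp only [Pi.add_apply, Pi.smul_apply, smul_eq_mul, eval_add, eval_mul, eval_C, eval_pow] at this
    rw [hΘ, eval_Th, eval_derivative_Th, zero_pow (Nat.succ_ne_zero N), zero_mul, add_zero] at this
    exact this.symm
  have h2 : (algebraMap R (Module.End R (Fin d → R)) ((N + 1 : ℕ) : R) - Res i) m = 0 := by
    funext j
    have hu := isUnit_uu θ hθ i
    apply hu.mul_left_cancel
    simp only [LinearMap.sub_apply, Module.algebraMap_end_apply, Pi.sub_apply, Pi.smul_apply,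
      smul_eq_mul, Pi.zero_apply, mul_zero, mul_sub]
    rw [h1 j]
    ring
  have hunit := isUnit_sub_Res (Res i) (hχ i) (N + 1) (Nat.succ_ne_zero N)
  have hinj : Function.Injective (algebraMap R (Module.End R (Fin d → R)) ((N + 1 : ℕ) : R) - Res i) :=
    ((Module.End.isUnit_iff _).mp hunit).1
  have hm0 : m = 0 := hinj (by rw [h2, map_zero])
  exact congrFun hm0 j

include hD₀ hD hDD₀ hRes in
theorem pole_free [Algebra ℂ R] (hΘ : Θ = Th θ) (hθ : ∀ i k, i ≠ k → IsUnit (θ i - θ k))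
    (hχ : ∀ i : Fin r, ∃ χ : ℂ[X], (Res i).charpoly = χ.map (algebraMap ℂ R) ∧
      ∀ n : ℤ, n ≠ 0 → χ.eval (n : ℂ) ≠ 0) :
    ∀ (N : ℕ) (f : Fin d → Localization.Away Θ) (g h : Fin d → R[X]),
      (Θ ^ N) • f = ιv Θ g → D f = ιv Θ h → ∃ v, f = ιv Θ v := by
  intro N
  induction N with
  | zero =>
    intro f g h hw _
    exact ⟨g, by rw [← hw, pow_zero, one_smul]⟩
  | succ N ih =>
    intro f g h hw hDf
    have hkey := key Θ D₀ D hD hDD₀ (N + 1) f g hw
    rw [hDf, ← ιv_smul, ← ιv_smul, ← ιv_add] at hkey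
    have hkey' := ιv_injective θ Θ hΘ hkey
    have hev := eval_eq_zero_of_key θ Θ D₀ hD₀ D hD hDD₀ Res hRes hΘ hθ hχ N g h hkey'
    have hdvd : ∀ j, Θ ∣ g j := fun j => hΘ ▸ Th_dvd θ hθ (g j) (fun i => hev i j)
    choose g' hg' using hdvd
    have hw' : (Θ ^ N) • f = ιv Θ g' := by
      apply smul_cancel Θ 1
      rw [← mul_smul, ← pow_add, add_comm 1 N, hw, ← ιv_smul]
      congr 1
      funext j
      rw [Pi.smul_apply, smul_eq_mul, pow_one, hg' j]
    exact ih f g' h hw' hDf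

end Conn

section Interp

variable {R : Type u} [CommRing R] {d r : ℕ} (θ : Fin r → R)

theorem exists_interp (hθ : ∀ i k, i ≠ k → IsUnit (θ i - θ k)) (y : Fin r → Fin d → R) :
    ∃ g : Fin d → R[X], ∀ i j, (g j).eval (θ i) = y i j := by
  classical
  choose uinv huinv using fun i => (isUnit_uu θ hθ i).exists_right_inv
  refine ⟨fun j => ∑ i, C (y i j * uinv i) * ∏ k ∈ Finset.univ.erase i, (X - C (θ k)), ?_⟩
  intro i' j
  rw [eval_finsetSum, Finset.sum_eq_single i']
  · rw [eval_mul, eval_C, eval_prod]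
    simp only [eval_sub, eval_X, eval_C]
    have : ∏ k ∈ Finset.univ.erase i', (θ i' - θ k) = uu θ i' := rfl
    rw [this, mul_assoc, mul_comm (uinv i'), huinv, mul_one]
  · intro i _ hi
    rw [eval_mul, eval_prod]
    have : ∏ k ∈ Finset.univ.erase i, eval (θ i') (X - C (θ k)) = 0 := by
      apply Finset.prod_eq_zero (i := i') (Finset.mem_erase.mpr ⟨Ne.symm hi, Finset.mem_univ _⟩)
      simp
    rw [this, mul_zero]
  · intro h; exact absurd (Finset.mem_univ _) h

end Interp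

section Conn2

variable {R : Type u} [CommRing R] [IsDomain R] {d r : ℕ} (θ : Fin r → R) (Θ : R[X])
  (D₀ : (Fin d → R[X]) →+ (Fin d → R[X]))
  (hD₀ : ∀ (p : R[X]) (v : Fin d → R[X]),
      D₀ (p • v) = (Θ * Polynomial.derivative p) • v + p • D₀ v)
  (D : (Fin d → Localization.Away Θ) →+ (Fin d → Localization.Away Θ))
  (hD : ∀ (p : R[X]) (w : Fin d → Localization.Away Θ),
      D (p • w) = (Θ * Polynomial.derivative p) • w + p • D w)
  (hDD₀ : ∀ v : Fin d → R[X], D (ιv Θ v) = ιv Θ (D₀ v))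
  (Res : Fin r → ((Fin d → R) →ₗ[R] (Fin d → R)))
  (hRes : ∀ (i : Fin r) (m : Fin d → R) (j : Fin d),
      (D₀ (fun j => Polynomial.C (m j)) j).eval (θ i) = uu θ i * Res i m j)

theorem ιv_sub (v v' : Fin d → R[X]) : ιv Θ (v - v') = ιv Θ v - ιv Θ v' := by
  funext j; simp [ιv]

theorem exists_with_denominator (N : ℕ) (g : Fin d → R[X]) :
    ∃ w : Fin d → Localization.Away Θ, (Θ ^ N) • w = ιv Θ g := by
  obtain ⟨a, ha⟩ := (isUnit_Θ Θ).exists_right_inv
  refine ⟨fun j => algebraMap R[X] (Localization.Away Θ) (g j) * a ^ N, ?_⟩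
  funext j
  simp only [Pi.smul_apply, Algebra.smul_def, map_pow, ιv]
  rw [mul_comm (algebraMap R[X] (Localization.Away Θ) (g j)), ← mul_assoc, ← mul_pow, ha, one_pow,
    one_mul]

include hD₀ hD hDD₀ hRes in
theorem decomp [Algebra ℂ R] (hΘ : Θ = Th θ) (hθ : ∀ i k, i ≠ k → IsUnit (θ i - θ k))
    (hχ : ∀ i : Fin r, ∃ χ : ℂ[X], (Res i).charpoly = χ.map (algebraMap ℂ R) ∧
      ∀ n : ℤ, n ≠ 0 → χ.eval (n : ℂ) ≠ 0) :
    ∀ (N : ℕ) (w : Fin d → Localization.Away Θ) (g : Fin d → R[X]),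
      (Θ ^ N) • w = ιv Θ g → ∃ (w' : Fin d → Localization.Away Θ) (v : Fin d → R[X]),
        w = D w' + ιv Θ v := by
  intro N
  induction N with
  | zero =>
    intro w g hw
    exact ⟨0, g, by rw [map_zero, zero_add, ← hw, pow_zero, one_smul]⟩
  | succ N ih =>
    intro w g hw
    -- choose the values y_i
    have hsurj : ∀ i, Function.Surjective
        (algebraMap R (Module.End R (Fin d → R)) ((N + 1 : ℕ) : R) - Res i) := fun i =>
      ((Module.End.isUnit_iff _).mp
        (isUnit_sub_Res (Res i) (hχ i) (N + 1) (Nat.succ_ne_zero N))).2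
    choose uinv huinv using fun i => (isUnit_uu θ hθ i).exists_right_inv
    choose y hy using fun i => hsurj i (-(uinv i • fun j => (g j).eval (θ i)))
    obtain ⟨g', hg'⟩ := exists_interp θ hθ y
    obtain ⟨w1, hw1⟩ := exists_with_denominator Θ (N + 1) g'
    have hkey := key Θ D₀ D hD hDD₀ (N + 1) w1 g' hw1
    let g₂ : Fin d → R[X] := g - D₀ g' + (C ((N + 1 : ℕ) : R) * derivative Θ) • g'
    have hw2 : (Θ ^ (N + 1)) • (w - D w1) = ιv Θ g₂ := by
      have h1 : (Θ ^ (N + 1)) • D w1 =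
          ιv Θ (D₀ g') - (C ((N + 1 : ℕ) : R) * derivative Θ) • ιv Θ g' := by
        rw [hkey]; abel
      rw [smul_sub, hw, h1]
      show _ = ιv Θ (g - D₀ g' + (C ((N + 1 : ℕ) : R) * derivative Θ) • g')
      rw [ιv_add, ιv_sub, ιv_smul]
      abel
    have hev : ∀ i j, (g₂ j).eval (θ i) = 0 := by
      intro i j
      have hD0 := eval_D₀ θ Θ D₀ hD₀ Res hRes hΘ g' i j
      have hgy : (fun j' => (g' j').eval (θ i)) = y i := funext fun j' => hg' i j'
      rw [hgy] at hD0
      simp only [g₂, Pi.add_apply, Pi.sub_apply, Pi.smul_apply, smul_eq_mul, eval_add, eval_sub,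
        eval_mul, eval_C]
      rw [hD0, hΘ, eval_derivative_Th, hg' i j]
      have hyi := congrFun (hy i) j
      simp only [LinearMap.sub_apply, Module.algebraMap_end_apply, Pi.sub_apply, Pi.smul_apply,
        smul_eq_mul, Pi.neg_apply] at hyi
      have hu := huinv i
      have : eval (θ i) (g j) = uu θ i * uinv i * eval (θ i) (g j) := by rw [hu, one_mul]
      rw [this]
      linear_combination (uu θ i) * hyi
    have hdvd : ∀ j, Θ ∣ g₂ j := fun j => hΘ ▸ Th_dvd θ hθ (g₂ j) (fun i => hev i j)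
    choose g₃ hg₃ using hdvd
    have hw3 : (Θ ^ N) • (w - D w1) = ιv Θ g₃ := by
      apply smul_cancel Θ 1
      rw [← mul_smul, ← pow_add, add_comm 1 N, hw2, ← ιv_smul]
      congr 1
      funext j
      rw [Pi.smul_apply, smul_eq_mul, pow_one, hg₃ j]
    obtain ⟨w2, v, hwv⟩ := ih (w - D w1) g₃ hw3
    refine ⟨w1 + w2, v, ?_⟩
    rw [map_add, add_assoc, ← hwv]
    abel

end Conn2


end Groth.Agent.Helper23.LogConn
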