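import Groth.Agent.Lib.Helper23.CDiv1

set_option autoImplicit false
set_option linter.style.haveILetI false

open IsLocalRing

universe u

namespace Groth.Agent.Helper23.CDivDepth

open Groth.Agent.Helper23.DepthExt

/-- divisibility form of algebraic Hartogs -/
theorem dvd_of_hasRegPair {A : Type u} [CommRing A] [IsLocalRing A] [IsNoetherianRing A]
    (hreg : HasRegPair A) (a b : A) (hb : ∀ x, b * x = 0 → x = 0)
    (H : ∀ q : Ideal A, q.IsPrime → q ≠ maximalIdeal A → ∃ s : A, s ∉ q ∧ b ∣ s * a) :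
    b ∣ a := by
  set I : Ideal A := Submodule.comap (LinearMap.toSpanSingleton A A a) (Ideal.span {b}) with hI
  have hmemI : ∀ r, r ∈ I ↔ b ∣ r * a := by
    intro r
    rw [hI, Submodule.mem_comap, LinearMap.toSpanSingleton_apply, smul_eq_mul,
      Ideal.mem_span_singleton]
  by_cases htop : I = ⊤
  · have : (1 : A) ∈ I := by rw [htop]; trivial
    have := (hmemI 1).1 this
    rwa [one_mul] at this
  have hrad : maximalIdeal A ≤ I.radical := by
    rw [Ideal.radical_eq_sInf]
    refine le_sInf ?_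
    rintro q ⟨hIq, hq⟩
    by_cases hqm : q = maximalIdeal A
    · rw [hqm]
    · exfalso
      obtain ⟨s, hs, hc⟩ := H q hq hqm
      exact hs (hIq ((hmemI s).2 hc))
  obtain ⟨n, hn⟩ := Ideal.exists_pow_le_of_le_radical_of_fg hrad
    (IsNoetherian.noetherian (maximalIdeal A))
  obtain ⟨t₁, t₂, hu1, hu2, h1, h2⟩ := hreg
  have ht1 : t₁ ^ n ∈ I := hn (Ideal.pow_mem_pow ((mem_maximalIdeal _).2 hu1) n)
  have ht2 : t₂ ^ n ∈ I := hn (Ideal.pow_mem_pow ((mem_maximalIdeal _).2 hu2) n)
  obtain ⟨u, hu⟩ := (hmemI _).1 ht1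
  obtain ⟨v, hv⟩ := (hmemI _).1 ht2
  have huv : t₂ ^ n * u = t₁ ^ n * v := by
    rw [← sub_eq_zero]
    apply hb
    have : b * (t₂ ^ n * u - t₁ ^ n * v) = t₂ ^ n * (b * u) - t₁ ^ n * (b * v) := by ring
    rw [this, ← hu, ← hv]
    ring
  obtain ⟨w, hw⟩ := regpair_pow3 t₁ t₂ h1 h2 n n u v huv
  refine ⟨w, ?_⟩
  rw [← sub_eq_zero]
  apply regpair_pow1 t₁ h1 n
  rw [mul_sub, hu, hw]
  ring

/-- divisibility in a localization at a prime, in terms of the base ring -/
theorem dvd_map_iff {R A : Type u} [CommRing R] [CommRing A] [Algebra R A] (p : Ideal R)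
    [p.IsPrime] [IsLocalization.AtPrime A p] (a b : R) :
    algebraMap R A b ∣ algebraMap R A a ↔ ∃ s : R, s ∉ p ∧ ∃ c : R, s * a = c * b := by
  constructor
  · rintro ⟨x, hx⟩
    obtain ⟨c, ⟨s, hs⟩, rfl⟩ := IsLocalization.exists_mk'_eq p.primeCompl x
    have h1 : algebraMap R A (s * a) = algebraMap R A (c * b) := by
      rw [map_mul, map_mul, hx, mul_comm (algebraMap R A b), ← mul_assoc,
        IsLocalization.mk'_spec'_mk]
    obtain ⟨⟨s', hs'⟩, h2⟩ := (IsLocalization.eq_iff_exists p.primeCompl A).1 h1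
    refine ⟨s' * s, p.primeCompl.mul_mem hs' hs, s' * c, ?_⟩
    simp only at h2
    rw [mul_assoc, h2, mul_assoc]
  · rintro ⟨s, hs, c, h⟩
    have hunit : IsUnit (algebraMap R A s) := IsLocalization.map_units A (⟨s, hs⟩ : p.primeCompl)
    obtain ⟨v, hv⟩ := hunit
    refine ⟨(v⁻¹ : Aˣ) * algebraMap R A c, ?_⟩
    have h1 : algebraMap R A s * algebraMap R A a = algebraMap R A c * algebraMap R A b := by
      rw [← map_mul, h, map_mul]
    rw [← hv] at h1
    calc algebraMap R A a = (v⁻¹ : Aˣ) * (v * algebraMap R A a) := by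
          rw [← mul_assoc, Units.inv_mul, one_mul]
      _ = _ := by rw [h1]; ring

/-- divisibility Hartogs at a prime `p` of a noetherian ring, in terms of the base ring. -/
theorem dvd_of_hasRegPair_of_lt {R A : Type u} [CommRing R] [IsNoetherianRing R]
    [CommRing A] [Algebra R A] (p : Ideal R)
    [p.IsPrime] [IsLocalization.AtPrime A p] (hreg : HasRegPair A) (a b : R)
    (hb : ∀ x : A, algebraMap R A b * x = 0 → x = 0)
    (H : ∀ q : Ideal R, q.IsPrime → q < p → ∃ s : R, s ∉ q ∧ ∃ c : R, s * a = c * b) :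
    algebraMap R A b ∣ algebraMap R A a := by
  haveI : IsLocalRing A := IsLocalization.AtPrime.isLocalRing A p
  haveI : IsNoetherianRing A := IsLocalization.isNoetherianRing p.primeCompl A inferInstance
  refine dvd_of_hasRegPair hreg _ _ hb ?_
  intro Q hQ hQm
  have hqp : Q.comap (algebraMap R A) ≤ p := by
    intro r hr
    by_contra hrp
    have hunit : IsUnit (algebraMap R A r) :=
      IsLocalization.map_units A (⟨r, hrp⟩ : p.primeCompl)
    exact hQ.ne_top (Ideal.eq_top_of_isUnit_mem _ hr hunit)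
  have hne : Q.comap (algebraMap R A) ≠ p := by
    intro h
    apply hQm
    have h' : Q.under R = p := h
    rw [← IsLocalization.map_under p.primeCompl A Q, h',
      IsLocalization.AtPrime.map_eq_maximalIdeal p A]
  obtain ⟨s, hs, c, h⟩ := H _ (Ideal.comap_isPrime _ Q) (lt_of_le_of_ne hqp hne)
  refine ⟨algebraMap R A s, hs, algebraMap R A c, ?_⟩
  rw [← map_mul, h, map_mul, mul_comm]

end Groth.Agent.Helper23.CDivDepth
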