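import Groth.Agent.Lib.Helper23.MeroD1
import Groth.Agent.Lib.Helper23.CDiv3

set_option autoImplicit false
set_option linter.style.haveILetI false

open CategoryTheory AlgebraicGeometry Opposite TopologicalSpace IsLocalRing

universe u

namespace Groth.Agent.Helper23.CDivDepth

open Groth.Agent.Helper23.DepthExt

variable {X : Scheme.{u}}

theorem germ_dvd_iff' (V : X.Opens) (hV : IsAffineOpen V)
    (y : PrimeSpectrum Γ(X, V)) (hy : hV.fromSpec y ∈ V) (a b : Γ(X, V)) :
    X.presheaf.germ V (hV.fromSpec y) hy b ∣ X.presheaf.germ V (hV.fromSpec y) hy a ↔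
      ∃ s : Γ(X, V), s ∉ y.asIdeal ∧ ∃ c : Γ(X, V), s * a = c * b := by
  letI : Algebra Γ(X, V) (X.presheaf.stalk (hV.fromSpec y)) :=
    TopCat.Presheaf.algebra_section_stalk X.presheaf ⟨_, hy⟩
  haveI : IsLocalization.AtPrime (X.presheaf.stalk (hV.fromSpec y)) y.asIdeal :=
    hV.isLocalization_stalk' y hy
  exact dvd_map_iff y.asIdeal a b

/-- if `b` is a regular section near `x` and `b_z ∣ a_z` at every depth-one generization `z`
of `x`, then `b_x ∣ a_x`. -/
theorem germ_dvd_of_depth_one [IsLocallyNoetherian X] (W : X.Opens) (a b : Γ(X, W))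
    (hb : ∀ z : X, ∀ hz : z ∈ W, ∀ t, X.presheaf.germ W z hz b * t = 0 → t = 0)
    (x : X) (hx : x ∈ W)
    (H : ∀ z : X, ∀ hz : z ⤳ x,
      LocCoh.depth (X.presheaf.stalk z) (X.presheaf.stalk z) = 1 →
      X.presheaf.germ W z (hz.mem_open W.2 hx) b ∣ X.presheaf.germ W z (hz.mem_open W.2 hx) a) :
    X.presheaf.germ W x hx b ∣ X.presheaf.germ W x hx a := by
  obtain ⟨V, hV, hxV, hVW⟩ := exists_isAffineOpen_mem_and_subset (U := W) hx
  haveI : IsNoetherianRing Γ(X, V) := IsLocallyNoetherian.component_noetherian ⟨V, hV⟩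
  set p := hV.primeIdealOf ⟨x, hxV⟩ with hp
  set a' : Γ(X, V) := X.presheaf.map (homOfLE hVW).op a with ha'
  set b' : Γ(X, V) := X.presheaf.map (homOfLE hVW).op b with hb'
  have hga : ∀ z : X, ∀ hz : z ∈ V, X.presheaf.germ V z hz a' = X.presheaf.germ W z (hVW hz) a :=
    fun z hz => TopCat.Presheaf.germ_res_apply X.presheaf (homOfLE hVW) z hz a
  have hgb : ∀ z : X, ∀ hz : z ∈ V, X.presheaf.germ V z hz b' = X.presheaf.germ W z (hVW hz) b :=
    fun z hz => TopCat.Presheaf.germ_res_apply X.presheaf (homOfLE hVW) z hz b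
  have key : ∀ n : ℕ∞, ∀ q : PrimeSpectrum Γ(X, V), q.asIdeal.height = n → q ≤ p →
      ∃ s : Γ(X, V), s ∉ q.asIdeal ∧ ∃ c : Γ(X, V), s * a' = c * b' := by
    intro n
    induction n using WellFoundedLT.induction with
    | ind n ih =>
      intro q hqn hqp
      have hspec : hV.fromSpec q ⤳ x := by
        have h1 : q ⤳ p := (PrimeSpectrum.le_iff_specializes _ _).1 hqp
        have h2 := h1.map hV.fromSpec.continuous
        rwa [hV.fromSpec_primeIdealOf ⟨x, hxV⟩] at h2
      have hy : hV.fromSpec q ∈ V := (hV.isoSpec.inv _).2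
      rw [← germ_dvd_iff' V hV q hy]
      rcases depth_cases (X.presheaf.stalk (hV.fromSpec q)) with h0 | h1 | h2
      · have hunit : IsUnit (X.presheaf.germ V (hV.fromSpec q) hy b') := by
          by_contra hu
          refine h0 ⟨_, hu, ?_⟩
          rw [hgb]
          exact hb _ _
        exact hunit.dvd
      · rw [hga, hgb]
        exact H _ hspec h1
      · letI : Algebra Γ(X, V) (X.presheaf.stalk (hV.fromSpec q)) :=
          TopCat.Presheaf.algebra_section_stalk X.presheaf ⟨_, hy⟩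
        haveI : IsLocalization.AtPrime (X.presheaf.stalk (hV.fromSpec q)) q.asIdeal :=
          hV.isLocalization_stalk' q hy
        refine dvd_of_hasRegPair_of_lt q.asIdeal h2 a' b' ?_ ?_
        · change ∀ t, X.presheaf.germ V (hV.fromSpec q) hy b' * t = 0 → t = 0
          rw [hgb]
          exact hb _ _
        intro q' hq' hlt
        haveI := hq'
        have hht : q'.height < n := by
          rw [← hqn]
          exact Ideal.height_strict_mono_of_isPrime hlt
        exact ih _ hht ⟨q', hq'⟩ rfl (le_trans hlt.le hqp)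
  have hy : hV.fromSpec p ∈ V := (hV.isoSpec.inv _).2
  have := (germ_dvd_iff' V hV p hy a' b').2 (key _ p rfl le_rfl)
  rw [hga, hgb] at this
  have hxp : hV.fromSpec p = x := hV.fromSpec_primeIdealOf ⟨x, hxV⟩
  revert this
  generalize hV.fromSpec p = x' at hxp hy ⊢
  subst hxp
  exact fun h => h

/-- Hartogs for divisibility at a point of depth ≥ 2 -/
theorem germ_dvd_of_generizations [IsLocallyNoetherian X] (W : X.Opens) (a b : Γ(X, W))
    (x : X) (hx : x ∈ W) (hreg : HasRegPair (X.presheaf.stalk x))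
    (hb : ∀ t, X.presheaf.germ W x hx b * t = 0 → t = 0)
    (H : ∀ z : X, ∀ hz : z ⤳ x, z ≠ x →
      X.presheaf.germ W z (hz.mem_open W.2 hx) b ∣ X.presheaf.germ W z (hz.mem_open W.2 hx) a) :
    X.presheaf.germ W x hx b ∣ X.presheaf.germ W x hx a := by
  obtain ⟨V, hV, hxV, hVW⟩ := exists_isAffineOpen_mem_and_subset (U := W) hx
  haveI : IsNoetherianRing Γ(X, V) := IsLocallyNoetherian.component_noetherian ⟨V, hV⟩
  set p := hV.primeIdealOf ⟨x, hxV⟩ with hp
  set a' : Γ(X, V) := X.presheaf.map (homOfLE hVW).op a with ha'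
  set b' : Γ(X, V) := X.presheaf.map (homOfLE hVW).op b with hb'
  have hga : ∀ z : X, ∀ hz : z ∈ V, X.presheaf.germ V z hz a' = X.presheaf.germ W z (hVW hz) a :=
    fun z hz => TopCat.Presheaf.germ_res_apply X.presheaf (homOfLE hVW) z hz a
  have hgb : ∀ z : X, ∀ hz : z ∈ V, X.presheaf.germ V z hz b' = X.presheaf.germ W z (hVW hz) b :=
    fun z hz => TopCat.Presheaf.germ_res_apply X.presheaf (homOfLE hVW) z hz b
  letI : Algebra Γ(X, V) (X.presheaf.stalk x) :=
    TopCat.Presheaf.algebra_section_stalk X.presheaf ⟨x, hxV⟩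
  haveI : IsLocalization.AtPrime (X.presheaf.stalk x) p.asIdeal :=
    hV.isLocalization_stalk ⟨x, hxV⟩
  have main : X.presheaf.germ V x hxV b' ∣ X.presheaf.germ V x hxV a' := by
    refine dvd_of_hasRegPair_of_lt p.asIdeal hreg a' b' ?_ ?_
    · change ∀ t, X.presheaf.germ V x hxV b' * t = 0 → t = 0
      rw [hgb]
      exact hb
    intro q hq hqp
    have hspec : hV.fromSpec ⟨q, hq⟩ ⤳ x := by
      have h1 : (⟨q, hq⟩ : PrimeSpectrum Γ(X, V)) ⤳ p :=
        (PrimeSpectrum.le_iff_specializes _ _).1 hqp.le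
      have h2 := h1.map hV.fromSpec.continuous
      rwa [hV.fromSpec_primeIdealOf ⟨x, hxV⟩] at h2
    have hne : hV.fromSpec ⟨q, hq⟩ ≠ x := by
      intro h
      have h3 : hV.fromSpec ⟨q, hq⟩ = hV.fromSpec p := by
        rw [hV.fromSpec_primeIdealOf ⟨x, hxV⟩]; exact h
      have h4 := hV.fromSpec.isOpenEmbedding.injective h3
      exact hqp.ne (congrArg PrimeSpectrum.asIdeal h4)
    have hy : hV.fromSpec ⟨q, hq⟩ ∈ V := (hV.isoSpec.inv _).2
    rw [← germ_dvd_iff' V hV ⟨q, hq⟩ hy, hga, hgb]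
    exact H _ hspec hne
  rwa [hga, hgb] at main

end Groth.Agent.Helper23.CDivDepth

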