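import Groth.Agent.Lib.Helper23.MeroD2

set_option autoImplicit false
set_option linter.style.haveILetI false

open CategoryTheory AlgebraicGeometry Opposite TopologicalSpace IsLocalRing

universe u

namespace Groth.Agent.Helper23.CDivDepth

section alg

variable {O : Type u} [CommRing O] (S : Submonoid O) (hS : S ≤ nonZeroDivisors O)

include hS in
theorem mk_eq_algebraMap_iff (α : O) (β : S) (w : O) :
    (LocalizedModule.mk α β : Localization S) = algebraMap O (Localization S) w ↔
      α = β * w := by
  rw [← Localization.mk_one_eq_algebraMap]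
  change LocalizedModule.mk α β = LocalizedModule.mk w 1 ↔ _
  rw [LocalizedModule.mk_eq]
  constructor
  · rintro ⟨u, hu⟩
    simp only [Submonoid.smul_def, smul_eq_mul, OneMemClass.coe_one, one_mul] at hu
    exact (mul_cancel_left_mem_nonZeroDivisors (hS u.2)).1 hu
  · rintro rfl
    exact ⟨1, by simp [Submonoid.smul_def]⟩

include hS in
theorem mem_range_units_iff (g : (Localization S)ˣ) (α : O) (hα : α ∈ nonZeroDivisors O) (β : S)
    (hg : (g : Localization S) = LocalizedModule.mk α β) :
    g ∈ (Units.map (algebraMap O (Localization S)).toMonoidHom).range ↔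
      (β : O) ∣ α ∧ α ∣ β := by
  constructor
  · rintro ⟨u, rfl⟩
    have h1 : α = β * (u : O) := (mk_eq_algebraMap_iff S hS α β u).1 hg.symm
    refine ⟨⟨u, h1⟩, ⟨((u⁻¹ : Oˣ) : O), ?_⟩⟩
    rw [h1, mul_assoc, Units.mul_inv, mul_one]
  · rintro ⟨⟨w, hw⟩, ⟨w', hw'⟩⟩
    have h1 : α * 1 = α * (w' * w) := by
      rw [mul_one, ← mul_assoc, ← hw', ← hw]
    have h2 : 1 = w' * w := (mul_cancel_left_mem_nonZeroDivisors hα).1 h1
    refine ⟨⟨w, w', by rw [mul_comm, ← h2], h2.symm⟩, Units.ext ?_⟩
    rw [hg]
    exact ((mk_eq_algebraMap_iff S hS α β w).2 hw).symm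

include hS in
theorem dvd_of_quotient_mk_eq (g : (Localization S)ˣ) (α : O) (β : S)
    (hg : (g : Localization S) = LocalizedModule.mk α β) (γ : S)
    (h : (QuotientGroup.mk g :
        (Localization S)ˣ ⧸ (Units.map (algebraMap O (Localization S)).toMonoidHom).range) =
      QuotientGroup.mk (IsLocalization.map_units (Localization S) γ).unit) :
    (β : O) ∣ α := by
  have h' := (QuotientGroup.eq (s := (Units.map (algebraMap O (Localization S)).toMonoidHom).range)).1
    h.symm
  obtain ⟨u, hu⟩ := h'
  have h2 : g = (IsLocalization.map_units (Localization S) γ).unit *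
      Units.map (algebraMap O (Localization S)).toMonoidHom u := by
    rw [hu, mul_inv_cancel_left]
  have h3 : (g : Localization S) = algebraMap O (Localization S) (γ * u) := by
    rw [h2, map_mul]
    rfl
  rw [hg] at h3
  exact ⟨γ * u, (mk_eq_algebraMap_iff S hS α β _).1 h3⟩

include hS in
theorem eq_unit_of_dvd (g : (Localization S)ˣ) (α : O) (β : S)
    (hg : (g : Localization S) = LocalizedModule.mk α β) (w : S) (hw : α = β * w) :
    g = (IsLocalization.map_units (Localization S) w).unit := by
  apply Units.ext
  rw [hg]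
  exact (mk_eq_algebraMap_iff S hS α β w).2 hw

end alg

end Groth.Agent.Helper23.CDivDepth
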