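import Groth.Agent.Lib.Helper23.MeroD5

set_option autoImplicit false
set_option linter.style.haveILetI false

open CategoryTheory AlgebraicGeometry Opposite TopologicalSpace IsLocalRing

universe u

namespace Groth.Agent.Helper23.CDivDepth

open Groth.Agent.Helper23.DepthExt

section spec

variable (A : Type u) [CommRing A]

theorem germ_ΓSpecIso_inv (y : PrimeSpectrum A) (t : A) :
    (Spec (CommRingCat.of A)).presheaf.germ ⊤ y trivial
      ((Scheme.ΓSpecIso (CommRingCat.of A)).inv t) =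
    algebraMap A ((Spec.structureSheaf A).presheaf.stalk y) t := rfl

end spec

variable {X : Scheme.{u}}

/-- the meromorphic function `1 / s` for a regular global section `s` -/
noncomputable def invOfReg (s : Γ(X, ⊤)) (hs : s ∈ Mero.regSub X ⊤) : Γ(Mero.kmod X, ⊤) :=
  ⟨fun y => LocalizedModule.mk 1 (Mero.regGerm y ⟨s, hs⟩),
    fun y => ⟨⊤, trivial, 𝟙 _, 1, ⟨s, hs⟩, fun z => Mero.mk_congr (map_one _).symm rfl⟩⟩

theorem toK_mul_invOfReg (s : Γ(X, ⊤)) (hs : s ∈ Mero.regSub X ⊤) :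
    Mero.toK X ⊤ s * invOfReg s hs = 1 := by
  apply Subtype.ext
  funext y
  change (LocalizedModule.mk (X.presheaf.germ ⊤ y.1 y.2 s) 1 : Mero.KStalk X y.1) *
    LocalizedModule.mk 1 (Mero.regGerm y ⟨s, hs⟩) = 1
  refine LocalizedModule.mk_mul_mk.trans ?_
  refine (Mero.mk_congr (mul_one _) ?_).trans (Mero.mk_self_eq_one (Mero.regGerm y ⟨s, hs⟩))
  rw [Submonoid.coe_mul, OneMemClass.coe_one, one_mul]

/-- the unit `s / 1` of the ring of meromorphic functions, for a regular global section `s` -/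
noncomputable def unitOfReg (s : Γ(X, ⊤)) (hs : s ∈ Mero.regSub X ⊤) : (Γ(Mero.kmod X, ⊤))ˣ where
  val := Mero.toK X ⊤ s
  inv := invOfReg s hs
  val_inv := toK_mul_invOfReg s hs
  inv_val := by rw [mul_comm]; exact toK_mul_invOfReg s hs

theorem div_unitOfReg_eq_one_iff (s : Γ(X, ⊤)) (hs : s ∈ Mero.regSub X ⊤) (y : X) :
    (Mero.div (unitOfReg s hs)).1 y = 1 ↔ IsUnit (X.presheaf.germ ⊤ y trivial s) := by
  change (QuotientGroup.mk (Units.map (Mero.evalK X ⊤ ⟨y, trivial⟩).toMonoidHom (unitOfReg s hs)) :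
    Mero.Germ X y) = 1 ↔ _
  rw [QuotientGroup.eq_one_iff]
  have hg : ((Units.map (Mero.evalK X ⊤ ⟨y, trivial⟩).toMonoidHom (unitOfReg s hs) :
      (Mero.KStalk X y)ˣ) : Mero.KStalk X y) =
      LocalizedModule.mk (X.presheaf.germ ⊤ y trivial s) (1 : Mero.regStalk X y) := rfl
  have := mem_range_units_iff (Mero.regStalk X y) (Mero.regStalk_le_nonZeroDivisors y) _ _
    (hs ⟨y, trivial⟩) 1 hg
  rw [Mero.stalkUnits, this]
  constructor
  · rintro ⟨-, h⟩
    exact isUnit_of_dvd_one h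
  · intro h
    exact ⟨one_dvd _, h.dvd⟩

end Groth.Agent.Helper23.CDivDepth
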