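import Groth.Agent.Lib.Helper23.MeroD6

set_option autoImplicit false
set_option linter.style.haveILetI false

open CategoryTheory AlgebraicGeometry Opposite TopologicalSpace IsLocalRing

universe u

namespace Groth.Agent.Helper23.CDivDepth

open Groth.Agent.Helper23.DepthExt

variable (A : Type u) [CommRing A]

theorem regular_ΓSpecIso_inv (t : A) (ht : ∀ x, t * x = 0 → x = 0) :
    (Scheme.ΓSpecIso (CommRingCat.of A)).inv t ∈ Mero.regSub (Spec (CommRingCat.of A)) ⊤ := by
  rintro ⟨y, hyt⟩
  let y' : PrimeSpectrum A := y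
  change (Spec (CommRingCat.of A)).presheaf.germ ⊤ y hyt
    ((Scheme.ΓSpecIso (CommRingCat.of A)).inv t) ∈ _
  have hy : (Spec (CommRingCat.of A)).presheaf.germ ⊤ y hyt
      ((Scheme.ΓSpecIso (CommRingCat.of A)).inv t) =
      algebraMap A ((Spec.structureSheaf A).presheaf.stalk y') t :=
    germ_ΓSpecIso_inv A y' t
  rw [hy]
  have h1 : algebraMap A ((Spec.structureSheaf A).presheaf.stalk y') t ∈
      nonZeroDivisors ((Spec.structureSheaf A).presheaf.stalk y') :=
    IsLocalization.map_nonZeroDivisors_le y'.asIdeal.primeCompl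
      ((Spec.structureSheaf A).presheaf.stalk y') ⟨t, mem_nonZeroDivisors_iff_left.2 ht, rfl⟩
  exact h1

theorem isUnit_germ_closedPoint_iff [IsLocalRing A] (t : A) :
    IsUnit ((Spec (CommRingCat.of A)).presheaf.germ ⊤ (closedPoint A) trivial
      ((Scheme.ΓSpecIso (CommRingCat.of A)).inv t)) ↔ IsUnit t := by
  have hy : (Spec (CommRingCat.of A)).presheaf.germ ⊤ (closedPoint A) trivial
      ((Scheme.ΓSpecIso (CommRingCat.of A)).inv t) =
      algebraMap A ((Spec.structureSheaf A).presheaf.stalk (closedPoint A)) t :=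
    germ_ΓSpecIso_inv A _ t
  rw [hy]
  have h1 : IsUnit (algebraMap A ((Spec.structureSheaf A).presheaf.stalk (closedPoint A)) t) ↔
      t ∈ (closedPoint A).asIdeal.primeCompl :=
    IsLocalization.AtPrime.isUnit_to_map_iff _ (closedPoint A).asIdeal t
  refine h1.trans ?_
  change ¬ (t ∈ maximalIdeal A) ↔ _
  rw [mem_maximalIdeal, mem_nonunits_iff, not_not]

theorem not_hasReg1_stalk_closedPoint [IsLocalRing A] (h : ¬ HasReg1 A) :
    ¬ HasReg1 ((Spec (CommRingCat.of A)).presheaf.stalk (closedPoint A)) := fun h' =>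
  h (h'.of_ringEquiv (stalkClosedPointIso (CommRingCat.of A)).commRingCatIsoToRingEquiv)

end Groth.Agent.Helper23.CDivDepth
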