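import Groth.Agent.Lib.Helper23.MeroD3

set_option autoImplicit false
set_option linter.style.haveILetI false

open CategoryTheory AlgebraicGeometry Opposite TopologicalSpace IsLocalRing

universe u

namespace Groth.Agent.Helper23.CDivDepth

variable {X : Scheme.{u}}

/-- local representation of a meromorphic function as a fraction -/
theorem exists_frac {U : X.Opens} (f : Γ(Mero.kmod X, U)) (x : X) (hx : x ∈ U) :
    ∃ (W : X.Opens) (hWU : W ≤ U) (a b : Γ(X, W)) (hb : b ∈ Mero.regSub X W), x ∈ W ∧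
      ∀ (y : X) (hy : y ∈ W), f.1 ⟨y, hWU hy⟩ =
        LocalizedModule.mk (X.presheaf.germ W y hy a) (Mero.regGerm ⟨y, hy⟩ ⟨b, hb⟩) := by
  obtain ⟨W, hxW, i, a, b, hab⟩ := f.2 ⟨x, hx⟩
  exact ⟨W, i.le, a, b.1, b.2, hxW, fun y hy => hab ⟨y, hy⟩⟩

/-- the domain of definition of a meromorphic function -/
def domSet {U : X.Opens} (f : Γ(Mero.kmod X, U)) : Set X :=
  {x | ∃ hx : x ∈ U, f.1 ⟨x, hx⟩ ∈ (algebraMap (X.presheaf.stalk x) (Mero.KStalk X x)).range}

theorem isOpen_domSet {U : X.Opens} (f : Γ(Mero.kmod X, U)) : IsOpen (domSet f) := by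
  rw [isOpen_iff_forall_mem_open]
  rintro x ⟨hxU, w, hw⟩
  obtain ⟨W, hWU, a, b, hb, hxW, hab⟩ := exists_frac f x hxU
  have h1 := hab x hxW
  rw [← hw] at h1
  have h2 := (mk_eq_algebraMap_iff (Mero.regStalk X x) (Mero.regStalk_le_nonZeroDivisors x)
    _ _ w).1 h1.symm
  obtain ⟨W', hW'W, hxW', c, hc⟩ := TopCat.Presheaf.exists_le_germ_eq X.presheaf w hxW
  -- a and b * c have the same germ at x
  have h3 : X.presheaf.germ W x hxW a =
      X.presheaf.germ W' x hxW' (X.presheaf.map (homOfLE hW'W).op b * c) := by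
    rw [map_mul, TopCat.Presheaf.germ_res_apply, hc]
    exact h2
  obtain ⟨W'', hxW'', iU, iV, heq⟩ := TopCat.Presheaf.germ_eq X.presheaf x hxW hxW' _ _ h3
  refine ⟨(W'' : Set X), ?_, W''.2, hxW''⟩
  intro y hy
  have hyW : y ∈ W := iU.le hy
  have hyW' : y ∈ W' := iV.le hy
  refine ⟨hWU hyW, X.presheaf.germ W' y hyW' c, ?_⟩
  rw [hab y hyW]
  symm
  rw [mk_eq_algebraMap_iff (Mero.regStalk X y) (Mero.regStalk_le_nonZeroDivisors y)]
  have h4 := congrArg (X.presheaf.germ W'' y hy) heq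
  rw [TopCat.Presheaf.germ_res_apply, TopCat.Presheaf.germ_res_apply, map_mul,
    TopCat.Presheaf.germ_res_apply] at h4
  exact h4

/-- where the denominator is invertible, the function is defined -/
theorem mem_domSet_of_isUnit {U : X.Opens} (f : Γ(Mero.kmod X, U)) (W : X.Opens) (hWU : W ≤ U)
    (a b : Γ(X, W)) (hb : b ∈ Mero.regSub X W)
    (hab : ∀ (y : X) (hy : y ∈ W), f.1 ⟨y, hWU hy⟩ =
        LocalizedModule.mk (X.presheaf.germ W y hy a) (Mero.regGerm ⟨y, hy⟩ ⟨b, hb⟩))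
    (y : X) (hy : y ∈ W) (hu : IsUnit (X.presheaf.germ W y hy b)) : y ∈ domSet f := by
  refine ⟨hWU hy, ↑hu.unit⁻¹ * X.presheaf.germ W y hy a, ?_⟩
  rw [hab y hy]
  symm
  rw [mk_eq_algebraMap_iff (Mero.regStalk X y) (Mero.regStalk_le_nonZeroDivisors y)]
  change X.presheaf.germ W y hy a = X.presheaf.germ W y hy b * _
  rw [← mul_assoc, IsUnit.mul_val_inv, one_mul]

/-- the domain of definition is schematically dense -/
theorem injective_res_domSet {U : X.Opens} (f : Γ(Mero.kmod X, U)) (D : X.Opens)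
    (hD : (D : Set X) = domSet f) (V : X.Opens) (hVU : V ≤ U) :
    Function.Injective (X.presheaf.map (homOfLE (inf_le_left : V ⊓ D ≤ V)).op) := by
  rw [injective_iff_map_eq_zero]
  intro s hs
  apply TopCat.Presheaf.section_ext X.sheaf
  intro x hxV
  change X.presheaf.germ V x hxV s = X.presheaf.germ V x hxV 0
  rw [map_zero]
  obtain ⟨W, hWU, a, b, hb, hxW, hab⟩ := exists_frac f x (hVU hxV)
  obtain ⟨_, ⟨W₁, hW₁, rfl⟩, hxW₁, hW₁le⟩ :=
    X.isBasis_affineOpens.exists_subset_of_mem_open (show x ∈ ((W ⊓ V : X.Opens) : Set X) from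
      ⟨hxW, hxV⟩) (W ⊓ V).2
  have hW₁W : W₁ ≤ W := fun y hy => (hW₁le hy).1
  have hW₁V : W₁ ≤ V := fun y hy => (hW₁le hy).2
  set b₁ : Γ(X, W₁) := X.presheaf.map (homOfLE hW₁W).op b with hb₁
  set s₁ : Γ(X, W₁) := X.presheaf.map (homOfLE hW₁V).op s with hs₁
  have hbasic : X.basicOpen b₁ ≤ V ⊓ D := by
    intro y hy
    have hyW₁ : y ∈ W₁ := X.basicOpen_le b₁ hy
    refine ⟨hW₁V hyW₁, ?_⟩
    change y ∈ (D : Set X)
    rw [hD]
    refine mem_domSet_of_isUnit f W hWU a b hb hab y (hW₁W hyW₁) ?_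
    have h1 : IsUnit (X.presheaf.germ W₁ y hyW₁ b₁) := (X.mem_basicOpen b₁ y hyW₁).1 hy
    rw [hb₁, TopCat.Presheaf.germ_res_apply] at h1
    exact h1
  have H : (X.presheaf.map (homOfLE (X.basicOpen_le b₁)).op).hom s₁ = 0 := by
    have e1 : (X.presheaf.map (homOfLE (X.basicOpen_le b₁)).op).hom s₁ =
        (X.presheaf.map (homOfLE hbasic).op).hom
          ((X.presheaf.map (homOfLE (inf_le_left : V ⊓ D ≤ V)).op).hom s) := by
      rw [hs₁, ← CommRingCat.comp_apply, ← CommRingCat.comp_apply, ← Functor.map_comp,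
        ← Functor.map_comp]
      rfl
    rw [e1]
    have : (X.presheaf.map (homOfLE (inf_le_left : V ⊓ D ≤ V)).op).hom s = 0 := hs
    rw [this, map_zero]
  obtain ⟨n, hn⟩ := exists_pow_mul_eq_zero_of_res_basicOpen_eq_zero_of_isAffineOpen X hW₁ s₁ b₁ H
  have h5 := congrArg (X.presheaf.germ W₁ x hxW₁) hn
  rw [map_mul, map_pow, map_zero, hb₁, hs₁, TopCat.Presheaf.germ_res_apply,
    TopCat.Presheaf.germ_res_apply] at h5
  have hnz : X.presheaf.germ W x hxW b ^ n ∈ nonZeroDivisors (X.presheaf.stalk x) :=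
    pow_mem (hb ⟨x, hxW⟩) n
  exact (mem_nonZeroDivisors_iff_left.1 hnz) _ h5

end Groth.Agent.Helper23.CDivDepth
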