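import Groth.Agent.Lib.Helper23.MeroDom
import Groth.Agent.Lib.Helper23.RegPull2

set_option autoImplicit false
set_option linter.style.haveILetI false

open CategoryTheory AlgebraicGeometry Opposite TopologicalSpace IsLocalRing

universe u

namespace Groth.Agent.Helper23.MeroExt

variable {X : Scheme.{u}}

/-- a section killed on the non-vanishing locus of a regular section is zero -/
theorem eq_zero_of_res_basicOpen_eq_zero {W : X.Opens} (b : Γ(X, W)) (hb : b ∈ Mero.regSub X W)
    (d : Γ(X, W)) (hd : (X.presheaf.map (homOfLE (X.basicOpen_le b)).op).hom d = 0) : d = 0 := by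
  apply TopCat.Presheaf.section_ext X.sheaf
  intro x hxW
  change X.presheaf.germ W x hxW d = X.presheaf.germ W x hxW 0
  rw [map_zero]
  obtain ⟨_, ⟨W₁, hW₁, rfl⟩, hxW₁, hW₁le⟩ :=
    X.isBasis_affineOpens.exists_subset_of_mem_open (show x ∈ (W : Set X) from hxW) W.2
  have hW₁W : W₁ ≤ W := hW₁le
  set b₁ : Γ(X, W₁) := X.presheaf.map (homOfLE hW₁W).op b with hb₁
  set d₁ : Γ(X, W₁) := X.presheaf.map (homOfLE hW₁W).op d with hd₁
  have hbasic : X.basicOpen b₁ ≤ X.basicOpen b := by
    rw [hb₁, Scheme.basicOpen_res]; exact inf_le_right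
  have H : (X.presheaf.map (homOfLE (X.basicOpen_le b₁)).op).hom d₁ = 0 := by
    have e1 : (X.presheaf.map (homOfLE (X.basicOpen_le b₁)).op).hom d₁ =
        (X.presheaf.map (homOfLE hbasic).op).hom
          ((X.presheaf.map (homOfLE (X.basicOpen_le b)).op).hom d) := by
      rw [hd₁, ← CommRingCat.comp_apply, ← CommRingCat.comp_apply, ← Functor.map_comp,
        ← Functor.map_comp]
      rfl
    rw [e1, hd, map_zero]
  obtain ⟨n, hn⟩ := exists_pow_mul_eq_zero_of_res_basicOpen_eq_zero_of_isAffineOpen X hW₁ d₁ b₁ H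
  have h5 := congrArg (X.presheaf.germ W₁ x hxW₁) hn
  rw [map_mul, map_pow, map_zero, hb₁, hd₁, TopCat.Presheaf.germ_res_apply,
    TopCat.Presheaf.germ_res_apply] at h5
  have hnz : X.presheaf.germ W x hxW b ^ n ∈ nonZeroDivisors (X.presheaf.stalk x) :=
    pow_mem (hb ⟨x, hxW⟩) n
  exact (mem_nonZeroDivisors_iff_left.1 hnz) _ h5

/-- the ideal of functions on `W` whose non-vanishing locus lies in `V` -/
def idealOf (W V : X.Opens) : Ideal Γ(X, W) where
  carrier := {h | X.basicOpen h ≤ V}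
  add_mem' := by
    intro f g hf hg
    exact (X.basicOpen_add_le f g).trans (sup_le hf hg)
  zero_mem' := by
    change X.basicOpen (0 : Γ(X, W)) ≤ V
    rw [Scheme.basicOpen_zero]; exact bot_le
  smul_mem' := by
    intro c h hh
    change X.basicOpen (c * h) ≤ V
    rw [Scheme.basicOpen_mul]
    exact inf_le_right.trans hh

theorem mem_idealOf {W V : X.Opens} (h : Γ(X, W)) : h ∈ idealOf W V ↔ X.basicOpen h ≤ V := Iff.rfl

/-- a section annihilated by `idealOf W V` vanishes on `W ⊓ V` -/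
theorem res_eq_zero_of_idealOf_mul {W V : X.Opens} (hW : IsAffineOpen W) (c : Γ(X, W))
    (hc : ∀ h ∈ idealOf W V, h * c = 0) :
    (X.presheaf.map (homOfLE (inf_le_left : W ⊓ V ≤ W)).op).hom c = 0 := by
  apply TopCat.Presheaf.section_ext X.sheaf
  intro y hy
  change X.presheaf.germ (W ⊓ V) y hy _ = X.presheaf.germ (W ⊓ V) y hy 0
  rw [map_zero, TopCat.Presheaf.germ_res_apply]
  obtain ⟨h, hle, hyh⟩ := hW.exists_basicOpen_le (V := V) ⟨y, hy.2⟩ hy.1
  have h1 := congrArg (X.presheaf.germ W y hy.1) (hc h hle)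
  rw [map_mul, map_zero] at h1
  have hu : IsUnit (X.presheaf.germ W y hy.1 h) := (X.mem_basicOpen h y hy.1).1 hyh
  exact (hu.mul_right_eq_zero).1 h1

/-- a nonzerodivisor of the ring of an affine open is a regular section -/
theorem mem_regSub_of_mem_nonZeroDivisors {W : X.Opens} (hW : IsAffineOpen W) (b : Γ(X, W))
    (hb : b ∈ nonZeroDivisors Γ(X, W)) : b ∈ Mero.regSub X W := by
  rintro ⟨y, hy⟩
  letI : Algebra Γ(X, W) (X.presheaf.stalk y) :=
    TopCat.Presheaf.algebra_section_stalk X.presheaf ⟨y, hy⟩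
  haveI : IsLocalization.AtPrime (X.presheaf.stalk y) (hW.primeIdealOf ⟨y, hy⟩).asIdeal :=
    hW.isLocalization_stalk ⟨y, hy⟩
  exact IsLocalization.map_nonZeroDivisors_le (hW.primeIdealOf ⟨y, hy⟩).asIdeal.primeCompl
    (X.presheaf.stalk y) ⟨b, hb, rfl⟩

/-- Noetherian case: a schematically dense open contains the non-vanishing locus of a regular
section near every point -/
theorem exists_regular_of_noetherian [IsLocallyNoetherian X] {W V : X.Opens} (hW : IsAffineOpen W)
    (hV : Function.Injective (X.presheaf.map (homOfLE (inf_le_left : W ⊓ V ≤ W)).op)) :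
    ∃ b : Γ(X, W), b ∈ Mero.regSub X W ∧ X.basicOpen b ≤ V := by
  classical
  haveI : IsNoetherianRing Γ(X, W) := IsLocallyNoetherian.component_noetherian ⟨W, hW⟩
  by_contra hcon
  push Not at hcon
  have hsub : ((idealOf W V : Ideal Γ(X, W)) : Set Γ(X, W)) ⊆
      ⋃ p ∈ associatedPrimes Γ(X, W) Γ(X, W), (p : Set Γ(X, W)) := by
    rw [biUnion_associatedPrimes_eq_compl_nonZeroDivisors]
    intro b hb hnzd
    exact hcon b (mem_regSub_of_mem_nonZeroDivisors hW b hnzd) hb
  have hfin : (associatedPrimes Γ(X, W) Γ(X, W)).Finite := associatedPrimes.finite _ _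
  have hsub' : ((idealOf W V : Ideal Γ(X, W)) : Set Γ(X, W)) ⊆
      ⋃ p ∈ (↑hfin.toFinset : Set (Ideal Γ(X, W))), (p : Set Γ(X, W)) := by
    simpa using hsub
  obtain ⟨p, hp, hle⟩ := (Ideal.subset_union_prime (s := hfin.toFinset) (f := fun p => p)
    ⊤ ⊤ (fun i hi _ _ => by
      rw [Set.Finite.mem_toFinset] at hi
      exact hi.isPrime)).1 hsub'
  rw [Set.Finite.mem_toFinset] at hp
  obtain ⟨hpp, c, hc⟩ := (isAssociatedPrime_iff.1 hp)
  have hc0 : c ≠ 0 := by
    rintro rfl
    apply hpp.ne_top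
    rw [hc, eq_top_iff]
    intro r _
    simp [Submodule.mem_colon_singleton]
  have hkill : ∀ h ∈ idealOf W V, h * c = 0 := by
    intro h hh
    have := hle hh
    rw [hc, Submodule.mem_colon_singleton] at this
    simpa using this
  have h0 := res_eq_zero_of_idealOf_mul hW c hkill
  have h00 : (X.presheaf.map (homOfLE (inf_le_left : W ⊓ V ≤ W)).op).hom c =
      (X.presheaf.map (homOfLE (inf_le_left : W ⊓ V ≤ W)).op).hom 0 := by rw [h0, map_zero]
  exact hc0 (hV h00)

end Groth.Agent.Helper23.MeroExt
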