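import Groth.Agent.Lib.Helper23.MeroExt1

set_option autoImplicit false
set_option linter.style.haveILetI false

open CategoryTheory AlgebraicGeometry Opposite TopologicalSpace IsLocalRing

universe u

namespace Groth.Agent.Helper23.MeroExt

open Groth.Agent.Helper23.RegPull

variable {X : Scheme.{u}}

/-- maximal points (points without proper generizations) -/
def IsMaxPt (ξ : X) : Prop := ∀ z : X, z ⤳ ξ → z = ξ

theorem closure_mem_irreducibleComponents {ξ : X} (hξ : IsMaxPt ξ) :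
    closure ({ξ} : Set X) ∈ irreducibleComponents X := by
  refine ⟨isIrreducible_singleton.closure, ?_⟩
  intro Z hZ hle
  have hZc : IsIrreducible (closure Z) := hZ.closure
  obtain ⟨ζ, hζ⟩ := QuasiSober.sober hZc isClosed_closure
  have h1 : ξ ∈ closure ({ζ} : Set X) := by
    rw [hζ.def]
    exact subset_closure (hle (subset_closure (Set.mem_singleton ξ)))
  have h2 : ζ ⤳ ξ := specializes_iff_mem_closure.2 h1
  have h3 := hξ ζ h2
  rw [h3] at hζ
  calc Z ⊆ closure Z := subset_closure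
    _ = closure {ξ} := hζ.def.symm

theorem finite_maxPts (W₀ : X.Opens)
    (hfin : {Z : Set X | Z ∈ irreducibleComponents X ∧ (Z ∩ (W₀ : Set X)).Nonempty}.Finite) :
    {ξ : X | ξ ∈ W₀ ∧ IsMaxPt ξ}.Finite := by
  refine Set.Finite.of_finite_image (f := fun ξ : X => closure ({ξ} : Set X))
    (hfin.subset ?_) ?_
  · rintro _ ⟨ξ, ⟨hξW, hξ⟩, rfl⟩
    exact ⟨closure_mem_irreducibleComponents hξ, ξ, subset_closure (Set.mem_singleton ξ), hξW⟩
  · intro ξ _ ξ' _ h
    have h1 : ξ ⤳ ξ' := by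
      rw [specializes_iff_closure_subset]; exact h.symm.subset
    have h2 : ξ' ⤳ ξ := by
      rw [specializes_iff_closure_subset]; exact h.subset
    exact (h1.antisymm h2).eq

/-- every point has a maximal generization -/
theorem exists_maxPt_specializes (y : X) : ∃ ξ : X, ξ ⤳ y ∧ IsMaxPt ξ := by
  obtain ⟨q, hq, -⟩ := Ideal.exists_minimalPrimes_le
    (bot_le : ⊥ ≤ maximalIdeal (X.presheaf.stalk y))
  obtain ⟨ξ, h, hmax, -⟩ := exists_maximalPoint_of_mem_minimalPrimes X y q hq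
  exact ⟨ξ, h, hmax⟩


/-- Step A: a schematically dense open of a reduced scheme contains the maximal points -/
theorem maxPt_mem_of_injective [IsReduced X] {W V : X.Opens} (hW : IsAffineOpen W)
    (hfin : {ξ : X | ξ ∈ W ∧ IsMaxPt ξ}.Finite)
    (hV : Function.Injective (X.presheaf.map (homOfLE (inf_le_left : W ⊓ V ≤ W)).op))
    (ξ : X) (hξW : ξ ∈ W) (hξ : IsMaxPt ξ) : ξ ∈ V := by
  by_contra hξV
  let C : Set X := ⋃ ξ' ∈ {ξ' : X | (ξ' ∈ W ∧ IsMaxPt ξ') ∧ ξ' ≠ ξ}, closure ({ξ'} : Set X)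
  have hCfin : {ξ' : X | (ξ' ∈ W ∧ IsMaxPt ξ') ∧ ξ' ≠ ξ}.Finite :=
    hfin.subset fun _ h => h.1
  have hCcl : IsClosed C := hCfin.isClosed_biUnion fun _ _ => isClosed_closure
  have hξC : ξ ∉ C := by
    intro h
    obtain ⟨ξ', ⟨⟨_, _⟩, hne⟩, hmem⟩ := Set.mem_iUnion₂.1 h
    exact hne (hξ ξ' (specializes_iff_mem_closure.2 hmem))
  let O' : X.Opens := W ⊓ ⟨Cᶜ, hCcl.isOpen_compl⟩
  have hξO : ξ ∈ O' := ⟨hξW, hξC⟩
  obtain ⟨h, hle, hξh⟩ := hW.exists_basicOpen_le (V := O') ⟨ξ, hξO⟩ hξW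
  have hdisj : ∀ y : X, y ∈ X.basicOpen h → y ∉ V := by
    intro y hyh hyV
    obtain ⟨ξ'', hspec, hmax⟩ := exists_maxPt_specializes y
    have h1 : ξ'' ∈ X.basicOpen h := hspec.mem_open (X.basicOpen h).2 hyh
    have h2 : ξ'' ∈ O' := hle h1
    have h3 : ξ'' = ξ := by
      by_contra hne
      apply h2.2
      exact Set.mem_iUnion₂.2 ⟨ξ'', ⟨⟨h2.1, hmax⟩, hne⟩, subset_closure (Set.mem_singleton ξ'')⟩
    apply hξV
    rw [← h3]
    exact hspec.mem_open V.2 hyV
  have hres : (X.presheaf.map (homOfLE (inf_le_left : W ⊓ V ≤ W)).op).hom h = 0 := by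
    apply eq_zero_of_basicOpen_eq_bot
    rw [eq_bot_iff]
    intro y hy
    have hy' : y ∈ (W ⊓ V) ⊓ X.basicOpen h := by
      have := Scheme.basicOpen_res X h (homOfLE (inf_le_left : W ⊓ V ≤ W)).op
      rw [← this]; exact hy
    exact (hdisj y hy'.2 hy'.1.2).elim
  have h0 : h = 0 := by
    apply hV
    rw [map_zero]; exact hres
  rw [h0, Scheme.basicOpen_zero] at hξh
  exact hξh

/-- reduced case: a schematically dense open contains the non-vanishing locus of a regular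
section on a small affine open -/
theorem exists_regular_of_reduced [IsReduced X] {W V : X.Opens} (hW : IsAffineOpen W)
    (hfin : {ξ : X | ξ ∈ W ∧ IsMaxPt ξ}.Finite)
    (hV : Function.Injective (X.presheaf.map (homOfLE (inf_le_left : W ⊓ V ≤ W)).op)) :
    ∃ b : Γ(X, W), b ∈ Mero.regSub X W ∧ X.basicOpen b ≤ V := by
  classical
  -- the primes of the maximal points of W
  let ι := {ξ : X // ξ ∈ W}
  let pOf : ι → Ideal Γ(X, W) := fun ξ =>
    Ideal.comap (X.presheaf.germ W ξ.1 ξ.2).hom (maximalIdeal (X.presheaf.stalk ξ.1))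
  have hpOf : ∀ (ξ : ι) (b : Γ(X, W)), b ∈ pOf ξ ↔ ξ.1 ∉ X.basicOpen b := by
    intro ξ b
    rw [X.mem_basicOpen b ξ.1 ξ.2]
    change X.presheaf.germ W ξ.1 ξ.2 b ∈ maximalIdeal _ ↔ _
    rw [mem_maximalIdeal, mem_nonunits_iff]
  have hfin' : {ξ : ι | IsMaxPt ξ.1}.Finite := by
    refine Set.Finite.of_finite_image (f := fun ξ : ι => ξ.1) (hfin.subset ?_)
      (Subtype.val_injective.injOn)
    rintro _ ⟨ξ, hξ, rfl⟩
    exact ⟨ξ.2, hξ⟩
  -- existence of b ∈ idealOf W V avoiding all these primes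
  have hb : ∃ b ∈ idealOf W V, ∀ ξ : ι, IsMaxPt ξ.1 → ξ.1 ∈ X.basicOpen b := by
    by_contra hcon
    push Not at hcon
    have hsub : ((idealOf W V : Ideal Γ(X, W)) : Set Γ(X, W)) ⊆
        ⋃ ξ ∈ (↑hfin'.toFinset : Set ι), (pOf ξ : Set Γ(X, W)) := by
      intro b hb
      obtain ⟨ξ, hξ, hξb⟩ := hcon b hb
      refine Set.mem_iUnion₂.2 ⟨ξ, ?_, (hpOf ξ b).2 hξb⟩
      simpa using hξ
    rcases hfin'.toFinset.eq_empty_or_nonempty with hempty | ⟨ξ₀, hξ₀⟩
    · have := hsub (idealOf W V).zero_mem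
      rw [hempty] at this
      simp at this
    obtain ⟨ξ, hξ, hle⟩ := (Ideal.subset_union_prime (s := hfin'.toFinset) (f := pOf) ξ₀ ξ₀
      (fun i _ _ _ => Ideal.comap_isPrime _ _)).1 hsub
    have hξmax : IsMaxPt ξ.1 := by simpa using hξ
    have hξV := maxPt_mem_of_injective hW hfin hV ξ.1 ξ.2 hξmax
    obtain ⟨h, hhle, hξh⟩ := hW.exists_basicOpen_le (V := V) ⟨ξ.1, hξV⟩ ξ.2
    exact (hpOf ξ h).1 (hle hhle) hξh
  obtain ⟨b, hbI, hbmax⟩ := hb
  refine ⟨b, ?_, hbI⟩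
  rintro ⟨y, hy⟩
  change X.presheaf.germ W y hy b ∈ nonZeroDivisors _
  apply mem_nonZeroDivisors_of_forall_notMem_minimalPrimes
  intro q hq hmem
  obtain ⟨ξ, h, hmax, rfl⟩ := exists_maximalPoint_of_mem_minimalPrimes X y q hq
  have hξW : ξ ∈ W := h.mem_open W.2 hy
  rw [Ideal.mem_comap] at hmem
  have h1 : (X.presheaf.stalkSpecializes h).hom (X.presheaf.germ W y hy b) =
      X.presheaf.germ W ξ hξW b := by
    rw [← CommRingCat.comp_apply, TopCat.Presheaf.germ_stalkSpecializes]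
  rw [h1] at hmem
  have h2 := hbmax ⟨ξ, hξW⟩ hmax
  rw [X.mem_basicOpen b ξ hξW] at h2
  exact (mem_maximalIdeal _).1 hmem h2

end Groth.Agent.Helper23.MeroExt
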