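import Groth.Agent.Lib.Helper23.MeroExt2

set_option autoImplicit false
set_option linter.style.haveILetI false

open CategoryTheory AlgebraicGeometry Opposite TopologicalSpace IsLocalRing

universe u

namespace Groth.Agent.Helper23.MeroExt

open Groth.Agent.Helper23.RegPull Groth.Agent.Helper23.DepthExt Groth.Agent.Helper23.CDivDepth

variable {X : Scheme.{u}}

/-- (P): near every point of `U` there is a regular section whose non-vanishing locus is in `V` -/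
theorem exists_regular
    (hX : IsLocallyNoetherian X ∨ (IsReduced X ∧ ∀ x : ↥X, ∃ W : X.Opens, x ∈ W ∧
      {Z : Set ↥X | Z ∈ irreducibleComponents ↥X ∧ (Z ∩ (W : Set ↥X)).Nonempty}.Finite))
    (U V : X.Opens)
    (hV : ∀ W : X.Opens, W ≤ U →
      Function.Injective ⇑(X.presheaf.map (homOfLE (inf_le_left : W ⊓ V ≤ W)).op))
    (x : X) (hx : x ∈ U) :
    ∃ W : X.Opens, IsAffineOpen W ∧ x ∈ W ∧ W ≤ U ∧
      ∃ b : Γ(X, W), b ∈ Mero.regSub X W ∧ X.basicOpen b ≤ V := by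
  rcases hX with hN | ⟨hR, hfin⟩
  · obtain ⟨_, ⟨W, hW, rfl⟩, hxW, hWU⟩ :=
      X.isBasis_affineOpens.exists_subset_of_mem_open (show x ∈ (U : Set X) from hx) U.2
    exact ⟨W, hW, hxW, hWU, exists_regular_of_noetherian hW (hV W hWU)⟩
  · obtain ⟨W₀, hxW₀, hfin₀⟩ := hfin x
    obtain ⟨_, ⟨W, hW, rfl⟩, hxW, hWle⟩ :=
      X.isBasis_affineOpens.exists_subset_of_mem_open
        (show x ∈ ((U ⊓ W₀ : X.Opens) : Set X) from ⟨hx, hxW₀⟩) (U ⊓ W₀).2
    have hWU : W ≤ U := fun y hy => (hWle hy).1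
    have hWW₀ : W ≤ W₀ := fun y hy => (hWle hy).2
    have hfinW : {ξ : X | ξ ∈ W ∧ IsMaxPt ξ}.Finite :=
      (finite_maxPts W₀ hfin₀).subset fun ξ hξ => ⟨hWW₀ hξ.1, hξ.2⟩
    exact ⟨W, hW, hxW, hWU, exists_regular_of_reduced hW hfinW (hV W hWU)⟩

/-- on an affine open, a function on `V` becomes a fraction with regular denominator -/
theorem exists_num {W V : X.Opens} (hW : IsAffineOpen W) (b : Γ(X, W)) (hb : b ∈ Mero.regSub X W)
    (hbV : X.basicOpen b ≤ V) (g : Γ(X, V)) :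
    ∃ (a β : Γ(X, W)), β ∈ Mero.regSub X W ∧
      res (inf_le_left : W ⊓ V ≤ W) a =
        res (inf_le_left : W ⊓ V ≤ W) β * res (inf_le_right : W ⊓ V ≤ V) g := by
  haveI := hW.isLocalization_basicOpen b
  obtain ⟨⟨a, ⟨_, n, rfl⟩⟩, h⟩ := IsLocalization.surj (Submonoid.powers b) (res hbV g)
  simp only at h
  refine ⟨a, b ^ n, pow_mem hb n, ?_⟩
  have hbWV : X.basicOpen b ≤ W ⊓ V := le_inf (X.basicOpen_le b) hbV
  rw [← sub_eq_zero]
  set b' : Γ(X, W ⊓ V) := res (inf_le_left : W ⊓ V ≤ W) b with hb'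
  have hb'reg : b' ∈ Mero.regSub X (W ⊓ V) := Mero.regSub_res _ hb
  apply eq_zero_of_res_basicOpen_eq_zero b' hb'reg
  have hle : X.basicOpen b' ≤ X.basicOpen b := by
    rw [hb', Scheme.basicOpen_res]; exact inf_le_right
  have e1 : res (X.basicOpen_le b') (res (inf_le_left : W ⊓ V ≤ W) a -
      res (inf_le_left : W ⊓ V ≤ W) (b ^ n) * res (inf_le_right : W ⊓ V ≤ V) g) =
      res hle (res hbWV (res (inf_le_left : W ⊓ V ≤ W) a -
      res (inf_le_left : W ⊓ V ≤ W) (b ^ n) * res (inf_le_right : W ⊓ V ≤ V) g)) := by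
    rw [res_res]
  change res (X.basicOpen_le b') _ = 0
  rw [e1, map_sub, map_mul, res_res, res_res, res_res]
  have h' : res hbV g * res (X.basicOpen_le b) (b ^ n) = res (X.basicOpen_le b) a := h
  rw [← h', mul_comm, sub_self, map_zero]

/-- the cross identity for two local fractions -/
theorem cross_eq {U V : X.Opens}
    (hV : ∀ W : X.Opens, W ≤ U →
      Function.Injective ⇑(X.presheaf.map (homOfLE (inf_le_left : W ⊓ V ≤ W)).op))
    (g : Γ(X, V)) {W₁ W₂ : X.Opens} (h₁ : W₁ ≤ U) (a₁ β₁ : Γ(X, W₁)) (a₂ β₂ : Γ(X, W₂))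
    (e₁ : res (inf_le_left : W₁ ⊓ V ≤ W₁) a₁ =
      res (inf_le_left : W₁ ⊓ V ≤ W₁) β₁ * res (inf_le_right : W₁ ⊓ V ≤ V) g)
    (e₂ : res (inf_le_left : W₂ ⊓ V ≤ W₂) a₂ =
      res (inf_le_left : W₂ ⊓ V ≤ W₂) β₂ * res (inf_le_right : W₂ ⊓ V ≤ V) g) :
    res (inf_le_left : W₁ ⊓ W₂ ≤ W₁) β₁ * res (inf_le_right : W₁ ⊓ W₂ ≤ W₂) a₂ =
      res (inf_le_right : W₁ ⊓ W₂ ≤ W₂) β₂ * res (inf_le_left : W₁ ⊓ W₂ ≤ W₁) a₁ := by
  apply hV (W₁ ⊓ W₂) (inf_le_left.trans h₁)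
  change res (inf_le_left : (W₁ ⊓ W₂) ⊓ V ≤ W₁ ⊓ W₂) _ = res inf_le_left _
  have hT1 : (W₁ ⊓ W₂) ⊓ V ≤ W₁ ⊓ V := inf_le_inf_right V inf_le_left
  have hT2 : (W₁ ⊓ W₂) ⊓ V ≤ W₂ ⊓ V := inf_le_inf_right V inf_le_right
  have k1 := congrArg (res hT1) e₁
  have k2 := congrArg (res hT2) e₂
  rw [map_mul, res_res, res_res, res_res] at k1 k2
  rw [map_mul, map_mul, res_res, res_res, res_res, res_res, k1, k2]
  ring


theorem exists_mero_ext
    (hX : IsLocallyNoetherian X ∨ (IsReduced X ∧ ∀ x : ↥X, ∃ W : X.Opens, x ∈ W ∧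
      {Z : Set ↥X | Z ∈ irreducibleComponents ↥X ∧ (Z ∩ (W : Set ↥X)).Nonempty}.Finite))
    (U V : X.Opens) (hVU : V ≤ U)
    (hV : ∀ W : X.Opens, W ≤ U →
      Function.Injective ⇑(X.presheaf.map (homOfLE (inf_le_left : W ⊓ V ≤ W)).op))
    (g : Γ(X, V)) :
    ∃ s : Γ(Mero.kmod X, U), (Mero.kmod X).presheaf.map (homOfLE hVU).op s = Mero.toK X V g := by
  have hloc : ∀ (x : X) (hx : x ∈ U), ∃ (W : X.Opens) (_ : x ∈ W) (_ : W ≤ U) (a β : Γ(X, W))
      (_ : β ∈ Mero.regSub X W), res (inf_le_left : W ⊓ V ≤ W) a =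
        res (inf_le_left : W ⊓ V ≤ W) β * res (inf_le_right : W ⊓ V ≤ V) g := by
    intro x hx
    obtain ⟨W, hW, hxW, hWU, b, hb, hbV⟩ := exists_regular hX U V hV x hx
    obtain ⟨a, β, hβ, he⟩ := exists_num hW b hb hbV g
    exact ⟨W, hxW, hWU, a, β, hβ, he⟩
  choose W hxW hWU a β hβ heq using hloc
  let sfun : ∀ y : U, Mero.KStalk X y.1 := fun y =>
    LocalizedModule.mk (X.presheaf.germ (W y.1 y.2) y.1 (hxW y.1 y.2) (a y.1 y.2))
      (Mero.regGerm ⟨y.1, hxW y.1 y.2⟩ ⟨β y.1 y.2, hβ y.1 y.2⟩)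
  have hcross : ∀ (x : X) (hx : x ∈ U) (y : X) (hy : y ∈ U) (hyW : y ∈ W x hx),
      X.presheaf.germ (W x hx) y hyW (β x hx) *
        X.presheaf.germ (W y hy) y (hxW y hy) (a y hy) =
      X.presheaf.germ (W y hy) y (hxW y hy) (β y hy) *
        X.presheaf.germ (W x hx) y hyW (a x hx) := by
    intro x hx y hy hyW
    have hc := cross_eq hV g (hWU x hx) (a x hx) (β x hx) (a y hy) (β y hy) (heq x hx) (heq y hy)
    have hym : y ∈ W x hx ⊓ W y hy := ⟨hyW, hxW y hy⟩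
    have := congrArg (X.presheaf.germ (W x hx ⊓ W y hy) y hym) hc
    rw [map_mul, map_mul] at this
    erw [TopCat.Presheaf.germ_res_apply, TopCat.Presheaf.germ_res_apply,
      TopCat.Presheaf.germ_res_apply, TopCat.Presheaf.germ_res_apply] at this
    exact this
  have hpred : (Mero.kLoc X).pred sfun := by
    intro x
    refine ⟨W x.1 x.2, hxW x.1 x.2, homOfLE (hWU x.1 x.2), a x.1 x.2, ⟨β x.1 x.2, hβ x.1 x.2⟩, ?_⟩
    intro y
    change LocalizedModule.mk _ _ = LocalizedModule.mk _ _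
    rw [LocalizedModule.mk_eq]
    refine ⟨1, ?_⟩
    simp only [one_smul, Submonoid.smul_def, smul_eq_mul]
    exact hcross x.1 x.2 y.1 (hWU x.1 x.2 y.2) y.2
  refine ⟨⟨sfun, hpred⟩, ?_⟩
  apply Subtype.ext
  funext y
  change sfun ⟨y.1, hVU y.2⟩ = (Mero.toK X V g).1 y
  change LocalizedModule.mk _ _ = LocalizedModule.mk _ _
  rw [LocalizedModule.mk_eq]
  refine ⟨1, ?_⟩
  simp only [one_smul, Submonoid.smul_def, smul_eq_mul]
  have hyU : y.1 ∈ U := hVU y.2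
  have hym : y.1 ∈ W y.1 hyU ⊓ V := ⟨hxW y.1 hyU, y.2⟩
  have := congrArg (X.presheaf.germ (W y.1 hyU ⊓ V) y.1 hym) (heq y.1 hyU)
  rw [map_mul] at this
  erw [TopCat.Presheaf.germ_res_apply, TopCat.Presheaf.germ_res_apply,
    TopCat.Presheaf.germ_res_apply] at this
  exact this

end Groth.Agent.Helper23.MeroExt
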