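import Groth.Agent.Lib.Helper23.MeroExt3

/-!
# Helper23: meromorphic functions on a reduced scheme with finitely many irreducible components
-/

set_option autoImplicit false
set_option linter.style.haveILetI false

open CategoryTheory AlgebraicGeometry Opposite TopologicalSpace IsLocalRing

universe u

namespace Groth.Agent.Helper23.MeroGen

open Groth.Agent.Helper23.MeroExt Groth.Agent.Helper23.RegPull

variable {X : Scheme.{u}}

theorem isMaxPt_of_closure_mem {x : X}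
    (hx : closure ({x} : Set X) ∈ irreducibleComponents X) : IsMaxPt x := by
  intro z hz
  have h1 : closure ({x} : Set X) ⊆ closure {z} := specializes_iff_closure_subset.1 hz
  have h2 : closure ({z} : Set X) ⊆ closure {x} := hx.2 isIrreducible_singleton.closure h1
  have h3 : x ⤳ z := specializes_iff_closure_subset.2 h2
  exact (hz.antisymm h3).eq

theorem isField_stalk [IsReduced X] {x : X} (hx : IsMaxPt x) : IsField (X.presheaf.stalk x) := by
  rw [IsLocalRing.isField_iff_maximalIdeal_eq, eq_bot_iff]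
  intro a ha
  have hnil : IsNilpotent a := by
    rw [← mem_nilradical, nilradical_eq_sInf, Ideal.mem_sInf]
    intro p hp
    haveI : p.IsPrime := hp
    obtain ⟨q, hq, hqp⟩ := Ideal.exists_minimalPrimes_le (I := ⊥) (J := p) bot_le
    obtain ⟨ξ, h, hmax, hqe⟩ := exists_maximalPoint_of_mem_minimalPrimes X x q hq
    have hξ : ξ = x := hx ξ h
    subst hξ
    have hqm : q = maximalIdeal (X.presheaf.stalk ξ) := by
      rw [hqe]
      have h' : h = specializes_refl ξ := rfl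
      rw [h', TopCat.Presheaf.stalkSpecializes_refl]
      rfl
    exact hqp (hqm ▸ ha)
  exact (Ideal.mem_bot).2 hnil.eq_zero

theorem bijective_algebraMap_KStalk {x : X} (hx : IsMaxPt x) :
    Function.Bijective (algebraMap (X.presheaf.stalk x) (Mero.KStalk X x)) := by
  refine ⟨Mero.algebraMap_KStalk_injective x, ?_⟩
  intro z
  obtain ⟨a, s, rfl⟩ := IsLocalization.exists_mk'_eq (Mero.regStalk X x) z
  have hu : IsUnit (s : X.presheaf.stalk x) :=
    isUnit_of_mem_nonZeroDivisors_of_maximalPoint X x hx s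
      (Mero.regStalk_le_nonZeroDivisors x s.2)
  obtain ⟨v, hv⟩ := hu.exists_right_inv
  refine ⟨a * v, ?_⟩
  symm
  rw [IsLocalization.mk'_eq_iff_eq_mul, ← map_mul]
  congr 1
  rw [mul_assoc, mul_comm v, hv, mul_one]

theorem eq_zero_of_germ_maxPt [IsReduced X] {W : X.Opens} (a : Γ(X, W))
    (h : ∀ ξ (hξ : ξ ∈ W), IsMaxPt ξ → X.presheaf.germ W ξ hξ a = 0) : a = 0 := by
  rw [← basicOpen_eq_bot_iff, eq_bot_iff]
  intro y hy
  obtain ⟨ξ, hξy, hξ⟩ := exists_maxPt_specializes y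
  have hξb : ξ ∈ X.basicOpen a := hξy.mem_open (X.basicOpen a).isOpen hy
  have hξW := X.basicOpen_le a hξb
  rw [X.mem_basicOpen a ξ hξW, h ξ hξW hξ] at hξb
  exact not_isUnit_zero hξb

theorem kmod_ext [IsReduced X] (U : X.Opens) (s t : Γ(Mero.kmod X, U))
    (h : ∀ x : U, IsMaxPt x.1 → s.1 x = t.1 x) : s = t := by
  apply Subtype.ext
  funext y
  obtain ⟨V₁, hy1, i₁, a₁, b₁, h₁⟩ := s.2 y
  obtain ⟨V₂, hy2, i₂, a₂, b₂, h₂⟩ := t.2 y
  have hN1 : V₁ ⊓ V₂ ≤ V₁ := inf_le_left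
  have hN2 : V₁ ⊓ V₂ ≤ V₂ := inf_le_right
  let d : Γ(X, V₁ ⊓ V₂) := X.presheaf.map (homOfLE hN2).op b₂.1 * X.presheaf.map (homOfLE hN1).op a₁ -
    X.presheaf.map (homOfLE hN1).op b₁.1 * X.presheaf.map (homOfLE hN2).op a₂
  have hgd : ∀ ξ (hξ : ξ ∈ V₁ ⊓ V₂), X.presheaf.germ (V₁ ⊓ V₂) ξ hξ d =
      X.presheaf.germ V₂ ξ hξ.2 b₂.1 * X.presheaf.germ V₁ ξ hξ.1 a₁ -
      X.presheaf.germ V₁ ξ hξ.1 b₁.1 * X.presheaf.germ V₂ ξ hξ.2 a₂ := by
    intro ξ hξ
    simp only [d, map_sub, map_mul]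
    rw [TopCat.Presheaf.germ_res_apply, TopCat.Presheaf.germ_res_apply,
      TopCat.Presheaf.germ_res_apply, TopCat.Presheaf.germ_res_apply]
  have hd : d = 0 := by
    apply eq_zero_of_germ_maxPt
    intro ξ hξ hmax
    have e1 := h₁ ⟨ξ, hξ.1⟩
    have e2 := h₂ ⟨ξ, hξ.2⟩
    have e3 := h ⟨ξ, i₁.le hξ.1⟩ hmax
    have e4 : (LocalizedModule.mk (X.presheaf.germ V₁ ξ hξ.1 a₁) (Mero.regGerm ⟨ξ, hξ.1⟩ b₁) :
        Mero.KStalk X ξ) =
        LocalizedModule.mk (X.presheaf.germ V₂ ξ hξ.2 a₂) (Mero.regGerm ⟨ξ, hξ.2⟩ b₂) :=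
      e1.symm.trans (e3.trans e2)
    rw [LocalizedModule.mk_eq] at e4
    obtain ⟨u, hu⟩ := e4
    simp only [Submonoid.smul_def, smul_eq_mul] at hu
    rw [hgd ξ hξ, sub_eq_zero]
    have hnz := Mero.regStalk_le_nonZeroDivisors ξ u.2
    exact (mul_cancel_left_mem_nonZeroDivisors hnz).1 hu
  have e1 := h₁ ⟨y.1, hy1⟩
  have e2 := h₂ ⟨y.1, hy2⟩
  refine e1.trans (Eq.trans ?_ e2.symm)
  rw [LocalizedModule.mk_eq]
  refine ⟨1, ?_⟩
  simp only [one_smul, Submonoid.smul_def, smul_eq_mul]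
  have := hgd y.1 ⟨hy1, hy2⟩
  rw [hd, map_zero] at this
  exact (sub_eq_zero.1 this.symm)

end Groth.Agent.Helper23.MeroGen
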