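import Groth.Agent.Lib.Helper23.MeroGen1

/-!
# Helper23: surjectivity of evaluation of meromorphic functions at the generic points
-/

set_option autoImplicit false
set_option linter.style.haveILetI false

open CategoryTheory AlgebraicGeometry Opposite TopologicalSpace IsLocalRing

universe u

namespace Groth.Agent.Helper23.MeroGen

open Groth.Agent.Helper23.MeroExt Groth.Agent.Helper23.RegPull

variable {X : Scheme.{u}}

/-- the generic points lying in `U` -/
abbrev Gen (U : X.Opens) : Type u :=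
  {x : U // closure ({x.1} : Set X) ∈ irreducibleComponents (X : Type u)}

theorem evalK_surjective [IsReduced X] (hfin : (irreducibleComponents (X : Type u)).Finite)
    (U : X.Opens) (k : ∀ x : Gen U, Mero.KStalk X x.1.1) :
    ∃ s : Γ(Mero.kmod X, U), ∀ x : Gen U, Mero.evalK X U x.1 s = k x := by
  classical
  have hmax : ∀ x : Gen U, IsMaxPt x.1.1 := fun x => isMaxPt_of_closure_mem x.2
  -- representatives
  have hrep : ∀ x : Gen U, ∃ (N₀ : X.Opens) (hx : x.1.1 ∈ N₀) (α₀ : Γ(X, N₀)),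
      algebraMap (X.presheaf.stalk x.1.1) (Mero.KStalk X x.1.1)
        (X.presheaf.germ N₀ x.1.1 hx α₀) = k x := by
    intro x
    obtain ⟨a, ha⟩ := (bijective_algebraMap_KStalk (hmax x)).2 (k x)
    obtain ⟨N₀, hx, α₀, hα⟩ := X.presheaf.exists_germ_eq a
    exact ⟨N₀, hx, α₀, by rw [hα, ha]⟩
  choose N₀ hxN₀ α₀ hα₀ using hrep
  -- the other components
  let C : Gen U → Set X := fun x =>
    ⋃₀ {Z | Z ∈ irreducibleComponents (X : Type u) ∧ Z ≠ closure ({x.1.1} : Set X)}
  have hCclosed : ∀ x, IsClosed (C x) := by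
    intro x
    change IsClosed (⋃₀ {Z | Z ∈ irreducibleComponents (X : Type u) ∧ Z ≠ closure ({x.1.1} : Set X)})
    rw [Set.sUnion_eq_biUnion]
    apply Set.Finite.isClosed_biUnion (hfin.subset (fun Z hZ => hZ.1))
    intro Z hZ
    exact isClosed_of_mem_irreducibleComponents Z hZ.1
  have hxC : ∀ x : Gen U, x.1.1 ∉ C x := by
    rintro x ⟨Z, ⟨hZ, hne⟩, hxZ⟩
    apply hne
    have hcl : IsClosed Z := isClosed_of_mem_irreducibleComponents Z hZ
    have h1 : closure ({x.1.1} : Set X) ⊆ Z :=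
      hcl.closure_subset_iff.2 (Set.singleton_subset_iff.2 hxZ)
    exact le_antisymm (x.2.2 hZ.1 h1) h1
  let N : Gen U → X.Opens := fun x => (N₀ x ⊓ U) ⊓ ⟨(C x)ᶜ, (hCclosed x).isOpen_compl⟩
  have hxN : ∀ x : Gen U, x.1.1 ∈ N x := fun x => ⟨⟨hxN₀ x, x.1.2⟩, hxC x⟩
  have hNN₀ : ∀ x, N x ≤ N₀ x := fun x => inf_le_left.trans inf_le_left
  have hNU : ∀ x, N x ≤ U := fun x => inf_le_left.trans inf_le_right
  have hdisj : ∀ x x' : Gen U, x ≠ x' → N x ⊓ N x' = ⊥ := by
    intro x x' hne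
    rw [eq_bot_iff]
    rintro y ⟨⟨-, hy1⟩, ⟨-, hy2⟩⟩
    exfalso
    apply hne
    have hZ := irreducibleComponent_mem_irreducibleComponents y
    have hyZ : y ∈ irreducibleComponent y := mem_irreducibleComponent
    have e1 : irreducibleComponent y = closure ({x.1.1} : Set X) := by
      by_contra hc
      exact hy1 ⟨_, ⟨hZ, hc⟩, hyZ⟩
    have e2 : irreducibleComponent y = closure ({x'.1.1} : Set X) := by
      by_contra hc
      exact hy2 ⟨_, ⟨hZ, hc⟩, hyZ⟩
    have e3 : closure ({x.1.1} : Set X) = closure ({x'.1.1} : Set X) := e1.symm.trans e2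
    have s1 : x.1.1 ⤳ x'.1.1 := specializes_iff_closure_subset.2 e3.symm.subset
    have s2 : x'.1.1 ⤳ x.1.1 := specializes_iff_closure_subset.2 e3.subset
    exact Subtype.ext (Subtype.ext (s1.antisymm s2).eq)
  -- glue
  let V : X.Opens := ⨆ x : Gen U, N x
  have hVU : V ≤ U := iSup_le hNU
  let α : ∀ x : Gen U, Γ(X, N x) := fun x => X.presheaf.map (homOfLE (hNN₀ x)).op (α₀ x)
  have hcompat : TopCat.Presheaf.IsCompatible X.presheaf N α := by
    intro x x'
    by_cases hxx : x = x'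
    · subst hxx
      rfl
    · have hb := hdisj x x' hxx
      haveI : Subsingleton Γ(X, N x ⊓ N x') := by
        rw [hb]; infer_instance
      exact Subsingleton.elim _ _
  obtain ⟨g, hg, -⟩ := X.sheaf.existsUnique_gluing' N V (fun x => homOfLE (le_iSup N x))
    le_rfl α hcompat
  have hg' : ∀ x : Gen U, X.presheaf.map (homOfLE (le_iSup N x)).op g = α x := hg
  -- schematic density
  have hV : ∀ W : X.Opens, W ≤ U →
      Function.Injective ⇑(X.presheaf.map (homOfLE (inf_le_left : W ⊓ V ≤ W)).op) := by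
    intro W hWU
    rw [injective_iff_map_eq_zero]
    intro a ha
    apply eq_zero_of_germ_maxPt
    intro ξ hξ hξmax
    let xξ : Gen U := ⟨⟨ξ, hWU hξ⟩, closure_mem_irreducibleComponents hξmax⟩
    have hξV : ξ ∈ V := (le_iSup N xξ) (hxN xξ)
    have := congrArg (X.presheaf.germ (W ⊓ V) ξ ⟨hξ, hξV⟩) ha
    rw [TopCat.Presheaf.germ_res_apply, map_zero] at this
    exact this
  obtain ⟨s, hs⟩ := exists_mero_ext
    (Or.inr ⟨inferInstance, fun x => ⟨⊤, trivial, hfin.subset (fun Z hZ => hZ.1)⟩⟩)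
    U V hVU hV g
  refine ⟨s, ?_⟩
  intro x
  have hxV : x.1.1 ∈ V := (le_iSup N x) (hxN x)
  have e1 : s.1 x.1 = (Mero.toK X V g).1 ⟨x.1.1, hxV⟩ := by
    rw [← hs]
    rfl
  change s.1 x.1 = k x
  rw [e1, Mero.toK_apply, ← hα₀ x]
  have e2 : X.presheaf.germ V x.1.1 hxV g = X.presheaf.germ (N₀ x) x.1.1 (hxN₀ x) (α₀ x) := by
    rw [← TopCat.Presheaf.germ_res_apply X.presheaf (homOfLE (le_iSup N x)) x.1.1 (hxN x) g,
      hg' x]
    exact TopCat.Presheaf.germ_res_apply X.presheaf (homOfLE (hNN₀ x)) x.1.1 (hxN x) (α₀ x)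
  rw [e2]
  rfl

end Groth.Agent.Helper23.MeroGen
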