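import Mathlib
import Groth.Prelude

/-!
# Milnor's lim¹ sequence for a tower of complexes of abelian groups with surjective transition maps
(helper23)
-/

set_option autoImplicit false
set_option linter.style.haveILetI false
universe u
open CategoryTheory CategoryTheory.Limits Opposite

namespace Groth.Agent.Helper23.Milnor

section Cx

variable (K L : HomologicalComplex AddCommGrpCat.{u} (ComplexShape.up ℤ)) (φ : K ⟶ L)

theorem exists_toCycles_eq (m n : ℤ) (hmn : m + 1 = n) (z : K.cycles n)
    (hz : (K.homologyπ n).hom z = 0) : ∃ y : K.X m, (K.toCycles m n).hom y = z := by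
  have hprev : (ComplexShape.up ℤ).prev n = m := by
    rw [ComplexShape.prev_eq' _ (show (ComplexShape.up ℤ).Rel m n from hmn)]
  have hex := ShortComplex.exact_of_g_is_cokernel
    (ShortComplex.mk (K.toCycles m n) (K.homologyπ n) (K.toCycles_comp_homologyπ m n))
    (K.homologyIsCokernel m n hprev)
  rw [ShortComplex.ab_exact_iff] at hex
  exact hex z hz

theorem homologyπ_toCycles (m n : ℤ) (y : K.X m) :
    (K.homologyπ n).hom ((K.toCycles m n).hom y) = 0 :=
  ConcreteCategory.congr_hom (K.toCycles_comp_homologyπ m n) y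

theorem homologyπ_surjective (n : ℤ) : Function.Surjective (K.homologyπ n).hom := by
  rw [← AddCommGrpCat.epi_iff_surjective]
  infer_instance

theorem iCycles_injective (n : ℤ) : Function.Injective (K.iCycles n).hom := by
  rw [← AddCommGrpCat.mono_iff_injective]
  infer_instance

theorem exists_iCycles_eq (n n' : ℤ) (hn : n + 1 = n') (x : K.X n) (hx : (K.d n n').hom x = 0) :
    ∃ z : K.cycles n, (K.iCycles n).hom z = x := by
  have hnext : (ComplexShape.up ℤ).next n = n' := by
    rw [ComplexShape.next_eq' _ (show (ComplexShape.up ℤ).Rel n n' from hn)]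
  have hex := ShortComplex.exact_of_f_is_kernel
    (ShortComplex.mk (K.iCycles n) (K.d n n') (K.iCycles_d n n'))
    (K.cyclesIsKernel n n' hnext)
  rw [ShortComplex.ab_exact_iff] at hex
  exact hex x hx

theorem d_iCycles (n n' : ℤ) (z : K.cycles n) : (K.d n n').hom ((K.iCycles n).hom z) = 0 :=
  ConcreteCategory.congr_hom (K.iCycles_d n n') z

theorem d_d_apply (a b c : ℤ) (x : K.X a) : (K.d b c).hom ((K.d a b).hom x) = 0 :=
  ConcreteCategory.congr_hom (K.d_comp_d a b c) x

theorem iCycles_toCycles (m n : ℤ) (y : K.X m) :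
    (K.iCycles n).hom ((K.toCycles m n).hom y) = (K.d m n).hom y :=
  ConcreteCategory.congr_hom (K.toCycles_i m n) y

variable {K L}

theorem comm_apply (m n : ℤ) (y : K.X m) :
    (L.d m n).hom ((φ.f m).hom y) = (φ.f n).hom ((K.d m n).hom y) :=
  ConcreteCategory.congr_hom (φ.comm m n) y

theorem iCycles_cyclesMap (n : ℤ) (z : K.cycles n) :
    (L.iCycles n).hom ((HomologicalComplex.cyclesMap φ n).hom z) =
      (φ.f n).hom ((K.iCycles n).hom z) :=
  ConcreteCategory.congr_hom (HomologicalComplex.cyclesMap_i φ n) z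

theorem homologyMap_homologyπ (n : ℤ) (z : K.cycles n) :
    (HomologicalComplex.homologyMap φ n).hom ((K.homologyπ n).hom z) =
      (L.homologyπ n).hom ((HomologicalComplex.cyclesMap φ n).hom z) :=
  ConcreteCategory.congr_hom (HomologicalComplex.homologyπ_naturality φ n) z

theorem cyclesMap_toCycles (m n : ℤ) (y : K.X m) :
    (HomologicalComplex.cyclesMap φ n).hom ((K.toCycles m n).hom y) =
      (L.toCycles m n).hom ((φ.f m).hom y) := by
  apply iCycles_injective L n
  rw [iCycles_cyclesMap, iCycles_toCycles, iCycles_toCycles]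
  exact (ConcreteCategory.congr_hom (φ.comm m n) y).symm

end Cx

section Lim

variable (K : ℕᵒᵖ ⥤ HomologicalComplex AddCommGrpCat.{u} (ComplexShape.up ℤ))

/-- the transition map of the tower. -/
noncomputable abbrev tr (n : ℕ) : K.obj (op (n + 1)) ⟶ K.obj (op n) :=
  K.map (homOfLE (Nat.le_succ n)).op

/-- the projection of the limit. -/
noncomputable abbrev pr (n : ℕ) : limit K ⟶ K.obj (op n) := limit.π K (op n)

theorem pr_tr (n : ℕ) : pr K (n + 1) ≫ tr K n = pr K n := limit.w K _

theorem tr_pr_apply (n : ℕ) (j : ℤ) (x : (limit K).X j) :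
    ((tr K n).f j).hom (((pr K (n + 1)).f j).hom x) = ((pr K n).f j).hom x := by
  have h := congrArg (fun φ : limit K ⟶ K.obj (op n) => (φ.f j).hom x) (pr_tr K n)
  exact h

/-- elements of the limit complex are determined by their projections. -/
theorem limit_X_ext (q : ℤ) (x y : (limit K).X q)
    (h : ∀ n, ((pr K n).f q).hom x = ((pr K n).f q).hom y) : x = y := by
  let e := preservesLimitIso (HomologicalComplex.eval AddCommGrpCat (ComplexShape.up ℤ) q) K
  have hinj : Function.Injective e.hom.hom := by
    rw [← AddCommGrpCat.mono_iff_injective]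
    infer_instance
  apply hinj
  apply Concrete.limit_ext
  intro j
  have h1 := preservesLimitIso_hom_π
    (HomologicalComplex.eval AddCommGrpCat (ComplexShape.up ℤ) q) K j
  have h2 := ConcreteCategory.congr_hom h1 x
  have h3 := ConcreteCategory.congr_hom h1 y
  show (e.hom ≫ limit.π _ j).hom x = (e.hom ≫ limit.π _ j).hom y
  exact h2.trans ((h j.unop).trans h3.symm)

theorem map_eq_of_succ (q : ℤ) (x : ∀ n, (K.obj (op n)).X q)
    (hx : ∀ n, ((tr K n).f q).hom (x (n + 1)) = x n) :
    ∀ ⦃j j' : ℕᵒᵖ⦄ (f : j ⟶ j'), ((K.map f).f q).hom (x j.unop) = x j'.unop := by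
  intro j j' f
  obtain ⟨m⟩ := j
  obtain ⟨n⟩ := j'
  have hnm : n ≤ m := leOfHom f.unop
  obtain rfl : f = (homOfLE hnm).op := Subsingleton.elim _ _
  induction m, hnm using Nat.le_induction with
  | base =>
    have : (homOfLE (le_refl n)).op = 𝟙 (op n) := Subsingleton.elim _ _
    rw [this, K.map_id]; rfl
  | succ m hnm ih =>
    have : (homOfLE (Nat.le_succ_of_le hnm)).op =
        (homOfLE (Nat.le_succ m)).op ≫ (homOfLE hnm).op := Subsingleton.elim _ _
    rw [this, K.map_comp]
    show ((K.map (homOfLE hnm).op).f q).hom (((tr K m).f q).hom (x (m + 1))) = x n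
    rw [hx m]
    exact ih

/-- compatible families give elements of the limit complex. -/
theorem exists_limit_X (q : ℤ) (x : ∀ n, (K.obj (op n)).X q)
    (hx : ∀ n, ((tr K n).f q).hom (x (n + 1)) = x n) :
    ∃ y : (limit K).X q, ∀ n, ((pr K n).f q).hom y = x n := by
  let F := K ⋙ HomologicalComplex.eval AddCommGrpCat (ComplexShape.up ℤ) q
  let e := preservesLimitIso (HomologicalComplex.eval AddCommGrpCat (ComplexShape.up ℤ) q) K
  let sb : (F ⋙ forget AddCommGrpCat).sections :=
    ⟨fun j => x j.unop, fun {j j'} f => map_eq_of_succ K q x hx f⟩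
  let z : (limit F : AddCommGrpCat) := (preservesLimitIso (forget AddCommGrpCat) F).inv
    ((Types.limitEquivSections (F ⋙ forget _)).symm sb)
  have hz : ∀ j, (limit.π F j).hom z = x j.unop := by
    intro j
    have h1 := ConcreteCategory.congr_hom
      (preservesLimitIso_inv_π (forget AddCommGrpCat) F j)
      ((Types.limitEquivSections (F ⋙ forget _)).symm sb)
    rw [Types.limitEquivSections_symm_apply] at h1
    exact h1
  refine ⟨e.inv.hom z, fun n => ?_⟩
  have h1 := preservesLimitIso_inv_π
    (HomologicalComplex.eval AddCommGrpCat (ComplexShape.up ℤ) q) K (op n)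
  have h2 := ConcreteCategory.congr_hom h1 z
  show (e.inv ≫ (HomologicalComplex.eval AddCommGrpCat (ComplexShape.up ℤ) q).map
    (limit.π K (op n))).hom z = x n
  exact h2.trans (hz (op n))

end Lim

section Alg

theorem towerDiff_surjective (G : ℕ → Type u) [∀ n, AddCommGroup (G n)] (t : ∀ n, G (n + 1) →+ G n)
    (ht : ∀ n, Function.Surjective (t n)) : Function.Surjective (Formal2.towerDiff G t) := by
  intro y
  choose s hs using ht
  let w : ∀ n, G n := fun n => Nat.rec (motive := G) 0 (fun n wn => s n (wn - y n)) n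
  refine ⟨w, ?_⟩
  ext n
  show w n - t n (w (n + 1)) = y n
  have : w (n + 1) = s n (w n - y n) := rfl
  rw [this, hs]
  abel

theorem exists_lift_hom {E Z P : Type*} [AddCommGroup E] [AddCommGroup Z] [AddCommGroup P]
    (ι : Z →+ P) (hι : Function.Injective ι) (f : E →+ P) (hf : ∀ w, f w ∈ ι.range) :
    ∃ g : E →+ Z, ∀ w, ι (g w) = f w := by
  refine ⟨(AddMonoidHom.ofInjective hι).symm.toAddMonoidHom.comp (f.codRestrict ι.range hf),
    fun w => ?_⟩
  have h := (AddMonoidHom.ofInjective hι).apply_symm_apply (f.codRestrict ι.range hf w)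
  have h2 := congrArg Subtype.val h
  rw [AddMonoidHom.ofInjective_apply] at h2
  exact h2

end Alg

section Main

variable (K : ℕᵒᵖ ⥤ HomologicalComplex AddCommGrpCat.{u} (ComplexShape.up ℤ))

/-- the product of the degree `j` terms. -/
abbrev PX (j : ℤ) : Type u := ∀ n : ℕ, (K.obj (op n)).X j

/-- the product of the degree `j` cycles. -/
abbrev PZ (j : ℤ) : Type u := ∀ n : ℕ, (K.obj (op n)).cycles j

/-- the product of the degree `j` homologies. -/
abbrev PH (j : ℤ) : Type u := ∀ n : ℕ, (K.obj (op n)).homology j

/-- the transition maps in degree `j`. -/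
noncomputable abbrev tX (j : ℤ) (n : ℕ) : (K.obj (op (n + 1))).X j →+ (K.obj (op n)).X j :=
  ((tr K n).f j).hom

/-- the transition maps on homology. -/
noncomputable abbrev tH (j : ℤ) (n : ℕ) :
    (K.obj (op (n + 1))).homology j →+ (K.obj (op n)).homology j :=
  (HomologicalComplex.homologyMap (tr K n) j).hom

/-- componentwise differential. -/
noncomputable def dP (i j : ℤ) : PX K i →+ PX K j where
  toFun w n := ((K.obj (op n)).d i j).hom (w n)
  map_zero' := by ext n; simp
  map_add' x y := by ext n; simp

/-- the family of projections. -/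
noncomputable def piPr (j : ℤ) : (limit K).X j →+ PX K j where
  toFun x n := ((pr K n).f j).hom x
  map_zero' := by ext n; simp
  map_add' x y := by ext n; simp

/-- componentwise inclusion of cycles. -/
noncomputable def piI (j : ℤ) : PZ K j →+ PX K j where
  toFun c n := ((K.obj (op n)).iCycles j).hom (c n)
  map_zero' := by ext n; simp
  map_add' x y := by ext n; simp

/-- componentwise homology class. -/
noncomputable def piH (j : ℤ) : PZ K j →+ PH K j where
  toFun c n := ((K.obj (op n)).homologyπ j).hom (c n)
  map_zero' := by ext n; simp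
  map_add' x y := by ext n; simp

theorem piI_injective (j : ℤ) : Function.Injective (piI K j) := by
  intro c c' h
  ext n
  exact iCycles_injective _ j (congrFun h n)

theorem piPr_injective (j : ℤ) : Function.Injective (piPr K j) := by
  intro x y h
  exact limit_X_ext K j x y (fun n => congrFun h n)

theorem ker_post_iff (p : ℤ)
    (ξ : ((HomologicalComplex.homologyFunctor AddCommGrpCat.{u} (ComplexShape.up ℤ) p).obj
      (limit K) : AddCommGrpCat.{u})) :
    (limit.post K (HomologicalComplex.homologyFunctor _ _ p)).hom ξ = 0 ↔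
      ∀ n, (HomologicalComplex.homologyMap (pr K n) p).hom ξ = 0 := by
  constructor
  · intro h n
    have h1 := ConcreteCategory.congr_hom
      (limit.post_π K (HomologicalComplex.homologyFunctor _ _ p) (op n)) ξ
    refine h1.symm.trans ?_
    show (limit.π (K ⋙ HomologicalComplex.homologyFunctor _ _ p) (op n)).hom
      ((limit.post K (HomologicalComplex.homologyFunctor _ _ p)).hom ξ) = 0
    rw [h, map_zero]
  · intro h
    apply Concrete.limit_ext
    intro j
    have h1 := ConcreteCategory.congr_hom
      (limit.post_π K (HomologicalComplex.homologyFunctor _ _ p) j) ξ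
    have h2 : (limit.π (K ⋙ HomologicalComplex.homologyFunctor _ _ p) j).hom
        ((limit.post K (HomologicalComplex.homologyFunctor _ _ p)).hom ξ) = 0 :=
      h1.trans (h j.unop)
    rw [map_zero]
    exact h2

theorem post_surjective (hK : ∀ (n : ℕ) (q : ℤ), Function.Surjective ((tr K n).f q).hom)
    (p q : ℤ) (hqp : q + 1 = p) :
    Function.Surjective (limit.post K (HomologicalComplex.homologyFunctor _ _ p)).hom := by
  intro ξ
  let H := HomologicalComplex.homologyFunctor AddCommGrpCat.{u} (ComplexShape.up ℤ) p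
  let ξn : ∀ n, (K.obj (op n)).homology p := fun n => (limit.π (K ⋙ H) (op n)).hom ξ
  have hcomp : ∀ n, (tH K p n) (ξn (n + 1)) = ξn n := by
    intro n
    exact ConcreteCategory.congr_hom (limit.w (K ⋙ H) (homOfLE (Nat.le_succ n)).op) ξ
  choose c0 hc0 using fun n => homologyπ_surjective (K.obj (op n)) p (ξn n)
  have hb : ∀ n, ∃ b : (K.obj (op n)).X q, ((K.obj (op n)).toCycles q p).hom b =
      (HomologicalComplex.cyclesMap (tr K n) p).hom (c0 (n + 1)) - c0 n := by
    intro n
    apply exists_toCycles_eq _ q p hqp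
    rw [map_sub, ← homologyMap_homologyπ, hc0, hc0]
    show tH K p n (ξn (n + 1)) - ξn n = 0
    rw [hcomp, sub_self]
  choose b hb using hb
  choose s hs using fun n => hK n q
  let e : ∀ n, (K.obj (op n)).X q := fun n =>
    Nat.rec (motive := fun n => (K.obj (op n)).X q) 0 (fun n en => s n (en - b n)) n
  have he : ∀ n, (tX K q n) (e (n + 1)) = e n - b n := fun n => hs n _
  let c : ∀ n, (K.obj (op n)).cycles p :=
    fun n => c0 n + ((K.obj (op n)).toCycles q p).hom (e n)
  have hc : ∀ n, (HomologicalComplex.cyclesMap (tr K n) p).hom (c (n + 1)) = c n := by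
    intro n
    show (HomologicalComplex.cyclesMap (tr K n) p).hom
      (c0 (n + 1) + ((K.obj (op (n + 1))).toCycles q p).hom (e (n + 1))) =
      c0 n + ((K.obj (op n)).toCycles q p).hom (e n)
    rw [map_add, cyclesMap_toCycles]
    rw [show ((tr K n).f q).hom (e (n + 1)) = e n - b n from he n, map_sub, hb]
    abel
  have hcξ : ∀ n, ((K.obj (op n)).homologyπ p).hom (c n) = ξn n := by
    intro n
    show ((K.obj (op n)).homologyπ p).hom (c0 n + ((K.obj (op n)).toCycles q p).hom (e n)) = ξn n
    rw [map_add, homologyπ_toCycles, add_zero, hc0]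
  obtain ⟨z, hz⟩ := exists_limit_X K p (fun n => ((K.obj (op n)).iCycles p).hom (c n))
    (fun n => by rw [← iCycles_cyclesMap, hc])
  have hdz : ((limit K).d p (p + 1)).hom z = 0 := by
    apply limit_X_ext K (p + 1)
    intro n
    rw [map_zero, ← comm_apply, hz, d_iCycles]
  obtain ⟨ζ, hζ⟩ := exists_iCycles_eq (limit K) p (p + 1) rfl z hdz
  refine ⟨((limit K).homologyπ p).hom ζ, ?_⟩
  apply Concrete.limit_ext
  intro j
  have h1 := ConcreteCategory.congr_hom (limit.post_π K H j) (((limit K).homologyπ p).hom ζ)
  refine h1.trans ?_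
  show (HomologicalComplex.homologyMap (pr K j.unop) p).hom (((limit K).homologyπ p).hom ζ) =
    ξn j.unop
  rw [homologyMap_homologyπ, ← hcξ]
  congr 1
  apply iCycles_injective
  rw [iCycles_cyclesMap, hζ, hz]

/-- the tower difference on the degree `j` terms. -/
noncomputable abbrev DX (j : ℤ) : PX K j →+ PX K j :=
  Formal2.towerDiff (fun n => (K.obj (op n)).X j) (tX K j)

/-- the tower difference on the degree `j` homology. -/
noncomputable abbrev DH (j : ℤ) : PH K j →+ PH K j :=
  Formal2.towerDiff (fun n => (K.obj (op n)).homology j) (tH K j)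

/-- families whose tower difference consists of cycles. -/
noncomputable def EE (q p : ℤ) : AddSubgroup (PX K q) := ((dP K q p).comp (DX K q)).ker

theorem mem_EE (q p : ℤ) (w : PX K q) : w ∈ EE K q p ↔
    ∀ n, ((K.obj (op n)).d q p).hom (w n - tX K q n (w (n + 1))) = 0 := by
  rw [EE, AddMonoidHom.mem_ker]
  constructor
  · intro h n
    exact congrFun h n
  · intro h
    ext n
    exact h n

theorem ker_equiv_limOne (hK : ∀ (n : ℕ) (q : ℤ), Function.Surjective ((tr K n).f q).hom)
    (p q : ℤ) (hqp : q + 1 = p) :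
    Nonempty ((limit.post K (HomologicalComplex.homologyFunctor _ _ p)).hom.ker ≃+
      Formal2.limOne (fun n => (K.obj (op n)).homology q)
        (fun n => (HomologicalComplex.homologyMap (tr K n) q).hom)) := by
  -- the lift to cycles of the limit
  obtain ⟨ι, hιdef⟩ : ∃ ι : (limit K).cycles p →+ PX K p,
      ∀ ζ n, ι ζ n = ((pr K n).f p).hom (((limit K).iCycles p).hom ζ) :=
    ⟨(piPr K p).comp ((limit K).iCycles p).hom, fun _ _ => rfl⟩
  have hι : Function.Injective ι := by
    intro ζ ζ' h
    apply iCycles_injective (limit K) p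
    apply limit_X_ext K p
    intro n
    rw [← hιdef, ← hιdef, h]
  obtain ⟨f, hfdef⟩ : ∃ f : EE K q p →+ PX K p,
      ∀ w n, f w n = ((K.obj (op n)).d q p).hom (w.1 n) :=
    ⟨(dP K q p).comp (EE K q p).subtype, fun _ _ => rfl⟩
  have hf : ∀ w, f w ∈ ι.range := by
    intro w
    have hw := (mem_EE K q p w.1).1 w.2
    obtain ⟨z, hz⟩ := exists_limit_X K p (fun n => ((K.obj (op n)).d q p).hom (w.1 n)) (by
      intro n
      have h1 := hw n
      rw [map_sub, sub_eq_zero] at h1
      rw [h1, comm_apply])
    have hdz : ((limit K).d p (p + 1)).hom z = 0 := by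
      apply limit_X_ext K (p + 1)
      intro n
      rw [map_zero, ← comm_apply, hz, d_d_apply]
    obtain ⟨ζ, hζ⟩ := exists_iCycles_eq (limit K) p (p + 1) rfl z hdz
    refine ⟨ζ, ?_⟩
    ext n
    rw [hιdef, hζ, hz, hfdef]
  obtain ⟨g, hg⟩ := exists_lift_hom ι hι f hf
  have hg' : ∀ w n, ((pr K n).f p).hom (((limit K).iCycles p).hom (g w)) =
      ((K.obj (op n)).d q p).hom (w.1 n) := by
    intro w n
    rw [← hιdef, hg, hfdef]
  -- the lift to cycles of the tower difference
  obtain ⟨fZ, hfZdef⟩ : ∃ fZ : EE K q p →+ PX K q,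
      ∀ w n, fZ w n = w.1 n - tX K q n (w.1 (n + 1)) :=
    ⟨(DX K q).comp (EE K q p).subtype, fun _ _ => rfl⟩
  have hfZ : ∀ w, fZ w ∈ (piI K q).range := by
    intro w
    have hw := (mem_EE K q p w.1).1 w.2
    choose c hc using fun n => exists_iCycles_eq (K.obj (op n)) q p hqp _ (hw n)
    refine ⟨c, ?_⟩
    ext n
    rw [hfZdef]
    exact hc n
  obtain ⟨gZ, hgZ⟩ := exists_lift_hom (piI K q) (piI_injective K q) fZ hfZ
  have hgZ' : ∀ w n, ((K.obj (op n)).iCycles q).hom (gZ w n) =
      w.1 n - tX K q n (w.1 (n + 1)) := by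
    intro w n
    rw [← hfZdef, ← hgZ]
    rfl
  obtain ⟨α, hα⟩ : ∃ α : EE K q p →+
      ((HomologicalComplex.homologyFunctor AddCommGrpCat.{u} (ComplexShape.up ℤ) p).obj
        (limit K) : AddCommGrpCat.{u}),
      ∀ w, α w = ((limit K).homologyπ p).hom (g w) :=
    ⟨((limit K).homologyπ p).hom.comp g, fun _ => rfl⟩
  obtain ⟨β, hβ⟩ : ∃ β : EE K q p →+ PH K q,
      ∀ w n, β w n = ((K.obj (op n)).homologyπ q).hom (gZ w n) :=
    ⟨(piH K q).comp gZ, fun _ _ => rfl⟩
  -- (A)
  have hA : α.range = (limit.post K (HomologicalComplex.homologyFunctor _ _ p)).hom.ker := by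
    ext x
    constructor
    · rintro ⟨w, rfl⟩
      rw [AddMonoidHom.mem_ker, ker_post_iff]
      intro n
      rw [hα, homologyMap_homologyπ]
      have : (HomologicalComplex.cyclesMap (pr K n) p).hom (g w) =
          ((K.obj (op n)).toCycles q p).hom (w.1 n) := by
        apply iCycles_injective
        rw [iCycles_cyclesMap, iCycles_toCycles, hg']
      rw [this, homologyπ_toCycles]
    · intro hx
      rw [AddMonoidHom.mem_ker, ker_post_iff] at hx
      obtain ⟨ζ, rfl⟩ := homologyπ_surjective (limit K) p x
      have hb : ∀ n, ∃ b : (K.obj (op n)).X q, ((K.obj (op n)).toCycles q p).hom b =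
          (HomologicalComplex.cyclesMap (pr K n) p).hom ζ := fun n =>
        exists_toCycles_eq _ q p hqp _ (by rw [← homologyMap_homologyπ]; exact hx n)
      choose b hb using hb
      have hdb : ∀ n, ((K.obj (op n)).d q p).hom (b n) =
          ((pr K n).f p).hom (((limit K).iCycles p).hom ζ) := by
        intro n
        rw [← iCycles_toCycles, hb, iCycles_cyclesMap]
      have hbE : b ∈ EE K q p := by
        rw [mem_EE]
        intro n
        rw [map_sub, comm_apply, hdb, hdb, tr_pr_apply, sub_self]
      refine ⟨⟨b, hbE⟩, ?_⟩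
      rw [hα]
      congr 1
      apply hι
      rw [hg]
      ext n
      rw [hfdef, hιdef]
      exact hdb n
  -- (B)
  have hB : Function.Surjective β := by
    intro η
    choose c hc using fun n => homologyπ_surjective (K.obj (op n)) q (η n)
    obtain ⟨w, hw⟩ := towerDiff_surjective _ (tX K q) (fun n => hK n q) (piI K q c)
    have hw' : ∀ n, w n - tX K q n (w (n + 1)) = ((K.obj (op n)).iCycles q).hom (c n) :=
      fun n => congrFun hw n
    have hwE : w ∈ EE K q p := by
      rw [mem_EE]
      intro n
      rw [hw', d_iCycles]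
    refine ⟨⟨w, hwE⟩, ?_⟩
    have h1 : gZ ⟨w, hwE⟩ = c := by
      apply piI_injective K q
      ext n
      exact (hgZ' ⟨w, hwE⟩ n).trans (hw' n)
    ext n
    rw [hβ, h1]
    exact hc n
  -- (C)
  let R : AddSubgroup (PH K q) := (DH K q).range
  let γ : EE K q p →+ PH K q ⧸ R := (QuotientAddGroup.mk' R).comp β
  have hγ : Function.Surjective γ := (QuotientAddGroup.mk'_surjective R).comp hB
  have hC : α.ker = γ.ker := by
    ext w
    rw [AddMonoidHom.mem_ker, AddMonoidHom.mem_ker, hα]
    show _ ↔ (QuotientAddGroup.mk' R) (β w) = 0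
    rw [QuotientAddGroup.mk'_apply, QuotientAddGroup.eq_zero_iff]
    constructor
    · intro h
      obtain ⟨v, hv⟩ := exists_toCycles_eq (limit K) q p hqp (g w) h
      have hdv : ∀ n, ((K.obj (op n)).d q p).hom (((pr K n).f q).hom v) =
          ((K.obj (op n)).d q p).hom (w.1 n) := by
        intro n
        rw [comm_apply, ← iCycles_toCycles, hv, hg']
      have hc : ∀ n, ∃ c : (K.obj (op n)).cycles q, ((K.obj (op n)).iCycles q).hom c =
          w.1 n - ((pr K n).f q).hom v := fun n =>
        exists_iCycles_eq _ q p hqp _ (by rw [map_sub, hdv, sub_self])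
      choose c hc using hc
      refine ⟨fun n => ((K.obj (op n)).homologyπ q).hom (c n), ?_⟩
      ext n
      rw [hβ]
      show ((K.obj (op n)).homologyπ q).hom (c n) -
        (HomologicalComplex.homologyMap (tr K n) q).hom
          (((K.obj (op (n + 1))).homologyπ q).hom (c (n + 1))) = _
      rw [homologyMap_homologyπ, ← map_sub]
      congr 1
      apply iCycles_injective
      rw [map_sub, iCycles_cyclesMap, hc, hc, map_sub, tr_pr_apply, hgZ']
      show _ = w.1 n - ((tr K n).f q).hom (w.1 (n + 1))
      abel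
    · rintro ⟨η, hη⟩
      choose c hc using fun n => homologyπ_surjective (K.obj (op n)) q (η n)
      have hη' : ∀ n, η n - (HomologicalComplex.homologyMap (tr K n) q).hom (η (n + 1)) =
          ((K.obj (op n)).homologyπ q).hom (gZ w n) := by
        intro n
        rw [← hβ, ← hη]
        rfl
      have ha : ∀ n, ∃ a : (K.obj (op n)).X (q - 1), ((K.obj (op n)).toCycles (q - 1) q).hom a =
          gZ w n - (c n - (HomologicalComplex.cyclesMap (tr K n) q).hom (c (n + 1))) := by
        intro n
        apply exists_toCycles_eq _ (q - 1) q (by ring)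
        rw [map_sub, map_sub, ← homologyMap_homologyπ, hc, hc, hη', sub_self]
      choose a ha using ha
      obtain ⟨a', ha'⟩ := towerDiff_surjective _ (tX K (q - 1)) (fun n => hK n (q - 1)) a
      have ha'' : ∀ n, a' n - tX K (q - 1) n (a' (n + 1)) = a n := fun n => congrFun ha' n
      have hda : ∀ n, ((K.obj (op n)).d (q - 1) q).hom (a n) =
          (w.1 n - tX K q n (w.1 (n + 1))) - (((K.obj (op n)).iCycles q).hom (c n) -
            tX K q n (((K.obj (op (n + 1))).iCycles q).hom (c (n + 1)))) := by
        intro n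
        rw [← iCycles_toCycles, ha, map_sub, map_sub, iCycles_cyclesMap, hgZ']
      obtain ⟨v, hv⟩ := exists_limit_X K q
        (fun n => w.1 n - ((K.obj (op n)).iCycles q).hom (c n) -
          ((K.obj (op n)).d (q - 1) q).hom (a' n)) (by
        intro n
        have h1 := hda n
        rw [← ha'', map_sub] at h1
        rw [map_sub, map_sub, ← comm_apply]
        have h2 : ∀ x y z x' y' z' : (K.obj (op n)).X q, x - z = (y - y') - (x' - z') →
            y' - z' - z = y - x' - x := by
          intro x y z x' y' z' h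
          have : x = (y - y') - (x' - z') + z := by rw [← h]; abel
          rw [this]; abel
        exact h2 _ _ _ _ _ _ h1)
      have : g w = ((limit K).toCycles q p).hom v := by
        apply hι
        ext n
        rw [hιdef, hιdef, hg', iCycles_toCycles, ← comm_apply, hv, map_sub, map_sub, d_iCycles,
          d_d_apply, sub_zero, sub_zero]
      rw [this, homologyπ_toCycles]
      rfl
  exact ⟨(AddEquiv.addSubgroupCongr hA.symm).trans
    ((QuotientAddGroup.quotientKerEquivRange α).symm.trans
      ((QuotientAddGroup.quotientAddEquivOfEq hC).trans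
        (QuotientAddGroup.quotientKerEquivOfSurjective γ hγ)))⟩

end Main

end Groth.Agent.Helper23.Milnor
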