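import Groth.Agent.Lib.Helper23.NeutMul
import Groth.Agent.Lib.Helper4.ConnCompImage
import Groth.Agent.Lib.Helper4.GrpAff

/-!
# Neutral components commute with base change (SGA 3 VI_B)
-/

set_option autoImplicit false
set_option linter.style.haveILetI false
universe u
open CategoryTheory CategoryTheory.Limits AlgebraicGeometry MonoidalCategory CartesianMonoidalCategory
  MonObj GrpObj

namespace Groth.Agent.Lib.Helper23.NeutBC

open Groth.Agent.Lib.Helper23.NeutMul
open scoped CategoryTheory.Obj

section BC

variable {S S' : Scheme.{u}} (f : S' ⟶ S) (G : Over S) [GrpObj G]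

/-- the unit section of the base change is the pullback of the unit section -/
theorem isPullback_unit :
    IsPullback (η[Red.bc f G].left : S' ⟶ (Red.bc f G).left) f (pullback.fst G.hom f)
      (η[G].left : S ⟶ G.left) := by
  have hright : IsPullback (pullback.snd G.hom f) (pullback.fst G.hom f) f G.hom :=
    (IsPullback.of_hasPullback G.hom f).flip
  have h1 : (η[Red.bc f G].left : S' ⟶ (Red.bc f G).left) ≫ pullback.snd G.hom f = 𝟙 S' :=
    Over.w η[Red.bc f G]
  have h2 : (η[G].left : S ⟶ G.left) ≫ G.hom = 𝟙 S := Over.w η[G]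
  refine IsPullback.of_right ?_ (Groth.Agent.Helper16.GrpIrr.unit_baseChange_fst f G) hright
  rw [h1, h2]
  exact IsPullback.id_horiz f

/-- a point of the base change lying over the unit section is on the unit section -/
theorem eq_unit_of_fst_eq (y' : (Red.bc f G).left) (t : S)
    (h : (pullback.fst G.hom f) y' = (η[G].left : S ⟶ G.left) t) :
    y' = (η[Red.bc f G].left : S' ⟶ (Red.bc f G).left) ((pullback.snd G.hom f) y') := by
  have hpb := isPullback_unit f G
  obtain ⟨w, hw1, hw2⟩ := Scheme.Pullback.exists_preimage_pullback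
    (f := pullback.fst G.hom f) (g := (η[G].left : S ⟶ G.left)) y' t h
  have h3 : (η[Red.bc f G].left : S' ⟶ (Red.bc f G).left) (hpb.isoPullback.inv w) = y' := by
    rw [← Scheme.Hom.comp_apply, hpb.isoPullback_inv_fst]
    exact hw1
  have h4 : (pullback.snd G.hom f) y' = hpb.isoPullback.inv w := by
    rw [← h3, ← Scheme.Hom.comp_apply]
    have : (η[Red.bc f G].left : S' ⟶ (Red.bc f G).left) ≫ pullback.snd G.hom f = 𝟙 S' :=
      Over.w η[Red.bc f G]
    rw [this]
    rfl
  rw [h4, h3]

/-- the map between fibres induced by base change -/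
noncomputable def fibMap (s' : S') :
    (pullback.snd G.hom f).fiber s' ⟶ G.hom.fiber (f s') :=
  pullback.map _ _ _ _ (pullback.fst G.hom f) (Spec.map (f.residueFieldMap s')) f
    (IsPullback.of_hasPullback G.hom f).w.symm (by simp)

theorem fibMap_fiberι (s' : S') :
    fibMap f G s' ≫ G.hom.fiberι (f s') =
      (pullback.snd G.hom f).fiberι s' ≫ pullback.fst G.hom f :=
  pullback.lift_fst _ _ _

theorem isPullback_fibMap (s' : S') :
    IsPullback (fibMap f G s') ((pullback.snd G.hom f).fiberToSpecResidueField s')
      (G.hom.fiberToSpecResidueField (f s')) (Spec.map (f.residueFieldMap s')) :=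
  isPullback_fiberToSpecResidueField_of_isPullback (IsPullback.of_hasPullback G.hom f) s'

/-- images of connected components under the map between fibres -/
theorem fibMap_image_cc (s' : S') (w : (pullback.snd G.hom f).fiber s') :
    (fibMap f G s') '' connectedComponent w = connectedComponent ((fibMap f G s') w) := by
  letI alg : Algebra (S.residueField (f s')) (S'.residueField s') :=
    (f.residueFieldMap s').hom.toAlgebra
  have hpb : IsPullback (fibMap f G s') ((pullback.snd G.hom f).fiberToSpecResidueField s')
      (G.hom.fiberToSpecResidueField (f s'))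
      (Groth.Agent.Helper4.BCTower.yK (k := S.residueField (f s')) (S'.residueField s')) :=
    isPullback_fibMap f G s'
  have h1 := Groth.Agent.Helper4.ConnCompImage.image_connectedComponent
    (k := S.residueField (f s')) (G.hom.fiberToSpecResidueField (f s')) (S'.residueField s')
    (hpb.isoPullback.hom w)
  have h2 := Groth.Agent.Helper4.GrpAff.homeomorph_image_cc
    (Scheme.homeoOfIso hpb.isoPullback) w
  have h3 : ∀ z, (pullback.fst (G.hom.fiberToSpecResidueField (f s'))
      (Groth.Agent.Helper4.BCTower.yK (k := S.residueField (f s')) (S'.residueField s')))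
      (hpb.isoPullback.hom z) = (fibMap f G s') z := by
    intro z
    rw [← Scheme.Hom.comp_apply, hpb.isoPullback_hom_fst]
  rw [← h3 w, ← h1]
  have h4 : (Scheme.homeoOfIso hpb.isoPullback : _ → _) = hpb.isoPullback.hom := rfl
  rw [h4] at h2
  rw [← h2, Set.image_image]
  exact Set.image_congr fun z _ => (h3 z).symm

end BC

section Main

variable {S S' : Scheme.{u}} (f : S' ⟶ S) (G : Over S) [GrpObj G]

/-- membership in the neutral set, pointwise -/
theorem mem_neutralSet_iff (x : G.left) :
    x ∈ SGA3x.neutralSet G ↔
      x ∈ connectedComponentIn (G.hom.base ⁻¹' {G.hom.base x})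
        ((η[G].left : S ⟶ G.left).base (G.hom.base x)) := by
  unfold SGA3x.neutralSet
  rw [Set.mem_iUnion]
  constructor
  · rintro ⟨p, hp⟩
    have hx0 : x ∈ G.hom.base ⁻¹' {(𝟙_ (Over S)).hom.base p} :=
      connectedComponentIn_subset _ _ hp
    have hx : G.hom.base x = (𝟙_ (Over S)).hom.base p := hx0
    have hp' : (p : S) = G.hom.base x := hx.symm
    subst hp'
    exact hp
  · intro h
    exact ⟨G.hom.base x, h⟩

/-- **SGA 3 VI_B**: the formation of the neutral components of the fibres commutes with base
change. -/
theorem neutralSet_bc :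
    SGA3x.neutralSet (Red.bc f G) = (pullback.fst G.hom f).base ⁻¹' SGA3x.neutralSet G := by
  ext x'
  rw [Set.mem_preimage, mem_neutralSet_iff, mem_neutralSet_iff]
  set pr := pullback.fst G.hom f with hpr
  set q := pullback.snd G.hom f with hq
  have hq' : (Red.bc f G).hom = q := rfl
  rw [hq']
  set s' : S' := q.base x' with hs'
  have hcond : ∀ y, G.hom.base (pr.base y) = f.base (q.base y) := by
    intro y
    rw [← Scheme.Hom.comp_apply, ← Scheme.Hom.comp_apply, hpr, hq, pullback.condition]
  rw [hcond x']
  have hunit : pr.base ((η[Red.bc f G].left : S' ⟶ (Red.bc f G).left).base s') =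
      (η[G].left : S ⟶ G.left).base (f.base s') := by
    rw [← Scheme.Hom.comp_apply, ← Scheme.Hom.comp_apply]
    exact congrArg (fun φ => φ s') (Groth.Agent.Helper16.GrpIrr.unit_baseChange_fst f G)
  constructor
  · intro hx
    have h1 := ContinuousOn.image_connectedComponentIn_subset pr.continuous.continuousOn
      (s := q.base ⁻¹' {s'})
      (a := (η[Red.bc f G].left : S' ⟶ (Red.bc f G).left).base s') (by
        show q.base _ = s'
        have : (η[Red.bc f G].left : S' ⟶ (Red.bc f G).left) ≫ q = 𝟙 S' :=
          Over.w η[Red.bc f G]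
        rw [← Scheme.Hom.comp_apply, this]
        rfl) ⟨x', hx, rfl⟩
    rw [hunit] at h1
    refine connectedComponentIn_mono _ ?_ h1
    rintro _ ⟨y, hy, rfl⟩
    show G.hom.base (pr.base y) = f.base s'
    rw [hcond y]
    exact congrArg _ hy
  · intro hx
    -- the fibres
    have hι'emb : Topology.IsEmbedding (q.fiberι s') := (q.fiberι s').isEmbedding
    have hιemb : Topology.IsEmbedding (G.hom.fiberι (f.base s')) :=
      (G.hom.fiberι (f.base s')).isEmbedding
    have hr' : Set.range (q.fiberι s') = q.base ⁻¹' {s'} := Scheme.Hom.range_fiberι q s'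
    have hr : Set.range (G.hom.fiberι (f.base s')) = G.hom.base ⁻¹' {f.base s'} :=
      Scheme.Hom.range_fiberι G.hom (f.base s')
    obtain ⟨w, hw⟩ : x' ∈ Set.range (q.fiberι s') := by
      rw [hr']; rfl
    obtain ⟨ε, hε⟩ : (η[G].left : S ⟶ G.left).base (f.base s') ∈
        Set.range (G.hom.fiberι (f.base s')) := by
      rw [hr]
      exact hom_unit S G (f.base s')
    have hfib : ∀ z, (G.hom.fiberι (f.base s')) ((fibMap f G s') z) = pr ((q.fiberι s') z) := by
      intro z
      show (fibMap f G s' ≫ G.hom.fiberι (f.base s')) z = ((q.fiberι s') ≫ pr) z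
      rw [fibMap_fiberι]
    -- `c w ∈ cc ε`
    rw [← hr, ← hε, connectedComponentIn_range hιemb, ← hw] at hx
    obtain ⟨v, hv, hv'⟩ := hx
    have hv'' : v = (fibMap f G s') w := by
      apply hιemb.injective
      rw [hfib]
      exact hv'
    rw [hv''] at hv
    have hcc : connectedComponent ((fibMap f G s') w) = connectedComponent ε :=
      (connectedComponent_eq hv).symm
    have hεmem : ε ∈ (fibMap f G s') '' connectedComponent w := by
      rw [fibMap_image_cc, hcc]
      exact mem_connectedComponent
    obtain ⟨y, hy, hyε⟩ := hεmem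
    -- the point `ι' y` is the unit point
    have hy1 : pr ((q.fiberι s') y) = (η[G].left : S ⟶ G.left) (f.base s') := by
      rw [← hfib, hyε]
      exact hε
    have hy2 : q ((q.fiberι s') y) = s' := by
      have : (q.fiberι s') y ∈ Set.range (q.fiberι s') := ⟨y, rfl⟩
      rw [hr'] at this
      exact this
    have hy3 := eq_unit_of_fst_eq f G ((q.fiberι s') y) (f.base s') hy1
    rw [hy2] at hy3
    rw [← hr', ← hy3, connectedComponentIn_range hι'emb, ← hw]
    refine ⟨w, ?_, rfl⟩
    rw [← connectedComponent_eq hy]
    exact mem_connectedComponent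

end Main

end Groth.Agent.Lib.Helper23.NeutBC
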