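import Mathlib
import Groth.Prelude.Def_W4c2arithlefschetzNode

set_option autoImplicit false
set_option linter.unusedSectionVars false
universe u

namespace Groth.Agent.Helper23.NodeAlgLib

open MvPowerSeries

section Axis

variable {σ : Type*} {R : Type*} [CommRing R] (a : σ)

/-- restriction of a multivariate power series to the `a`-axis -/
noncomputable def axis : MvPowerSeries σ R →+* PowerSeries R where
  toFun f := PowerSeries.mk (fun n => MvPowerSeries.coeff (Finsupp.single a n) f)
  map_one' := by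
    classical
    ext n
    rw [PowerSeries.coeff_mk, MvPowerSeries.coeff_one, PowerSeries.coeff_one]
    by_cases hn : n = 0
    · subst hn; simp
    · rw [if_neg hn, if_neg]
      intro h
      apply hn
      have := DFunLike.congr_fun h a
      simpa using this
  map_mul' f g := by
    classical
    ext n
    rw [PowerSeries.coeff_mk, MvPowerSeries.coeff_mul, PowerSeries.coeff_mul,
      Finsupp.antidiagonal_single, Finset.sum_map]
    apply Finset.sum_congr rfl
    intro p _
    simp [PowerSeries.coeff_mk]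
  map_zero' := by
    ext n
    simp
  map_add' f g := by
    ext n
    simp

theorem coeff_axis (f : MvPowerSeries σ R) (n : ℕ) :
    PowerSeries.coeff n (axis a f) = MvPowerSeries.coeff (Finsupp.single a n) f := by
  simp [axis]

theorem axis_C (b : R) : axis a (MvPowerSeries.C (σ := σ) b) = PowerSeries.C b := by
  classical
  ext n
  rw [coeff_axis, MvPowerSeries.coeff_C, PowerSeries.coeff_C]
  by_cases hn : n = 0
  · subst hn; simp
  · rw [if_neg hn, if_neg]
    intro h
    apply hn
    have := DFunLike.congr_fun h a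
    simpa using this

theorem axis_X_self : axis a (MvPowerSeries.X (R := R) a) = PowerSeries.X := by
  classical
  ext n
  rw [coeff_axis, MvPowerSeries.coeff_X, PowerSeries.coeff_X]
  by_cases hn : n = 1
  · subst hn; simp
  · rw [if_neg hn, if_neg]
    intro h
    apply hn
    have := DFunLike.congr_fun h a
    simpa using this

theorem axis_X_ne {s : σ} (hs : s ≠ a) : axis a (MvPowerSeries.X (R := R) s) = 0 := by
  classical
  ext n
  rw [coeff_axis, MvPowerSeries.coeff_X, map_zero, if_neg]
  intro h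
  have := DFunLike.congr_fun h s
  rw [Finsupp.single_eq_of_ne hs, Finsupp.single_eq_same] at this
  exact zero_ne_one this

end Axis


section Two

variable {R : Type*} [CommRing R]

theorem eq_single_of_apply_eq_zero {s s' : Fin 2} (hss : s ≠ s') (m : Fin 2 →₀ ℕ) (hm : m s = 0) :
    m = Finsupp.single s' (m s') := by
  ext i
  have hi : i = s ∨ i = s' := by
    fin_cases i <;> fin_cases s <;> fin_cases s' <;> simp_all
  rcases hi with rfl | rfl
  · rw [hm, Finsupp.single_eq_of_ne hss]
  · rw [Finsupp.single_eq_same]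

theorem axis_eq_zero_iff {s s' : Fin 2} (hss : s ≠ s') (f : MvPowerSeries (Fin 2) R) :
    axis s' f = 0 ↔ (MvPowerSeries.X s : MvPowerSeries (Fin 2) R) ∣ f := by
  rw [MvPowerSeries.X_dvd_iff]
  constructor
  · intro h m hm
    rw [eq_single_of_apply_eq_zero hss m hm, ← coeff_axis, h, map_zero]
  · intro h
    ext n
    rw [coeff_axis, map_zero]
    exact h _ (Finsupp.single_eq_of_ne hss)

/-- a lift of a power series in one variable to the `s'`-axis -/
noncomputable def lift (s s' : Fin 2) (g : PowerSeries R) : MvPowerSeries (Fin 2) R :=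
  fun m => if m s = 0 then PowerSeries.coeff (m s') g else 0

theorem axis_lift {s s' : Fin 2} (hss : s ≠ s') (g : PowerSeries R) : axis s' (lift s s' g) = g := by
  ext n
  rw [coeff_axis]
  show (if (Finsupp.single s' n) s = 0 then PowerSeries.coeff ((Finsupp.single s' n) s') g else 0) = _
  rw [if_pos (Finsupp.single_eq_of_ne hss), Finsupp.single_eq_same]

end Two


section DVR

variable {B : Type u} [CommRing B] [IsDomain B] [IsDiscreteValuationRing B] (π : B)

/-- the map "set `x_s = 0` and reduce modulo the maximal ideal" -/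
noncomputable def ψ (s' : Fin 2) : MvPowerSeries (Fin 2) B →+* PowerSeries (IsLocalRing.ResidueField B) :=
  (PowerSeries.map (IsLocalRing.residue B)).comp (axis s')

theorem residue_eq_zero_iff (hπ : Irreducible π) (b : B) : IsLocalRing.residue B b = 0 ↔ π ∣ b := by
  rw [IsLocalRing.residue_eq_zero_iff, hπ.maximalIdeal_eq, Ideal.mem_span_singleton]

theorem map_residue_eq_zero (hπ : Irreducible π) (g : PowerSeries B)
    (hg : PowerSeries.map (IsLocalRing.residue B) g = 0) : ∃ g', g = PowerSeries.C π * g' := by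
  have h : ∀ n, π ∣ PowerSeries.coeff n g := by
    intro n
    rw [← residue_eq_zero_iff π hπ, ← PowerSeries.coeff_map, hg, map_zero]
  choose c hc using h
  refine ⟨PowerSeries.mk c, ?_⟩
  ext n
  rw [PowerSeries.coeff_C_mul, PowerSeries.coeff_mk, hc n]

theorem ker_ψ (hπ : Irreducible π) {s s' : Fin 2} (hss : s ≠ s') :
    RingHom.ker (ψ (B := B) s') = Ideal.span {MvPowerSeries.X s, MvPowerSeries.C π} := by
  apply le_antisymm
  · intro f hf
    rw [RingHom.mem_ker] at hf
    obtain ⟨g', hg'⟩ := map_residue_eq_zero π hπ (axis s' f) hf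
    have h1 : axis s' (f - MvPowerSeries.C π * lift s s' g') = 0 := by
      rw [map_sub, map_mul, axis_C, axis_lift hss, hg', sub_self]
    rw [axis_eq_zero_iff hss] at h1
    obtain ⟨q, hq⟩ := h1
    have : f = MvPowerSeries.X s * q + MvPowerSeries.C π * lift s s' g' := by
      rw [← hq]; ring
    rw [this]
    apply Ideal.add_mem
    · exact Ideal.mul_mem_right _ _ (Ideal.subset_span (by simp))
    · exact Ideal.mul_mem_right _ _ (Ideal.subset_span (by simp))
  · rw [Ideal.span_le]
    intro f hf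
    simp only [Set.mem_insert_iff, Set.mem_singleton_iff] at hf
    rcases hf with rfl | rfl
    · show ψ s' (MvPowerSeries.X s) = 0
      rw [ψ, RingHom.comp_apply, axis_X_ne s' hss, map_zero]
    · show ψ s' (MvPowerSeries.C π) = 0
      rw [ψ, RingHom.comp_apply, axis_C, PowerSeries.map_C, (residue_eq_zero_iff π hπ π).mpr dvd_rfl,
        map_zero]

theorem ψ_X_self (s' : Fin 2) : ψ (B := B) s' (MvPowerSeries.X s') = PowerSeries.X := by
  rw [ψ, RingHom.comp_apply, axis_X_self, PowerSeries.map_X]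

end DVR


section Node

open ArLef

variable {B : Type u} [CommRing B] [IsDomain B] [IsDiscreteValuationRing B] (π : B)

/-- the relation ideal -/
noncomputable abbrev rel : Ideal (MvPowerSeries (Fin 2) B) :=
  Ideal.span {(MvPowerSeries.X 0 * MvPowerSeries.X 1 - MvPowerSeries.C π : MvPowerSeries (Fin 2) B)}

/-- the quotient map -/
noncomputable abbrev mkN : MvPowerSeries (Fin 2) B →+* NodeAlg B π := Ideal.Quotient.mk _

theorem mkN_C_eq : mkN π (MvPowerSeries.C π) = NodeAlg.t π * NodeAlg.e π := by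
  have : mkN π (MvPowerSeries.X 0 * MvPowerSeries.X 1 - MvPowerSeries.C π) = 0 :=
    Ideal.Quotient.eq_zero_iff_mem.mpr (Ideal.subset_span rfl)
  rw [map_sub, map_mul, sub_eq_zero] at this
  exact this.symm

theorem algebraMap_eq (b : B) : algebraMap B (NodeAlg B π) b = mkN π (MvPowerSeries.C b) := rfl

theorem rel_le_ker_ψ (hπ : Irreducible π) {s s' : Fin 2} (hss : s ≠ s') :
    rel π ≤ RingHom.ker (ψ (B := B) s') := by
  rw [Ideal.span_le]
  intro f hf
  rw [Set.mem_singleton_iff] at hf
  subst hf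
  have hX : (MvPowerSeries.X s : MvPowerSeries (Fin 2) B) ∈ RingHom.ker (ψ (B := B) s') := by
    rw [ker_ψ π hπ hss]; exact Ideal.subset_span (by simp)
  have hC : (MvPowerSeries.C π : MvPowerSeries (Fin 2) B) ∈ RingHom.ker (ψ (B := B) s') := by
    rw [ker_ψ π hπ hss]; exact Ideal.subset_span (by simp)
  apply Ideal.sub_mem _ _ hC
  have hs : s = 0 ∨ s = 1 := by fin_cases s <;> simp
  rcases hs with rfl | rfl
  · exact Ideal.mul_mem_right _ _ hX
  · exact Ideal.mul_mem_left _ _ hX

theorem map_ker_ψ (hπ : Irreducible π) {s s' : Fin 2} (hss : s ≠ s') :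
    (RingHom.ker (ψ (B := B) s')).map (mkN π) = Ideal.span {mkN π (MvPowerSeries.X s)} := by
  rw [ker_ψ π hπ hss, Ideal.map_span]
  apply le_antisymm
  · rw [Ideal.span_le]
    rintro _ ⟨f, hf, rfl⟩
    simp only [Set.mem_insert_iff, Set.mem_singleton_iff] at hf
    rcases hf with rfl | rfl
    · exact Ideal.subset_span rfl
    · rw [mkN_C_eq]
      have hs : s = 0 ∨ s = 1 := by fin_cases s <;> simp
      rcases hs with rfl | rfl
      · exact Ideal.mul_mem_right _ _ (Ideal.subset_span rfl)
      · exact Ideal.mul_mem_left _ _ (Ideal.subset_span rfl)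
  · rw [Ideal.span_le]
    rintro _ rfl
    exact Ideal.subset_span ⟨_, by simp, rfl⟩

theorem isPrime_span (hπ : Irreducible π) {s s' : Fin 2} (hss : s ≠ s') :
    (Ideal.span {mkN π (MvPowerSeries.X s)}).IsPrime := by
  rw [← map_ker_ψ π hπ hss]
  have hker : RingHom.ker (mkN π) ≤ RingHom.ker (ψ (B := B) s') := by
    rw [Ideal.mk_ker]; exact rel_le_ker_ψ π hπ hss
  have := RingHom.ker_isPrime (ψ (B := B) s')
  exact Ideal.map_isPrime_of_surjective Ideal.Quotient.mk_surjective hker

theorem not_mem_span (hπ : Irreducible π) {s s' : Fin 2} (hss : s ≠ s') :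
    mkN π (MvPowerSeries.X s') ∉ Ideal.span {mkN π (MvPowerSeries.X s)} := by
  rw [← map_ker_ψ π hπ hss]
  intro h
  have hker : RingHom.ker (mkN π) ≤ RingHom.ker (ψ (B := B) s') := by
    rw [Ideal.mk_ker]; exact rel_le_ker_ψ π hπ hss
  have h2 : (MvPowerSeries.X s' : MvPowerSeries (Fin 2) B) ∈
      ((RingHom.ker (ψ (B := B) s')).map (mkN π)).comap (mkN π) := h
  rw [Ideal.comap_map_of_surjective _ Ideal.Quotient.mk_surjective, sup_eq_left.mpr] at h2
  · rw [RingHom.mem_ker, ψ_X_self] at h2
    exact PowerSeries.X_ne_zero h2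
  · rw [← RingHom.ker_eq_comap_bot]; exact hker

theorem isLocalRing (hπ : Irreducible π) : IsLocalRing (NodeAlg B π) := by
  have hnt : Nontrivial (NodeAlg B π) := by
    rw [Ideal.Quotient.nontrivial_iff]
    intro htop
    have h1 : (1 : MvPowerSeries (Fin 2) B) ∈ RingHom.ker (ψ (B := B) 1) :=
      rel_le_ker_ψ π hπ (s := 0) (s' := 1) (by decide) (by
        show (1 : MvPowerSeries (Fin 2) B) ∈ Ideal.span _
        rw [htop]; exact Submodule.mem_top)
    rw [RingHom.mem_ker, map_one] at h1
    exact one_ne_zero h1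
  exact IsLocalRing.of_surjective' (mkN π) Ideal.Quotient.mk_surjective

end Node


section Local

variable {A : Type*} [CommRing A] [IsLocalRing A]

theorem assoc_of_mem (σ : A ≃+* A) (t s : A) (ht0 : t ≠ 0) (hs0 : s ≠ 0)
    (htp : (Ideal.span {t}).IsPrime) (hsp : (Ideal.span {s}).IsPrime)
    (h : σ t ∈ Ideal.span {s}) : Associated (σ t) s := by
  obtain ⟨a, ha⟩ := Ideal.mem_span_singleton.mp h
  have hσt0 : σ t ≠ 0 := fun h0 => ht0 (by simpa using h0)
  have hsnu : ¬ IsUnit s := fun hu => hsp.ne_top (Ideal.span_singleton_eq_top.mpr hu)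
  have hprime : (Ideal.span {σ t}).IsPrime := by
    have : (Ideal.span {t}).map (σ : A →+* A) = Ideal.span {σ t} := by
      rw [Ideal.map_span, Set.image_singleton]; rfl
    rw [← this]
    exact Ideal.map_isPrime_of_equiv σ
  have hmem : s * a ∈ Ideal.span {σ t} := by rw [← ha]; exact Ideal.subset_span rfl
  rcases hprime.mem_or_mem hmem with h1 | h1
  · obtain ⟨c, hc⟩ := Ideal.mem_span_singleton.mp h1
    rw [ha] at hc
    have h0 : s * (1 - a * c) = 0 := by linear_combination hc
    rcases IsLocalRing.isUnit_or_isUnit_one_sub_self (a * c) with hu | hu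
    · have hau : IsUnit a := isUnit_of_mul_isUnit_left hu
      rw [ha]
      obtain ⟨ua, rfl⟩ := hau
      exact ⟨ua⁻¹, by simp [mul_assoc]⟩
    · exact absurd (hu.mul_left_eq_zero.mp h0) hs0
  · obtain ⟨b, hb⟩ := Ideal.mem_span_singleton.mp h1
    have h0 : σ t * (1 - s * b) = 0 := by
      have : σ t = s * (σ t * b) := by rw [← hb]; exact ha
      linear_combination this
    have hu : IsUnit (1 - s * b) := by
      rcases IsLocalRing.isUnit_or_isUnit_one_sub_self (s * b) with hu | hu
      · exact absurd (isUnit_of_mul_isUnit_left hu) hsnu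
      · exact hu
    exact absurd (hu.mul_left_eq_zero.mp h0) hσt0

end Local

section Main

open ArLef

variable {B : Type u} [CommRing B] [IsDomain B] [IsDiscreteValuationRing B] (π : B)

theorem main (hπ : Irreducible π)
    (σ : ArLef.NodeAlg B π ≃+* ArLef.NodeAlg B π)
    (hσ : Associated (σ (algebraMap B (ArLef.NodeAlg B π) π)) (algebraMap B (ArLef.NodeAlg B π) π)) :
    (∃ α β : (ArLef.NodeAlg B π)ˣ, σ (ArLef.NodeAlg.t π) = (α : ArLef.NodeAlg B π) * ArLef.NodeAlg.t π ∧
        σ (ArLef.NodeAlg.e π) = (β : ArLef.NodeAlg B π) * ArLef.NodeAlg.e π) ∨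
    (∃ α β : (ArLef.NodeAlg B π)ˣ, σ (ArLef.NodeAlg.t π) = (α : ArLef.NodeAlg B π) * ArLef.NodeAlg.e π ∧
        σ (ArLef.NodeAlg.e π) = (β : ArLef.NodeAlg B π) * ArLef.NodeAlg.t π) := by
  have := isLocalRing π hπ
  have h01 : (0 : Fin 2) ≠ 1 := by decide
  have h10 : (1 : Fin 2) ≠ 0 := by decide
  have htp : (Ideal.span {NodeAlg.t π}).IsPrime := isPrime_span π hπ h01
  have hep : (Ideal.span {NodeAlg.e π}).IsPrime := isPrime_span π hπ h10
  have het : NodeAlg.e π ∉ Ideal.span {NodeAlg.t π} := not_mem_span π hπ h01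
  have hte : NodeAlg.t π ∉ Ideal.span {NodeAlg.e π} := not_mem_span π hπ h10
  have ht0 : NodeAlg.t π ≠ 0 := fun h => hte (h ▸ Ideal.zero_mem _)
  have he0 : NodeAlg.e π ≠ 0 := fun h => het (h ▸ Ideal.zero_mem _)
  have hπte : algebraMap B (NodeAlg B π) π = NodeAlg.t π * NodeAlg.e π := by
    rw [algebraMap_eq, mkN_C_eq]
  rw [hπte, map_mul] at hσ
  obtain ⟨u, hu⟩ := hσ
  -- σ t * σ e ∈ (t) and ∈ (e)
  have hmemt : σ (NodeAlg.t π) * σ (NodeAlg.e π) ∈ Ideal.span {NodeAlg.t π} := by
    have h1 : σ (NodeAlg.t π) * σ (NodeAlg.e π) * u ∈ Ideal.span {NodeAlg.t π} := by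
      rw [hu]; exact Ideal.mul_mem_right _ _ (Ideal.subset_span rfl)
    rcases htp.mem_or_mem h1 with h2 | h2
    · exact h2
    · exact absurd (Ideal.eq_top_of_isUnit_mem _ h2 u.isUnit) htp.ne_top
  have hmeme : σ (NodeAlg.t π) * σ (NodeAlg.e π) ∈ Ideal.span {NodeAlg.e π} := by
    have h1 : σ (NodeAlg.t π) * σ (NodeAlg.e π) * u ∈ Ideal.span {NodeAlg.e π} := by
      rw [hu]; exact Ideal.mul_mem_left _ _ (Ideal.subset_span rfl)
    rcases hep.mem_or_mem h1 with h2 | h2
    · exact h2
    · exact absurd (Ideal.eq_top_of_isUnit_mem _ h2 u.isUnit) hep.ne_top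
  have toUnits : ∀ x y : NodeAlg B π, Associated x y → ∃ α : (NodeAlg B π)ˣ, x = (α : NodeAlg B π) * y := by
    rintro x y ⟨v, hv⟩
    exact ⟨v⁻¹, by rw [← hv]; simp [mul_comm]⟩
  have contra : ∀ x : NodeAlg B π, Associated x (NodeAlg.t π) → Associated x (NodeAlg.e π) → False := by
    intro x h1 h2
    have h3 : Associated (NodeAlg.t π) (NodeAlg.e π) := h1.symm.trans h2
    obtain ⟨v, hv⟩ := h3
    exact het (by rw [← hv]; exact Ideal.mul_mem_right _ _ (Ideal.subset_span rfl))
  rcases htp.mem_or_mem hmemt with h1 | h1 <;> rcases hep.mem_or_mem hmeme with h2 | h2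
  · exact (contra _ (assoc_of_mem σ _ _ ht0 ht0 htp htp h1) (assoc_of_mem σ _ _ ht0 he0 htp hep h2)).elim
  · left
    obtain ⟨α, hα⟩ := toUnits _ _ (assoc_of_mem σ _ _ ht0 ht0 htp htp h1)
    obtain ⟨β, hβ⟩ := toUnits _ _ (assoc_of_mem σ _ _ he0 he0 hep hep h2)
    exact ⟨α, β, hα, hβ⟩
  · right
    obtain ⟨α, hα⟩ := toUnits _ _ (assoc_of_mem σ _ _ ht0 he0 htp hep h2)
    obtain ⟨β, hβ⟩ := toUnits _ _ (assoc_of_mem σ _ _ he0 ht0 hep htp h1)
    exact ⟨α, β, hα, hβ⟩
  · exact (contra _ (assoc_of_mem σ _ _ he0 ht0 hep htp h1) (assoc_of_mem σ _ _ he0 he0 hep hep h2)).elim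

end Main

end Groth.Agent.Helper23.NodeAlgLib
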