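import Groth.Agent.Lib.Helper23.NodeLen
import Groth.Agent.S15315


set_option autoImplicit false
set_option linter.style.haveILetI false
set_option linter.unusedVariables false
universe u

namespace Groth.Agent.Helper23.NodeCol

section colon

variable {A : Type u} [CommRing A]

/-- the colon exact sequence: length(A/I) = length(A/(I:x)) + length(A/(I+x)) -/
theorem length_colon (I K : Ideal A) (x : A) (hK : ∀ z, z ∈ K ↔ x * z ∈ I) :
    Module.length A (A ⧸ I) = Module.length A (A ⧸ K) + Module.length A (A ⧸ (I ⊔ Ideal.span {x})) := by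
  have hKI : K ≤ Submodule.comap (LinearMap.lsmul A A x) I := by
    intro z hz
    rw [Submodule.mem_comap]
    exact (hK z).1 hz
  let f : (A ⧸ K) →ₗ[A] (A ⧸ I) := Submodule.mapQ K I (LinearMap.lsmul A A x) hKI
  let g : (A ⧸ I) →ₗ[A] (A ⧸ (I ⊔ Ideal.span {x})) :=
    Submodule.factor (le_sup_left : I ≤ I ⊔ Ideal.span {x})
  have hfm : ∀ z : A, f (Submodule.Quotient.mk z) = Submodule.Quotient.mk (x * z) := fun z => rfl
  have hgm : ∀ z : A, g (Submodule.Quotient.mk z) = Submodule.Quotient.mk z := fun z => rfl
  have hf : Function.Injective f := by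
    rw [← LinearMap.ker_eq_bot, Submodule.eq_bot_iff]
    intro z hz
    obtain ⟨z, rfl⟩ := Submodule.Quotient.mk_surjective _ z
    rw [LinearMap.mem_ker, hfm, Submodule.Quotient.mk_eq_zero] at hz
    rw [Submodule.Quotient.mk_eq_zero]
    exact (hK z).2 hz
  have hg : Function.Surjective g := by
    intro z
    obtain ⟨z, rfl⟩ := Submodule.Quotient.mk_surjective _ z
    exact ⟨Submodule.Quotient.mk z, rfl⟩
  have hex : Function.Exact f g := by
    intro y
    obtain ⟨y, rfl⟩ := Submodule.Quotient.mk_surjective _ y
    rw [hgm, Submodule.Quotient.mk_eq_zero]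
    constructor
    · intro h
      obtain ⟨i, hi, w, hw, rfl⟩ := Submodule.mem_sup.1 h
      obtain ⟨c, rfl⟩ := Ideal.mem_span_singleton'.1 hw
      refine ⟨Submodule.Quotient.mk c, ?_⟩
      rw [hfm, Submodule.Quotient.eq]
      have : x * c - (i + c * x) = -i := by ring
      rw [this]
      exact I.neg_mem hi
    · rintro ⟨z, hz⟩
      obtain ⟨z, rfl⟩ := Submodule.Quotient.mk_surjective _ z
      rw [hfm, Submodule.Quotient.eq] at hz
      have : y = -(x * z - y) + z * x := by ring
      rw [this]
      exact Submodule.add_mem_sup (I.neg_mem hz) (Ideal.mem_span_singleton'.2 ⟨z, rfl⟩)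
  exact Module.length_eq_add_of_exact f g hf hg hex

end colon

section peel

variable {A : Type u} [CommRing A] [IsNoetherianRing A]

/-- peeling powers of two regular elements modulo `a` -/
theorem length_peel (a x y : A)
    (hx : IsSMulRegular (A ⧸ Ideal.span ({a} : Set A)) x)
    (hy : IsSMulRegular (A ⧸ Ideal.span ({a} : Set A)) y) (m n : ℕ) :
    Module.length A (A ⧸ (Ideal.span {x ^ m * y ^ n} ⊔ Ideal.span {a})) =
      (m : ℕ∞) * Module.length A (A ⧸ Ideal.span ({x, a} : Set A)) +
        (n : ℕ∞) * Module.length A (A ⧸ Ideal.span ({y, a} : Set A)) := by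
  induction m with
  | zero =>
    induction n with
    | zero =>
      rw [pow_zero, pow_zero, mul_one, Ideal.span_singleton_one, top_sup_eq, Nat.cast_zero,
        zero_mul, zero_mul, zero_add, Module.length_eq_zero_iff]
      exact Submodule.Quotient.subsingleton_iff.2 rfl
    | succ n ih =>
      have := Groth.Agent.S15315.result A y a (Ideal.span ({x ^ 0 * y ^ n} : Set A)) hy
      rw [Ideal.span_singleton_mul_span_singleton, ih] at this
      have e1 : y * (x ^ 0 * y ^ n) = x ^ 0 * y ^ (n + 1) := by ring
      rw [e1] at this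
      rw [this, Nat.cast_succ]
      ring
  | succ m ih =>
    have := Groth.Agent.S15315.result A x a (Ideal.span ({x ^ m * y ^ n} : Set A)) hx
    rw [Ideal.span_singleton_mul_span_singleton, ih] at this
    have e1 : x * (x ^ m * y ^ n) = x ^ (m + 1) * y ^ n := by ring
    rw [e1] at this
    rw [this, Nat.cast_succ]
    ring

end peel

end Groth.Agent.Helper23.NodeCol
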