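import Groth.Agent.Lib.Helper23.NodeAlgLib
import Mathlib

set_option autoImplicit false
set_option linter.style.haveILetI false
set_option linter.unusedVariables false
set_option linter.unusedSectionVars false
universe u

namespace Groth.Agent.Helper23.NodeFix
open MvPowerSeries ArLef

section decomp

variable {B : Type u} [CommRing B]

theorem single_le_iff (s : Fin 2) (m : Fin 2 →₀ ℕ) : Finsupp.single s 1 ≤ m ↔ 1 ≤ m s := by
  constructor
  · intro h
    have := h s
    simpa using this
  · intro h j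
    by_cases hj : j = s
    · subst hj; simpa using h
    · rw [Finsupp.single_apply, if_neg (Ne.symm hj)]; exact Nat.zero_le _

theorem decomp (f : MvPowerSeries (Fin 2) B) : ∃ f₁ f₂ : MvPowerSeries (Fin 2) B,
    f = C (constantCoeff f) + X 0 * f₁ + X 1 * f₂ := by
  classical
  let f₁ : MvPowerSeries (Fin 2) B := fun n => coeff (n + Finsupp.single 0 1) f
  let f₂ : MvPowerSeries (Fin 2) B := fun n => if n 0 = 0 then coeff (n + Finsupp.single 1 1) f else 0
  refine ⟨f₁, f₂, ?_⟩
  ext m
  rw [map_add, map_add, X_def, X_def, coeff_monomial_mul, coeff_monomial_mul, one_mul, one_mul,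
    coeff_C]
  simp only [single_le_iff]
  have hf₁ : ∀ n, coeff n f₁ = coeff (n + Finsupp.single 0 1) f := fun n => rfl
  have hf₂ : ∀ n, coeff n f₂ = if n 0 = 0 then coeff (n + Finsupp.single 1 1) f else 0 := fun n => rfl
  rw [hf₁, hf₂]
  by_cases h0 : 1 ≤ m 0
  · have hm : m ≠ 0 := fun h => by rw [h] at h0; simp at h0
    have hsub : m - Finsupp.single 0 1 + Finsupp.single 0 1 = m :=
      tsub_add_cancel_of_le ((single_le_iff 0 m).2 h0)
    have h10 : (m - (Finsupp.single (1 : Fin 2) 1 : Fin 2 →₀ ℕ) : Fin 2 →₀ ℕ) 0 ≠ 0 := by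
      rw [Finsupp.tsub_apply, Finsupp.single_apply, if_neg (by decide)]
      omega
    rw [if_neg hm, if_pos h0, hsub, if_neg h10]
    simp
  · by_cases h1 : 1 ≤ m 1
    · have hm : m ≠ 0 := fun h => by rw [h] at h1; simp at h1
      have hsub : m - Finsupp.single 1 1 + Finsupp.single 1 1 = m :=
        tsub_add_cancel_of_le ((single_le_iff 1 m).2 h1)
      have h10 : (m - (Finsupp.single (1 : Fin 2) 1 : Fin 2 →₀ ℕ) : Fin 2 →₀ ℕ) 0 = 0 := by
        rw [Finsupp.tsub_apply, Finsupp.single_apply, if_neg (by decide)]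
        omega
      rw [if_neg hm, if_neg h0, if_pos h1, if_pos h10, hsub]
      simp
    · have hm : m = 0 := by
        ext j
        fin_cases j
        · simp; omega
        · simp; omega
      rw [if_pos hm, if_neg h0, if_neg h1, hm]
      simp

end decomp

section fix

variable {N : Type u} [CommRing N] [IsNoetherianRing N]

/-- Nakayama trick: the fixed ideal is generated by the differences on generators. -/
theorem fixIdeal_le (σ : N →+* N) (t e : N) (S : Set N)
    (hrad : Ideal.span ({t, e} : Set N) ≤ Ideal.jacobson ⊥)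
    (hdec : ∀ r : N, ∃ b ∈ S, ∃ r₁ r₂ : N, r = b + t * r₁ + e * r₂)
    (J : Ideal N) (ht : σ t - t ∈ J) (he : σ e - e ∈ J) (hS : ∀ b ∈ S, σ b - b ∈ J) :
    fixIdeal σ ≤ J := by
  apply Submodule.le_of_le_smul_of_le_jacobson_bot (IsNoetherian.noetherian _) hrad
  unfold fixIdeal
  rw [Ideal.span_le]
  rintro _ ⟨r, rfl⟩
  obtain ⟨b, hb, r₁, r₂, rfl⟩ := hdec r
  have hI : ∀ x : N, σ x - x ∈ Ideal.span (Set.range fun r : N => σ r - r) :=
    fun x => Ideal.subset_span ⟨x, rfl⟩
  have key : σ (b + t * r₁ + e * r₂) - (b + t * r₁ + e * r₂) =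
      ((σ b - b) + (σ t - t) * σ r₁ + (σ e - e) * σ r₂) + (t * (σ r₁ - r₁) + e * (σ r₂ - r₂)) := by
    rw [map_add, map_add, map_mul, map_mul]; ring
  change σ (b + t * r₁ + e * r₂) - (b + t * r₁ + e * r₂) ∈ _
  rw [key]
  apply Submodule.add_mem_sup
  · exact J.add_mem (J.add_mem (hS b hb) (J.mul_mem_right _ ht)) (J.mul_mem_right _ he)
  · apply Submodule.add_mem
    · exact Submodule.smul_mem_smul (Ideal.subset_span (by simp)) (hI r₁)
    · exact Submodule.smul_mem_smul (Ideal.subset_span (by simp)) (hI r₂)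

end fix

section node

variable {B : Type u} [CommRing B] (π : B)

theorem node_decomp (r : NodeAlg B π) : ∃ b ∈ Set.range (algebraMap B (NodeAlg B π)),
    ∃ r₁ r₂ : NodeAlg B π, r = b + NodeAlg.t π * r₁ + NodeAlg.e π * r₂ := by
  obtain ⟨f, rfl⟩ := Ideal.Quotient.mk_surjective r
  obtain ⟨f₁, f₂, hf⟩ := decomp f
  refine ⟨algebraMap B (NodeAlg B π) (constantCoeff f), ⟨_, rfl⟩, Ideal.Quotient.mk _ f₁,
    Ideal.Quotient.mk _ f₂, ?_⟩
  conv_lhs => rw [hf]
  rw [map_add, map_add, map_mul, map_mul]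
  rfl

end node

end Groth.Agent.Helper23.NodeFix
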