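import Groth.Agent.Lib.Helper23.NodeFix
import Mathlib

set_option autoImplicit false
set_option linter.style.haveILetI false
set_option linter.unusedVariables false
set_option linter.unusedSectionVars false
universe u

namespace Groth.Agent.Helper23.NodeLen
open MvPowerSeries ArLef Groth.Agent.Helper23.NodeFix Groth.Agent.Helper23.NodeAlgLib

section mv

variable {A : Type u} [CommRing A]

/-- Mayer–Vietoris for lengths of quotients by ideals -/
theorem length_mv (X Y : Ideal A) :
    Module.length A (A ⧸ X) + Module.length A (A ⧸ Y) =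
      Module.length A (A ⧸ (X ⊓ Y)) + Module.length A (A ⧸ (X ⊔ Y)) := by
  let f1 : (A ⧸ (X ⊓ Y)) →ₗ[A] (A ⧸ X) := Submodule.factor (inf_le_left : X ⊓ Y ≤ X)
  let f2 : (A ⧸ (X ⊓ Y)) →ₗ[A] (A ⧸ Y) := Submodule.factor (inf_le_right : X ⊓ Y ≤ Y)
  let g1 : (A ⧸ X) →ₗ[A] (A ⧸ (X ⊔ Y)) := Submodule.factor (le_sup_left : X ≤ X ⊔ Y)
  let g2 : (A ⧸ Y) →ₗ[A] (A ⧸ (X ⊔ Y)) := Submodule.factor (le_sup_right : Y ≤ X ⊔ Y)
  have hf1 : ∀ a : A, f1 (Submodule.Quotient.mk a) = Submodule.Quotient.mk a := fun a => rfl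
  have hf2 : ∀ a : A, f2 (Submodule.Quotient.mk a) = Submodule.Quotient.mk a := fun a => rfl
  have hg1 : ∀ a : A, g1 (Submodule.Quotient.mk a) = Submodule.Quotient.mk a := fun a => rfl
  have hg2 : ∀ a : A, g2 (Submodule.Quotient.mk a) = Submodule.Quotient.mk a := fun a => rfl
  let f : (A ⧸ (X ⊓ Y)) →ₗ[A] (A ⧸ X) × (A ⧸ Y) := LinearMap.prod f1 f2
  let g : (A ⧸ X) × (A ⧸ Y) →ₗ[A] (A ⧸ (X ⊔ Y)) := LinearMap.coprod g1 (-g2)
  have hgab : ∀ a b : A, g (Submodule.Quotient.mk a, Submodule.Quotient.mk b) =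
      Submodule.Quotient.mk (a - b) := by
    intro a b
    change g1 (Submodule.Quotient.mk a) + (-g2) (Submodule.Quotient.mk b) = _
    rw [LinearMap.neg_apply, hg1, hg2, ← sub_eq_add_neg, ← Submodule.Quotient.mk_sub]
  have hf : Function.Injective f := by
    rw [← LinearMap.ker_eq_bot, Submodule.eq_bot_iff]
    intro x hx
    obtain ⟨x, rfl⟩ := Submodule.Quotient.mk_surjective _ x
    rw [LinearMap.mem_ker] at hx
    have h1 : f1 (Submodule.Quotient.mk x) = 0 := congrArg Prod.fst hx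
    have h2 : f2 (Submodule.Quotient.mk x) = 0 := congrArg Prod.snd hx
    rw [hf1, Submodule.Quotient.mk_eq_zero] at h1
    rw [hf2, Submodule.Quotient.mk_eq_zero] at h2
    rw [Submodule.Quotient.mk_eq_zero]
    exact ⟨h1, h2⟩
  have hg : Function.Surjective g := by
    intro z
    obtain ⟨z, rfl⟩ := Submodule.Quotient.mk_surjective _ z
    refine ⟨(Submodule.Quotient.mk z, Submodule.Quotient.mk 0), ?_⟩
    rw [hgab, sub_zero]
  have hex : Function.Exact f g := by
    intro p
    obtain ⟨a, b⟩ := p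
    obtain ⟨a, rfl⟩ := Submodule.Quotient.mk_surjective _ a
    obtain ⟨b, rfl⟩ := Submodule.Quotient.mk_surjective _ b
    rw [hgab, Submodule.Quotient.mk_eq_zero]
    constructor
    · intro h
      obtain ⟨x, hx, y, hy, hxy⟩ := Submodule.mem_sup.1 h
      refine ⟨Submodule.Quotient.mk (a - x), ?_⟩
      apply Prod.ext
      · change f1 (Submodule.Quotient.mk (a - x)) = Submodule.Quotient.mk a
        rw [hf1, Submodule.Quotient.eq]
        have : a - x - a = -x := by ring
        rw [this]; exact X.neg_mem hx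
      · change f2 (Submodule.Quotient.mk (a - x)) = Submodule.Quotient.mk b
        rw [hf2, Submodule.Quotient.eq]
        have : a - x - b = y := by linear_combination -hxy
        rw [this]; exact hy
    · rintro ⟨n, hn⟩
      obtain ⟨n, rfl⟩ := Submodule.Quotient.mk_surjective _ n
      have h1 : f1 (Submodule.Quotient.mk n) = Submodule.Quotient.mk a := congrArg Prod.fst hn
      have h2 : f2 (Submodule.Quotient.mk n) = Submodule.Quotient.mk b := congrArg Prod.snd hn
      rw [hf1, Submodule.Quotient.eq] at h1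
      rw [hf2, Submodule.Quotient.eq] at h2
      have : a - b = -(n - a) + (n - b) := by ring
      rw [this]
      exact Submodule.add_mem_sup (X.neg_mem h1) h2
  rw [← Module.length_prod, Module.length_eq_add_of_exact f g hf hg hex]

end mv

section gen

variable {B : Type u} [CommRing B] (a : B)

theorem isUnit_mk (f : MvPowerSeries (Fin 2) B) (hf : IsUnit (constantCoeff f)) :
    IsUnit (Ideal.Quotient.mk (Ideal.span {(X 0 * X 1 - C a : MvPowerSeries (Fin 2) B)}) f) :=
  (MvPowerSeries.isUnit_iff_constantCoeff.2 hf).map _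

theorem span_te_le_jac :
    Ideal.span ({NodeAlg.t a, NodeAlg.e a} : Set (NodeAlg B a)) ≤ Ideal.jacobson ⊥ := by
  rw [Ideal.span_le]
  intro x hx
  simp only [Set.mem_insert_iff, Set.mem_singleton_iff] at hx
  rw [SetLike.mem_coe, Ideal.mem_jacobson_bot]
  intro y
  obtain ⟨g, rfl⟩ := Ideal.Quotient.mk_surjective y
  rcases hx with rfl | rfl
  · have : NodeAlg.t a * Ideal.Quotient.mk _ g + 1 =
        Ideal.Quotient.mk (Ideal.span {(X 0 * X 1 - C a : MvPowerSeries (Fin 2) B)}) (X 0 * g + 1) := by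
      rw [map_add, map_mul, map_one]
    rw [this]
    apply isUnit_mk
    rw [map_add, map_mul, constantCoeff_X, zero_mul, zero_add, map_one]
    exact isUnit_one
  · have : NodeAlg.e a * Ideal.Quotient.mk _ g + 1 =
        Ideal.Quotient.mk (Ideal.span {(X 0 * X 1 - C a : MvPowerSeries (Fin 2) B)}) (X 1 * g + 1) := by
      rw [map_add, map_mul, map_one]
    rw [this]
    apply isUnit_mk
    rw [map_add, map_mul, constantCoeff_X, zero_mul, zero_add, map_one]
    exact isUnit_one

theorem nontrivial_node (ha : ¬ IsUnit a) : Nontrivial (NodeAlg B a) := by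
  rw [Ideal.Quotient.nontrivial_iff]
  intro htop
  have h1 : (1 : MvPowerSeries (Fin 2) B) ∈
      Ideal.span {(X 0 * X 1 - C a : MvPowerSeries (Fin 2) B)} := by rw [htop]; trivial
  obtain ⟨w, hw⟩ := Ideal.mem_span_singleton'.1 h1
  have := congrArg (constantCoeff (σ := Fin 2) (R := B)) hw
  rw [map_mul, map_sub, map_mul, constantCoeff_X, zero_mul, zero_sub, constantCoeff_C, map_one] at this
  apply ha
  exact IsUnit.of_mul_eq_one (-constantCoeff w) (by rw [← this]; ring)

theorem te_isMaximal (ha : ¬ IsUnit a)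
    (hB : ∀ b : B, ¬ IsUnit b → algebraMap B (NodeAlg B a) b ∈
      Ideal.span ({NodeAlg.t a, NodeAlg.e a} : Set (NodeAlg B a))) :
    (Ideal.span ({NodeAlg.t a, NodeAlg.e a} : Set (NodeAlg B a))).IsMaximal := by
  haveI := nontrivial_node a ha
  rw [Ideal.isMaximal_iff]
  constructor
  · intro h1
    have := span_te_le_jac a h1
    rw [Ideal.mem_jacobson_bot] at this
    have h0 := this (-1)
    rw [one_mul, neg_add_cancel] at h0
    exact not_isUnit_zero h0
  · intro J x hJ hx hxJ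
    obtain ⟨_, ⟨b, rfl⟩, r₁, r₂, rfl⟩ := node_decomp a x
    have hm : NodeAlg.t a * r₁ + NodeAlg.e a * r₂ ∈
        Ideal.span ({NodeAlg.t a, NodeAlg.e a} : Set (NodeAlg B a)) :=
      Ideal.add_mem _ (Ideal.mul_mem_right _ _ (Ideal.subset_span (by simp)))
        (Ideal.mul_mem_right _ _ (Ideal.subset_span (by simp)))
    have hb : IsUnit b := by
      by_contra hb
      apply hx
      rw [add_assoc]
      exact Ideal.add_mem _ (hB b hb) hm
    have hu : IsUnit (algebraMap B (NodeAlg B a) b + NodeAlg.t a * r₁ + NodeAlg.e a * r₂) := by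
      obtain ⟨u, hu⟩ := hb.map (algebraMap B (NodeAlg B a))
      have hz : (↑u⁻¹ : NodeAlg B a) * (NodeAlg.t a * r₁ + NodeAlg.e a * r₂) ∈
          Ideal.jacobson (⊥ : Ideal (NodeAlg B a)) :=
        Ideal.mul_mem_left _ _ (span_te_le_jac a hm)
      have h1 : IsUnit ((↑u⁻¹ : NodeAlg B a) *
          (algebraMap B (NodeAlg B a) b + NodeAlg.t a * r₁ + NodeAlg.e a * r₂)) := by
        apply Ideal.isUnit_of_sub_one_mem_jacobson_bot
        have : (↑u⁻¹ : NodeAlg B a) *
            (algebraMap B (NodeAlg B a) b + NodeAlg.t a * r₁ + NodeAlg.e a * r₂) - 1 =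
            (↑u⁻¹ : NodeAlg B a) * (NodeAlg.t a * r₁ + NodeAlg.e a * r₂) := by
          rw [← hu, add_assoc, mul_add, Units.inv_mul]; ring
        rw [this]
        exact hz
      have h2 : algebraMap B (NodeAlg B a) b + NodeAlg.t a * r₁ + NodeAlg.e a * r₂ =
          (u : NodeAlg B a) * ((↑u⁻¹ : NodeAlg B a) *
          (algebraMap B (NodeAlg B a) b + NodeAlg.t a * r₁ + NodeAlg.e a * r₂)) := by
        rw [← mul_assoc, Units.mul_inv, one_mul]
      rw [h2]
      exact u.isUnit.mul h1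
    rw [← Ideal.eq_top_iff_one]
    exact Ideal.eq_top_of_isUnit_mem _ hxJ hu

theorem length_quot_maximal {A : Type u} [CommRing A] (m : Ideal A) [hm : m.IsMaximal] :
    Module.length A (A ⧸ m) = 1 := by
  rw [Module.length_eq_one_iff, isSimpleModule_iff_isCoatom]
  exact Ideal.isMaximal_def.1 hm

end gen

section zero

variable {B : Type u} [CommRing B]

theorem X1_dvd_of_dvd_X0_mul (f : MvPowerSeries (Fin 2) B)
    (h : (X 1 : MvPowerSeries (Fin 2) B) ∣ X 0 * f) : (X 1 : MvPowerSeries (Fin 2) B) ∣ f := by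
  rw [MvPowerSeries.X_dvd_iff] at h ⊢
  intro m hm
  have h1 := h (m + Finsupp.single 0 1) (by
    rw [Finsupp.add_apply, hm, Finsupp.single_apply, if_neg (by decide), add_zero])
  rw [add_comm, X_def, coeff_add_monomial_mul, one_mul] at h1
  exact h1

theorem inf_te_zero : Ideal.span ({NodeAlg.t (0 : B)} : Set (NodeAlg B 0)) ⊓
    Ideal.span {NodeAlg.e (0 : B)} = ⊥ := by
  rw [eq_bot_iff]
  rintro x ⟨h0, h1⟩
  obtain ⟨f, rfl⟩ := Ideal.Quotient.mk_surjective x
  obtain ⟨g0, hg0⟩ := Ideal.mem_span_singleton'.1 h0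
  obtain ⟨g1, hg1⟩ := Ideal.mem_span_singleton'.1 h1
  obtain ⟨g0, rfl⟩ := Ideal.Quotient.mk_surjective g0
  obtain ⟨g1, rfl⟩ := Ideal.Quotient.mk_surjective g1
  rw [← map_mul, Ideal.Quotient.eq, Ideal.mem_span_singleton'] at hg0 hg1
  obtain ⟨w0, hw0⟩ := hg0
  obtain ⟨w1, hw1⟩ := hg1
  have hd0 : (X 0 : MvPowerSeries (Fin 2) B) ∣ f := by
    refine ⟨g0 - X 1 * w0, ?_⟩
    rw [map_zero, sub_zero] at hw0
    linear_combination hw0
  have hd1 : (X 1 : MvPowerSeries (Fin 2) B) ∣ f := by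
    refine ⟨g1 - X 0 * w1, ?_⟩
    rw [map_zero, sub_zero] at hw1
    linear_combination hw1
  obtain ⟨f', rfl⟩ := hd0
  obtain ⟨f'', rfl⟩ := X1_dvd_of_dvd_X0_mul f' hd1
  rw [Ideal.mem_bot, Ideal.Quotient.eq_zero_iff_mem, Ideal.mem_span_singleton']
  exact ⟨f'', by rw [map_zero, sub_zero]; ring⟩

end zero

end Groth.Agent.Helper23.NodeLen
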