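import Mathlib

/-!
# Irreducible components under a transitive action on the fibres of a closed map (helper23)
-/

set_option autoImplicit false
open Set

namespace Groth.Agent.Helper23.OrbitTopo

variable {X S G : Type*} [TopologicalSpace X] [TopologicalSpace S]

/-- a closed surjective map whose fibres are orbits of a family of homeomorphisms is open -/
theorem isOpen_image (f : X → S) (hcl : IsClosedMap f) (hsurj : Function.Surjective f)
    (h : G → X ≃ₜ X) (hcompat : ∀ g x, f (h g x) = f x)
    (htr : ∀ x y, f x = f y → ∃ g, h g x = y) (U : Set X) (hU : IsOpen U) : IsOpen (f '' U) := by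
  have hW : IsOpen (⋃ g, h g '' U) := isOpen_iUnion fun g => (h g).isOpenMap U hU
  have heq : f '' U = (f '' (⋃ g, h g '' U)ᶜ)ᶜ := by
    ext s
    simp only [mem_compl_iff, mem_image, mem_iUnion, not_exists, not_and]
    constructor
    · rintro ⟨u, hu, rfl⟩ x hx hfx
      obtain ⟨c, hc⟩ := htr u x hfx.symm
      exact hx c u hu hc
    · intro hs
      obtain ⟨x, rfl⟩ := hsurj s
      by_contra hcon
      apply hs x _ rfl
      intro g u hu hgu
      apply hcon
      exact ⟨u, hu, by rw [← hgu, hcompat]⟩
  rw [heq]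
  exact (hcl _ hW.isClosed_compl).isOpen_compl

/-- the open part of an irreducible component not meeting the others -/
theorem generic_open (hfin : (irreducibleComponents X).Finite) (T : Set X)
    (hT : T ∈ irreducibleComponents X) :
    IsOpen (⋃₀ (irreducibleComponents X \ {T}))ᶜ ∧ (⋃₀ (irreducibleComponents X \ {T}))ᶜ ⊆ T ∧
      ((⋃₀ (irreducibleComponents X \ {T}))ᶜ).Nonempty := by
  refine ⟨?_, ?_, ?_⟩
  · rw [Set.sUnion_eq_biUnion, isOpen_compl_iff]
    exact hfin.sdiff.isClosed_biUnion fun W hW => isClosed_of_mem_irreducibleComponents W hW.1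
  · have h1 := closure_sUnion_irreducibleComponents_sdiff_singleton hfin T hT
    intro x hx
    rw [← h1]
    exact subset_closure hx
  · by_contra hne
    rw [Set.not_nonempty_iff_eq_empty, Set.compl_empty_iff] at hne
    have := mem_of_subset_sUnion_irreducibleComponents T hT _ hfin.sdiff Set.sdiff_subset
      (hne ▸ Set.subset_univ T)
    exact this.2 rfl

theorem main [IrreducibleSpace S] (f : X → S) (hcl : IsClosedMap f)
    (hsurj : Function.Surjective f)
    (h : G → X ≃ₜ X) (hcompat : ∀ g x, f (h g x) = f x)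
    (htr : ∀ x y, f x = f y → ∃ g, h g x = y)
    (hfin : (irreducibleComponents X).Finite) :
    (∀ T ∈ irreducibleComponents X, f '' T = Set.univ) ∧
    ∀ T₁ ∈ irreducibleComponents X, ∀ T₂ ∈ irreducibleComponents X, ∃ g, h g '' T₁ = T₂ := by
  constructor
  · intro T hT
    obtain ⟨ho, hsub, hne⟩ := generic_open hfin T hT
    have h1 : IsOpen (f '' (⋃₀ (irreducibleComponents X \ {T}))ᶜ) :=
      isOpen_image f hcl hsurj h hcompat htr _ ho
    have h2 : Dense (f '' (⋃₀ (irreducibleComponents X \ {T}))ᶜ) := h1.dense (hne.image f)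
    have h3 : IsClosed (f '' T) := hcl T (isClosed_of_mem_irreducibleComponents T hT)
    rw [← h3.closure_eq, eq_univ_iff_forall]
    intro s
    exact closure_mono (Set.image_mono hsub) (h2 s)
  · intro T₁ hT₁ T₂ hT₂
    obtain ⟨ho₁, hsub₁, hne₁⟩ := generic_open hfin T₁ hT₁
    obtain ⟨ho₂, hsub₂, hne₂⟩ := generic_open hfin T₂ hT₂
    have h1 := isOpen_image f hcl hsurj h hcompat htr _ ho₁
    have h2 := isOpen_image f hcl hsurj h hcompat htr _ ho₂
    obtain ⟨s, ⟨u₁, hu₁, rfl⟩, ⟨u₂, hu₂, hfu⟩⟩ :=
      nonempty_preirreducible_inter h1 h2 (hne₁.image f) (hne₂.image f)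
    obtain ⟨g, hg⟩ := htr u₁ u₂ hfu.symm
    refine ⟨g, ?_⟩
    have hcomp : h g '' T₁ ∈ irreducibleComponents X :=
      image_mem_irreducibleComponents_of_isPreirreducible_fiber (h g) (h g).continuous
        (h g).isOpenMap
        (fun x => (subsingleton_singleton.preimage (h g).injective).isPreirreducible)
        (h g).surjective hT₁
    by_contra hne
    apply hu₂
    exact ⟨h g '' T₁, ⟨hcomp, hne⟩, ⟨u₁, hsub₁ hu₁, hg⟩⟩

end Groth.Agent.Helper23.OrbitTopo
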