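import Mathlib
import Groth.Prelude.Def_CohB1
import Groth.Agent.Lib.Helper26.ProjChart
import Groth.Agent.Lib.Helper23.WeilPt

/-!
# Projective space over an irreducible scheme is irreducible (helper23)
-/

set_option autoImplicit false

universe u

open CategoryTheory AlgebraicGeometry TopologicalSpace Opposite Limits MvPolynomial

namespace Groth.Agent.Helper23.P1Irr

theorem irreducibleSpace_of_cover {T : Type*} [TopologicalSpace T] {ι : Type*}
    (U : ι → Set T) (hopen : ∀ i, IsOpen (U i)) (hirr : ∀ i, IsIrreducible (U i))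
    (hcov : ∀ x : T, ∃ i, x ∈ U i) (z : T) (hz : ∀ i, z ∈ U i) : IrreducibleSpace T := by
  haveI : PreirreducibleSpace T := by
    constructor
    intro u v hu hv ⟨x, _, hxu⟩ ⟨y, _, hyv⟩
    obtain ⟨i, hxi⟩ := hcov x
    obtain ⟨j, hyj⟩ := hcov y
    obtain ⟨w, hwi, hwu, hwj⟩ := (hirr i).2 u (U j) hu (hopen j) ⟨x, hxi, hxu⟩ ⟨z, hz i, hz j⟩
    obtain ⟨w', hw'j, hw'u, hw'v⟩ := (hirr j).2 u v hu hv ⟨w, hwj, hwu⟩ ⟨y, hyj, hyv⟩
    exact ⟨w', Set.mem_univ _, hw'u, hw'v⟩
  exact { toNonempty := ⟨z⟩ }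


open Groth.Agent.Lib.Helper26.ProjChart

section

variable (n : ℕ)

/-- the chart `Spec Z'[T]_(T_i) ⟶ P^n_{Z'}`. -/
noncomputable abbrev aι (i : Fin (n + 1)) :
    Spec (CommRingCat.of (HomogeneousLocalization.Away (CohB1.polyGrading n (ULift.{u} ℤ))
      (X i : MvPolynomial (Fin (n + 1)) (ULift.{u} ℤ)))) ⟶
      Proj (CohB1.polyGrading n (ULift.{u} ℤ)) :=
  Proj.awayι (CohB1.polyGrading n (ULift.{u} ℤ)) (X i) (X_mem n (ULift.{u} ℤ) i) one_pos

/-- the ring isomorphism of the chart with a polynomial ring in a `Type u` index set -/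
noncomputable def chartRingEquiv (i : Fin (n + 1)) :
    MvPolynomial (ULift.{u} {j : Fin (n + 1) // j ≠ i}) (ULift.{u} ℤ) ≃+*
      HomogeneousLocalization.Away (CohB1.polyGrading n (ULift.{u} ℤ))
        (X i : MvPolynomial (Fin (n + 1)) (ULift.{u} ℤ)) :=
  (MvPolynomial.renameEquiv (ULift.{u} ℤ) Equiv.ulift).toRingEquiv.trans
    (RingEquiv.ofBijective (φ n (ULift.{u} ℤ) i) (φ_bijective n (ULift.{u} ℤ) i))

/-- the chart is an affine space over `ℤ` -/
noncomputable def chartIso (i : Fin (n + 1)) :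
    Spec (CommRingCat.of (HomogeneousLocalization.Away (CohB1.polyGrading n (ULift.{u} ℤ))
      (X i : MvPolynomial (Fin (n + 1)) (ULift.{u} ℤ)))) ≅
    Spec (CommRingCat.of (MvPolynomial (ULift.{u} {j : Fin (n + 1) // j ≠ i}) (ULift.{u} ℤ))) :=
  Scheme.Spec.mapIso (chartRingEquiv n i).toCommRingCatIso.op


section overS

variable (n : ℕ) (S : Scheme.{u})

/-- the projection `P^n_S ⟶ P^n_ℤ`. -/
noncomputable abbrev fstP : CohB1.ProjSpaceOver n S ⟶ Proj (CohB1.polyGrading n (ULift.{u} ℤ)) :=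
  pullback.fst (CohB1.ProjSpace.toSpec n (ULift.{u} ℤ)) (specULiftZIsTerminal.from S)

instance : IsIso (terminal.from (Spec (CommRingCat.of (ULift.{u} ℤ)))) := by
  have e : terminal.from (Spec (CommRingCat.of (ULift.{u} ℤ))) =
      (specULiftZIsTerminal.uniqueUpToIso terminalIsTerminal).hom := terminal.hom_ext _ _
  rw [e]
  infer_instance

/-- the pullback of the `i`-th chart to `P^n_S` is an affine space over `S`. -/
noncomputable def chartOverIso (i : Fin (n + 1)) :
    pullback (aι n i) (fstP n S) ≅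
    AffineSpace (ULift.{u} {j : Fin (n + 1) // j ≠ i}) S :=
  pullbackRightPullbackFstIso (CohB1.ProjSpace.toSpec n (ULift.{u} ℤ))
      (specULiftZIsTerminal.from S) (aι n i) ≪≫ pullbackSymmetry _ _ ≪≫
    @asIso _ _ _ _ (pullback.map (specULiftZIsTerminal.from S)
      (aι n i ≫ CohB1.ProjSpace.toSpec n (ULift.{u} ℤ)) (terminal.from S)
      (terminal.from (Spec (CommRingCat.of
        (MvPolynomial (ULift.{u} {j : Fin (n + 1) // j ≠ i}) (ULift.{u} ℤ)))))
      (𝟙 S) (chartIso n i).hom (terminal.from (Spec (CommRingCat.of (ULift.{u} ℤ))))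
      (terminal.hom_ext _ _) (terminal.hom_ext _ _))
      (pullback.map_isIso _ _ _ _ _ _ _ _ _)

instance [IrreducibleSpace S] (i : Fin (n + 1)) :
    IrreducibleSpace ↥(pullback (aι n i) (fstP n S)) :=
  ((Scheme.homeoOfIso (chartOverIso n S i)).irreducibleSpace_iff).2 inferInstance

/-- the `i`-th standard open of `P^n_S` -/
noncomputable def chartSet (i : Fin (n + 1)) : Set ↥(CohB1.ProjSpaceOver n S) :=
  Set.range (pullback.snd (aι n i) (fstP n S))

theorem chartSet_eq (i : Fin (n + 1)) :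
    chartSet n S i = (fstP n S) ⁻¹' (Proj.basicOpen (CohB1.polyGrading n (ULift.{u} ℤ))
      (X i : MvPolynomial (Fin (n + 1)) (ULift.{u} ℤ)) : Set _) := by
  unfold chartSet
  rw [IsOpenImmersion.range_pullbackSnd, Proj.opensRange_awayι]
  rfl

theorem isOpen_chartSet (i : Fin (n + 1)) : IsOpen (chartSet n S i) :=
  (pullback.snd (aι n i) (fstP n S)).isOpenEmbedding.isOpen_range

theorem isIrreducible_chartSet [IrreducibleSpace S] (i : Fin (n + 1)) :
    IsIrreducible (chartSet n S i) := by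
  unfold chartSet
  rw [← Set.image_univ]
  exact (IrreducibleSpace.isIrreducible_univ _).image _
    (pullback.snd (aι n i) (fstP n S)).continuous.continuousOn

theorem exists_mem_chartSet (x : ↥(CohB1.ProjSpaceOver n S)) : ∃ i, x ∈ chartSet n S i := by
  have h : (fstP n S) x ∈ (⊤ : (Proj (CohB1.polyGrading n (ULift.{u} ℤ))).Opens) := trivial
  rw [← iSup_basicOpen n (ULift.{u} ℤ), Opens.mem_iSup] at h
  obtain ⟨i, hi⟩ := h
  exact ⟨i, by rw [chartSet_eq]; exact hi⟩

open Groth.Agent.Helper23.WeilPt in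
theorem secOver_mem_chartSet (s : ↥S) (i : Fin (n + 1)) :
    (secOver n S) s ∈ chartSet n S i := by
  rw [chartSet_eq]
  show (fstP n S) ((secOver n S) s) ∈ (Proj.basicOpen (CohB1.polyGrading n (ULift.{u} ℤ))
      (X i : MvPolynomial (Fin (n + 1)) (ULift.{u} ℤ)) : Set _)
  rw [← Scheme.Hom.comp_apply]
  have e : secOver n S ≫ fstP n S = specULiftZIsTerminal.from S ≫ sec0 n (ULift.{u} ℤ) := by
    unfold secOver
    exact pullback.lift_fst _ _ _
  rw [e, Scheme.Hom.comp_apply]
  have h := Proj.fromOfGlobalSections_preimage_basicOpen (CohB1.polyGrading n (ULift.{u} ℤ))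
    (evOne n (ULift.{u} ℤ)) (evOne_irrelevant n (ULift.{u} ℤ)) one_pos (X_mem n (ULift.{u} ℤ) i)
  have h1 : evOne n (ULift.{u} ℤ) (X i) = 1 := by simp [evOne]
  rw [h1, Scheme.basicOpen_of_isUnit _ isUnit_one] at h
  have h2 : (specULiftZIsTerminal.from S) s ∈
      (sec0 n (ULift.{u} ℤ)) ⁻¹ᵁ Proj.basicOpen (CohB1.polyGrading n (ULift.{u} ℤ))
        (X i : MvPolynomial (Fin (n + 1)) (ULift.{u} ℤ)) := by
    unfold sec0
    rw [h]; trivial
  exact h2

instance irreducibleSpace_projSpaceOver [IrreducibleSpace S] :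
    IrreducibleSpace ↥(CohB1.ProjSpaceOver n S) := by
  obtain ⟨s⟩ := (inferInstance : Nonempty S)
  exact irreducibleSpace_of_cover (chartSet n S) (isOpen_chartSet n S) (isIrreducible_chartSet n S)
    (exists_mem_chartSet n S) _ (secOver_mem_chartSet n S s)

end overS

end

end Groth.Agent.Helper23.P1Irr
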