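import Mathlib
import Groth.Agent.Lib.Helper16.Sch.UHLift

/-!
# Gluing étale lifts along a universal homeomorphism, given affine-local lifts (helper23)

Adapted from helper1's `TH1` (itself adapted from helper18's `UTGlue`): the closed immersion is
replaced by an integral, universally injective, surjective morphism and the affine-local existence
of lifts becomes a hypothesis (`HasAffineLifts`).
-/

universe u
set_option autoImplicit false
set_option linter.unusedSectionVars false
set_option linter.style.haveILetI false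
open CategoryTheory CategoryTheory.Limits AlgebraicGeometry TopologicalSpace Opposite

namespace Groth.Agent.Helper23.UHGlue

open Groth.Agent.Helper16.UHLift

variable {S S₀ Z : Scheme.{u}} (i : S₀ ⟶ S) (y : Z ⟶ S₀)

/-- an étale lift to `S` of the open `V` of the `S₀`-scheme `Z` -/
structure Lift (V : Z.Opens) where
  T : Scheme.{u}
  g : T ⟶ S
  j : V.toScheme ⟶ T
  et : Etale g
  pb : IsPullback j (V.ι ≫ y) g i

/-- opens admitting an étale lift -/
def J : Type u := {V : Z.Opens // Nonempty (Lift i y V)}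

instance : Preorder (J i y) := inferInstanceAs (Preorder {V : Z.Opens // Nonempty (Lift i y V)})

variable {i y}

noncomputable def lt (k : J i y) : Lift i y k.1 := k.2.some

instance (k : J i y) : Etale (lt k).g := (lt k).et

variable [IsIntegralHom i] [UniversallyInjective i] [Surjective i]

instance (k : J i y) : IsIntegralHom (lt k).j :=
  MorphismProperty.of_isPullback (P := @IsIntegralHom) (lt k).pb.flip inferInstance

instance (k : J i y) : UniversallyInjective (lt k).j :=
  MorphismProperty.of_isPullback (P := @UniversallyInjective) (lt k).pb.flip inferInstance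

instance (k : J i y) : Surjective (lt k).j :=
  MorphismProperty.of_isPullback (P := @Surjective) (lt k).pb.flip inferInstance

theorem trans_exists {k l : J i y} (hkl : k.1 ≤ l.1) :
    ∃! m : (lt k).T ⟶ (lt l).T,
      (lt k).j ≫ m = Z.homOfLE hkl ≫ (lt l).j ∧ m ≫ (lt l).g = (lt k).g := by
  refine exists_unique_lift_univHomeo (lt l).g (lt k).j (Z.homOfLE hkl ≫ (lt l).j) (lt k).g ?_
  calc (lt k).j ≫ (lt k).g = (k.1.ι ≫ y) ≫ i := (lt k).pb.w
    _ = (Z.homOfLE hkl ≫ l.1.ι ≫ y) ≫ i := by rw [Scheme.homOfLE_ι_assoc]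
    _ = Z.homOfLE hkl ≫ ((l.1.ι ≫ y) ≫ i) := by simp only [Category.assoc]
    _ = Z.homOfLE hkl ≫ ((lt l).j ≫ (lt l).g) := by rw [(lt l).pb.w]
    _ = (Z.homOfLE hkl ≫ (lt l).j) ≫ (lt l).g := by rw [Category.assoc]

noncomputable def trans {k l : J i y} (hkl : k.1 ≤ l.1) : (lt k).T ⟶ (lt l).T :=
  (trans_exists hkl).choose

theorem j_trans {k l : J i y} (hkl : k.1 ≤ l.1) :
    (lt k).j ≫ trans hkl = Z.homOfLE hkl ≫ (lt l).j :=
  (trans_exists hkl).choose_spec.1.1

theorem trans_g {k l : J i y} (hkl : k.1 ≤ l.1) : trans hkl ≫ (lt l).g = (lt k).g :=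
  (trans_exists hkl).choose_spec.1.2

theorem trans_unique {k l : J i y} (hkl : k.1 ≤ l.1) (m : (lt k).T ⟶ (lt l).T)
    (h1 : (lt k).j ≫ m = Z.homOfLE hkl ≫ (lt l).j) (h2 : m ≫ (lt l).g = (lt k).g) :
    m = trans hkl :=
  (trans_exists hkl).choose_spec.2 m ⟨h1, h2⟩

theorem trans_id (k : J i y) : trans (le_refl k.1) = 𝟙 (lt k).T := by
  symm
  apply trans_unique
  · rw [Category.comp_id, Scheme.homOfLE_rfl, Category.id_comp]
  · rw [Category.id_comp]

theorem trans_comp {k l m : J i y} (hkl : k.1 ≤ l.1) (hlm : l.1 ≤ m.1) :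
    trans (hkl.trans hlm) = trans hkl ≫ trans hlm := by
  symm
  apply trans_unique
  · rw [← Category.assoc, j_trans, Category.assoc, j_trans, ← Category.assoc,
      Scheme.homOfLE_homOfLE]
  · rw [Category.assoc, trans_g, trans_g]

variable (i y) in
/-- the diagram of local lifts -/
noncomputable def F : J i y ⥤ Scheme.{u} where
  obj k := (lt k).T
  map f := trans (leOfHom f)
  map_id k := trans_id k
  map_comp f g := trans_comp (leOfHom f) (leOfHom g)

theorem isOpenImmersion_trans {k l : J i y} (hkl : k.1 ≤ l.1) : IsOpenImmersion (trans hkl) := by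
  haveI : Etale (trans hkl ≫ (lt l).g) := by rw [trans_g]; infer_instance
  haveI : Etale (trans hkl) := Etale.of_comp (trans hkl) (lt l).g
  haveI : UniversallyInjective ((lt k).j ≫ trans hkl) := by
    rw [j_trans]
    exact MorphismProperty.comp_mem @UniversallyInjective _ _ inferInstance inferInstance
  haveI : UniversallyInjective (trans hkl) := universallyInjective_of_comp (lt k).j (trans hkl)
  exact isOpenImmersion_of_etale_of_universallyInjective (trans hkl)

instance {k l : J i y} (f : k ⟶ l) : IsOpenImmersion ((F i y).map f) :=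
  isOpenImmersion_trans (leOfHom f)

theorem j_surjective (k : J i y) : Function.Surjective (lt k).j := (lt k).j.surjective

theorem j_injective (k : J i y) : Function.Injective (lt k).j :=
  (lt k).j.injective

theorem trans_j_apply {k l : J i y} (hkl : k.1 ≤ l.1) (z : k.1.toScheme) :
    trans hkl ((lt k).j z) = (lt l).j (Z.homOfLE hkl z) := by
  have := congr($(j_trans hkl) z)
  exact this

variable (i y) in
/-- affine opens of `Z` over affine opens of `S` admit affine étale lifts -/
class HasAffineLifts : Prop where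
  out : ∀ (W : S.Opens) (_ : IsAffineOpen W) (V : Z.Opens) (_ : IsAffineOpen V)
    (_ : V ≤ (y ≫ i) ⁻¹ᵁ W), ∃ D : Lift i y V, IsAffine D.T

theorem exists_affine_lift [HasAffineLifts i y] (W : S.Opens) (hW : IsAffineOpen W) (V : Z.Opens)
    (hV : IsAffineOpen V) (hle : V ≤ (y ≫ i) ⁻¹ᵁ W) : ∃ D : Lift i y V, IsAffine D.T :=
  HasAffineLifts.out W hW V hV hle

variable [Etale y] [HasAffineLifts i y]

theorem exists_mem_le (z : Z) (O : Z.Opens) (hz : z ∈ O) :
    ∃ k : J i y, z ∈ k.1 ∧ k.1 ≤ O := by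
  obtain ⟨W, hW, hzW⟩ : ∃ W : S.Opens, IsAffineOpen W ∧ (y ≫ i) z ∈ W := by
    obtain ⟨_, ⟨W, hW, rfl⟩, hzW, -⟩ :=
      S.isBasis_affineOpens.exists_subset_of_mem_open (Set.mem_univ ((y ≫ i) z)) isOpen_univ
    exact ⟨W, hW, hzW⟩
  obtain ⟨V, hV, hzV, hVle⟩ : ∃ V : Z.Opens, IsAffineOpen V ∧ z ∈ V ∧ V ≤ (y ≫ i) ⁻¹ᵁ W ⊓ O := by
    obtain ⟨_, ⟨V, hV, rfl⟩, hzV, hVle⟩ :=
      Z.isBasis_affineOpens.exists_subset_of_mem_open (show z ∈ (y ≫ i) ⁻¹ᵁ W ⊓ O from ⟨hzW, hz⟩)
        ((y ≫ i) ⁻¹ᵁ W ⊓ O).2
    exact ⟨V, hV, hzV, hVle⟩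
  obtain ⟨D, -⟩ := exists_affine_lift (i := i) (y := y) W hW V hV (hVle.trans inf_le_left)
  exact ⟨⟨V, ⟨D⟩⟩, hzV, hVle.trans inf_le_right⟩

instance : ((F i y) ⋙ Scheme.forget).IsLocallyDirected where
  cond {a b c} fa fb xa xb heq := by
    obtain ⟨za, rfl⟩ := j_surjective a xa
    obtain ⟨zb, rfl⟩ := j_surjective b xb
    have h1 : trans (leOfHom fa) ((lt a).j za) = trans (leOfHom fb) ((lt b).j zb) := heq
    rw [trans_j_apply, trans_j_apply] at h1
    have h2 := j_injective c h1
    have h3 : za.1 = zb.1 := by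
      have := congrArg Subtype.val h2
      exact (Scheme.homOfLE_apply _ za).symm.trans (this.trans (Scheme.homOfLE_apply _ zb))
    obtain ⟨l, hzl, hl⟩ := exists_mem_le (i := i) (y := y) za.1 (a.1 ⊓ b.1) ⟨za.2, h3 ▸ zb.2⟩
    have hla : l.1 ≤ a.1 := hl.trans inf_le_left
    have hlb : l.1 ≤ b.1 := hl.trans inf_le_right
    let z : l.1.toScheme := ⟨za.1, hzl⟩
    refine ⟨l, homOfLE hla, homOfLE hlb, (lt l).j z, ?_, ?_⟩
    · change trans hla ((lt l).j z) = _
      rw [trans_j_apply]
      congr 1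
      exact Subtype.ext (Scheme.homOfLE_apply _ _)
    · change trans hlb ((lt l).j z) = _
      rw [trans_j_apply]
      congr 1
      exact Subtype.ext ((Scheme.homOfLE_apply _ _).trans h3)

variable (i y) in
/-- the cover of `Z` by the opens admitting an étale lift. -/
noncomputable def cov : Z.OpenCover where
  I₀ := J i y
  X k := k.1.toScheme
  f k := k.1.ι
  mem₀ := by
    rw [Scheme.presieve₀_mem_precoverage_iff]
    refine ⟨fun z ↦ ?_, inferInstance⟩
    obtain ⟨k, hk, -⟩ := exists_mem_le (i := i) (y := y) z ⊤ trivial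
    exact ⟨k, ⟨z, hk⟩, rfl⟩

instance : Preorder (cov i y).I₀ := inferInstanceAs (Preorder (J i y))

noncomputable instance : Scheme.Cover.LocallyDirected (cov i y) :=
  .ofIsBasisOpensRange (by
    intro a b
    change a.1 ≤ b.1 ↔ (a.1.ι).opensRange ≤ (b.1.ι).opensRange
    rw [Scheme.Opens.opensRange_ι, Scheme.Opens.opensRange_ι]) (by
    rw [TopologicalSpace.Opens.isBasis_iff_nbhd]
    intro O z hz
    obtain ⟨k, hk, hkO⟩ := exists_mem_le (i := i) (y := y) z O hz
    refine ⟨k.1, ⟨k, ?_⟩, hk, hkO⟩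
    change (k.1.ι).opensRange = k.1
    rw [Scheme.Opens.opensRange_ι])

variable (i y)

/-- the glued lift -/
noncomputable def Y' : Scheme.{u} := colimit (F i y)

/-- the charts of the glued lift -/
noncomputable def ιY (k : J i y) : (lt k).T ⟶ Y' i y := colimit.ι (F i y) k

instance (k : J i y) : IsOpenImmersion (ιY i y k) :=
  inferInstanceAs (IsOpenImmersion (colimit.ι (F i y) k))

theorem trans_ιY {k l : J i y} (hkl : k.1 ≤ l.1) : trans hkl ≫ ιY i y l = ιY i y k :=
  colimit.w (F i y) (homOfLE hkl)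

/-- the cocone of structure maps -/
noncomputable def gCocone : Cocone (F i y) where
  pt := S
  ι :=
    { app := fun k => (lt k).g
      naturality := fun k l f => by
        change trans (leOfHom f) ≫ _ = _ ≫ 𝟙 _
        rw [trans_g, Category.comp_id] }

/-- the structure map of the glued lift -/
noncomputable def gY : Y' i y ⟶ S := colimit.desc (F i y) (gCocone i y)

theorem ιY_gY (k : J i y) : ιY i y k ≫ gY i y = (lt k).g :=
  colimit.ι_desc _ _

theorem etale_gY : Etale (gY i y) := by
  refine IsZariskiLocalAtSource.of_openCover (P := @Etale)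
    (Scheme.IsLocallyDirected.openCover (F i y)) fun k => ?_
  change Etale (ιY i y k ≫ gY i y)
  rw [ιY_gY]
  infer_instance

theorem cov_trans {k l : J i y} (f : (k : (cov i y).I₀) ⟶ l) :
    (cov i y).trans f = Z.homOfLE (leOfHom f : k.1 ≤ l.1) := by
  apply (cancel_mono (l.1.ι)).1
  exact ((cov i y).trans_map f).trans (Scheme.homOfLE_ι _ _).symm

theorem jY_compat {k l : (cov i y).I₀} (f : k ⟶ l) :
    (cov i y).trans f ≫ (fun k : J i y => (lt k).j ≫ ιY i y k) l =
      (fun k : J i y => (lt k).j ≫ ιY i y k) k := by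
  revert k l
  intro (k : J i y) (l : J i y) f
  have hf := cov_trans i y f
  have h2 : Z.homOfLE (leOfHom f : k.1 ≤ l.1) ≫ (lt l).j ≫ ιY i y l = (lt k).j ≫ ιY i y k := by
    rw [← Category.assoc, ← j_trans, Category.assoc, trans_ιY]
  exact (congrArg (· ≫ (lt l).j ≫ ιY i y l) hf).trans h2

/-- the glued closed immersion -/
noncomputable def jY : Z ⟶ Y' i y :=
  (cov i y).glueMorphismsOfLocallyDirected (fun k : J i y => (lt k).j ≫ ιY i y k)
    (fun f => jY_compat i y f)

theorem ι_jY (k : J i y) : k.1.ι ≫ jY i y = (lt k).j ≫ ιY i y k := by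
  unfold jY
  exact (cov i y).map_glueMorphismsOfLocallyDirected _ (fun f => jY_compat i y f) k

theorem jY_gY : jY i y ≫ gY i y = y ≫ i := by
  refine Scheme.Cover.hom_ext (cov i y) _ _ fun (k : J i y) => ?_
  change k.1.ι ≫ jY i y ≫ gY i y = k.1.ι ≫ y ≫ i
  rw [← Category.assoc, ι_jY, Category.assoc, ιY_gY, (lt k).pb.w, Category.assoc]

theorem jY_apply (k : J i y) (z : k.1.toScheme) : jY i y z.1 = ιY i y k ((lt k).j z) := by
  have := congr($(ι_jY i y k) z)
  exact this

theorem exists_chart (z : Z) : ∃ k : J i y, z ∈ k.1 := by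
  obtain ⟨k, hk, -⟩ := exists_mem_le (i := i) (y := y) z ⊤ trivial
  exact ⟨k, hk⟩

theorem jY_preimage_opensRange (k : J i y) : jY i y ⁻¹ᵁ (ιY i y k).opensRange = k.1 := by
  ext z
  constructor
  · rintro ⟨t, ht⟩
    obtain ⟨l, hl⟩ := exists_chart i y z
    have h1 : ιY i y k t = ιY i y l ((lt l).j ⟨z, hl⟩) := ht.trans (jY_apply i y l ⟨z, hl⟩)
    obtain ⟨m, fk, fl, x, hx1, hx2⟩ := (Scheme.IsLocallyDirected.ι_eq_ι_iff (F i y)).1 h1
    obtain ⟨w, rfl⟩ := j_surjective m x
    have h2 : trans (leOfHom fl) ((lt m).j w) = (lt l).j ⟨z, hl⟩ := hx2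
    rw [trans_j_apply] at h2
    have h3 := j_injective l h2
    have h4 : w.1 = z := by
      have := congrArg Subtype.val h3
      exact (Scheme.homOfLE_apply _ w).symm.trans this
    rw [← h4]
    exact (leOfHom fk : m.1 ≤ k.1) w.2
  · intro hz
    exact ⟨(lt k).j ⟨z, hz⟩, (jY_apply i y k ⟨z, hz⟩).symm⟩

theorem isPullback_chart (k : J i y) : IsPullback (lt k).j k.1.ι (ιY i y k) (jY i y) :=
  IsOpenImmersion.isPullback _ _ _ _ (ι_jY i y k) (by
    rw [jY_preimage_opensRange, Scheme.Opens.opensRange_ι])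

omit [IsIntegralHom i] [UniversallyInjective i] [Surjective i] [Etale y] [HasAffineLifts i y] in
theorem universallyInjective_of_comp_left {X₁ X₂ X₃ : Scheme.{u}} (f : X₁ ⟶ X₂) (g : X₂ ⟶ X₃)
    [UniversallyInjective (f ≫ g)] : UniversallyInjective f := by
  have h1 := (tfae_universallyInjective f).out 0 1
  have h2 := (tfae_universallyInjective (f ≫ g)).out 0 1
  refine h1.2 fun K _ g₁ g₂ h => ?_
  apply h2.1 inferInstance K
  show g₁ ≫ f ≫ g = g₂ ≫ f ≫ g
  rw [← Category.assoc, ← Category.assoc]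
  exact congrArg (· ≫ g) h

theorem universallyInjective_jY : UniversallyInjective (jY i y) := by
  refine IsZariskiLocalAtTarget.of_openCover (P := @UniversallyInjective)
    (Scheme.IsLocallyDirected.openCover (F i y)) fun (k : J i y) => ?_
  have H := isPullback_chart i y k
  have e : H.flip.isoPullback.hom ≫
      (Scheme.IsLocallyDirected.openCover (F i y)).pullbackHom (jY i y) k = (lt k).j :=
    H.flip.isoPullback_hom_snd
  have h1 : UniversallyInjective (lt k).j := inferInstance
  have h2 : UniversallyInjective (H.flip.isoPullback.hom ≫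
      (Scheme.IsLocallyDirected.openCover (F i y)).pullbackHom (jY i y) k) := e.symm ▸ h1
  exact (MorphismProperty.cancel_left_of_respectsIso @UniversallyInjective
    H.flip.isoPullback.hom _).1 h2

theorem isPullback_glued : IsPullback (jY i y) y (gY i y) i := by
  haveI : Etale (gY i y) := etale_gY i y
  haveI hcl : UniversallyInjective (jY i y) := universallyInjective_jY i y
  let κ : Z ⟶ pullback (gY i y) i := pullback.lift (jY i y) y (jY_gY i y)
  have hκ1 : κ ≫ pullback.fst (gY i y) i = jY i y := pullback.lift_fst _ _ _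
  have hκ2 : κ ≫ pullback.snd (gY i y) i = y := pullback.lift_snd _ _ _
  haveI : Etale (κ ≫ pullback.snd (gY i y) i) := by rw [hκ2]; infer_instance
  haveI : Etale κ := Etale.of_comp κ (pullback.snd (gY i y) i)
  haveI : UniversallyInjective (κ ≫ pullback.fst (gY i y) i) := by rw [hκ1]; exact hcl
  haveI : UniversallyInjective κ := universallyInjective_of_comp_left κ (pullback.fst (gY i y) i)
  haveI : UniversallyInjective (pullback.fst (gY i y) i) :=
    MorphismProperty.pullback_fst (P := @UniversallyInjective) _ _ inferInstance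
  haveI : Surjective κ := by
    refine ⟨fun p => ?_⟩
    obtain ⟨k, x, hx⟩ := Scheme.IsLocallyDirected.ι_jointly_surjective (F i y)
      (pullback.fst (gY i y) i p)
    obtain ⟨w, rfl⟩ := j_surjective k x
    refine ⟨w.1, ?_⟩
    apply (pullback.fst (gY i y) i).injective
    rw [← Scheme.Hom.comp_apply, hκ1, jY_apply i y k w]
    exact hx
  haveI : IsIso κ := isIso_of_etale_of_universallyInjective_of_surjective κ
  exact IsPullback.of_iso_pullback ⟨jY_gY i y⟩ (asIso κ) hκ1 hκ2

end Groth.Agent.Helper23.UHGlue
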