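import Mathlib
import Groth.Prelude
import Groth.Agent.S3176

/-!
# Descent of étale algebras along `p`-radical injective ring maps (helper23)

Categorical (pushout-square) formulation in `CommRingCat`.
-/

set_option autoImplicit false
universe u
open CategoryTheory CategoryTheory.Limits TensorProduct

namespace Groth.Agent.Helper23.PIDesc

variable (p : ℕ) [Fact p.Prime]

/-- the iterated Frobenius in `CommRingCat` -/
noncomputable def frobC (R : Type u) [CommRing R] [CharP R p] (n : ℕ) :
    CommRingCat.of R ⟶ CommRingCat.of R :=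
  CommRingCat.ofHom (iterateFrobenius R p n)

theorem frobC_apply (R : Type u) [CommRing R] [CharP R p] (n : ℕ) (x : R) :
    (frobC p R n).hom x = x ^ p ^ n := rfl

theorem frobC_succ (R : Type u) [CommRing R] [CharP R p] (n : ℕ) :
    frobC p R (n + 1) = frobC p R n ≫ frobC p R 1 := by
  ext x
  show x ^ p ^ (n + 1) = (x ^ p ^ n) ^ p ^ 1
  rw [pow_one, ← pow_mul, pow_succ]

/-- the Frobenius square of an étale algebra is a pushout -/
theorem isPushout_frob_one (B C : Type u) [CommRing B] [CommRing C] [Algebra B C] [CharP B p]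
    [CharP C p] [Algebra.Etale B C] :
    IsPushout (frobC p B 1) (CommRingCat.ofHom (algebraMap B C))
      (CommRingCat.ofHom (algebraMap B C)) (frobC p C 1) := by
  haveI : Algebra.FinitePresentation B C := Algebra.Etale.finitePresentation
  have hbij : Function.Bijective (FrobAlg.relFrob p B C) :=
    (Groth.Agent.S3176.result p B C).1 inferInstance
  let e : (C ⊗[B] FrobAlg.Twist p B) ≃+* C := RingEquiv.ofBijective (FrobAlg.relFrob p B C) hbij
  have h0 := CommRingCat.isPushout_tensorProduct B C (FrobAlg.Twist p B)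
  have h1 := h0.of_iso (Iso.refl _) (Iso.refl _) (Iso.refl _) e.toCommRingCatIso
    (f' := CommRingCat.ofHom (algebraMap B C))
    (g' := CommRingCat.ofHom (algebraMap B (FrobAlg.Twist p B)))
    (inl' := frobC p C 1)
    (inr' := CommRingCat.ofHom (algebraMap B C)) (by simp) (by simp) ?_ ?_
  · have h2 : IsPushout (CommRingCat.ofHom (frobenius B p)) (CommRingCat.ofHom (algebraMap B C))
        (CommRingCat.ofHom (algebraMap B C)) (frobC p C 1) := h1.flip
    have h3 : frobC p B 1 = CommRingCat.ofHom (frobenius B p) := by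
      ext x
      show x ^ p ^ 1 = x ^ p
      rw [pow_one]
    rw [h3]
    exact h2
  · ext x
    show FrobAlg.relFrob p B C (x ⊗ₜ 1) = (frobC p C 1).hom x
    rw [frobC_apply, pow_one]
    simp [FrobAlg.relFrob, FrobAlg.frobHom, FrobAlg.inclHom, FrobAlg.toTarget, FrobAlg.toTwist,
      frobenius_def]
  · ext x
    show FrobAlg.relFrob p B C (1 ⊗ₜ x) = algebraMap B C x
    simp [FrobAlg.relFrob, FrobAlg.frobHom, FrobAlg.inclHom, FrobAlg.toTarget, FrobAlg.toTwist,
      frobenius_def]
    rfl

/-- the iterated Frobenius square of an étale algebra is a pushout -/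
theorem isPushout_frob (B C : Type u) [CommRing B] [CommRing C] [Algebra B C] [CharP B p]
    [CharP C p] [Algebra.Etale B C] (n : ℕ) :
    IsPushout (frobC p B n) (CommRingCat.ofHom (algebraMap B C))
      (CommRingCat.ofHom (algebraMap B C)) (frobC p C n) := by
  induction n with
  | zero =>
    have h1 : frobC p B 0 = 𝟙 _ := by
      ext x
      show x ^ p ^ 0 = x
      rw [pow_zero, pow_one]
    have h2 : frobC p C 0 = 𝟙 _ := by
      ext x
      show x ^ p ^ 0 = x
      rw [pow_zero, pow_one]
    rw [h1, h2]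
    exact IsPushout.id_horiz _
  | succ n ih =>
    rw [frobC_succ p B n, frobC_succ p C n]
    exact ih.paste_horiz (isPushout_frob_one p B C)

/-- uniform exponent descent -/
theorem exists_desc_unif {A B C : Type u} [CommRing A] [CommRing B] [CommRing C] [Algebra A B]
    [Algebra B C] [Nontrivial C] (hpA : (p : A) = 0)
    (hinj : Function.Injective (algebraMap A B)) (n : ℕ)
    (hpow : ∀ b : B, ∃ a : A, algebraMap A B a = b ^ p ^ n) [Algebra.Etale B C] :
    ∃ (D : CommRingCat.{u}) (d : CommRingCat.of A ⟶ D) (c : D ⟶ CommRingCat.of C), d.hom.Etale ∧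
      IsPushout (CommRingCat.ofHom (algebraMap A B)) d (CommRingCat.ofHom (algebraMap B C)) c := by
  have hpp : p.Prime := Fact.out
  haveI : Nontrivial B := (algebraMap B C).domain_nontrivial
  have hpB : (p : B) = 0 := by
    have := congrArg (algebraMap A B) hpA
    simpa using this
  have hpC : (p : C) = 0 := by
    have := congrArg (algebraMap B C) hpB
    simpa using this
  haveI : CharP B p := (CharP.charP_iff_prime_eq_zero hpp).2 hpB
  haveI : CharP C p := (CharP.charP_iff_prime_eq_zero hpp).2 hpC
  choose φ0 hφ0 using hpow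
  let φ : B →+* A :=
    { toFun := φ0
      map_one' := hinj (by rw [hφ0, one_pow, map_one])
      map_mul' := fun x y => hinj (by rw [hφ0, map_mul, hφ0, hφ0, mul_pow])
      map_zero' := hinj (by rw [hφ0, map_zero, zero_pow (pow_ne_zero _ hpp.ne_zero)])
      map_add' := fun x y => hinj (by rw [hφ0, map_add, hφ0, hφ0, add_pow_char_pow]) }
  have hφ1 : CommRingCat.ofHom φ ≫ CommRingCat.ofHom (algebraMap A B) = frobC p B n := by
    ext x
    exact hφ0 x
  have hfrob := isPushout_frob p B C n
  let bC : CommRingCat.of B ⟶ CommRingCat.of C := CommRingCat.ofHom (algebraMap B C)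
  let aB : CommRingCat.of A ⟶ CommRingCat.of B := CommRingCat.ofHom (algebraMap A B)
  have w : CommRingCat.ofHom φ ≫ (aB ≫ bC) = bC ≫ frobC p C n := by
    rw [← Category.assoc, hφ1]
    exact hfrob.w
  let c : pushout (CommRingCat.ofHom φ) bC ⟶ CommRingCat.of C :=
    pushout.desc (aB ≫ bC) (frobC p C n) w
  have hc1 : pushout.inl (CommRingCat.ofHom φ) bC ≫ c = aB ≫ bC := pushout.inl_desc _ _ _
  have hc2 : pushout.inr (CommRingCat.ofHom φ) bC ≫ c = frobC p C n := pushout.inr_desc _ _ _
  have hb : bC.hom.Etale := RingHom.etale_algebraMap.2 inferInstance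
  refine ⟨pushout (CommRingCat.ofHom φ) bC, pushout.inl _ _, c,
    RingHom.Etale.isStableUnderBaseChange.pushout_inl RingHom.Etale.respectsIso _ _ hb, ?_⟩
  have big : IsPushout (CommRingCat.ofHom φ ≫ aB) bC bC
      (pushout.inr (CommRingCat.ofHom φ) bC ≫ c) := by
    rw [hc2, hφ1]
    exact hfrob
  exact big.of_left hc1.symm (IsPushout.of_hasPushout _ _)

/-- the square with trivial corner is a pushout -/
theorem isPushout_of_subsingleton {A B C : CommRingCat.{u}} (a : A ⟶ B) (b : B ⟶ C)
    [Subsingleton C] : IsPushout a (a ≫ b) b (𝟙 C) := by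
  refine ⟨⟨by simp⟩, ⟨PushoutCocone.IsColimit.mk _ (fun s => s.inr) (fun s => ?_) (fun s => ?_)
    (fun s m _ h2 => ?_)⟩⟩
  · haveI : Subsingleton s.pt := s.inr.hom.codomain_trivial
    ext x
    exact Subsingleton.elim _ _
  · exact Category.id_comp _
  · rw [← h2]
    exact (Category.id_comp _).symm

/-- uniform exponent on a finitely generated subalgebra -/
theorem exists_unif_exponent {A B : Type u} [CommRing A] [CommRing B] [Algebra A B] [CharP B p]
    (hrad : ∀ x : B, ∃ (n : ℕ) (y : A), algebraMap A B y = x ^ p ^ n)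
    (B₀ : Subalgebra A B) (hfg : B₀.FG) :
    ∃ N : ℕ, ∀ x ∈ B₀, ∃ y : A, algebraMap A B y = x ^ p ^ N := by
  classical
  obtain ⟨s, hs⟩ := hfg
  choose e y hy using hrad
  let N := s.sup e
  refine ⟨N, fun x hx => ?_⟩
  rw [← hs] at hx
  induction hx using Algebra.adjoin_induction with
  | mem x hx =>
    have hle : e x ≤ N := Finset.le_sup hx
    refine ⟨y x ^ p ^ (N - e x), ?_⟩
    rw [map_pow, hy, ← pow_mul, ← pow_add, Nat.add_sub_cancel' hle]
  | algebraMap r => exact ⟨r ^ p ^ N, map_pow _ _ _⟩
  | add x z _ _ hx hz =>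
    obtain ⟨a, ha⟩ := hx
    obtain ⟨b, hb⟩ := hz
    exact ⟨a + b, by rw [map_add, ha, hb, add_pow_char_pow]⟩
  | mul x z _ _ hx hz =>
    obtain ⟨a, ha⟩ := hx
    obtain ⟨b, hb⟩ := hz
    exact ⟨a * b, by rw [map_mul, ha, hb, mul_pow]⟩

set_option backward.isDefEq.respectTransparency false in
/-- Descent of étale algebras along an injective `p`-radical ring map. -/
theorem exists_lift_ring {A B C : CommRingCat.{u}} (a : A ⟶ B) (b : B ⟶ C)
    (hpA : (p : A) = 0) (hinj : Function.Injective a.hom)
    (hrad : ∀ x : B, ∃ (n : ℕ) (y : A), a.hom y = x ^ p ^ n) (hb : b.hom.Etale) :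
    ∃ (D : CommRingCat.{u}) (d : A ⟶ D) (c : D ⟶ C), d.hom.Etale ∧ IsPushout a d b c := by
  have hpp : p.Prime := Fact.out
  letI : Algebra A B := a.hom.toAlgebra
  letI : Algebra B C := b.hom.toAlgebra
  letI : Algebra A C := (b.hom.comp a.hom).toAlgebra
  haveI : IsScalarTower A B C := IsScalarTower.of_algebraMap_eq fun _ => rfl
  haveI hE : Algebra.Etale B C := hb
  rcases subsingleton_or_nontrivial C with hC | hC
  · refine ⟨C, a ≫ b, 𝟙 C, ?_, isPushout_of_subsingleton a b⟩
    haveI : Algebra.IsStandardSmoothOfRelativeDimension 0 A C := inferInstance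
    have : Algebra.Etale A C := Algebra.Etale.iff_isStandardSmoothOfRelativeDimension_zero.2 this
    exact RingHom.etale_algebraMap.2 this
  · haveI : Nontrivial B := (algebraMap B C).domain_nontrivial
    have hpB : (p : B) = 0 := by
      have := congrArg (algebraMap A B) hpA
      simpa using this
    haveI : CharP B p := (CharP.charP_iff_prime_eq_zero hpp).2 hpB
    obtain ⟨B₀, C₀, _, _, hfg, hE₀, ⟨e⟩⟩ := Algebra.Etale.exists_subalgebra_fg A B C
    obtain ⟨N, hN⟩ := exists_unif_exponent p (A := A) (B := B) hrad B₀ hfg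
    haveI : Nontrivial C₀ := by
      by_contra hne
      rw [not_nontrivial_iff_subsingleton] at hne
      haveI : Subsingleton (B ⊗[B₀] C₀) := by
        refine ⟨fun x y => ?_⟩
        have h0 : ∀ z : B ⊗[B₀] C₀, z = 0 := fun z => by
          induction z using TensorProduct.induction_on with
          | zero => rfl
          | tmul u v => rw [Subsingleton.elim v 0, TensorProduct.tmul_zero]
          | add u v hu hv => rw [hu, hv, add_zero]
        rw [h0 x, h0 y]
      exact not_subsingleton C (e.toEquiv.subsingleton)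
    have hinj₀ : Function.Injective (algebraMap A B₀) := by
      intro x y hxy
      apply hinj
      exact congrArg Subtype.val hxy
    have hpow₀ : ∀ x : B₀, ∃ y : A, algebraMap A B₀ y = x ^ p ^ N := by
      intro x
      obtain ⟨y, hy⟩ := hN x.1 x.2
      exact ⟨y, Subtype.ext hy⟩
    obtain ⟨D, d, c₀, hd, sq⟩ := exists_desc_unif p (A := A) (B := B₀) (C := C₀) hpA hinj₀ N hpow₀
    -- the right square
    have h0 := CommRingCat.isPushout_tensorProduct B₀ B C₀
    let ec : CommRingCat.of (B ⊗[B₀] C₀) ≅ C := e.symm.toRingEquiv.toCommRingCatIso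
    have h1 := h0.of_iso (Iso.refl _) (Iso.refl _) (Iso.refl _) ec
      (f' := CommRingCat.ofHom (algebraMap B₀ B))
      (g' := CommRingCat.ofHom (algebraMap B₀ C₀))
      (inl' := b)
      (inr' := CommRingCat.ofHom (Algebra.TensorProduct.includeRight.toRingHom) ≫ ec.hom)
      (by simp) (by simp) ?_ (by simp)
    · have h2 := sq.paste_horiz h1
      refine ⟨D, d, c₀ ≫ CommRingCat.ofHom (Algebra.TensorProduct.includeRight.toRingHom) ≫ ec.hom,
        hd, ?_⟩
      have h3 : CommRingCat.ofHom (algebraMap A B₀) ≫ CommRingCat.ofHom (algebraMap B₀ B) = a := by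
        ext x
        rfl
      rw [h3] at h2
      exact h2
    · ext x
      show e.symm (x ⊗ₜ 1) = b.hom x
      have : (x ⊗ₜ[B₀] (1 : C₀) : B ⊗[B₀] C₀) = algebraMap B (B ⊗[B₀] C₀) x := rfl
      rw [this, AlgEquiv.commutes]
      rfl

end Groth.Agent.Helper23.PIDesc
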