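import Mathlib
import Groth.Prelude
import Groth.Agent.Lib.Helper23.PIGlue2
import Groth.Agent.Lib.Helper23.PIRing1
import Groth.Agent.Lib.Helper23.HomSeq1

/-!
# Affine-local étale lifts along a purely inseparable base field extension (helper23)
-/

set_option autoImplicit false
universe u
open CategoryTheory CategoryTheory.Limits AlgebraicGeometry TensorProduct

namespace Groth.Agent.Helper23.PIDesc

variable (p : ℕ)

/-- injective and `p`-radical ring maps -/
def PRad {R S : Type*} [CommRing R] [CommRing S] (φ : R →+* S) : Prop :=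
  Function.Injective φ ∧ ∀ x : S, ∃ (n : ℕ) (y : R), φ y = x ^ p ^ n

theorem PRad.comp_left {R S T : Type*} [CommRing R] [CommRing S] [CommRing T] {φ : R →+* S}
    (hφ : PRad p φ) (e : S →+* T) (he : Function.Bijective e) : PRad p (e.comp φ) := by
  refine ⟨he.1.comp hφ.1, fun x => ?_⟩
  obtain ⟨z, rfl⟩ := he.2 x
  obtain ⟨n, y, hy⟩ := hφ.2 z
  exact ⟨n, y, by rw [RingHom.comp_apply, hy, map_pow]⟩

theorem PRad.comp_right {Q R S : Type*} [CommRing Q] [CommRing R] [CommRing S] {φ : R →+* S}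
    (hφ : PRad p φ) (e : Q →+* R) (he : Function.Bijective e) : PRad p (φ.comp e) := by
  refine ⟨hφ.1.comp he.1, fun x => ?_⟩
  obtain ⟨n, y, hy⟩ := hφ.2 x
  obtain ⟨z, rfl⟩ := he.2 y
  exact ⟨n, z, hy⟩

variable [Fact p.Prime]

theorem add_pow_p_pow {R : Type*} [CommRing R] (hp : (p : R) = 0) (x y : R) (n : ℕ) :
    (x + y) ^ p ^ n = x ^ p ^ n + y ^ p ^ n := by
  rcases subsingleton_or_nontrivial R with h | h
  · exact Subsingleton.elim _ _
  · haveI : CharP R p := (CharP.charP_iff_prime_eq_zero Fact.out).2 hp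
    exact add_pow_char_pow x y p n

theorem prad_includeLeft (k K A₁ : Type u) [Field k] [Field K] [Algebra k K]
    [IsPurelyInseparable k K] [CharP k p] [CommRing A₁] [Algebra k A₁] :
    PRad p (Algebra.TensorProduct.includeLeftRingHom : A₁ →+* A₁ ⊗[k] K) := by
  refine ⟨Algebra.TensorProduct.includeLeft_injective (S := k) (algebraMap k K).injective,
    fun x => ?_⟩
  have hp0 : (p : A₁ ⊗[k] K) = 0 := by
    have h1 : (p : k) = 0 := CharP.cast_eq_zero k p
    have := congrArg (algebraMap k (A₁ ⊗[k] K)) h1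
    rw [map_natCast, map_zero] at this
    exact this
  induction x using TensorProduct.induction_on with
  | zero => exact ⟨0, 0, by simp⟩
  | tmul a c =>
    haveI : ExpChar k p := ExpChar.prime Fact.out
    obtain ⟨n, r, hr⟩ := IsPurelyInseparable.pow_mem k p c
    refine ⟨n, r • a ^ p ^ n, ?_⟩
    show (r • a ^ p ^ n) ⊗ₜ[k] (1 : K) = (a ⊗ₜ[k] c) ^ p ^ n
    rw [Algebra.TensorProduct.tmul_pow, ← hr, TensorProduct.smul_tmul, Algebra.smul_def, mul_one]
  | add x y hx hy =>
    obtain ⟨n, a, ha⟩ := hx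
    obtain ⟨m, b, hb⟩ := hy
    refine ⟨n + m, a ^ p ^ m + b ^ p ^ n, ?_⟩
    rw [add_pow_p_pow p hp0, map_add, map_pow, map_pow, ha, hb, ← pow_mul, ← pow_mul, ← pow_add,
      ← pow_add, add_comm m n]

/-- Spec form of the descent of étale algebras. -/
theorem exists_lift_spec_pi {A B C : CommRingCat.{u}} (a : A ⟶ B) (b : B ⟶ C)
    (hpA : (p : A) = 0) (ha : PRad p a.hom) (hb : b.hom.Etale) :
    ∃ (D : CommRingCat.{u}) (d : A ⟶ D) (c : D ⟶ C), d.hom.Etale ∧
      IsPullback (Spec.map c) (Spec.map b) (Spec.map d) (Spec.map a) := by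
  obtain ⟨D, d, c, hd, sq⟩ := exists_lift_ring p a b hpA ha.1 ha.2 hb
  exact ⟨D, d, c, hd, (isPullback_SpecMap_of_isPushout _ _ _ _ sq).flip⟩

/-- étale lifting along a `p`-radical morphism of affine schemes. -/
theorem exists_lift_aff {V Z X : Scheme.{u}} [IsAffine X] [IsAffine Z] (i : Z ⟶ X)
    (hpA : (p : Γ(X, ⊤)) = 0) (hi : PRad p i.appTop.hom)
    (φ : V ⟶ Z) [Etale φ] [IsAffine V] :
    ∃ (U : Scheme.{u}) (g : U ⟶ X) (ψ : V ⟶ U), IsAffine U ∧ Etale g ∧ IsPullback ψ φ g i := by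
  have hb : φ.appTop.hom.Etale :=
    (HasRingHomProperty.iff_of_isAffine (P := @Etale)).1 inferInstance
  obtain ⟨D, d, c, hd, sq⟩ := exists_lift_spec_pi p i.appTop φ.appTop hpA hi hb
  haveI : Etale (Spec.map d) := (HasRingHomProperty.Spec_iff (P := @Etale)).2 hd
  refine ⟨Spec D, Spec.map d ≫ X.isoSpec.inv, V.isoSpec.hom ≫ Spec.map c, inferInstance,
    inferInstance, ?_⟩
  refine sq.of_iso V.isoSpec.symm (Iso.refl _) Z.isoSpec.symm X.isoSpec.symm ?_ ?_ ?_ ?_
  · simp
  · exact Scheme.isoSpec_inv_naturality φ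
  · simp
  · exact Scheme.isoSpec_inv_naturality i

omit [Fact p.Prime] in
theorem PRad.of_eq_comp {R₁ R₂ R₃ R₄ : CommRingCat.{u}} (e₁ : R₁ ⟶ R₂) (φ : R₂ ⟶ R₃) (e₂ : R₃ ⟶ R₄)
    [IsIso e₁] [IsIso e₂] (hφ : PRad p φ.hom) : PRad p (e₁ ≫ φ ≫ e₂).hom := by
  have h1 : Function.Bijective e₁.hom := ConcreteCategory.bijective_of_isIso e₁
  have h2 : Function.Bijective e₂.hom := ConcreteCategory.bijective_of_isIso e₂
  exact ((hφ.comp_left p e₂.hom h2).comp_right p e₁.hom h1)

set_option backward.isDefEq.respectTransparency false in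
/-- the base change of a purely inseparable field extension to an affine scheme is `p`-radical on
global sections -/
theorem prad_appTop {k K : Type u} [Field k] [Field K] [Algebra k K] [IsPurelyInseparable k K]
    [CharP k p] {X X' : Scheme.{u}} [IsAffine X] (f : X ⟶ Spec (CommRingCat.of k)) (i : X' ⟶ X)
    (h : X' ⟶ Spec (CommRingCat.of K))
    (hpb : IsPullback i h f (Spec.map (CommRingCat.ofHom (algebraMap k K)))) :
    (p : Γ(X, ⊤)) = 0 ∧ PRad p i.appTop.hom := by
  let A₁ : CommRingCat.{u} := Γ(X, ⊤)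
  let θ : CommRingCat.of k ⟶ A₁ := (Scheme.ΓSpecIso (CommRingCat.of k)).inv ≫ f.appTop
  have hf : f = X.isoSpec.hom ≫ Spec.map θ := by
    have h1 := Scheme.isoSpec_hom_naturality f
    rw [Scheme.isoSpec_Spec_hom] at h1
    have h2 : Spec.map θ =
        Spec.map f.appTop ≫ Spec.map (Scheme.ΓSpecIso (CommRingCat.of k)).inv := Spec.map_comp _ _
    rw [h2, ← Category.assoc, h1, Category.assoc, ← Spec.map_comp, Iso.inv_hom_id, Spec.map_id,
      Category.comp_id]
  letI : Algebra k A₁ := θ.hom.toAlgebra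
  have hp0 : (p : A₁) = 0 := by
    have h1 : (p : k) = 0 := CharP.cast_eq_zero k p
    have := congrArg (algebraMap k A₁) h1
    rw [map_natCast, map_zero] at this
    exact this
  refine ⟨hp0, ?_⟩
  have P0 := isPullback_SpecMap_of_isPushout _ _ _ _ (CommRingCat.isPushout_tensorProduct k A₁ K)
  have hθ : CommRingCat.ofHom (algebraMap k A₁) = θ := rfl
  let v : CommRingCat.of A₁ ⟶ CommRingCat.of (A₁ ⊗[k] K) :=
    CommRingCat.ofHom Algebra.TensorProduct.includeLeftRingHom
  let u : Spec (CommRingCat.of (A₁ ⊗[k] K)) ⟶ Spec A₁ := Spec.map v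
  have P1 : IsPullback (u ≫ X.isoSpec.inv)
      (Spec.map (CommRingCat.ofHom
        (Algebra.TensorProduct.includeRight : K →ₐ[k] A₁ ⊗[k] K).toRingHom)) f
      (Spec.map (CommRingCat.ofHom (algebraMap k K))) := by
    refine P0.of_iso (Iso.refl _) X.isoSpec.symm (Iso.refl _) (Iso.refl _) ?_ ?_ ?_ ?_
    · simp [u, v]
    · simp
    · rw [hf, hθ]
      simp
    · simp
  let ε : X' ≅ Spec (CommRingCat.of (A₁ ⊗[k] K)) := hpb.isoIsPullback _ _ P1
  have hε : ε.hom ≫ u ≫ X.isoSpec.inv = i := hpb.isoIsPullback_hom_fst _ _ P1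
  have h2 : i.appTop = X.isoSpec.inv.appTop ≫ u.appTop ≫ ε.hom.appTop := by
    rw [← hε, Scheme.Hom.comp_appTop, Scheme.Hom.comp_appTop, Category.assoc]
  have h3 : u.appTop = (Scheme.ΓSpecIso _).hom ≫ v ≫ (Scheme.ΓSpecIso _).inv := by
    have := Scheme.ΓSpecIso_naturality v
    rw [← Category.assoc, ← this, Category.assoc, Iso.hom_inv_id, Category.comp_id]
  have h4 : PRad p v.hom := prad_includeLeft p k K A₁
  have h5 : PRad p u.appTop.hom := by
    rw [h3]
    exact PRad.of_eq_comp p _ v _ h4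
  rw [h2]
  exact PRad.of_eq_comp p _ u.appTop _ h5

open Groth.Agent.Helper23.UHGlue in
/-- affine-local étale lifts exist along the base change of a purely inseparable field extension -/
theorem hasAffineLifts {k K : Type u} [Field k] [Field K] [Algebra k K] [IsPurelyInseparable k K]
    [CharP k p] {X X' Z : Scheme.{u}} (f : X ⟶ Spec (CommRingCat.of k)) (i : X' ⟶ X)
    (h : X' ⟶ Spec (CommRingCat.of K))
    (hpb : IsPullback i h f (Spec.map (CommRingCat.ofHom (algebraMap k K)))) (y : Z ⟶ X')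
    [Etale y] : HasAffineLifts i y := by
  constructor
  intro W hW V hV hle
  haveI : IsAffine W.toScheme := hW
  haveI : IsAffine V.toScheme := hV
  haveI : IsAffineHom i := MorphismProperty.of_isPullback (P := @IsAffineHom) hpb.flip inferInstance
  haveI : IsAffine (i ⁻¹ᵁ W).toScheme := hW.preimage i
  have hr : Set.range (V.ι ≫ y) ⊆ Set.range (i ⁻¹ᵁ W).ι := by
    rintro _ ⟨v, rfl⟩
    rw [Scheme.Opens.range_ι]
    have h1 : V.ι v ∈ (y ≫ i) ⁻¹ᵁ W := hle (show V.ι v ∈ V from v.2)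
    have h2 : (y ≫ i) (V.ι v) ∈ W := h1
    rw [Scheme.Hom.comp_apply] at h2
    rw [Scheme.Hom.comp_apply]
    exact h2
  let φ : V.toScheme ⟶ (i ⁻¹ᵁ W).toScheme := IsOpenImmersion.lift (i ⁻¹ᵁ W).ι (V.ι ≫ y) hr
  have hφ : φ ≫ (i ⁻¹ᵁ W).ι = V.ι ≫ y := IsOpenImmersion.lift_fac _ _ _
  haveI : Etale (φ ≫ (i ⁻¹ᵁ W).ι) := by rw [hφ]; infer_instance
  haveI : Etale φ := Etale.of_comp φ (i ⁻¹ᵁ W).ι
  have sqW : IsPullback (i ∣_ W) ((i ⁻¹ᵁ W).ι ≫ h) (W.ι ≫ f)
      (Spec.map (CommRingCat.ofHom (algebraMap k K))) :=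
    (isPullback_morphismRestrict i W).paste_vert hpb
  obtain ⟨hp0, hrad⟩ := prad_appTop p (W.ι ≫ f) (i ∣_ W) _ sqW
  obtain ⟨U, g, ψ, hU, hg, sq⟩ := exists_lift_aff p (i ∣_ W) hp0 hrad φ
  haveI := hg
  have h3 := sq.paste_vert (isPullback_morphismRestrict i W)
  rw [hφ] at h3
  exact ⟨⟨U, g ≫ W.ι, ψ, inferInstance, h3⟩, hU⟩

/-- Essential surjectivity of pullback of finite étale covers along the base change of a purely
inseparable field extension. -/
theorem exists_iso_restrict_pi {k K : Type u} [Field k] [Field K] [Algebra k K]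
    [IsPurelyInseparable k K] [CharP k p] {X X' : Scheme.{u}} (f : X ⟶ Spec (CommRingCat.of k))
    (i : X' ⟶ X) (h : X' ⟶ Spec (CommRingCat.of K))
    (hpb : IsPullback i h f (Spec.map (CommRingCat.ofHom (algebraMap k K)))) (Y₀ : FEt.Cat X') :
    ∃ Y : FEt.Cat X, Nonempty ((FEt.restrict i).obj Y ≅ Y₀) := by
  haveI : Etale Y₀.hom := Y₀.prop.2
  haveI := hasAffineLifts p f i h hpb Y₀.hom
  haveI : IsIntegralHom (Spec.map (CommRingCat.ofHom (algebraMap k K))) :=
    Groth.Agent.Helper23.HomSeq.isIntegralHom_spec_field k K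
  haveI : UniversallyInjective (Spec.map (CommRingCat.ofHom (algebraMap k K))) :=
    Groth.Agent.Helper23.HomSeq.universallyInjective_of_purelyInseparable k K
  haveI : Surjective (Spec.map (CommRingCat.ofHom (algebraMap k K))) :=
    Groth.Agent.Helper23.HomSeq.surjective_spec_field k K
  haveI : IsIntegralHom i := MorphismProperty.of_isPullback (P := @IsIntegralHom) hpb.flip
    inferInstance
  haveI : UniversallyInjective i :=
    MorphismProperty.of_isPullback (P := @UniversallyInjective) hpb.flip inferInstance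
  haveI : Surjective i := MorphismProperty.of_isPullback (P := @Surjective) hpb.flip inferInstance
  exact Groth.Agent.Helper23.UHGlue.exists_iso_restrict i Y₀

end Groth.Agent.Helper23.PIDesc
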