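import Mathlib
import Groth.Prelude
import Groth.Agent.Lib.Helper23.PIAff1
import Groth.Agent.Lib.Helper23.FEtFull
import Groth.Agent.Lib.Helper16.Sch.NilLift

/-!
# Pullback of finite étale covers along a universal homeomorphism is fully faithful; the
purely inseparable base change is an equivalence (helper23)
-/

set_option autoImplicit false
universe u
open CategoryTheory CategoryTheory.Limits AlgebraicGeometry

namespace Groth.Agent.Helper23.PIDesc

open Groth.Agent.Helper23.FEtFull in
theorem full_faithful_restrict {X' X : Scheme.{u}} (i : X' ⟶ X) [IsIntegralHom i]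
    [UniversallyInjective i] [Surjective i] :
    (FEt.restrict i).Full ∧ (FEt.restrict i).Faithful := by
  refine ⟨⟨fun {A B} φ => ?_⟩, ⟨fun {A B} a b hab => ?_⟩⟩
  · haveI : IsFinite A.hom := A.prop.1
    haveI : Etale A.hom := A.prop.2
    haveI : IsFinite B.hom := B.prop.1
    haveI : Etale B.hom := B.prop.2
    have hφ : φ.left ≫ pullback.snd B.hom i = pullback.snd A.hom i := Over.w φ.hom
    obtain ⟨ψ, hψ1, hψ2⟩ := exists_descent i A.hom B.hom φ.left hφ
    refine ⟨MorphismProperty.Over.homMk ψ hψ1, ?_⟩
    ext
    simp only [FEt.restrict, MorphismProperty.Over.pullback, MorphismProperty.Over.homMk_hom,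
      Over.homMk_left]
    apply pullback.hom_ext
    · rw [pullback.lift_fst]
      exact hψ2
    · rw [pullback.lift_snd]
      exact hφ.symm
  · haveI : IsFinite B.hom := B.prop.1
    haveI : Etale B.hom := B.prop.2
    haveI : Surjective (pullback.fst A.hom i) :=
      MorphismProperty.pullback_fst (P := @Surjective) _ _ inferInstance
    have h1 : pullback.fst A.hom i ≫ a.left = pullback.fst A.hom i ≫ b.left := by
      have := congrArg (fun φ => φ.left ≫ pullback.fst B.hom i) hab
      simp only [FEt.restrict, MorphismProperty.Over.pullback, MorphismProperty.Over.homMk_hom,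
        Over.homMk_left] at this
      rw [pullback.lift_fst, pullback.lift_fst] at this
      exact this
    have h2 : a.left ≫ B.hom = b.left ≫ B.hom := (Over.w a.hom).trans (Over.w b.hom).symm
    have key := Groth.Agent.Helper16.NilLift.hom_ext_of_surjective (pullback.fst A.hom i) B.hom
      a.left b.left h1 h2
    ext
    exact key

/-- Pullback of finite étale covers along the base change of a purely inseparable field extension
is an equivalence. -/
theorem isEquivalence_restrict_pi (p : ℕ) [Fact p.Prime] {k K : Type u} [Field k] [Field K]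
    [Algebra k K] [IsPurelyInseparable k K] [CharP k p] {X X' : Scheme.{u}}
    (f : X ⟶ Spec (CommRingCat.of k)) (i : X' ⟶ X) (h : X' ⟶ Spec (CommRingCat.of K))
    (hpb : IsPullback i h f (Spec.map (CommRingCat.ofHom (algebraMap k K)))) :
    (FEt.restrict i).IsEquivalence := by
  haveI : IsIntegralHom (Spec.map (CommRingCat.ofHom (algebraMap k K))) :=
    Groth.Agent.Helper23.HomSeq.isIntegralHom_spec_field k K
  haveI : UniversallyInjective (Spec.map (CommRingCat.ofHom (algebraMap k K))) :=
    Groth.Agent.Helper23.HomSeq.universallyInjective_of_purelyInseparable k K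
  haveI : Surjective (Spec.map (CommRingCat.ofHom (algebraMap k K))) :=
    Groth.Agent.Helper23.HomSeq.surjective_spec_field k K
  haveI : IsIntegralHom i := MorphismProperty.of_isPullback (P := @IsIntegralHom) hpb.flip
    inferInstance
  haveI : UniversallyInjective i :=
    MorphismProperty.of_isPullback (P := @UniversallyInjective) hpb.flip inferInstance
  haveI : Surjective i := MorphismProperty.of_isPullback (P := @Surjective) hpb.flip inferInstance
  obtain ⟨hfull, hfaith⟩ := full_faithful_restrict i
  haveI : (FEt.restrict i).EssSurj := ⟨fun Y₀ => by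
    obtain ⟨Y, ⟨e⟩⟩ := exists_iso_restrict_pi p f i h hpb Y₀
    exact ⟨Y, ⟨e⟩⟩⟩
  exact {}

/-- S0286 -/
theorem restrict_perfectClosure_isEquivalence (k : Type u) [Field k] (p : ℕ) [Fact p.Prime]
    [CharP k p] {X : Scheme.{u}} (f : X ⟶ Spec (CommRingCat.of k)) :
    (FEt.restrict (pullback.fst f
      (Spec.map (CommRingCat.ofHom (PerfectClosure.of k p))))).IsEquivalence := by
  letI : Algebra k (PerfectClosure k p) := (PerfectClosure.of k p).toAlgebra
  haveI : ExpChar k p := ExpChar.prime Fact.out
  haveI : IsPRadical (algebraMap k (PerfectClosure k p)) p := PerfectClosure.isPRadical k p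
  haveI : IsPurelyInseparable k (PerfectClosure k p) := IsPRadical.isPurelyInseparable k _ p
  exact isEquivalence_restrict_pi p f _ (pullback.snd f _) (IsPullback.of_hasPullback f
    (Spec.map (CommRingCat.ofHom (algebraMap k (PerfectClosure k p)))))

end Groth.Agent.Helper23.PIDesc
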