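import Mathlib
import Groth.Prelude
import Groth.Agent.Lib.Helper23.PIEquiv1
import Groth.Agent.Lib.Helper23.HomSeq4
import Groth.Agent.Lib.Helper4.LimFEt

/-!
# Finite étale covers of `X_{k̄}` embed into base changes of covers of `X` (helper23)
-/

set_option autoImplicit false
universe u
open CategoryTheory CategoryTheory.Limits AlgebraicGeometry

namespace Groth.Agent.Helper23.PIDesc

/-- pullback along an isomorphism is essentially surjective on finite étale covers -/
theorem exists_iso_restrict_of_isIso {X X' : Scheme.{u}} (i : X' ⟶ X) [IsIso i] (Y₀ : FEt.Cat X') :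
    ∃ Y : FEt.Cat X, Nonempty ((FEt.restrict i).obj Y ≅ Y₀) := by
  haveI : IsFinite Y₀.hom := Y₀.prop.1
  haveI : Etale Y₀.hom := Y₀.prop.2
  let Y : FEt.Cat X := MorphismProperty.Over.mk ⊤ (Y₀.hom ≫ i) ⟨inferInstance, inferInstance⟩
  have hp : IsPullback (𝟙 Y₀.left) Y₀.hom (Y₀.hom ≫ i) i :=
    IsPullback.of_horiz_isIso ⟨by simp⟩
  refine ⟨Y, ⟨?_⟩⟩
  exact MorphismProperty.Over.isoMk hp.isoPullback.symm hp.isoPullback_inv_snd

/-- Essential surjectivity along the base change of a purely inseparable field extension, in any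
characteristic. -/
theorem exists_iso_restrict_pi' {k K : Type u} [Field k] [Field K] [Algebra k K]
    [IsPurelyInseparable k K] {X X' : Scheme.{u}} (f : X ⟶ Spec (CommRingCat.of k))
    (i : X' ⟶ X) (h : X' ⟶ Spec (CommRingCat.of K))
    (hpb : IsPullback i h f (Spec.map (CommRingCat.ofHom (algebraMap k K)))) (Y₀ : FEt.Cat X') :
    ∃ Y : FEt.Cat X, Nonempty ((FEt.restrict i).obj Y ≅ Y₀) := by
  obtain ⟨q, hq⟩ := ExpChar.exists k
  cases hq with
  | zero =>
    haveI : Algebra.IsAlgebraic k K := inferInstance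
    haveI : Algebra.IsSeparable k K := inferInstance
    have hbij : Function.Bijective (algebraMap k K) :=
      ⟨(algebraMap k K).injective, IsPurelyInseparable.surjective_algebraMap_of_isSeparable k K⟩
    haveI : IsIso (CommRingCat.ofHom (algebraMap k K)) :=
      (ConcreteCategory.isIso_iff_bijective _).2 hbij
    haveI : IsIso (Spec.map (CommRingCat.ofHom (algebraMap k K))) := inferInstance
    haveI : IsIso i := hpb.isIso_fst_of_isIso
    exact exists_iso_restrict_of_isIso i Y₀
  | prime hprime =>
    haveI : Fact q.Prime := ⟨hprime⟩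
    exact exists_iso_restrict_pi q f i h hpb Y₀

open Groth.Agent.Helper4.LimSubalgK Groth.Agent.Helper14.FieldLim Groth.Agent.Helper23.HomSeq in
set_option backward.isDefEq.respectTransparency false in
/-- S0269: every finite étale cover of `X_{k̄}` embeds, as an open and closed subscheme, into the
base change of a finite étale cover of `X` (`X` quasi-compact and quasi-separated). -/
theorem exists_clopen_embedding (k : Type u) [Field k] {X : Scheme.{u}}
    (f : X ⟶ Spec (CommRingCat.of k)) [CompactSpace X] [QuasiSeparatedSpace X]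
    (V : FEt.Cat (pullback f (Spec.map (CommRingCat.ofHom (algebraMap k (AlgebraicClosure k)))))) :
    ∃ (U : FEt.Cat X) (ι : V ⟶ (FEt.restrict (pullback.fst f (Spec.map (CommRingCat.ofHom
      (algebraMap k (AlgebraicClosure k)))))).obj U),
      IsOpenImmersion ι.left ∧ IsClosedImmersion ι.left := by
  haveI : IsPurelyInseparable (Ks (k := k) (AlgebraicClosure k)) (AlgebraicClosure k) :=
    separableClosure.isPurelyInseparable k (AlgebraicClosure k)
  -- step 1: descend to the separable closure
  obtain ⟨Vs, ⟨e₁⟩⟩ := exists_iso_restrict_pi'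
    (pullback.snd f (Spec.map (CommRingCat.ofHom (algebraMap k (Ks (k := k) (AlgebraicClosure k))))))
    (ρ (AlgebraicClosure k) f) (pullback.snd f _) (isPullback_ρ (AlgebraicClosure k) f) V
  -- step 2: descend to a finite separable stage
  haveI : ∀ S, CompactSpace ((E (Ks (k := k) (AlgebraicClosure k)) f).obj S) :=
    fun S => E_compactSpace _ f S
  haveI : ∀ S, QuasiSeparatedSpace ((E (Ks (k := k) (AlgebraicClosure k)) f).obj S) :=
    fun S => E_quasiSeparatedSpace _ f S
  obtain ⟨S, VS, ⟨e₂⟩⟩ := Groth.Agent.Helper4.LimFEt.essSurj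
    (isLimitCE (Ks (k := k) (AlgebraicClosure k)) f) Vs
  let b := pullback.fst f (sm k (Ks (k := k) (AlgebraicClosure k)) S)
  have hb : FEt.prop b := MorphismProperty.pullback_fst _ _ (prop_sm _ S)
  haveI : IsFinite b := hb.1
  haveI : Etale b := hb.2
  haveI : IsFinite VS.hom := VS.prop.1
  haveI : Etale VS.hom := VS.prop.2
  let cS := (cE (Ks (k := k) (AlgebraicClosure k)) f).π.app S
  let πS := ρ (AlgebraicClosure k) f ≫ cS
  have hπ : πS ≫ b = pullback.fst f (Spec.map (CommRingCat.ofHom
      (algebraMap k (AlgebraicClosure k)))) := by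
    show (ρ (AlgebraicClosure k) f ≫ cS) ≫ b = _
    rw [Category.assoc]
    exact (congrArg (fun z => ρ (AlgebraicClosure k) f ≫ z) (cE_π_fst _ f S)).trans
      (ρ_fst (AlgebraicClosure k) f)
  let U : FEt.Cat X := MorphismProperty.Over.mk ⊤ (VS.hom ≫ b) ⟨inferInstance, inferInstance⟩
  -- the two pullback squares
  let i₁ : V.left ≅ pullback Vs.hom (ρ (AlgebraicClosure k) f) :=
    ⟨e₁.inv.left, e₁.hom.left, congrArg (fun φ => φ.left) e₁.inv_hom_id,
      congrArg (fun φ => φ.left) e₁.hom_inv_id⟩
  have hi₁ : i₁.hom ≫ pullback.snd Vs.hom (ρ (AlgebraicClosure k) f) = V.hom := Over.w e₁.inv.hom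
  have sq1 : IsPullback (i₁.hom ≫ pullback.fst Vs.hom (ρ (AlgebraicClosure k) f)) V.hom Vs.hom
      (ρ (AlgebraicClosure k) f) :=
    IsPullback.of_iso_pullback ⟨by rw [Category.assoc, pullback.condition, ← Category.assoc, hi₁]⟩
      i₁ rfl hi₁
  let i₂ : Vs.left ≅ pullback VS.hom cS :=
    ⟨e₂.inv.left, e₂.hom.left, congrArg (fun φ => φ.left) e₂.inv_hom_id,
      congrArg (fun φ => φ.left) e₂.hom_inv_id⟩
  have hi₂ : i₂.hom ≫ pullback.snd VS.hom cS = Vs.hom := Over.w e₂.inv.hom
  have sq2 : IsPullback (i₂.hom ≫ pullback.fst VS.hom cS) Vs.hom VS.hom cS :=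
    IsPullback.of_iso_pullback ⟨by rw [Category.assoc, pullback.condition, ← Category.assoc, hi₂]⟩
      i₂ rfl hi₂
  have P := sq1.paste_horiz sq2
  haveI : IsOpenImmersion (pullback.mapDesc VS.hom πS b) :=
    MorphismProperty.of_isPullback (P := @IsOpenImmersion)
      (pullback_map_diagonal_isPullback VS.hom πS b) inferInstance
  haveI : IsClosedImmersion (pullback.mapDesc VS.hom πS b) := inferInstance
  let ιl : V.left ⟶ pullback (VS.hom ≫ b) (pullback.fst f (Spec.map (CommRingCat.ofHom
      (algebraMap k (AlgebraicClosure k))))) :=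
    P.isoPullback.hom ≫ pullback.mapDesc VS.hom πS b ≫ (pullback.congrHom rfl hπ).hom
  have hιl : ιl ≫ pullback.snd (VS.hom ≫ b) _ = V.hom := by
    simp only [ιl, Category.assoc, pullback.congrHom_hom, pullback.lift_snd, Category.comp_id]
    exact P.isoPullback_hom_snd
  refine ⟨U, MorphismProperty.Over.homMk ιl hιl, ?_, ?_⟩
  · show IsOpenImmersion ιl
    infer_instance
  · show IsClosedImmersion ιl
    infer_instance

end Groth.Agent.Helper23.PIDesc
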