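import Mathlib
import Groth.Agent.Lib.Helper23.PicH1f

set_option autoImplicit false
universe u
open CategoryTheory CategoryTheory.Limits AlgebraicGeometry Opposite TopologicalSpace Abelian

namespace Groth.Agent.Helper23.PicH1

open Groth.Agent.Helper23.ShH1 Groth.Agent.Helper23.PicCalc

/-- the kernel of a homomorphism of multiplicative groups, computed additively. -/
theorem nonempty_ker_mulEquiv {G G₀ : Type*} [CommGroup G] [CommGroup G₀] {P P₀ H : Type*}
    [AddCommGroup P] [AddCommGroup P₀] [AddCommGroup H]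
    (E : Additive G ≃+ P) (E₀ : Additive G₀ ≃+ P₀) (p : G →* G₀) (π : P →+ P₀)
    (hE : ∀ g, E₀ (Additive.ofMul (p g)) = π (E (Additive.ofMul g)))
    (a : H →+ P) (ha : Function.Injective a) (hr : ∀ x, π x = 0 ↔ ∃ y, a y = x) :
    Nonempty (p.ker ≃* Multiplicative H) := by
  have hmem : ∀ y : H, Additive.toMul (E.symm (a y)) ∈ p.ker := by
    intro y
    rw [MonoidHom.mem_ker]
    have h1 := hE (Additive.toMul (E.symm (a y)))
    rw [ofMul_toMul, AddEquiv.apply_symm_apply, (hr (a y)).2 ⟨y, rfl⟩] at h1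
    have h2 : Additive.ofMul (p (Additive.toMul (E.symm (a y)))) = 0 :=
      (AddEquiv.map_eq_zero_iff E₀).1 h1
    exact h2
  let F : Multiplicative H →* p.ker :=
    { toFun := fun y => ⟨Additive.toMul (E.symm (a (Multiplicative.toAdd y))), hmem _⟩
      map_one' := by
        apply Subtype.ext
        change Additive.toMul (E.symm (a 0)) = 1
        rw [map_zero, map_zero]
        rfl
      map_mul' := fun y y' => by
        apply Subtype.ext
        change Additive.toMul (E.symm (a (Multiplicative.toAdd y + Multiplicative.toAdd y'))) =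
          Additive.toMul (E.symm (a (Multiplicative.toAdd y))) *
            Additive.toMul (E.symm (a (Multiplicative.toAdd y')))
        rw [map_add, map_add]
        rfl }
  have hbij : Function.Bijective F := by
    constructor
    · intro y y' h
      have h1 : Additive.toMul (E.symm (a (Multiplicative.toAdd y))) =
          Additive.toMul (E.symm (a (Multiplicative.toAdd y'))) := congrArg Subtype.val h
      have h2 : a (Multiplicative.toAdd y) = a (Multiplicative.toAdd y') :=
        E.symm.injective (Additive.toMul.injective h1)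
      exact Multiplicative.toAdd.injective (ha h2)
    · rintro ⟨g, hg⟩
      rw [MonoidHom.mem_ker] at hg
      have h1 := hE g
      rw [hg] at h1
      have h2 : π (E (Additive.ofMul g)) = 0 := by
        rw [← h1]
        exact map_zero E₀
      obtain ⟨y, hy⟩ := (hr _).1 h2
      refine ⟨Multiplicative.ofAdd y, Subtype.ext ?_⟩
      change Additive.toMul (E.symm (a y)) = g
      rw [hy, AddEquiv.symm_apply_apply]
      rfl
  exact ⟨(MulEquiv.ofBijective F hbij).symm⟩

section PicSet

variable {X : Scheme.{u}} [PicGrp.Law X]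

/-- the comparison of the prelude's Picard group with `PicCalc.Pic`, with its formula. -/
theorem exists_picSet_equiv :
    ∃ E : Additive (PicLoc.PicSet X) ≃+ Pic X, ∀ c, E (Additive.ofMul c) = ofPicSet c := by
  refine ⟨AddEquiv.mk' (Equiv.ofBijective (fun a => ofPicSet (Additive.toMul a)) ⟨?_, ?_⟩) ?_,
    fun c => rfl⟩
  · intro a b hab
    obtain ⟨L, hL, hLa⟩ := PicGrp.exists_eq_cls (Additive.toMul a)
    obtain ⟨M, hM, hMb⟩ := PicGrp.exists_eq_cls (Additive.toMul b)
    simp only at hab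
    rw [hLa, hMb, ofPicSet_cls, ofPicSet_cls, cl_eq_iff] at hab
    have : Additive.toMul a = Additive.toMul b := by
      rw [hLa, hMb]
      exact (PicGrp.cls_eq_cls_iff hL hM).2 hab
    exact this
  · intro c
    obtain ⟨L, hL, rfl⟩ := exists_rep c
    exact ⟨Additive.ofMul (PicGrp.cls L hL), ofPicSet_cls L hL⟩
  · intro a b
    obtain ⟨L, hL, hLa⟩ := PicGrp.exists_eq_cls (Additive.toMul a)
    obtain ⟨M, hM, hMb⟩ := PicGrp.exists_eq_cls (Additive.toMul b)
    change ofPicSet (Additive.toMul a * Additive.toMul b) =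
      ofPicSet (Additive.toMul a) + ofPicSet (Additive.toMul b)
    rw [hLa, hMb, ofPicSet_cls, ofPicSet_cls, cl_add]
    have : PicGrp.cls L hL * PicGrp.cls M hM =
        PicGrp.cls (CohB1.tensorMod L M)
          (Groth.Agent.Helper13.Inv.isInvertible_tensorMod _ _ hL hM) :=
      Subtype.ext (PicGrp.cls_mul_cls_val hL hM)
    rw [this, ofPicSet_cls]

omit [PicGrp.Law X] in
theorem ofPicSet_pullHom {X₀ : Scheme.{u}} [PicGrp.Law X] [PicGrp.Law X₀] (f : X₀ ⟶ X)
    (hf : PicGrp.PullMul f) (c : PicLoc.PicSet X) :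
    ofPicSet (PicGrp.pullHom f hf c) = PicCalc.pull f (ofPicSet c) := by
  obtain ⟨L, hL, rfl⟩ := PicGrp.exists_eq_cls c
  rw [PicGrp.pullHom_cls, ofPicSet_cls, ofPicSet_cls, pull_cl]

end PicSet

section Thick

variable {X : Scheme.{u}} (J : X.IdealSheafData) (hJ : J * J = ⊥)

include hJ in
/-- units lift along a square-zero thickening when functions do. -/
theorem exists_unit_lift {U : X.Opens} (hs : Function.Surjective (J.subschemeι.app U))
    (v : (Γ(J.subscheme, J.subschemeι ⁻¹ᵁ U))ˣ) :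
    ∃ w : (Γ(X, U))ˣ, Units.map (J.subschemeι.app U).hom.toMonoidHom w = v := by
  obtain ⟨a, ha⟩ := hs (v : Γ(J.subscheme, J.subschemeι ⁻¹ᵁ U))
  obtain ⟨b, hb⟩ := hs ((v⁻¹ : (Γ(J.subscheme, J.subschemeι ⁻¹ᵁ U))ˣ) :
    Γ(J.subscheme, J.subschemeι ⁻¹ᵁ U))
  obtain ⟨k, hk⟩ := UnitsSeq.exists_fn_eq J (a * b - 1) (by
    rw [map_sub, map_mul, ha, hb, map_one, Units.mul_inv, sub_self])
  have h2 : (a * b - 1) * (a * b - 1) = 0 := by
    rw [← hk]
    exact UnitsSeq.fn_mul_fn J hJ k k
  have hab : a * (b * (2 - a * b)) = 1 := by linear_combination (-1 : Γ(X, U)) * h2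
  refine ⟨⟨a, b * (2 - a * b), hab, by rw [mul_comm]; exact hab⟩, Units.ext ?_⟩
  exact ha

include hJ in
/-- surjectivity on `H⁰` of the units. -/
theorem H0_comap_surjective (hsurj : Function.Surjective J.subschemeι.appTop.hom) :
    Function.Surjective (Sheaf.H.map (UnitsSh.comap J.subschemeι) 0) := by
  intro x
  have hT : IsTerminal (⊤ : Opens X.toTopCat) := isTerminalTop
  let t := Sheaf.H.equiv₀ ((CohTop.push J.subschemeι.base).obj (A J.subscheme)) hT x
  obtain ⟨w, hw⟩ := exists_unit_lift J hJ (U := ⊤) hsurj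
    (UnitsSh.unitOfSect (X := J.subscheme.toTopCat) (O := J.subscheme.presheaf)
      (U := op (J.subschemeι ⁻¹ᵁ ⊤)) t)
  refine ⟨(Sheaf.H.equiv₀ (A X) hT).symm (uS w), ?_⟩
  rw [Sheaf.H.equiv₀_symm_naturality]
  apply (Sheaf.H.equiv₀ _ hT).injective
  rw [AddEquiv.apply_symm_apply]
  exact congrArg (UnitsSh.sectOfUnit (X := J.subscheme.toTopCat) (O := J.subscheme.presheaf)
      (U := op (J.subschemeι ⁻¹ᵁ ⊤))) hw

include hJ in
/-- **the kernel of restriction of Picard groups along a square-zero thickening.** -/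
theorem exists_ker_pull (hsurj : Function.Surjective J.subschemeι.appTop.hom) :
    ∃ a : Coh.HH X (ClSub.idealMod J) 1 →+ Pic X, Function.Injective a ∧
      ∀ x, PicCalc.pull J.subschemeι x = 0 ↔ ∃ y, a y = x := by
  haveI := isIso_base_subschemeι J hJ
  obtain ⟨θ, θ₀, hsq⟩ := exists_square J.subschemeι
  have hT := TS_shortExact J hJ
  refine ⟨θ.symm.toAddMonoidHom.comp (Sheaf.H.map (TS J hJ).f 1), ?_, fun x => ?_⟩
  · rw [injective_iff_map_eq_zero]
    intro y hy
    have hy' : Sheaf.H.map (TS J hJ).f 1 y = 0 := (AddEquiv.map_eq_zero_iff θ.symm).1 hy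
    obtain ⟨x₃, rfl⟩ := (map_f_eq_zero_iff (TS J hJ) hT 0 y).1 hy'
    obtain ⟨x₂, rfl⟩ := H0_comap_surjective J hJ hsurj x₃
    exact (dl_eq_zero_iff (TS J hJ) hT 0 _).2 ⟨x₂, rfl⟩
  · have h1 : PicCalc.pull J.subschemeι x = 0 ↔ Sheaf.H.map (TS J hJ).g 1 (θ x) = 0 := by
      rw [← AddEquiv.map_eq_zero_iff θ₀, hsq]
    rw [h1, map_g_eq_zero_iff (TS J hJ) hT 1]
    constructor
    · rintro ⟨y, hy⟩
      exact ⟨y, by
        change θ.symm (Sheaf.H.map (TS J hJ).f 1 y) = x
        rw [hy, AddEquiv.symm_apply_apply]⟩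
    · rintro ⟨y, hy⟩
      exact ⟨y, by
        rw [← hy]
        change _ = θ (θ.symm (Sheaf.H.map (TS J hJ).f 1 y))
        rw [AddEquiv.apply_symm_apply]⟩

include hJ in
/-- **S15399**. -/
theorem main_ker [PicGrp.Law X] [PicGrp.Law J.subscheme] (hi : PicGrp.PullMul J.subschemeι)
    (hsurj : Function.Surjective J.subschemeι.appTop.hom) :
    Nonempty ((PicGrp.pullHom J.subschemeι hi).ker ≃*
      Multiplicative (Coh.HH X (ClSub.idealMod J) 1)) := by
  obtain ⟨E, hE⟩ := exists_picSet_equiv (X := X)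
  obtain ⟨E₀, hE₀⟩ := exists_picSet_equiv (X := J.subscheme)
  obtain ⟨a, ha, hr⟩ := exists_ker_pull J hJ hsurj
  exact nonempty_ker_mulEquiv E E₀ (PicGrp.pullHom J.subschemeι hi) (PicCalc.pull J.subschemeι)
    (fun g => by rw [hE₀, hE, ofPicSet_pullHom]) a ha hr

end Thick

end Groth.Agent.Helper23.PicH1
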