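import Mathlib
import Groth.Agent.Lib.Helper23.PicH1g

set_option autoImplicit false
universe u
open CategoryTheory CategoryTheory.Limits AlgebraicGeometry Opposite TopologicalSpace Abelian

namespace Groth.Agent.Helper23.PicH1

open Groth.Agent.Helper23.ShH1 Groth.Agent.Helper23.PicCalc

section Thick

variable {X : Scheme.{u}} (J : X.IdealSheafData) (hJ : J * J = ⊥)

/-- global sections of the units, as `H⁰`. -/
noncomputable def uA (X : Scheme.{u}) : CohTop.H (A X) 0 ≃+ Additive (Γ(X, ⊤))ˣ :=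
  (Sheaf.H.equiv₀ (A X) isTerminalTop).trans (UnitsSh.sectEquiv X.sheaf ⊤)

/-- global sections of the pushed-forward units, as `H⁰`. -/
noncomputable def uB : CohTop.H ((CohTop.push J.subschemeι.base).obj (A J.subscheme)) 0 ≃+
    Additive (Γ(J.subscheme, ⊤))ˣ :=
  (Sheaf.H.equiv₀ ((CohTop.push J.subschemeι.base).obj (A J.subscheme)) isTerminalTop).trans
    (UnitsSh.sectEquiv J.subscheme.sheaf ⊤)

/-- restriction of units, additively. -/
noncomputable def rU : Additive (Γ(X, ⊤))ˣ →+ Additive (Γ(J.subscheme, ⊤))ˣ :=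
  (Units.map J.subschemeι.appTop.hom.toMonoidHom).toAdditive

theorem uB_map (x : CohTop.H (A X) 0) :
    uB J (Sheaf.H.map (UnitsSh.comap J.subschemeι) 0 x) = rU J (uA X x) := by
  have h := Sheaf.H.equiv₀_naturality (UnitsSh.comap J.subschemeι)
    (hT := (isTerminalTop : IsTerminal (⊤ : Opens X.toTopCat))) x
  unfold uB
  rw [AddEquiv.trans_apply, ← h]
  rfl

include hJ in
/-- **the seven-term exact sequence of a square-zero thickening**, additively. -/
theorem exists_seven :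
    ∃ (ε : Coh.HH X (ClSub.idealMod J) 0 →+ Additive (Γ(X, ⊤))ˣ)
      (δ₀ : Additive (Γ(J.subscheme, ⊤))ˣ →+ Coh.HH X (ClSub.idealMod J) 1)
      (α : Coh.HH X (ClSub.idealMod J) 1 →+ Pic X)
      (δ₁ : Pic J.subscheme →+ Coh.HH X (ClSub.idealMod J) 2),
      Function.Injective ε ∧
      (∀ x, rU J x = 0 ↔ ∃ y, ε y = x) ∧
      (∀ x, δ₀ x = 0 ↔ ∃ y, rU J y = x) ∧
      (∀ x, α x = 0 ↔ ∃ y, δ₀ y = x) ∧
      (∀ x, PicCalc.pull J.subschemeι x = 0 ↔ ∃ y, α y = x) ∧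
      (∀ x, δ₁ x = 0 ↔ ∃ y, PicCalc.pull J.subschemeι y = x) := by
  haveI := isIso_base_subschemeι J hJ
  obtain ⟨θ, θ₀, hsq⟩ := exists_square J.subschemeι
  have hT := TS_shortExact J hJ
  haveI : Mono (TS J hJ).f := hT.mono_f
  refine ⟨(uA X).toAddMonoidHom.comp (Sheaf.H.map (TS J hJ).f 0),
    (dl (TS J hJ) hT 0).comp (uB J).symm.toAddMonoidHom,
    θ.symm.toAddMonoidHom.comp (Sheaf.H.map (TS J hJ).f 1),
    (dl (TS J hJ) hT 1).comp θ₀.toAddMonoidHom, ?_, ?_, ?_, ?_, ?_, ?_⟩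
  · -- ε injective
    intro y y' h
    have h1 : Sheaf.H.map (TS J hJ).f 0 y = Sheaf.H.map (TS J hJ).f 0 y' := (uA X).injective h
    exact Ext.postcomp_mk₀_injective_of_mono (ZZ X.toTopCat) (TS J hJ).f h1
  · intro x
    have h1 : rU J x = 0 ↔ Sheaf.H.map (TS J hJ).g 0 ((uA X).symm x) = 0 := by
      rw [← AddEquiv.map_eq_zero_iff (uB J), uB_map, AddEquiv.apply_symm_apply]
    rw [h1, map_g_eq_zero_iff (TS J hJ) hT 0]
    constructor
    · rintro ⟨y, hy⟩
      exact ⟨y, by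
        change uA X (Sheaf.H.map (TS J hJ).f 0 y) = x
        rw [hy, AddEquiv.apply_symm_apply]⟩
    · rintro ⟨y, hy⟩
      exact ⟨y, by
        rw [← hy]
        change _ = (uA X).symm (uA X (Sheaf.H.map (TS J hJ).f 0 y))
        rw [AddEquiv.symm_apply_apply]⟩
  · intro x
    change dl (TS J hJ) hT 0 ((uB J).symm x) = 0 ↔ _
    rw [dl_eq_zero_iff (TS J hJ) hT 0]
    constructor
    · rintro ⟨y, hy⟩
      refine ⟨uA X y, ?_⟩
      rw [← uB_map]
      change uB J (Sheaf.H.map (TS J hJ).g 0 y) = x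
      rw [hy, AddEquiv.apply_symm_apply]
    · rintro ⟨y, hy⟩
      refine ⟨(uA X).symm y, ?_⟩
      apply (uB J).injective
      change uB J (Sheaf.H.map (UnitsSh.comap J.subschemeι) 0 ((uA X).symm y)) = _
      rw [uB_map, AddEquiv.apply_symm_apply, AddEquiv.apply_symm_apply, hy]
  · intro x
    change θ.symm (Sheaf.H.map (TS J hJ).f 1 x) = 0 ↔ _
    rw [AddEquiv.map_eq_zero_iff θ.symm, map_f_eq_zero_iff (TS J hJ) hT 0]
    constructor
    · rintro ⟨y, hy⟩
      exact ⟨uB J y, by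
        change dl (TS J hJ) hT 0 ((uB J).symm (uB J y)) = x
        rw [AddEquiv.symm_apply_apply, hy]⟩
    · rintro ⟨y, hy⟩
      exact ⟨(uB J).symm y, hy⟩
  · intro x
    have h1 : PicCalc.pull J.subschemeι x = 0 ↔ Sheaf.H.map (TS J hJ).g 1 (θ x) = 0 := by
      rw [← AddEquiv.map_eq_zero_iff θ₀, hsq]
    rw [h1, map_g_eq_zero_iff (TS J hJ) hT 1]
    constructor
    · rintro ⟨y, hy⟩
      exact ⟨y, by
        change θ.symm (Sheaf.H.map (TS J hJ).f 1 y) = x
        rw [hy, AddEquiv.symm_apply_apply]⟩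
    · rintro ⟨y, hy⟩
      exact ⟨y, by
        rw [← hy]
        change _ = θ (θ.symm (Sheaf.H.map (TS J hJ).f 1 y))
        rw [AddEquiv.apply_symm_apply]⟩
  · intro x
    change dl (TS J hJ) hT 1 (θ₀ x) = 0 ↔ _
    rw [dl_eq_zero_iff (TS J hJ) hT 1]
    constructor
    · rintro ⟨y, hy⟩
      refine ⟨θ.symm y, ?_⟩
      apply θ₀.injective
      rw [hsq, AddEquiv.apply_symm_apply]
      exact hy
    · rintro ⟨y, hy⟩
      refine ⟨θ y, ?_⟩
      rw [← hy, hsq]

end Thick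

/-- the multiplicative form of a seven-term exact sequence. -/
theorem seven_mul {U₁ U₂ G G₀ : Type*} [CommGroup U₁] [CommGroup U₂] [CommGroup G] [CommGroup G₀]
    {H₀ H₁ H₂ Q Q₀ : Type*} [AddCommGroup H₀] [AddCommGroup H₁] [AddCommGroup H₂]
    [AddCommGroup Q] [AddCommGroup Q₀]
    (r : U₁ →* U₂) (p : G →* G₀) (π : Q →+ Q₀)
    (E : Additive G ≃+ Q) (E₀ : Additive G₀ ≃+ Q₀)
    (hE : ∀ g, E₀ (Additive.ofMul (p g)) = π (E (Additive.ofMul g)))
    (ε : H₀ →+ Additive U₁) (δ₀ : Additive U₂ →+ H₁) (α : H₁ →+ Q) (δ₁ : Q₀ →+ H₂)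
    (h1 : Function.Injective ε) (h2 : ∀ x, MonoidHom.toAdditive r x = 0 ↔ ∃ y, ε y = x)
    (h3 : ∀ x, δ₀ x = 0 ↔ ∃ y, MonoidHom.toAdditive r y = x)
    (h4 : ∀ x, α x = 0 ↔ ∃ y, δ₀ y = x) (h5 : ∀ x, π x = 0 ↔ ∃ y, α y = x)
    (h6 : ∀ x, δ₁ x = 0 ↔ ∃ y, π y = x) :
    ∃ (ε' : Multiplicative H₀ →* U₁) (δ₀' : U₂ →* Multiplicative H₁)
      (α' : Multiplicative H₁ →* G) (δ₁' : G₀ →* Multiplicative H₂),
      Function.Injective ε' ∧ r.ker = ε'.range ∧ δ₀'.ker = r.range ∧ α'.ker = δ₀'.range ∧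
        p.ker = α'.range ∧ δ₁'.ker = p.range := by
  refine ⟨AddMonoidHom.toMultiplicativeLeft ε, AddMonoidHom.toMultiplicativeRight δ₀,
    AddMonoidHom.toMultiplicativeLeft (E.symm.toAddMonoidHom.comp α),
    AddMonoidHom.toMultiplicativeRight (δ₁.comp E₀.toAddMonoidHom), ?_, ?_, ?_, ?_, ?_, ?_⟩
  · intro y y' h
    have h' : ε (Multiplicative.toAdd y) = ε (Multiplicative.toAdd y') :=
      Additive.toMul.injective h
    exact Multiplicative.toAdd.injective (h1 h')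
  · ext x
    rw [MonoidHom.mem_ker, MonoidHom.mem_range]
    have e1 : r x = 1 ↔ MonoidHom.toAdditive r (Additive.ofMul x) = 0 := Iff.rfl
    rw [e1, h2]
    constructor
    · rintro ⟨y, hy⟩
      exact ⟨Multiplicative.ofAdd y, congrArg Additive.toMul hy⟩
    · rintro ⟨y, hy⟩
      exact ⟨Multiplicative.toAdd y, congrArg Additive.ofMul hy⟩
  · ext x
    rw [MonoidHom.mem_ker, MonoidHom.mem_range]
    have e1 : AddMonoidHom.toMultiplicativeRight δ₀ x = 1 ↔ δ₀ (Additive.ofMul x) = 0 := Iff.rfl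
    rw [e1, h3]
    constructor
    · rintro ⟨y, hy⟩
      exact ⟨Additive.toMul y, congrArg Additive.toMul hy⟩
    · rintro ⟨y, hy⟩
      exact ⟨Additive.ofMul y, congrArg Additive.ofMul hy⟩
  · ext x
    rw [MonoidHom.mem_ker, MonoidHom.mem_range]
    have e1 : AddMonoidHom.toMultiplicativeLeft (E.symm.toAddMonoidHom.comp α) x = 1 ↔
        E.symm (α (Multiplicative.toAdd x)) = 0 := Iff.rfl
    rw [e1, AddEquiv.map_eq_zero_iff E.symm, h4]
    constructor
    · rintro ⟨y, hy⟩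
      exact ⟨Additive.toMul y, congrArg Multiplicative.ofAdd hy⟩
    · rintro ⟨y, hy⟩
      exact ⟨Additive.ofMul y, congrArg Multiplicative.toAdd hy⟩
  · ext x
    rw [MonoidHom.mem_ker, MonoidHom.mem_range]
    have e1 : p x = 1 ↔ π (E (Additive.ofMul x)) = 0 := by
      rw [← hE, AddEquiv.map_eq_zero_iff E₀]
      exact Iff.rfl
    rw [e1, h5]
    constructor
    · rintro ⟨y, hy⟩
      refine ⟨Multiplicative.ofAdd y, ?_⟩
      change Additive.toMul (E.symm (α y)) = x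
      rw [hy, AddEquiv.symm_apply_apply]
      rfl
    · rintro ⟨y, hy⟩
      refine ⟨Multiplicative.toAdd y, ?_⟩
      have hy' : Additive.toMul (E.symm (α (Multiplicative.toAdd y))) = x := hy
      rw [← hy']
      change _ = E (E.symm (α (Multiplicative.toAdd y)))
      rw [AddEquiv.apply_symm_apply]
  · ext x
    rw [MonoidHom.mem_ker, MonoidHom.mem_range]
    have e1 : AddMonoidHom.toMultiplicativeRight (δ₁.comp E₀.toAddMonoidHom) x = 1 ↔
        δ₁ (E₀ (Additive.ofMul x)) = 0 := Iff.rfl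
    rw [e1, h6]
    constructor
    · rintro ⟨y, hy⟩
      refine ⟨Additive.toMul (E.symm y), ?_⟩
      have := hE (Additive.toMul (E.symm y))
      rw [ofMul_toMul, AddEquiv.apply_symm_apply, hy] at this
      exact Additive.ofMul.injective (E₀.injective this)
    · rintro ⟨y, hy⟩
      exact ⟨E (Additive.ofMul y), by rw [← hE, hy]⟩

/-- **S15400**. -/
theorem main_seven {X : Scheme.{u}} (J : X.IdealSheafData) (hJ : J * J = ⊥)
    [PicGrp.Law X] [PicGrp.Law J.subscheme] (hi : PicGrp.PullMul J.subschemeι) :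
    ∃ (ε : Multiplicative (Coh.HH X (ClSub.idealMod J) 0) →* (Γ(X, ⊤))ˣ)
      (δ₀ : (Γ(J.subscheme, ⊤))ˣ →* Multiplicative (Coh.HH X (ClSub.idealMod J) 1))
      (α : Multiplicative (Coh.HH X (ClSub.idealMod J) 1) →* PicLoc.PicSet X)
      (δ₁ : PicLoc.PicSet J.subscheme →* Multiplicative (Coh.HH X (ClSub.idealMod J) 2)),
      Function.Injective ε ∧
      (Units.map J.subschemeι.appTop.hom.toMonoidHom).ker = ε.range ∧
      δ₀.ker = (Units.map J.subschemeι.appTop.hom.toMonoidHom).range ∧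
      α.ker = δ₀.range ∧
      (PicGrp.pullHom J.subschemeι hi).ker = α.range ∧
      δ₁.ker = (PicGrp.pullHom J.subschemeι hi).range := by
  obtain ⟨E, hE⟩ := exists_picSet_equiv (X := X)
  obtain ⟨E₀, hE₀⟩ := exists_picSet_equiv (X := J.subscheme)
  obtain ⟨ε, δ₀, α, δ₁, h1, h2, h3, h4, h5, h6⟩ := exists_seven J hJ
  exact seven_mul (Units.map J.subschemeι.appTop.hom.toMonoidHom)
    (PicGrp.pullHom J.subschemeι hi) (PicCalc.pull J.subschemeι) E E₀
    (fun g => by rw [hE₀, hE, ofPicSet_pullHom]) ε δ₀ α δ₁ h1 h2 h3 h4 h5 h6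

end Groth.Agent.Helper23.PicH1
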