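import Mathlib

set_option autoImplicit false
universe u

namespace Groth.Agent.Helper23.PicNil
open TensorProduct

variable {R : Type u} [CommRing R] (I : Ideal R)

theorem nilp_nakayama {M : Type*} [AddCommGroup M] [Module R M] (hI : IsNilpotent I)
    (N : Submodule R M) (h : N ⊔ I • (⊤ : Submodule R M) = ⊤) : N = ⊤ := by
  obtain ⟨n, hn⟩ := hI
  have key : ∀ k : ℕ, N ⊔ I ^ k • (⊤ : Submodule R M) = ⊤ := by
    intro k
    induction k with
    | zero => simp
    | succ k ih =>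
      rw [eq_top_iff]
      calc (⊤ : Submodule R M) = N ⊔ I • (⊤ : Submodule R M) := h.symm
        _ = N ⊔ I • (N ⊔ I ^ k • (⊤ : Submodule R M)) := by rw [ih]
        _ = N ⊔ (I • N ⊔ I • (I ^ k • (⊤ : Submodule R M))) := by rw [Submodule.smul_sup]
        _ ≤ N ⊔ I ^ (k + 1) • (⊤ : Submodule R M) := by
          rw [← Submodule.mul_smul, ← pow_succ']
          exact sup_le le_sup_left (sup_le (le_sup_of_le_left Submodule.smul_le_right) le_sup_right)
  have := key n
  rwa [hn, Ideal.zero_eq_bot, Submodule.bot_smul, sup_bot_eq] at this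

theorem one_tmul_surjective (P : Type*) [AddCommGroup P] [Module R P]
    (z : (R ⧸ I) ⊗[R] P) : ∃ x : P, z = (1 : R ⧸ I) ⊗ₜ[R] x := by
  induction z using TensorProduct.induction_on with
  | zero => exact ⟨0, by simp⟩
  | tmul s p =>
    obtain ⟨r, rfl⟩ := Ideal.Quotient.mk_surjective s
    refine ⟨r • p, ?_⟩
    rw [← TensorProduct.smul_tmul]
    congr 1
    rw [Algebra.smul_def, mul_one]; rfl
  | add a b ha hb =>
    obtain ⟨x, rfl⟩ := ha
    obtain ⟨y, rfl⟩ := hb
    exact ⟨x + y, by rw [TensorProduct.tmul_add]⟩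

theorem one_tmul_eq_zero_iff (P : Type*) [AddCommGroup P] [Module R P] (x : P) :
    (1 : R ⧸ I) ⊗ₜ[R] x = 0 ↔ x ∈ I • (⊤ : Submodule R P) := by
  rw [← (TensorProduct.quotTensorEquivQuotSMul P I).map_eq_zero_iff,
    TensorProduct.quotTensorEquivQuotSMul_mk_one_tmul, Submodule.Quotient.mk_eq_zero]

theorem lemmaA (hI : IsNilpotent I) (P : Type*) [AddCommGroup P] [Module R P]
    [Module.Projective R P] (e : (R ⧸ I) ⊗[R] P ≃ₗ[R ⧸ I] (R ⧸ I)) : Nonempty (P ≃ₗ[R] R) := by
  obtain ⟨p₀, hp₀⟩ := one_tmul_surjective I P (e.symm 1)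
  have he : e ((1 : R ⧸ I) ⊗ₜ[R] p₀) = 1 := by rw [← hp₀, e.apply_symm_apply]
  have hr : ∀ (r : R) (x : P), e ((1 : R ⧸ I) ⊗ₜ[R] (r • x)) = Ideal.Quotient.mk I r * e ((1 : R ⧸ I) ⊗ₜ[R] x) := by
    intro r x
    have : (1 : R ⧸ I) ⊗ₜ[R] (r • x) = Ideal.Quotient.mk I r • ((1 : R ⧸ I) ⊗ₜ[R] x) := by
      rw [TensorProduct.smul_tmul', ← TensorProduct.smul_tmul]
      congr 1
    rw [this, map_smul, smul_eq_mul]
  set φ : R →ₗ[R] P := LinearMap.toSpanSingleton R P p₀ with hφ
  have hφa : ∀ r, φ r = r • p₀ := fun r => rfl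
  have hsurj : Function.Surjective φ := by
    rw [← LinearMap.range_eq_top]
    apply nilp_nakayama I hI
    rw [eq_top_iff]
    intro p _
    obtain ⟨r, hr'⟩ := Ideal.Quotient.mk_surjective (e ((1 : R ⧸ I) ⊗ₜ[R] p))
    have h0 : (1 : R ⧸ I) ⊗ₜ[R] (p - r • p₀) = 0 := by
      apply e.injective
      rw [TensorProduct.tmul_sub, map_sub, hr r p₀, he, mul_one, hr', sub_self, map_zero]
    rw [one_tmul_eq_zero_iff] at h0
    have : p = φ r + (p - r • p₀) := by rw [hφa]; abel
    rw [this]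
    exact Submodule.add_mem_sup (LinearMap.mem_range_self φ r) h0
  obtain ⟨σ, hσ⟩ := Module.projective_lifting_property φ LinearMap.id hsurj
  have hσa : ∀ x, φ (σ x) = x := fun x => by
    have := congrArg (fun f => f x) hσ
    simpa using this
  set ε := σ p₀ with hε
  have hκp : (1 - ε) • p₀ = 0 := by
    rw [sub_smul, one_smul, ← hφa ε, hσa, sub_self]
  have hκI : (1 - ε) ∈ I := by
    rw [← Ideal.Quotient.eq_zero_iff_mem]
    have := hr (1 - ε) p₀
    rw [hκp, he, mul_one, TensorProduct.tmul_zero, map_zero] at this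
    exact this.symm
  have hκε : (1 - ε) * ε = 0 := by
    have : σ ((1 - ε) • p₀) = (1 - ε) • σ p₀ := map_smul σ _ _
    rw [hκp, map_zero, smul_eq_mul] at this
    exact this.symm
  have hidem : IsIdempotentElem (1 - ε) := by
    unfold IsIdempotentElem
    have : (1 - ε) * (1 - ε) = (1 - ε) - (1 - ε) * ε := by ring
    rw [this, hκε, sub_zero]
  have hκ0 : (1 - ε) = 0 := by
    obtain ⟨n, hn⟩ := hI
    have h1 : (1 - ε) ^ (n + 1) = 1 - ε := hidem.pow_succ_eq n
    have h2 : (1 - ε) ^ (n + 1) ∈ I ^ (n + 1) := Ideal.pow_mem_pow hκI _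
    rw [pow_succ, hn, Ideal.zero_eq_bot, Ideal.bot_mul, Ideal.mem_bot] at h2
    rw [← h1, h2]
  have hε1 : ε = 1 := by rw [sub_eq_zero] at hκ0; exact hκ0.symm
  have hinj : Function.Injective φ := by
    rw [injective_iff_map_eq_zero]
    intro r hr0
    have : σ (φ r) = r • ε := by rw [hφa, map_smul]
    rw [hr0, map_zero, hε1, smul_eq_mul, mul_one] at this
    exact this.symm
  exact ⟨(LinearEquiv.ofBijective φ ⟨hinj, hsurj⟩).symm⟩

theorem ker_mapMatrix_nilpotent (hI : IsNilpotent I) (n : ℕ)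
    (x : Matrix (Fin n) (Fin n) R)
    (hx : x ∈ RingHom.ker ((Ideal.Quotient.mk I).mapMatrix :
      Matrix (Fin n) (Fin n) R →+* Matrix (Fin n) (Fin n) (R ⧸ I))) :
    IsNilpotent x := by
  have hent : ∀ a b, x a b ∈ I := by
    intro a b
    rw [RingHom.mem_ker] at hx
    have := congrFun (congrFun hx a) b
    simpa [Ideal.Quotient.eq_zero_iff_mem] using this
  have key : ∀ k : ℕ, ∀ a b, (x ^ k) a b ∈ I ^ k := by
    intro k
    induction k with
    | zero => intro a b; simp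
    | succ k ih =>
      intro a b
      rw [pow_succ x, Matrix.mul_apply, pow_succ I]
      exact Ideal.sum_mem _ fun c _ => Ideal.mul_mem_mul (ih a c) (hent c b)
  obtain ⟨k, hk⟩ := hI
  refine ⟨k, ?_⟩
  ext a b
  have := key k a b
  rw [hk, Ideal.zero_eq_bot, Ideal.mem_bot] at this
  simpa using this

theorem lemmaB (hI : IsNilpotent I) (N : Type u) [AddCommGroup N] [Module (R ⧸ I) N]
    [Module.Finite (R ⧸ I) N] [Module.Projective (R ⧸ I) N] :
    ∃ (P : Type u) (_ : AddCommGroup P) (_ : Module R P) (_ : Module.Projective R P)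
      (_ : Module.Finite R P), Nonempty ((R ⧸ I) ⊗[R] P ≃ₗ[R ⧸ I] N) := by
  classical
  obtain ⟨n, π, hπ⟩ := Module.Finite.exists_fin' (R ⧸ I) N
  obtain ⟨s, hs⟩ := Module.projective_lifting_property π LinearMap.id hπ
  have hsa : ∀ y, π (s y) = y := fun y => by
    have := congrArg (fun f => f y) hs
    simpa using this
  set E : Matrix (Fin n) (Fin n) (R ⧸ I) := LinearMap.toMatrix' (s ∘ₗ π) with hE
  have hEidem : IsIdempotentElem E := by
    unfold IsIdempotentElem
    rw [hE, ← LinearMap.toMatrix'_comp]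
    congr 1
    ext v j
    simp [hsa]
  have hEv : ∀ v, E.mulVec v = s (π v) := by
    intro v
    rw [hE, ← Matrix.toLin'_apply, Matrix.toLin'_toMatrix']; rfl
  have hErange : E ∈ ((Ideal.Quotient.mk I).mapMatrix : Matrix (Fin n) (Fin n) R →+* _).range := by
    refine ⟨Matrix.of fun a b => Classical.choose (Ideal.Quotient.mk_surjective (E a b)), ?_⟩
    ext a b
    simp only [RingHom.mapMatrix_apply, Matrix.map_apply, Matrix.of_apply]
    exact Classical.choose_spec (Ideal.Quotient.mk_surjective (E a b))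
  obtain ⟨E', hE'idem, hE'⟩ := exists_isIdempotentElem_eq_of_ker_isNilpotent
    ((Ideal.Quotient.mk I).mapMatrix : Matrix (Fin n) (Fin n) R →+* _)
    (ker_mapMatrix_nilpotent I hI n) E hErange hEidem
  have hcompat : ∀ v : Fin n → R, (Ideal.Quotient.mk I) ∘ (E'.mulVec v) = E.mulVec ((Ideal.Quotient.mk I) ∘ v) := by
    intro v
    ext j
    rw [Function.comp_apply, RingHom.map_mulVec, ← hE']; rfl
  have hE'2 : ∀ v, E'.mulVec (E'.mulVec v) = E'.mulVec v := by
    intro v
    rw [Matrix.mulVec_mulVec, hE'idem.eq]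
  -- the module
  let P : Submodule R (Fin n → R) := LinearMap.range (Matrix.toLin' E')
  have hPmem : ∀ x : P, E'.mulVec x.1 = x.1 := by
    rintro ⟨x, v, rfl⟩
    simp only [Matrix.toLin'_apply]
    exact hE'2 v
  have hproj : Module.Projective R P := by
    refine Module.Projective.of_split P.subtype (Matrix.toLin' E').rangeRestrict ?_
    ext x : 1
    apply Subtype.ext
    simp only [LinearMap.coe_comp, Function.comp_apply, Submodule.coe_subtype, LinearMap.id_coe, id_eq,
      LinearMap.codRestrict_apply, Matrix.toLin'_apply]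
    exact hPmem x
  have hfin : Module.Finite R P := Module.Finite.range _
  refine ⟨P, inferInstance, inferInstance, hproj, hfin, ?_⟩
  -- the comparison map
  let α : (R ⧸ I) ⊗[R] P →ₗ[R ⧸ I] N :=
    π ∘ₗ (TensorProduct.piScalarRight R (R ⧸ I) (R ⧸ I) (Fin n)).toLinearMap ∘ₗ
      (LinearMap.baseChange (R ⧸ I) P.subtype)
  have hα : ∀ x : P, α ((1 : R ⧸ I) ⊗ₜ[R] x) = π ((Ideal.Quotient.mk I) ∘ x.1) := by
    intro x
    simp only [α, LinearMap.coe_comp, LinearEquiv.coe_coe, Function.comp_apply,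
      LinearMap.baseChange_tmul, Submodule.coe_subtype, TensorProduct.piScalarRight_apply,
      TensorProduct.piScalarRightHom_tmul]
    congr 1
    ext j
    simp [Algebra.smul_def]
  refine ⟨LinearEquiv.ofBijective α ⟨?_, ?_⟩⟩
  · rw [injective_iff_map_eq_zero]
    intro z hz
    obtain ⟨x, rfl⟩ := one_tmul_surjective I P z
    rw [hα] at hz
    rw [one_tmul_eq_zero_iff]
    have h1 : (Ideal.Quotient.mk I) ∘ x.1 = 0 := by
      have := hcompat x.1
      rw [hPmem x, hEv, hz, map_zero] at this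
      exact this
    have hxI : ∀ j, x.1 j ∈ I := by
      intro j
      rw [← Ideal.Quotient.eq_zero_iff_mem]
      exact congrFun h1 j
    have hx : x = ∑ j, x.1 j • (⟨E'.mulVec (Pi.single j 1), ⟨Pi.single j 1, by simp⟩⟩ : P) := by
      apply Subtype.ext
      rw [Submodule.coe_sum]
      simp only [Submodule.coe_smul]
      conv_lhs => rw [← hPmem x, pi_eq_sum_univ x.1]
      rw [Matrix.mulVec_sum]
      refine Finset.sum_congr rfl fun j _ => ?_
      rw [← Matrix.mulVec_smul]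
      congr 1
      ext i
      simp [Pi.single_apply, eq_comm]
    rw [hx]
    exact Submodule.sum_mem _ fun j _ => Submodule.smul_mem_smul (hxI j) Submodule.mem_top
  · intro y
    obtain ⟨v', hv'⟩ : ∃ v' : Fin n → R, (Ideal.Quotient.mk I) ∘ v' = s y :=
      ⟨fun j => Classical.choose (Ideal.Quotient.mk_surjective (s y j)),
        funext fun j => Classical.choose_spec (Ideal.Quotient.mk_surjective (s y j))⟩
    refine ⟨(1 : R ⧸ I) ⊗ₜ[R] (⟨E'.mulVec v', ⟨v', by simp⟩⟩ : P), ?_⟩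
    rw [hα]
    simp only
    rw [hcompat, hv', hEv, hsa, hsa]

open TensorProduct CommRing


theorem pic_quotient_bijective (hI : IsNilpotent I) :
    Function.Bijective (Pic.mapAlgebra R (R ⧸ I)) := by
  constructor
  · rw [injective_iff_map_eq_one]
    intro M hM
    rw [Pic.mapAlgebra_apply, Pic.mk_eq_one_iff] at hM
    obtain ⟨e⟩ := hM
    obtain ⟨e'⟩ := lemmaA I hI M e
    rw [← Pic.mk_eq_self (M := M), Pic.mk_eq_one_iff]
    exact ⟨e'⟩
  · intro N
    obtain ⟨P, _, _, _, _, ⟨eP⟩⟩ := lemmaB I hI N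
    obtain ⟨Q, _, _, _, _, ⟨eQ⟩⟩ := lemmaB I hI (N⁻¹ : Pic (R ⧸ I))
    have h1 : Nonempty ((N ⊗[R ⧸ I] (N⁻¹ : Pic (R ⧸ I))) ≃ₗ[R ⧸ I] (R ⧸ I)) := by
      rw [← Pic.mk_eq_one_iff, Pic.mk_tensor, Pic.mk_eq_self, Pic.mk_eq_self, mul_inv_cancel]
    obtain ⟨e1⟩ := h1
    let e2 : (R ⧸ I) ⊗[R] (P ⊗[R] Q) ≃ₗ[R ⧸ I] (R ⧸ I) :=
      (AlgebraTensorModule.distribBaseChange R (R ⧸ I) P Q) ≪≫ₗ (TensorProduct.congr eP eQ) ≪≫ₗ e1
    obtain ⟨e3⟩ := lemmaA I hI (P ⊗[R] Q) e2
    have : Module.Invertible R P := Module.Invertible.left e3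
    refine ⟨Pic.mk R P, ?_⟩
    rw [Pic.mapAlgebra_apply, Pic.mk_eq_iff]
    exact ⟨(AlgebraTensorModule.congr (LinearEquiv.refl (R ⧸ I) (R ⧸ I)) (Pic.mk.linearEquiv R P)) ≪≫ₗ eP⟩

theorem pic_bijective_of_surjective {A' A : Type u} [CommRing A'] [CommRing A]
    (f : A' →+* A) (hf : Function.Surjective f) (hker : IsNilpotent (RingHom.ker f)) :
    Function.Bijective (Pic.mapRingHom f) := by
  set I := RingHom.ker f with hI
  let e : A' ⧸ I ≃+* A := RingHom.quotientKerEquivOfSurjective hf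
  have hfe : f = (e : A' ⧸ I →+* A).comp (Ideal.Quotient.mk I) := by
    ext x; rfl
  have h1 : Function.Bijective (Pic.mapRingHom (Ideal.Quotient.mk I)) := by
    have : Pic.mapRingHom (Ideal.Quotient.mk I) = Pic.mapAlgebra A' (A' ⧸ I) :=
      Pic.mapRingHom_algebraMap (R := A') (A := A' ⧸ I)
    rw [this]
    exact pic_quotient_bijective I hker
  have h2 : Function.Bijective (Pic.mapRingHom (e : A' ⧸ I →+* A)) := by
    refine Function.bijective_iff_has_inverse.mpr ⟨Pic.mapRingHom (e.symm : A →+* A' ⧸ I), ?_, ?_⟩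
    · intro M
      rw [Pic.mapRingHom_mapRingHom]
      have : (e.symm : A →+* A' ⧸ I).comp (e : A' ⧸ I →+* A) = RingHom.id _ := by
        ext x; simp
      rw [this, Pic.mapRingHom_id_apply]
    · intro M
      rw [Pic.mapRingHom_mapRingHom]
      have : (e : A' ⧸ I →+* A).comp (e.symm : A →+* A' ⧸ I) = RingHom.id _ := by
        ext x; simp
      rw [this, Pic.mapRingHom_id_apply]
  rw [hfe, ← Pic.mapRingHom_comp_mapRingHom]
  exact h2.comp h1

end Groth.Agent.Helper23.PicNil
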