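import Mathlib

/-!
# Homogeneous localization versus localization at a homogeneous prime (helper23)

For a homogeneous prime `p` of an `ℕ`-graded ring `A` admitting homogeneous elements `f ∈ A_d`,
`g ∈ A_{d+1}` outside `p`, the localization `A_p` is the localization of the Laurent polynomial
ring `A_(p)[T, T⁻¹]` at a prime; in particular `A_(p) → A_p` is flat.
-/

set_option autoImplicit false
set_option linter.unusedSectionVars false
set_option linter.unusedVariables false
set_option linter.style.haveILetI false

open DirectSum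

namespace Groth.Agent.Helper23.ProjGor

universe u

variable {A : Type u} [CommRing A] (𝒜 : ℕ → AddSubgroup A) [GradedRing 𝒜]
variable (p : Ideal A) [hp : p.IsPrime]

/-- homogeneous elements of consecutive degrees outside `p` -/
structure Data where
  /-- the degree -/
  d : ℕ
  /-- the element of degree `d` -/
  f : A
  /-- the element of degree `d + 1` -/
  g : A
  hf : f ∈ 𝒜 d
  hg : g ∈ 𝒜 (d + 1)
  hfp : f ∈ p.primeCompl
  hgp : g ∈ p.primeCompl

variable {𝒜 p} (D : Data 𝒜 p)

/-- the unit `t = g/f` of degree one -/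
noncomputable def tt : Localization.AtPrime p := Localization.mk D.g ⟨D.f, D.hfp⟩

/-- its inverse `f/g` -/
noncomputable def ti : Localization.AtPrime p := Localization.mk D.f ⟨D.g, D.hgp⟩

theorem tt_mul_ti : tt D * ti D = 1 := by
  unfold tt ti
  rw [Localization.mk_mul, ← Localization.mk_one]
  rw [Localization.mk_eq_mk_iff, Localization.r_iff_exists]
  refine ⟨1, ?_⟩
  simp only [OneMemClass.coe_one, one_mul, Submonoid.coe_mul, mul_one]
  ring

theorem ti_mul_tt : ti D * tt D = 1 := by
  rw [mul_comm, tt_mul_ti]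

/-- `t` as a unit -/
noncomputable def tu : (Localization.AtPrime p)ˣ :=
  ⟨tt D, ti D, tt_mul_ti D, ti_mul_tt D⟩

/-- the degree-zero coefficient of a homogeneous element -/
theorem exists_val {n : ℕ} {a : A} (ha : a ∈ 𝒜 n) :
    ∃ b : HomogeneousLocalization.AtPrime 𝒜 p,
      b.val = algebraMap A (Localization.AtPrime p) a * ti D ^ n := by
  have h1 : a * D.f ^ n ∈ 𝒜 (n * (D.d + 1)) := by
    have := SetLike.mul_mem_graded ha (SetLike.pow_mem_graded n D.hf)
    have e : n + n • D.d = n * (D.d + 1) := by rw [smul_eq_mul]; ring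
    rwa [e] at this
  have h2 : D.g ^ n ∈ 𝒜 (n * (D.d + 1)) := by
    have := SetLike.pow_mem_graded n D.hg
    rwa [smul_eq_mul] at this
  have h3 : D.g ^ n ∈ p.primeCompl := fun h => D.hgp (hp.mem_of_pow_mem n h)
  refine ⟨HomogeneousLocalization.mk ⟨n * (D.d + 1), ⟨a * D.f ^ n, h1⟩, ⟨D.g ^ n, h2⟩, h3⟩, ?_⟩
  rw [HomogeneousLocalization.val_mk]
  unfold ti
  rw [Localization.mk_pow, ← Localization.mk_one_eq_algebraMap, Localization.mk_mul]
  congr 1
  apply Subtype.ext
  simp

/-- the coefficient map on the degree-`n` piece -/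
noncomputable def βHom (n : ℕ) : ↥(𝒜 n) →+ HomogeneousLocalization.AtPrime 𝒜 p where
  toFun a := Classical.choose (exists_val D a.2)
  map_zero' := by
    apply HomogeneousLocalization.val_injective
    rw [Classical.choose_spec (exists_val D (0 : ↥(𝒜 n)).2), HomogeneousLocalization.val_zero,
      ZeroMemClass.coe_zero, map_zero, zero_mul]
  map_add' a b := by
    apply HomogeneousLocalization.val_injective
    rw [HomogeneousLocalization.val_add, Classical.choose_spec (exists_val D (a + b).2),
      Classical.choose_spec (exists_val D a.2), Classical.choose_spec (exists_val D b.2),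
      AddMemClass.coe_add, map_add, add_mul]

theorem val_βHom (n : ℕ) (a : ↥(𝒜 n)) :
    (βHom D n a).val = algebraMap A (Localization.AtPrime p) (a : A) * ti D ^ n :=
  Classical.choose_spec (exists_val D a.2)

/-- the Laurent polynomial ring over the homogeneous localization -/
abbrev LL (𝒜 : ℕ → AddSubgroup A) [GradedRing 𝒜] (p : Ideal A) [p.IsPrime] : Type u :=
  AddMonoidAlgebra (HomogeneousLocalization.AtPrime 𝒜 p) ℤ

/-- the graded lift of `A` to the Laurent polynomial ring, on the direct sum -/
noncomputable def ψ₀ : (⨁ n, ↥(𝒜 n)) →+* LL 𝒜 p :=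
  DirectSum.toSemiring
    (fun n => (AddMonoidAlgebra.singleAddHom (n : ℤ)).comp (βHom D n))
    (by
      show AddMonoidAlgebra.single ((0 : ℕ) : ℤ) (βHom D 0 _) = 1
      rw [Nat.cast_zero, AddMonoidAlgebra.one_def]
      congr 1
      apply HomogeneousLocalization.val_injective
      rw [val_βHom, pow_zero, mul_one, HomogeneousLocalization.val_one]
      show algebraMap A (Localization.AtPrime p) (1 : A) = 1
      exact map_one _)
    (by
      intro i j a b
      show AddMonoidAlgebra.single ((i + j : ℕ) : ℤ) (βHom D (i + j) _) =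
        AddMonoidAlgebra.single (i : ℤ) (βHom D i a) * AddMonoidAlgebra.single (j : ℤ) (βHom D j b)
      rw [AddMonoidAlgebra.single_mul_single, Nat.cast_add]
      congr 1
      apply HomogeneousLocalization.val_injective
      rw [HomogeneousLocalization.val_mul, val_βHom, val_βHom, val_βHom]
      show algebraMap A (Localization.AtPrime p) ((a : A) * (b : A)) * ti D ^ (i + j) = _
      rw [map_mul, pow_add]
      ring)

/-- the graded lift of `A` to the Laurent polynomial ring -/
noncomputable def ψ : A →+* LL 𝒜 p :=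
  (ψ₀ D).comp (DirectSum.decomposeRingEquiv 𝒜).toRingHom

theorem ψ_of_mem {n : ℕ} {a : A} (ha : a ∈ 𝒜 n) :
    ψ D a = AddMonoidAlgebra.single (n : ℤ) (βHom D n ⟨a, ha⟩) := by
  unfold ψ ψ₀
  rw [RingHom.comp_apply]
  have : (DirectSum.decomposeRingEquiv 𝒜).toRingHom a = DirectSum.of (fun n => ↥(𝒜 n)) n ⟨a, ha⟩ :=
    DirectSum.decompose_of_mem 𝒜 ha
  rw [this, DirectSum.toSemiring_of]
  rfl

/-- evaluation of Laurent polynomials at `t` -/
noncomputable def Φ : LL 𝒜 p →ₐ[HomogeneousLocalization.AtPrime 𝒜 p] Localization.AtPrime p :=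
  AddMonoidAlgebra.lift (HomogeneousLocalization.AtPrime 𝒜 p) (Localization.AtPrime p) ℤ
    ((Units.coeHom (Localization.AtPrime p)).comp (zpowersHom (Localization.AtPrime p)ˣ (tu D)))

theorem Φ_single (n : ℤ) (b : HomogeneousLocalization.AtPrime 𝒜 p) :
    Φ D (AddMonoidAlgebra.single n b) = b.val * ((tu D ^ n : (Localization.AtPrime p)ˣ) :
      Localization.AtPrime p) := by
  unfold Φ
  rw [AddMonoidAlgebra.lift_single, Algebra.smul_def, HomogeneousLocalization.algebraMap_apply]
  rfl

theorem Φ_ψ (a : A) : Φ D (ψ D a) = algebraMap A (Localization.AtPrime p) a := by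
  induction a using DirectSum.Decomposition.inductionOn 𝒜 with
  | zero => rw [map_zero, map_zero, map_zero]
  | @homogeneous n a =>
    rw [ψ_of_mem D a.2, Φ_single, val_βHom, zpow_natCast, Units.val_pow_eq_pow_val, mul_assoc,
      ← mul_pow]
    have : ti D * ((tu D : (Localization.AtPrime p)ˣ) : Localization.AtPrime p) = 1 :=
      ti_mul_tt D
    rw [this, one_pow, mul_one]
  | add a b ha hb => rw [map_add, map_add, ha, hb, map_add]

end Groth.Agent.Helper23.ProjGor
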