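import Mathlib
import Groth.Agent.Lib.Helper23.ProjGor1

/-!
# `A_p` as a localization of the Laurent polynomial ring over `A_(p)` (helper23)
-/

set_option autoImplicit false
set_option linter.unusedSectionVars false
set_option linter.unusedVariables false
set_option linter.style.haveILetI false

open DirectSum

namespace Groth.Agent.Helper23.ProjGor

universe u

variable {A : Type u} [CommRing A] {𝒜 : ℕ → AddSubgroup A} [GradedRing 𝒜]
variable {p : Ideal A} [hp : p.IsPrime] (D : Data 𝒜 p)

/-- the prime of the Laurent polynomial ring lying under the maximal ideal of `A_p` -/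
noncomputable def Q : Ideal (LL 𝒜 p) :=
  (IsLocalRing.maximalIdeal (Localization.AtPrime p)).comap (Φ D).toRingHom

instance : (Q D).IsPrime := by
  unfold Q
  exact Ideal.comap_isPrime _ _

theorem mem_primeCompl_Q {x : LL 𝒜 p} : x ∈ (Q D).primeCompl ↔ IsUnit (Φ D x) := by
  show ¬ (x ∈ Q D) ↔ _
  unfold Q
  rw [Ideal.mem_comap, IsLocalRing.mem_maximalIdeal, mem_nonunits_iff, not_not]
  rfl

theorem ψ_mem_primeCompl (s : p.primeCompl) : ψ D (s : A) ∈ (Q D).primeCompl := by
  rw [mem_primeCompl_Q, Φ_ψ]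
  exact IsLocalization.map_units _ s

/-- the localization of the Laurent polynomial ring -/
abbrev LQ : Type u := Localization.AtPrime (Q D)

/-- the comparison map from `A_p` -/
noncomputable def σ : Localization.AtPrime p →+* LQ D :=
  IsLocalization.lift (M := p.primeCompl) (g := (algebraMap (LL 𝒜 p) (LQ D)).comp (ψ D))
    (fun s => IsLocalization.map_units (M := (Q D).primeCompl) (LQ D) ⟨_, ψ_mem_primeCompl D s⟩)

theorem σ_algebraMap (a : A) :
    σ D (algebraMap A (Localization.AtPrime p) a) = algebraMap (LL 𝒜 p) (LQ D) (ψ D a) := by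
  unfold σ
  rw [IsLocalization.lift_eq]
  rfl

theorem σ_mk (a : A) (s : p.primeCompl) :
    σ D (Localization.mk a s) * algebraMap (LL 𝒜 p) (LQ D) (ψ D (s : A)) =
      algebraMap (LL 𝒜 p) (LQ D) (ψ D a) := by
  rw [← σ_algebraMap, ← σ_algebraMap, ← map_mul, Localization.mk_eq_mk'_apply,
    IsLocalization.mk'_spec]

theorem isUnit_ι_ψ (s : p.primeCompl) : IsUnit (algebraMap (LL 𝒜 p) (LQ D) (ψ D (s : A))) :=
  IsLocalization.map_units (M := (Q D).primeCompl) (LQ D) ⟨_, ψ_mem_primeCompl D s⟩

theorem σ_val (b : HomogeneousLocalization.AtPrime 𝒜 p) :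
    σ D b.val = algebraMap (LL 𝒜 p) (LQ D) (AddMonoidAlgebra.single 0 b) := by
  obtain ⟨⟨e, c, s, hs⟩, rfl⟩ := HomogeneousLocalization.mk_surjective b
  rw [HomogeneousLocalization.val_mk]
  have hu := isUnit_ι_ψ D ⟨(s : A), hs⟩
  apply hu.mul_right_cancel
  rw [σ_mk, ← map_mul]
  congr 1
  show ψ D (c : A) = _ * ψ D (s : A)
  rw [ψ_of_mem D c.2, ψ_of_mem D s.2, AddMonoidAlgebra.single_mul_single, zero_add]
  congr 1
  apply HomogeneousLocalization.val_injective
  rw [HomogeneousLocalization.val_mul, val_βHom, val_βHom, HomogeneousLocalization.val_mk,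
    ← mul_assoc]
  congr 1
  rw [← Localization.mk_one_eq_algebraMap, ← Localization.mk_one_eq_algebraMap,
    Localization.mk_mul, Localization.mk_eq_mk_iff, Localization.r_iff_exists]
  refine ⟨1, ?_⟩
  simp only [OneMemClass.coe_one, one_mul, Submonoid.coe_mul, mul_one]
  ring

theorem β_g_eq_β_f : βHom D (D.d + 1) ⟨D.g, D.hg⟩ = βHom D D.d ⟨D.f, D.hf⟩ := by
  apply HomogeneousLocalization.val_injective
  rw [val_βHom, val_βHom, pow_succ, ← mul_assoc]
  have h : algebraMap A (Localization.AtPrime p) D.g * ti D =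
      algebraMap A (Localization.AtPrime p) D.f := by
    unfold ti
    rw [← Localization.mk_one_eq_algebraMap, ← Localization.mk_one_eq_algebraMap,
      Localization.mk_mul, Localization.mk_eq_mk_iff, Localization.r_iff_exists]
    refine ⟨1, ?_⟩
    simp only [OneMemClass.coe_one, one_mul]
  calc algebraMap A (Localization.AtPrime p) D.g * ti D ^ D.d * ti D
      = (algebraMap A (Localization.AtPrime p) D.g * ti D) * ti D ^ D.d := by ring
    _ = _ := by rw [h]

theorem σ_tt : σ D (tt D) = algebraMap (LL 𝒜 p) (LQ D) (AddMonoidAlgebra.single 1 1) := by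
  have hu := isUnit_ι_ψ D ⟨D.f, D.hfp⟩
  apply hu.mul_right_cancel
  unfold tt
  rw [σ_mk, ← map_mul]
  congr 1
  show ψ D D.g = _ * ψ D D.f
  rw [ψ_of_mem D D.hg, ψ_of_mem D D.hf, AddMonoidAlgebra.single_mul_single, one_mul, β_g_eq_β_f]
  congr 1
  push_cast
  ring

theorem σ_comp_Φ : (σ D).comp (Φ D).toRingHom = algebraMap (LL 𝒜 p) (LQ D) := by
  apply AddMonoidAlgebra.ringHom_ext
  · intro b
    show σ D (Φ D (AddMonoidAlgebra.single 0 b)) = _
    rw [Φ_single, zpow_zero, Units.val_one, mul_one, σ_val]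
  · intro m
    show σ D (Φ D (AddMonoidAlgebra.single m 1)) = _
    rw [Φ_single, HomogeneousLocalization.val_one, one_mul]
    let F1 : Multiplicative ℤ →* LQ D :=
      ((σ D : Localization.AtPrime p →* LQ D).comp
        (Units.coeHom (Localization.AtPrime p))).comp
        (zpowersHom (Localization.AtPrime p)ˣ (tu D))
    let F2 : Multiplicative ℤ →* LQ D :=
      ((algebraMap (LL 𝒜 p) (LQ D) : LL 𝒜 p →* LQ D)).comp
        (AddMonoidAlgebra.of (HomogeneousLocalization.AtPrime 𝒜 p) ℤ)
    have h12 : F1 = F2 := by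
      apply MonoidHom.ext_mint
      show σ D (((tu D) ^ (1 : ℤ) : (Localization.AtPrime p)ˣ) : Localization.AtPrime p) =
        algebraMap (LL 𝒜 p) (LQ D) (AddMonoidAlgebra.single 1 1)
      rw [zpow_one]
      exact σ_tt D
    exact DFunLike.congr_fun h12 (Multiplicative.ofAdd m)

end Groth.Agent.Helper23.ProjGor
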