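import Mathlib
import Groth.Agent.Lib.Helper23.ProjGor2

/-!
# Flatness of `A_(p) → A_p` (helper23)
-/

set_option autoImplicit false
set_option linter.unusedSectionVars false
set_option linter.unusedVariables false
set_option linter.style.haveILetI false

open DirectSum

namespace Groth.Agent.Helper23.ProjGor

universe u

variable {A : Type u} [CommRing A] {𝒜 : ℕ → AddSubgroup A} [GradedRing 𝒜]
variable {p : Ideal A} [hp : p.IsPrime] (D : Data 𝒜 p)

/-- `A_p` is the localization of the Laurent polynomial ring at `Q` -/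
theorem isLocalization_Φ :
    letI : Algebra (LL 𝒜 p) (Localization.AtPrime p) := (Φ D).toRingHom.toAlgebra
    IsLocalization (Q D).primeCompl (Localization.AtPrime p) := by
  letI : Algebra (LL 𝒜 p) (Localization.AtPrime p) := (Φ D).toRingHom.toAlgebra
  have hal : ∀ x : LL 𝒜 p, algebraMap (LL 𝒜 p) (Localization.AtPrime p) x = Φ D x := fun _ => rfl
  refine ⟨?_, ?_, ?_⟩
  · rintro ⟨y, hy⟩
    rw [hal]
    exact (mem_primeCompl_Q D).1 hy
  · intro z
    obtain ⟨a, s, rfl⟩ := IsLocalization.exists_mk'_eq p.primeCompl z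
    refine ⟨⟨ψ D a, ⟨ψ D (s : A), ψ_mem_primeCompl D s⟩⟩, ?_⟩
    show IsLocalization.mk' (Localization.AtPrime p) a s *
      algebraMap (LL 𝒜 p) (Localization.AtPrime p) (ψ D (s : A)) =
      algebraMap (LL 𝒜 p) (Localization.AtPrime p) (ψ D a)
    rw [hal, hal, Φ_ψ, Φ_ψ, IsLocalization.mk'_spec]
  · intro x y hxy
    rw [hal, hal] at hxy
    have h1 : algebraMap (LL 𝒜 p) (LQ D) x = algebraMap (LL 𝒜 p) (LQ D) y := by
      rw [← σ_comp_Φ]
      show σ D (Φ D x) = σ D (Φ D y)
      rw [hxy]
    exact (IsLocalization.eq_iff_exists (Q D).primeCompl (LQ D)).1 h1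

include D in
theorem flat_homogeneousLocalization :
    Module.Flat (HomogeneousLocalization.AtPrime 𝒜 p) (Localization.AtPrime p) := by
  letI : Algebra (LL 𝒜 p) (Localization.AtPrime p) := (Φ D).toRingHom.toAlgebra
  haveI : IsLocalization (Q D).primeCompl (Localization.AtPrime p) := isLocalization_Φ D
  haveI : IsScalarTower (HomogeneousLocalization.AtPrime 𝒜 p) (LL 𝒜 p) (Localization.AtPrime p) :=
    IsScalarTower.of_algebraMap_eq (fun b => ((Φ D).commutes b).symm)
  haveI : Module.Flat (LL 𝒜 p) (Localization.AtPrime p) :=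
    IsLocalization.flat (Localization.AtPrime p) (Q D).primeCompl
  haveI : Module.Flat (HomogeneousLocalization.AtPrime 𝒜 p) (LL 𝒜 p) := inferInstance
  exact Module.Flat.trans (HomogeneousLocalization.AtPrime 𝒜 p) (LL 𝒜 p) (Localization.AtPrime p)

instance isLocalHom_algebraMap :
    IsLocalHom (algebraMap (HomogeneousLocalization.AtPrime 𝒜 p) (Localization.AtPrime p)) where
  map_nonunit b hb := by
    rw [HomogeneousLocalization.algebraMap_apply] at hb
    exact (HomogeneousLocalization.isUnit_iff_isUnit_val 𝒜 p b).1 hb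

open Classical in
include D in
theorem map_maximalIdeal (hph : p.IsHomogeneous 𝒜) :
    (IsLocalRing.maximalIdeal (HomogeneousLocalization.AtPrime 𝒜 p)).map
      (algebraMap (HomogeneousLocalization.AtPrime 𝒜 p) (Localization.AtPrime p)) =
      IsLocalRing.maximalIdeal (Localization.AtPrime p) := by
  apply le_antisymm
  · rw [Ideal.map_le_iff_le_comap]
    intro b hb
    rw [Ideal.mem_comap, IsLocalRing.mem_maximalIdeal, mem_nonunits_iff]
    rw [IsLocalRing.mem_maximalIdeal, mem_nonunits_iff] at hb
    intro h
    exact hb (isUnit_of_map_unit _ _ h)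
  · rw [← Localization.AtPrime.map_eq_maximalIdeal, Ideal.map_le_iff_le_comap]
    intro a ha
    rw [Ideal.mem_comap]
    rw [← DirectSum.sum_support_decompose 𝒜 a, map_sum]
    refine Ideal.sum_mem _ (fun n _ => ?_)
    have han : ((DirectSum.decompose 𝒜 a n : ↥(𝒜 n)) : A) ∈ p := hph n ha
    set an : ↥(𝒜 n) := DirectSum.decompose 𝒜 a n with han_def
    have h1 : algebraMap A (Localization.AtPrime p) (an : A) =
        algebraMap (HomogeneousLocalization.AtPrime 𝒜 p) (Localization.AtPrime p) (βHom D n an) *
          tt D ^ n := by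
      rw [HomogeneousLocalization.algebraMap_apply, val_βHom, mul_assoc, ← mul_pow, ti_mul_tt,
        one_pow, mul_one]
    rw [h1]
    apply Ideal.mul_mem_right
    apply Ideal.mem_map_of_mem
    rw [IsLocalRing.mem_maximalIdeal, mem_nonunits_iff]
    intro hu
    have hu' : IsUnit (βHom D n an).val := (HomogeneousLocalization.isUnit_iff_isUnit_val 𝒜 p _).2 hu
    rw [val_βHom] at hu'
    have hu'' : IsUnit (algebraMap A (Localization.AtPrime p) (an : A)) :=
      isUnit_of_mul_isUnit_left hu'
    have hmem : algebraMap A (Localization.AtPrime p) (an : A) ∈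
        IsLocalRing.maximalIdeal (Localization.AtPrime p) := by
      rw [← Localization.AtPrime.map_eq_maximalIdeal]
      exact Ideal.mem_map_of_mem _ han
    exact (IsLocalRing.mem_maximalIdeal _).1 hmem hu''

include D in
theorem isNoetherianRing_homogeneousLocalization [IsNoetherianRing A] :
    IsNoetherianRing (HomogeneousLocalization.AtPrime 𝒜 p) := by
  haveI : Module.Flat (HomogeneousLocalization.AtPrime 𝒜 p) (Localization.AtPrime p) :=
    flat_homogeneousLocalization D
  haveI : Module.FaithfullyFlat (HomogeneousLocalization.AtPrime 𝒜 p) (Localization.AtPrime p) :=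
    Module.FaithfullyFlat.of_flat_of_isLocalHom
  haveI : IsNoetherianRing (Localization.AtPrime p) :=
    IsLocalization.isNoetherianRing p.primeCompl _ inferInstance
  show IsNoetherian (HomogeneousLocalization.AtPrime 𝒜 p) (HomogeneousLocalization.AtPrime 𝒜 p)
  apply Submodule.IsNoetherian.of_isNoetherian_tensorProduct_of_faithfullyFlat
    (A := Localization.AtPrime p)
  exact isNoetherian_of_linearEquiv
    (TensorProduct.AlgebraTensorModule.rid (HomogeneousLocalization.AtPrime 𝒜 p)
      (Localization.AtPrime p) (Localization.AtPrime p)).symm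

end Groth.Agent.Helper23.ProjGor
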