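import Mathlib
import Groth.Agent.Lib.Helper23.ProjGor3

/-!
# Condition (#) gives homogeneous elements of consecutive degrees outside a relevant prime
(helper23)
-/

set_option autoImplicit false
set_option linter.unusedSectionVars false
set_option linter.unusedVariables false
set_option linter.style.haveILetI false

open DirectSum Pointwise

namespace Groth.Agent.Helper23.ProjGor

universe u

variable {A : Type u} [CommRing A] {𝒜 : ℕ → AddSubgroup A} [GradedRing 𝒜]

/-- under condition (#), a relevant homogeneous prime misses `A_d` for all large `d` -/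
theorem exists_not_mem_of_sharp
    (d₀ : ℕ) (hsharp : ∀ d : ℕ, d₀ ≤ d → ∀ n : ℕ, 1 ≤ n →
      𝒜 ((n + 1) * d) = AddSubgroup.closure ((𝒜 d : Set A) * (𝒜 (n * d) : Set A)))
    (p : Ideal A) [hp : p.IsPrime] {h : A} {e : ℕ} (he : 0 < e) (hh : h ∈ 𝒜 e) (hhp : h ∉ p)
    (d : ℕ) (hd : d₀ ≤ d) (hd1 : 1 ≤ d) : ∃ f ∈ 𝒜 d, f ∉ p := by
  by_contra hcon
  push Not at hcon
  have key : ∀ n : ℕ, 1 ≤ n → ∀ a ∈ 𝒜 (n * d), a ∈ p := by
    intro n hn
    induction n, hn using Nat.le_induction with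
    | base =>
      intro a ha
      rw [one_mul] at ha
      exact hcon a ha
    | succ n hn ih =>
      intro a ha
      rw [hsharp d hd n hn] at ha
      induction ha using AddSubgroup.closure_induction with
      | mem y hy =>
        obtain ⟨u, hu, v, hv, rfl⟩ := hy
        exact p.mul_mem_right _ (hcon u hu)
      | zero => exact p.zero_mem
      | add y z _ _ hy hz => exact p.add_mem hy hz
      | neg y _ hy => exact p.neg_mem hy
  have h1 : h ^ d ∈ 𝒜 (e * d) := by
    have := SetLike.pow_mem_graded d hh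
    rwa [smul_eq_mul, mul_comm] at this
  exact hhp (hp.mem_of_pow_mem d (key e he _ h1))

/-- under condition (#), a relevant homogeneous prime admits a `Data` -/
theorem exists_data_of_sharp
    (hsharp : ∃ d₀ : ℕ, ∀ d : ℕ, d₀ ≤ d → ∀ n : ℕ, 1 ≤ n →
      𝒜 ((n + 1) * d) = AddSubgroup.closure ((𝒜 d : Set A) * (𝒜 (n * d) : Set A)))
    (p : Ideal A) [hp : p.IsPrime] {h : A} {e : ℕ} (he : 0 < e) (hh : h ∈ 𝒜 e) (hhp : h ∉ p) :
    Nonempty (Data 𝒜 p) := by
  obtain ⟨d₀, hs⟩ := hsharp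
  obtain ⟨f, hf, hfp⟩ := exists_not_mem_of_sharp d₀ hs p he hh hhp (max d₀ 1)
    (le_max_left _ _) (le_max_right _ _)
  obtain ⟨g, hg, hgp⟩ := exists_not_mem_of_sharp d₀ hs p he hh hhp (max d₀ 1 + 1)
    ((le_max_left _ _).trans (Nat.le_succ _)) (Nat.succ_le_succ (Nat.zero_le _))
  exact ⟨⟨max d₀ 1, f, g, hf, hg, hfp, hgp⟩⟩

/-- a point of `Proj` has a homogeneous element of positive degree outside it -/
theorem exists_pos_degree_not_mem (x : ProjectiveSpectrum 𝒜) :
    ∃ (f : A) (m : ℕ), f ∈ 𝒜 m ∧ 0 < m ∧ f ∉ x.asHomogeneousIdeal.toIdeal := by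
  classical
  by_contra hcon
  push Not at hcon
  refine x.not_irrelevant_le fun z hz ↦ ?_
  rw [← DirectSum.sum_support_decompose 𝒜 z]
  refine x.asHomogeneousIdeal.toIdeal.sum_mem fun k hk ↦ ?_
  by_cases hk0 : k = 0
  · subst hk0
    have : ((DirectSum.decompose 𝒜 z 0 : ↥(𝒜 0)) : A) = 0 := hz
    rw [this]
    exact Ideal.zero_mem _
  · exact hcon _ k (SetLike.coe_mem _) (Nat.pos_of_ne_zero hk0)

end Groth.Agent.Helper23.ProjGor
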