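import Mathlib

/-!
# Normality of the homogeneous localization at a prime (helper23)

If `A_p` is an integrally closed domain for a homogeneous prime `p` of an `ℕ`-graded ring `A`, then
so is the homogeneous localization `A_(p)`.
-/

set_option autoImplicit false
set_option linter.unusedSectionVars false
set_option linter.unusedVariables false
set_option linter.style.haveILetI false

open DirectSum

namespace Groth.Agent.Helper23.ProjNorm

universe u

variable {A : Type u} [CommRing A] (𝒜 : ℕ → AddSubgroup A) [GradedRing 𝒜]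
variable (p : Ideal A) [hp : p.IsPrime]

theorem isDomain_homogeneousLocalization [IsDomain (Localization.AtPrime p)] :
    IsDomain (HomogeneousLocalization.AtPrime 𝒜 p) :=
  Function.Injective.isDomain
    (algebraMap (HomogeneousLocalization.AtPrime 𝒜 p) (Localization.AtPrime p))
    (HomogeneousLocalization.val_injective _)

/-- the key division lemma: a quotient of degree-zero fractions lying in `A_p` is a degree-zero
fraction -/
theorem exists_val_eq_of_mul_eq [IsDomain (Localization.AtPrime p)] (hph : p.IsHomogeneous 𝒜)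
    (a b : HomogeneousLocalization.AtPrime 𝒜 p) (hb : b ≠ 0) (c : Localization.AtPrime p)
    (h : c * b.val = a.val) : ∃ y : HomogeneousLocalization.AtPrime 𝒜 p, y.val = c := by
  classical
  obtain ⟨⟨m, a', u, hu⟩, rfl⟩ := HomogeneousLocalization.mk_surjective a
  obtain ⟨⟨n, b', v, hv⟩, rfl⟩ := HomogeneousLocalization.mk_surjective b
  obtain ⟨c0, s0, rfl⟩ := IsLocalization.exists_mk'_eq p.primeCompl c
  rw [HomogeneousLocalization.val_mk, HomogeneousLocalization.val_mk,
    ← Localization.mk_eq_mk', Localization.mk_mul, Localization.mk_eq_mk_iff,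
    Localization.r_iff_exists] at h
  obtain ⟨t, ht⟩ := h
  simp only [Submonoid.coe_mul] at ht
  -- the identity `C' * (b' * u) = S' * (a' * v)` in `A`
  set S' : A := (t : A) * (s0 : A) with hS'
  set C' : A := (t : A) * c0 with hC'
  have hid : C' * ((b' : A) * (u : A)) = S' * ((a' : A) * (v : A)) := by
    rw [hS', hC']
    linear_combination ht
  have hS'p : S' ∉ p := fun hmem => by
    rcases hp.mem_or_mem hmem with h1 | h1
    · exact t.2 h1
    · exact s0.2 h1
  -- a component of `S'` outside `p`
  obtain ⟨i, hi⟩ : ∃ i : ℕ, ((decompose 𝒜 S' i : ↥(𝒜 i)) : A) ∉ p := by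
    by_contra hcon
    push Not at hcon
    apply hS'p
    rw [← DirectSum.sum_support_decompose 𝒜 S']
    exact p.sum_mem fun k _ => hcon k
  have hbu : (b' : A) * (u : A) ∈ 𝒜 (n + m) := SetLike.mul_mem_graded b'.2 u.2
  have hav : (a' : A) * (v : A) ∈ 𝒜 (m + n) := SetLike.mul_mem_graded a'.2 v.2
  have hav' : (a' : A) * (v : A) ∈ 𝒜 (n + m) := by rwa [add_comm]
  have hcomp : ((decompose 𝒜 C' i : ↥(𝒜 i)) : A) * ((b' : A) * (u : A)) =
      ((decompose 𝒜 S' i : ↥(𝒜 i)) : A) * ((a' : A) * (v : A)) := by
    rw [← DirectSum.coe_decompose_mul_add_of_right_mem 𝒜 hbu,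
      ← DirectSum.coe_decompose_mul_add_of_right_mem 𝒜 hav', hid]
  refine ⟨HomogeneousLocalization.mk ⟨i, decompose 𝒜 C' i, decompose 𝒜 S' i, hi⟩, ?_⟩
  rw [HomogeneousLocalization.val_mk]
  -- cancel `b.val`
  have hbval : (HomogeneousLocalization.mk ⟨n, b', v, hv⟩ :
      HomogeneousLocalization.AtPrime 𝒜 p).val ≠ 0 := by
    intro h0
    apply hb
    apply HomogeneousLocalization.val_injective
    rw [h0, HomogeneousLocalization.val_zero]
  apply mul_right_cancel₀ hbval
  rw [HomogeneousLocalization.val_mk]
  have e1 : Localization.mk ((decompose 𝒜 C' i : ↥(𝒜 i)) : A)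
      (⟨((decompose 𝒜 S' i : ↥(𝒜 i)) : A), hi⟩ : p.primeCompl) *
      Localization.mk (b' : A) (⟨(v : A), hv⟩ : p.primeCompl) =
      Localization.mk (a' : A) (⟨(u : A), hu⟩ : p.primeCompl) := by
    rw [Localization.mk_mul, Localization.mk_eq_mk_iff, Localization.r_iff_exists]
    refine ⟨1, ?_⟩
    simp only [OneMemClass.coe_one, one_mul, Submonoid.coe_mul]
    linear_combination hcomp
  have e2 : IsLocalization.mk' (Localization.AtPrime p) c0 s0 *
      Localization.mk (b' : A) (⟨(v : A), hv⟩ : p.primeCompl) =
      Localization.mk (a' : A) (⟨(u : A), hu⟩ : p.primeCompl) := by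
    rw [← Localization.mk_eq_mk', Localization.mk_mul, Localization.mk_eq_mk_iff,
      Localization.r_iff_exists]
    refine ⟨t, ?_⟩
    simp only [Submonoid.coe_mul]
    linear_combination ht
  rw [e1, e2]

theorem isIntegrallyClosed_homogeneousLocalization [IsDomain (Localization.AtPrime p)]
    [IsIntegrallyClosed (Localization.AtPrime p)] (hph : p.IsHomogeneous 𝒜) :
    IsIntegrallyClosed (HomogeneousLocalization.AtPrime 𝒜 p) := by
  haveI : IsDomain (HomogeneousLocalization.AtPrime 𝒜 p) := isDomain_homogeneousLocalization 𝒜 p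
  rw [isIntegrallyClosed_iff (FractionRing (HomogeneousLocalization.AtPrime 𝒜 p))]
  intro z hz
  let B := HomogeneousLocalization.AtPrime 𝒜 p
  let C := Localization.AtPrime p
  let K := FractionRing B
  let K' := FractionRing C
  have hinj : Function.Injective ((algebraMap C K').comp (algebraMap B C)) :=
    (IsFractionRing.injective C K').comp (HomogeneousLocalization.val_injective _)
  let φ : K →+* K' := IsFractionRing.lift hinj
  have hφ : ∀ b : B, φ (algebraMap B K b) = algebraMap C K' (algebraMap B C b) := fun b =>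
    IsFractionRing.lift_algebraMap hinj b
  have hz' : IsIntegral C (φ z) := by
    refine IsIntegral.map_of_comp_eq (algebraMap B C) φ ?_ hz
    ext b
    exact (hφ b).symm
  obtain ⟨c, hc⟩ := (isIntegrallyClosed_iff K').1 inferInstance hz'
  obtain ⟨a, b, hb, rfl⟩ := IsFractionRing.div_surjective B z
  have hb0 : b ≠ 0 := nonZeroDivisors.ne_zero hb
  have hbK : algebraMap B K b ≠ 0 := by
    intro h0
    exact hb0 ((IsFractionRing.injective B K) (by rw [h0, map_zero]))
  have hmul : c * (algebraMap B C b) = algebraMap B C a := by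
    apply IsFractionRing.injective C K'
    rw [map_mul, hc, ← hφ, ← hφ, ← map_mul, div_mul_cancel₀ _ hbK]
  obtain ⟨y, hy⟩ := exists_val_eq_of_mul_eq 𝒜 p hph a b hb0 c hmul
  refine ⟨y, ?_⟩
  apply φ.injective
  rw [hφ, ← hc]
  congr 1
end Groth.Agent.Helper23.ProjNorm
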