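import Mathlib

/-!
# Points of `Proj` given by ring homomorphisms out of the graded ring (helper23)

For a graded ring `𝒜` on `A`, a ring hom `e : A →+* R` and a homogeneous `f` of positive degree
with `e f` a unit we get `pt : Spec R ⟶ Proj 𝒜` through the chart `D₊(f)`; it is independent
of `f` and natural in `R`.
-/

set_option autoImplicit false

universe u

open CategoryTheory AlgebraicGeometry HomogeneousLocalization

namespace Groth.Agent.Helper23.ProjPt

variable {σ : Type*} {A : Type u} [CommRing A] [SetLike σ A] [AddSubgroupClass σ A]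
variable (𝒜 : ℕ → σ) [GradedRing 𝒜]
variable {R R' : Type u} [CommRing R] [CommRing R']

/-- the ring hom `A_(f) → R` induced by `e : A → R` with `e f` a unit -/
noncomputable def awayLift (e : A →+* R) (f : A) (he : IsUnit (e f)) : Away 𝒜 f →+* R :=
  (Localization.awayLift e f he).comp (algebraMap (Away 𝒜 f) (Localization.Away f))

theorem awayLift_apply (e : A →+* R) (f : A) (he : IsUnit (e f)) (a : Away 𝒜 f) :
    awayLift 𝒜 e f he a = Localization.awayLift e f he a.val := rfl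

theorem awayLift_comp (e : A →+* R) (ρ : R →+* R') (f : A) (he : IsUnit (e f)) :
    awayLift 𝒜 (ρ.comp e) f (by simpa using he.map ρ) = ρ.comp (awayLift 𝒜 e f he) := by
  ext a
  simp only [awayLift_apply, RingHom.comp_apply]
  have : Localization.awayLift (ρ.comp e) f (by simpa using he.map ρ) =
      ρ.comp (Localization.awayLift e f he) := by
    apply IsLocalization.ringHom_ext (Submonoid.powers f)
    ext x
    simp [Localization.awayLift, IsLocalization.Away.lift]
  rw [this]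
  rfl

theorem awayLift_awayMap (e : A →+* R) {f g x : A} {m' : ℕ} (g_deg : g ∈ 𝒜 m') (hx : x = f * g)
    (hef : IsUnit (e f)) (hex : IsUnit (e x)) (a : Away 𝒜 f) :
    awayLift 𝒜 e x hex (awayMap 𝒜 g_deg hx a) = awayLift 𝒜 e f hef a := by
  rw [awayLift_apply, awayLift_apply, val_awayMap]
  have : (Localization.awayLift e x hex).comp (Localization.awayLift (algebraMap A _) f
      (isUnit_of_dvd_unit (map_dvd _ ⟨_, hx⟩) (IsLocalization.Away.algebraMap_isUnit x))) =
      Localization.awayLift e f hef := by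
    apply IsLocalization.ringHom_ext (Submonoid.powers f)
    ext y
    simp [Localization.awayLift, IsLocalization.Away.lift]
  exact RingHom.congr_fun this a.val

/-- the `R`-point of `Proj 𝒜` defined by `e : A → R` through the chart `D₊(f)` -/
noncomputable def pt (e : A →+* R) {f : A} {m : ℕ} (f_deg : f ∈ 𝒜 m) (hm : 0 < m)
    (he : IsUnit (e f)) : Spec (CommRingCat.of R) ⟶ Proj 𝒜 :=
  Spec.map (CommRingCat.ofHom (awayLift 𝒜 e f he)) ≫ Proj.awayι 𝒜 f f_deg hm

theorem pt_comp (e : A →+* R) (ρ : R →+* R') {f : A} {m : ℕ} (f_deg : f ∈ 𝒜 m) (hm : 0 < m)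
    (he : IsUnit (e f)) :
    Spec.map (CommRingCat.ofHom ρ) ≫ pt 𝒜 e f_deg hm he =
      pt 𝒜 (ρ.comp e) f_deg hm (by simpa using he.map ρ) := by
  unfold pt
  rw [← Category.assoc, ← Spec.map_comp, ← CommRingCat.ofHom_comp, awayLift_comp]

theorem pt_congr (e : A →+* R) {f f' : A} {m m' : ℕ} (f_deg : f ∈ 𝒜 m) (hm : 0 < m)
    (he : IsUnit (e f)) (h : f = f') (hmm : m = m') :
    pt 𝒜 e f_deg hm he = pt 𝒜 e (f := f') (m := m') (h ▸ hmm ▸ f_deg) (hmm ▸ hm) (h ▸ he) := by
  subst h hmm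
  rfl

theorem pt_congr_hom (e e' : A →+* R) (h : e = e') {f : A} {m : ℕ} (f_deg : f ∈ 𝒜 m) (hm : 0 < m)
    (he : IsUnit (e f)) :
    pt 𝒜 e f_deg hm he = pt 𝒜 e' f_deg hm (h ▸ he) := by
  subst h
  rfl

theorem pt_mul (e : A →+* R) {f g : A} {m m' : ℕ} (f_deg : f ∈ 𝒜 m) (hm : 0 < m)
    (g_deg : g ∈ 𝒜 m') (hef : IsUnit (e f)) (heg : IsUnit (e g)) :
    pt 𝒜 e f_deg hm hef = pt 𝒜 e (f := f * g) (m := m + m') (SetLike.mul_mem_graded f_deg g_deg)
      (hm.trans_le (m.le_add_right m')) (by rw [map_mul]; exact hef.mul heg) := by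
  unfold pt
  rw [← Proj.SpecMap_awayMap_awayι 𝒜 f_deg hm g_deg rfl, ← Category.assoc, ← Spec.map_comp,
    ← CommRingCat.ofHom_comp]
  congr 3
  ext a
  exact (awayLift_awayMap 𝒜 e g_deg rfl hef (by rw [map_mul]; exact hef.mul heg) a).symm

theorem pt_indep (e : A →+* R) {f g : A} {m m' : ℕ} (f_deg : f ∈ 𝒜 m) (hm : 0 < m)
    (g_deg : g ∈ 𝒜 m') (hm' : 0 < m') (hef : IsUnit (e f)) (heg : IsUnit (e g)) :
    pt 𝒜 e f_deg hm hef = pt 𝒜 e g_deg hm' heg := by
  rw [pt_mul 𝒜 e f_deg hm g_deg hef heg, pt_mul 𝒜 e g_deg hm' f_deg heg hef]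
  exact pt_congr 𝒜 e _ _ _ (mul_comm f g) (add_comm m m')

end Groth.Agent.Helper23.ProjPt
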