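import Mathlib
import Groth.Prelude.Def_CohB1
import Groth.Agent.Lib.Helper26.ProjChart
import Groth.Agent.Lib.Helper23.ProjPt

/-!
# Field-valued points of projective space over the integers have coordinates (helper23)
-/

set_option autoImplicit false

universe u

open CategoryTheory AlgebraicGeometry HomogeneousLocalization MvPolynomial

namespace Groth.Agent.Helper23.ProjPtPn

open Groth.Agent.Lib.Helper26.ProjChart Groth.Agent.Helper23.ProjPt

theorem ringHom_ulift_int_ext {S : Type*} [Semiring S] (f g : ULift.{u} ℤ →+* S) : f = g := by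
  have h : f.comp (ULift.ringEquiv.symm : ℤ ≃+* ULift.{u} ℤ).toRingHom =
      g.comp (ULift.ringEquiv.symm : ℤ ≃+* ULift.{u} ℤ).toRingHom := RingHom.ext_int _ _
  ext x
  have := RingHom.congr_fun h (ULift.ringEquiv x)
  have hx : (ULift.ringEquiv.symm : ℤ ≃+* ULift.{u} ℤ) (ULift.ringEquiv x) = x :=
    RingEquiv.symm_apply_apply _ _
  simp only [RingHom.comp_apply, RingEquiv.toRingHom_eq_coe, RingHom.coe_coe, hx] at this
  exact this

variable (n : ℕ)

theorem φ_ψ (i : Fin (n + 1))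
    (a : Away (CohB1.polyGrading n (ULift.{u} ℤ)) (X i : MvPolynomial (Fin (n + 1)) (ULift.{u} ℤ))) :
    φ n (ULift.{u} ℤ) i (ψ n (ULift.{u} ℤ) i a) = a := by
  obtain ⟨b, rfl⟩ := φ_surjective n (ULift.{u} ℤ) i a
  have := RingHom.congr_fun (ψ_comp_φ n (ULift.{u} ℤ) i) b
  simp only [RingHom.comp_apply, RingHom.id_apply] at this
  rw [this]

theorem awayLift_ev (i : Fin (n + 1)) :
    awayLift (CohB1.polyGrading n (ULift.{u} ℤ)) (ev n (ULift.{u} ℤ) i) (X i)
      (isUnit_ev n (ULift.{u} ℤ) i) = ψ n (ULift.{u} ℤ) i := rfl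

theorem exists_pt_eq (K : Type u) [Field K]
    (x : Spec (CommRingCat.of K) ⟶ Proj (CohB1.polyGrading n (ULift.{u} ℤ))) :
    ∃ (i : Fin (n + 1)) (e : MvPolynomial (Fin (n + 1)) (ULift.{u} ℤ) →+* K) (he : e (X i) = 1),
      x = pt (CohB1.polyGrading n (ULift.{u} ℤ)) e (X_mem n (ULift.{u} ℤ) i) one_pos
        (by rw [he]; exact isUnit_one) := by
  let s₀ : ↥(Spec (CommRingCat.of K)) := default
  have h : x s₀ ∈ (⊤ : (Proj (CohB1.polyGrading n (ULift.{u} ℤ))).Opens) := trivial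
  rw [← iSup_basicOpen n (ULift.{u} ℤ), TopologicalSpace.Opens.mem_iSup] at h
  obtain ⟨i, hi⟩ := h
  have hr : Set.range x ⊆ Set.range (Proj.awayι (CohB1.polyGrading n (ULift.{u} ℤ)) (X i)
      (X_mem n (ULift.{u} ℤ) i) one_pos) := by
    rintro _ ⟨s, rfl⟩
    have hs : s = s₀ := Subsingleton.elim _ _
    rw [hs]
    have := Proj.opensRange_awayι (CohB1.polyGrading n (ULift.{u} ℤ)) (X i)
      (X_mem n (ULift.{u} ℤ) i) one_pos
    rw [← this] at hi
    exact hi
  let y := IsOpenImmersion.lift (Proj.awayι (CohB1.polyGrading n (ULift.{u} ℤ)) (X i)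
      (X_mem n (ULift.{u} ℤ) i) one_pos) x hr
  have hy : y ≫ Proj.awayι (CohB1.polyGrading n (ULift.{u} ℤ)) (X i)
      (X_mem n (ULift.{u} ℤ) i) one_pos = x := IsOpenImmersion.lift_fac _ _ _
  obtain ⟨θ', hθ'⟩ : ∃ θ' : CommRingCat.of (Away (CohB1.polyGrading n (ULift.{u} ℤ))
      (X i : MvPolynomial (Fin (n + 1)) (ULift.{u} ℤ))) ⟶ CommRingCat.of K, Spec.map θ' = y :=
    ⟨Spec.preimage y, Spec.map_preimage y⟩
  let θ := θ'.hom
  let ρ : MvPolynomial {j : Fin (n + 1) // j ≠ i} (ULift.{u} ℤ) →+* K := θ.comp (φ n (ULift.{u} ℤ) i)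
  refine ⟨i, ρ.comp (ev n (ULift.{u} ℤ) i), ?_, ?_⟩
  · simp only [RingHom.comp_apply, ev_X_self, map_one]
  · rw [← hy, ← hθ']
    unfold pt
    congr 2
    have h1 := awayLift_comp (CohB1.polyGrading n (ULift.{u} ℤ)) (ev n (ULift.{u} ℤ) i) ρ (X i)
      (isUnit_ev n (ULift.{u} ℤ) i)
    have h2 : ρ.comp (ψ n (ULift.{u} ℤ) i) = θ := by
      ext a
      simp only [ρ, RingHom.comp_apply, φ_ψ]
    rw [awayLift_ev, h2] at h1
    rw [h1]
    rfl

end Groth.Agent.Helper23.ProjPtPn
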