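import Groth.Prelude.Def_FEt
import Mathlib.AlgebraicGeometry.Morphisms.UniversallyOpen
import Mathlib.AlgebraicGeometry.Morphisms.Finite
import Mathlib.AlgebraicGeometry.Morphisms.Etale

/-!
# Connectedness from restriction of finite étale covers (helper23)

If restriction of finite étale covers along an open immersion `j : W ⟶ T` is full and essentially
surjective and `T` is connected, then `W` is connected.
-/

set_option autoImplicit false
set_option linter.style.haveILetI false

open CategoryTheory CategoryTheory.Limits AlgebraicGeometry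

universe u

namespace Groth.Agent.Helper23.PureConn

variable {T W : Scheme.{u}} (j : W ⟶ T)

theorem nonempty_of_full [Nonempty T] (hF : (FEt.restrict j).Full) : Nonempty W := by
  by_contra hne
  rw [not_nonempty_iff] at hne
  let E1 : FEt.Cat T := MorphismProperty.Over.mk ⊤ (𝟙 T) ⟨inferInstance, inferInstance⟩
  let E0 : FEt.Cat T := MorphismProperty.Over.mk ⊤ (Scheme.emptyTo T)
    ⟨inferInstance, inferInstance⟩
  haveI : IsEmpty ↥(pullback (𝟙 T) j) :=
    Function.isEmpty (pullback.snd (𝟙 T) j).base
  let φ0 : pullback (𝟙 T) j ⟶ pullback (Scheme.emptyTo T) j :=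
    (isInitialOfIsEmpty (X := pullback (𝟙 T) j)).to _
  have hφ0 : φ0 ≫ pullback.snd (Scheme.emptyTo T) j = pullback.snd (𝟙 T) j :=
    (isInitialOfIsEmpty (X := pullback (𝟙 T) j)).hom_ext _ _
  let φ : (FEt.restrict j).obj E1 ⟶ (FEt.restrict j).obj E0 :=
    MorphismProperty.Over.homMk φ0 hφ0
  obtain ⟨ψ, -⟩ := hF.map_surjective φ
  obtain ⟨t⟩ := ‹Nonempty T›
  exact (inferInstance : IsEmpty ↥(∅ : Scheme.{u})).false (ψ.left.base t)

theorem eq_empty_or_univ_of_isClopen [IsOpenImmersion j] [PreconnectedSpace T]
    (hE : (FEt.restrict j).EssSurj) (P : Set W) (hP : IsClopen P) : P = ∅ ∨ P = Set.univ := by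
  let PO : W.Opens := ⟨P, hP.isOpen⟩
  haveI : IsClosedImmersion PO.ι := by
    apply IsClosedImmersion.of_isPreimmersion
    rw [Scheme.Opens.range_ι]
    exact hP.isClosed
  let EP : FEt.Cat W := MorphismProperty.Over.mk ⊤ PO.ι ⟨inferInstance, inferInstance⟩
  obtain ⟨E, ⟨e⟩⟩ := hE.mem_essImage EP
  haveI : IsFinite E.hom := E.prop.1
  haveI : Etale E.hom := E.prop.2
  have hcl : IsClopen (Set.range E.hom.base) :=
    ⟨E.hom.isClosedMap.isClosed_range, E.hom.isOpenMap.isOpen_range⟩
  have h1 : Set.range (pullback.snd E.hom j).base = j.base ⁻¹' Set.range E.hom.base :=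
    Scheme.Pullback.range_snd E.hom j
  have h2 : Set.range (pullback.snd E.hom j).base = P := by
    have hw : e.hom.left ≫ PO.ι = pullback.snd E.hom j := Over.w e.hom.hom
    have hw' : e.inv.left ≫ pullback.snd E.hom j = PO.ι := Over.w e.inv.hom
    apply Set.Subset.antisymm
    · rintro _ ⟨z, rfl⟩
      rw [← hw]
      exact (e.hom.left.base z).2
    · intro w hw0
      refine ⟨e.inv.left.base ⟨w, hw0⟩, ?_⟩
      have := congrArg (fun m => m.base ⟨w, hw0⟩) hw'
      simp only [Scheme.Hom.comp_base, TopCat.hom_comp, ContinuousMap.comp_apply] at this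
      exact this
  rcases (isClopen_iff (α := ↥T)).1 hcl with h | h
  · left
    rw [← h2, h1, h, Set.preimage_empty]
  · right
    rw [← h2, h1, h, Set.preimage_univ]

theorem connectedSpace_of_restrict [IsOpenImmersion j] [ConnectedSpace T]
    (hE : (FEt.restrict j).EssSurj) (hF : (FEt.restrict j).Full) : ConnectedSpace W := by
  rw [connectedSpace_iff_clopen]
  exact ⟨nonempty_of_full j hF, fun P hP => eq_empty_or_univ_of_isClopen j hE P hP⟩

theorem connectedSpace_spec_local (A : Type u) [CommRing A] [IsLocalRing A] :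
    ConnectedSpace ↥(Spec (CommRingCat.of A)) := by
  rw [connectedSpace_iff_clopen]
  refine ⟨⟨IsLocalRing.closedPoint A⟩, fun P hP => ?_⟩
  by_cases hm : IsLocalRing.closedPoint A ∈ P
  · right
    have := (IsLocalRing.closedPoint_mem_iff (R := A) ⟨P, hP.isOpen⟩).1 hm
    exact congrArg (fun U : TopologicalSpace.Opens (PrimeSpectrum A) => (U : Set (PrimeSpectrum A)))
      this
  · left
    have := (IsLocalRing.closedPoint_mem_iff (R := A) ⟨Pᶜ, hP.compl.isOpen⟩).1 hm
    have h2 : Pᶜ = Set.univ :=
      congrArg (fun U : TopologicalSpace.Opens (PrimeSpectrum A) => (U : Set (PrimeSpectrum A)))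
        this
    exact Set.compl_univ_iff.1 h2

theorem connectedSpace_opens_top (X : Scheme.{u}) [ConnectedSpace X] :
    ConnectedSpace ↥((⊤ : X.Opens) : Scheme.{u}) :=
  (Scheme.homeoOfIso (Scheme.topIso X).symm).surjective.connectedSpace
    (Scheme.homeoOfIso (Scheme.topIso X).symm).continuous

theorem connectedSpace_of_top_opens (X : Scheme.{u})
    [ConnectedSpace ↥((⊤ : X.Opens) : Scheme.{u})] : ConnectedSpace X :=
  (Scheme.homeoOfIso (Scheme.topIso X)).surjective.connectedSpace
    (Scheme.homeoOfIso (Scheme.topIso X)).continuous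

theorem connectedSpace_of_opens_eq {X : Scheme.{u}} {U V : X.Opens} (h : U = V)
    [ConnectedSpace ↥(U : Scheme.{u})] : ConnectedSpace ↥(V : Scheme.{u}) := by
  subst h
  infer_instance

/-- the image in `X` of the support of the restriction of an ideal sheaf to an open -/
theorem image_support_comap {X : Scheme.{u}} (K : X.IdealSheafData) (U : X.Opens) :
    U.ι.base '' ((K.comap U.ι).support : Set ↥(U : Scheme.{u})) =
      (K.support : Set X) ∩ (U : Set X) := by
  rw [Scheme.IdealSheafData.support_comap, TopologicalSpace.Closeds.coe_preimage,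
    Set.image_preimage_eq_inter_range, Scheme.Opens.range_ι]

end Groth.Agent.Helper23.PureConn
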