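import Mathlib
import Groth.Agent.S1640
import Groth.Agent.S7663

set_option autoImplicit false
set_option linter.style.haveILetI false

universe u

namespace Groth.Agent.Helper23.QProj

section Alg

variable (R K : Type u) [CommRing R] [Field K] [Algebra R K] [IsFractionRing R K]

/-- the image of `R` in its fraction field, as a subring -/
abbrev img : Subring K := (algebraMap R K).range

noncomputable def imgEquiv : R ≃+* img R K :=
  RingEquiv.ofBijective (algebraMap R K).rangeRestrict
    ⟨fun a b h => IsFractionRing.injective R K (congrArg Subtype.val h),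
      (algebraMap R K).rangeRestrict_surjective⟩

theorem imgEquiv_apply (r : R) : ((imgEquiv R K r : img R K) : K) = algebraMap R K r := rfl

instance isFractionRing_img : IsFractionRing (img R K) K := by
  apply IsFractionRing.of_field
  intro z
  obtain ⟨a, b, hb, rfl⟩ := IsFractionRing.div_surjective (A := R) z
  exact ⟨⟨algebraMap R K a, a, rfl⟩, ⟨algebraMap R K b, b, rfl⟩, rfl⟩

theorem isNoetherianRing_img [IsNoetherianRing R] : IsNoetherianRing (img R K) :=
  isNoetherianRing_of_ringEquiv R (imgEquiv R K)

theorem ringKrullDim_img : ringKrullDim (img R K) = ringKrullDim R :=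
  (ringKrullDim_eq_of_ringEquiv (imgEquiv R K)).symm

theorem isLocalRing_img [IsLocalRing R] : IsLocalRing (img R K) :=
  (imgEquiv R K).isLocalRing

theorem finite_maximalSpectrum_img [IsLocalRing R] : Finite (MaximalSpectrum (img R K)) := by
  haveI := isLocalRing_img R K
  haveI : Subsingleton (MaximalSpectrum (img R K)) :=
    ⟨fun a b => MaximalSpectrum.ext ((IsLocalRing.eq_maximalIdeal a.2).trans
      (IsLocalRing.eq_maximalIdeal b.2).symm)⟩
  infer_instance

/-- an element of the Jacobson radical of the image of a local ring comes from the maximal ideal -/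
theorem exists_mem_maximalIdeal_of_mem_jacobson [IsLocalRing R] (z : img R K)
    (hz : z ∈ (⊥ : Ideal (img R K)).jacobson) :
    ∃ t ∈ IsLocalRing.maximalIdeal R, algebraMap R K t = z := by
  haveI := isLocalRing_img R K
  rw [IsLocalRing.jacobson_eq_maximalIdeal _ bot_ne_top] at hz
  refine ⟨(imgEquiv R K).symm z, ?_, ?_⟩
  · rw [IsLocalRing.mem_maximalIdeal, mem_nonunits_iff] at hz ⊢
    intro hu
    apply hz
    have := hu.map (imgEquiv R K)
    rwa [RingEquiv.apply_symm_apply] at this
  · have := imgEquiv_apply R K ((imgEquiv R K).symm z)
    rw [RingEquiv.apply_symm_apply] at this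
    exact this.symm

end Alg

end Groth.Agent.Helper23.QProj
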