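import Groth.Agent.Lib.Helper23.QProj1

set_option autoImplicit false
set_option linter.style.haveILetI false

open CategoryTheory AlgebraicGeometry Opposite TopologicalSpace IsLocalRing

universe u

namespace Groth.Agent.Helper23.QProj

variable {X : Scheme.{u}}

section Val

variable [IsIntegral X] {U : X.Opens} (hU : IsAffineOpen U) [Nonempty U] (x : X)
  (O : ValuationSubring X.functionField)
  (hx : ∀ r : X.presheaf.stalk x, algebraMap (X.presheaf.stalk x) X.functionField r ∈ O)
  (hUO : ∀ r : Γ(X, U), algebraMap Γ(X, U) X.functionField r ∈ O)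

/-- `O_{X,x} → O` -/
noncomputable def ψx : X.presheaf.stalk x →+* O :=
  (algebraMap (X.presheaf.stalk x) X.functionField).codRestrict O.toSubring hx

/-- `Γ(U) → O` -/
noncomputable def ψU : Γ(X, U) →+* O :=
  (algebraMap Γ(X, U) X.functionField).codRestrict O.toSubring hUO

/-- `Spec O → X` through the local ring at `x` -/
noncomputable def f₁ : Spec (CommRingCat.of O) ⟶ X :=
  Spec.map (CommRingCat.ofHom (ψx x O hx)) ≫ X.fromSpecStalk x

/-- `Spec O → X` through `U` -/
noncomputable def f₂ : Spec (CommRingCat.of O) ⟶ X :=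
  Spec.map (CommRingCat.ofHom (ψU O hUO)) ≫ hU.fromSpec

/-- `Spec K → Spec O` -/
noncomputable def ιK : Spec (CommRingCat.of X.functionField) ⟶ Spec (CommRingCat.of O) :=
  Spec.map (CommRingCat.ofHom O.subtype)

instance : IsDominant (ιK (X := X) O) := by
  refine ⟨?_⟩
  change DenseRange (PrimeSpectrum.comap O.subtype)
  rw [PrimeSpectrum.denseRange_comap_iff_ker_le_nilRadical]
  intro z hz
  have : z = 0 := Subtype.ext hz
  rw [this]
  exact zero_mem _

theorem ιK_f₁ : ιK O ≫ f₁ x O hx = X.fromSpecStalk (genericPoint X) := by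
  unfold ιK f₁
  rw [← Category.assoc, ← Spec.map_comp]
  exact Scheme.SpecMap_stalkSpecializes_fromSpecStalk
    ((genericPoint_spec X).specializes trivial)

theorem ιK_f₂ : ιK O ≫ f₂ hU O hUO = X.fromSpecStalk (genericPoint X) := by
  unfold ιK f₂
  rw [← Category.assoc, ← Spec.map_comp]
  exact hU.fromSpecStalk_eq_fromSpecStalk _

theorem f₁_eq_f₂ [X.IsSeparated] : f₁ x O hx = f₂ hU O hUO :=
  ext_of_isDominant (ιK O) ((ιK_f₁ x O hx).trans (ιK_f₂ hU O hUO).symm)

include hU hUO in
theorem exists_unit_of_notMem [X.IsSeparated] (hxU : x ∉ U) :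
    ∃ r ∈ maximalIdeal (X.presheaf.stalk x), ψx x O hx r ∉ maximalIdeal O := by
  by_contra hcon
  push Not at hcon
  obtain ⟨c, hc⟩ : ∃ c : ↥(Spec (CommRingCat.of O)), c = closedPoint O := ⟨_, rfl⟩
  have h1 : (Spec.map (CommRingCat.ofHom (ψx x O hx))) c =
      closedPoint (X.presheaf.stalk x) := by
    rw [hc]
    apply PrimeSpectrum.ext
    change Ideal.comap (ψx x O hx) (maximalIdeal O) = maximalIdeal _
    apply le_antisymm
    · exact IsLocalRing.le_maximalIdeal (Ideal.comap_ne_top _ (maximalIdeal.isMaximal O).ne_top)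
    · intro r hr; exact hcon r hr
  have h2 : f₁ x O hx c = x := by
    unfold f₁
    rw [Scheme.Hom.comp_apply, h1, Scheme.fromSpecStalk_closedPoint]
  have h3 : f₂ hU O hUO c ∈ U := by
    unfold f₂
    rw [Scheme.Hom.comp_apply]
    have : hU.fromSpec ((Spec.map (CommRingCat.ofHom (ψU O hUO))) c) ∈
        Set.range hU.fromSpec := ⟨_, rfl⟩
    rw [hU.range_fromSpec] at this
    exact this
  rw [← f₁_eq_f₂ hU x O hx hUO, h2] at h3
  exact hxU h3

end Val

end Groth.Agent.Helper23.QProj
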