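import Groth.Agent.Lib.Helper23.QProj2

set_option autoImplicit false
set_option linter.style.haveILetI false

open CategoryTheory AlgebraicGeometry Opposite TopologicalSpace IsLocalRing

universe u

namespace Groth.Agent.Helper23.QProj

variable {X : Scheme.{u}}

section Sup

variable [IsIntegral X] [X.IsSeparated] {U : X.Opens} (hU : IsAffineOpen U) [Nonempty U] (x : X)

include hU in
theorem sup_img_eq_top (hxU : x ∉ U) [IsNoetherianRing (X.presheaf.stalk x)]
    (hdim : ringKrullDim (X.presheaf.stalk x) = 1) :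
    haveI := functionField_isFractionRing_of_isAffineOpen X U hU
    img Γ(X, U) X.functionField ⊔ img (X.presheaf.stalk x) X.functionField = ⊤ := by
  haveI := functionField_isFractionRing_of_isAffineOpen X U hU
  by_contra h
  rw [sup_comm] at h
  haveI := isNoetherianRing_img (X.presheaf.stalk x) X.functionField
  obtain ⟨O, hO, hA, hB⟩ := (Groth.Agent.S7663.result X.functionField
    (img (X.presheaf.stalk x) X.functionField) (img Γ(X, U) X.functionField)
    ((ringKrullDim_img _ _).trans hdim)).mp h
  have hx : ∀ r, algebraMap (X.presheaf.stalk x) X.functionField r ∈ O := fun r => hA ⟨r, rfl⟩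
  have hUO : ∀ r, algebraMap Γ(X, U) X.functionField r ∈ O := fun r => hB ⟨r, rfl⟩
  obtain ⟨r, hr, hru⟩ := exists_unit_of_notMem hU x O hx hUO hxU
  haveI : Ring.KrullDimLE 1 (X.presheaf.stalk x) := Ring.krullDimLE_iff.mpr hdim.le
  have hp : Ideal.comap (ψx x O hx) (maximalIdeal O) = ⊥ := by
    by_contra hne
    have hprime : (Ideal.comap (ψx x O hx) (maximalIdeal O)).IsPrime := inferInstance
    have hmax := hprime.isMaximal_of_ne_bot hne
    have := IsLocalRing.eq_maximalIdeal hmax
    rw [← this] at hr
    exact hru hr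
  have hunit : ∀ b : X.presheaf.stalk x, b ≠ 0 → IsUnit (ψx x O hx b) := by
    intro b hb
    by_contra hnu
    have : b ∈ Ideal.comap (ψx x O hx) (maximalIdeal O) := hnu
    rw [hp] at this
    exact hb this
  apply IsDiscreteValuationRing.not_isField O
  have htop : ∀ z : X.functionField, z ∈ O := by
    intro z
    obtain ⟨a, b, hb, rfl⟩ := IsFractionRing.div_surjective (A := X.presheaf.stalk x) z
    have hb0 : b ≠ 0 := nonZeroDivisors.ne_zero hb
    obtain ⟨v, hv⟩ := hunit b hb0
    have h1 : ((v⁻¹ : Oˣ) : O) * ψx x O hx b = 1 := by rw [← hv]; exact v.inv_mul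
    have h2 : (((v⁻¹ : Oˣ) : O) : X.functionField) * algebraMap _ _ b = 1 :=
      congrArg Subtype.val h1
    have hbK : algebraMap (X.presheaf.stalk x) X.functionField b ≠ 0 := by
      intro h0
      rw [h0, mul_zero] at h2
      exact zero_ne_one h2
    have : algebraMap _ X.functionField a / algebraMap _ _ b
        = algebraMap _ X.functionField a * (((v⁻¹ : Oˣ) : O) : X.functionField) := by
      rw [div_eq_iff hbK, mul_assoc, h2, mul_one]
    rw [this]
    exact O.mul_mem _ _ (hx a) ((v⁻¹ : Oˣ) : O).2
  refine ⟨⟨0, 1, zero_ne_one⟩, mul_comm, ?_⟩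
  intro a ha
  have haK : (a : X.functionField) ≠ 0 := fun h0 => ha (Subtype.ext h0)
  refine ⟨⟨(a : X.functionField)⁻¹, htop _⟩, ?_⟩
  apply Subtype.ext
  exact mul_inv_cancel₀ haK

end Sup

end Groth.Agent.Helper23.QProj
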