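import Groth.Agent.Lib.Helper23.QProj3

set_option autoImplicit false
set_option linter.style.haveILetI false

open CategoryTheory AlgebraicGeometry Opposite TopologicalSpace IsLocalRing

universe u

namespace Groth.Agent.Helper23.QProj

variable {X : Scheme.{u}}

theorem exists_g [IsIntegral X] [X.IsSeparated] {U : X.Opens} (hU : IsAffineOpen U) [Nonempty U]
    (hfin : ((U : Set X)ᶜ).Finite)
    (hloc : ∀ x : X, x ∉ U →
      IsNoetherianRing (X.presheaf.stalk x) ∧ ringKrullDim (X.presheaf.stalk x) = 1) :
    ∃ g : Γ(X, U), g ≠ 0 ∧ ∀ x : X, x ∉ U → ∃ t ∈ maximalIdeal (X.presheaf.stalk x),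
      algebraMap Γ(X, U) X.functionField g *
        algebraMap (X.presheaf.stalk x) X.functionField t = 1 := by
  haveI := functionField_isFractionRing_of_isAffineOpen X U hU
  let S := {x : X // x ∉ U}
  haveI : Finite S := hfin
  let r := Nat.card S
  let e : S ≃ Fin r := Finite.equivFin S
  let B : Fin r → Subring X.functionField :=
    fun i => img (X.presheaf.stalk (e.symm i).1) X.functionField
  haveI : ∀ i, IsNoetherianRing (B i) := fun i => by
    haveI := (hloc _ (e.symm i).2).1
    exact isNoetherianRing_img _ _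
  haveI : ∀ i, IsFractionRing (B i) X.functionField := fun i => isFractionRing_img _ _
  obtain ⟨k, hkA, hk0, hk⟩ := Groth.Agent.S1640.result X.functionField
    (img Γ(X, U) X.functionField) r B
    (fun i => (ringKrullDim_img _ _).trans (hloc _ (e.symm i).2).2)
    (fun i => finite_maximalSpectrum_img _ _)
    (fun i => by
      haveI := (hloc _ (e.symm i).2).1
      exact sup_img_eq_top hU _ (e.symm i).2 (hloc _ (e.symm i).2).2)
  obtain ⟨g, rfl⟩ := hkA
  refine ⟨g, ?_, ?_⟩
  · rintro rfl
    exact hk0 (map_zero _)
  · let Q : S → Prop := fun s => ∃ t ∈ maximalIdeal (X.presheaf.stalk s.1),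
      algebraMap Γ(X, U) X.functionField g *
        algebraMap (X.presheaf.stalk s.1) X.functionField t = 1
    have H : ∀ i, Q (e.symm i) := by
      intro i
      obtain ⟨hxB, hjac⟩ := hk i
      obtain ⟨t, ht, hte⟩ := exists_mem_maximalIdeal_of_mem_jacobson
        (X.presheaf.stalk (e.symm i).1) X.functionField ⟨_, hxB⟩ hjac
      refine ⟨t, ht, ?_⟩
      rw [hte]
      exact mul_inv_cancel₀ hk0
    intro x hx
    have := H (e ⟨x, hx⟩)
    rw [e.symm_apply_apply] at this
    exact this

end Groth.Agent.Helper23.QProj
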