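import Groth.Agent.Lib.Helper23.ZeroSch1
import Groth.Agent.Lib.Helper13.IntInv

set_option autoImplicit false
set_option linter.style.haveILetI false

open CategoryTheory AlgebraicGeometry Opposite TopologicalSpace IsLocalRing

universe u

namespace Groth.Agent.Helper23.ZeroSch

open Groth.Agent.Helper23.CDivDepth Groth.Agent.Helper13.Inv Groth.Agent.Helper13.MeroLib
open Groth.Agent.Helper13.QCoh Groth.Agent.Helper23.FracIdeal Groth.Agent.Helper23.RegMero
open Groth.Agent.Helper23.AbsCurve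

variable {X : Scheme.{u}} {L : X.Modules}

theorem mem_regSub_of_ne_zero [IsIntegral X] {U : X.Opens} (c : Γ(X, U)) (hc : c ≠ 0) :
    c ∈ Mero.regSub X U := by
  rintro ⟨y, hy⟩
  apply mem_nonZeroDivisors_of_ne_zero
  intro h
  apply hc
  apply germ_injective_of_isIntegral X y hy
  rw [h, map_zero]

theorem regStalk_eq_nonZeroDivisors_of_integral [IsIntegral X] (x : X) :
    Mero.regStalk X x = nonZeroDivisors (X.presheaf.stalk x) := by
  apply le_antisymm (Mero.regStalk_le_nonZeroDivisors x)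
  intro g hg
  obtain ⟨U, hxU, α, rfl⟩ := TopCat.Presheaf.exists_germ_eq X.presheaf g
  refine ⟨U, hxU, α, mem_regSub_of_ne_zero α ?_, rfl⟩
  rintro rfl
  rw [map_zero] at hg
  exact nonZeroDivisors.ne_zero hg rfl

/-- the meromorphic section `s₁ / 1` of a nonzero section of an invertible module on an integral
scheme is regular -/
theorem isRegularMero_toMerFun [IsIntegral X] (hL : PicF.IsInvertible L) (s₁ : Γ(L, ⊤))
    (hs₁ : s₁ ≠ 0) : Mero.IsRegularMero L (Mero.toMerFun L ⊤ s₁) := by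
  intro y q hq
  change q • (LocalizedModule.mk (L.presheaf.germ ⊤ y trivial s₁) 1 : Mero.MStalk L y) = 0 at hq
  induction q using Localization.induction_on with
  | H rd =>
    obtain ⟨r, d⟩ := rd
    simp only at hq ⊢
    rw [LocalizedModule.mk_smul_mk, ← LocalizedModule.zero_mk (1 : Mero.regStalk X y),
      LocalizedModule.mk_eq] at hq
    obtain ⟨u, hu⟩ := hq
    simp only [one_smul, smul_zero, Submonoid.smul_def, smul_smul] at hu
    obtain ⟨U₀, hyU₀, e₀, he₀⟩ := (isInvertible_iff_exists_isGen (L := L)).1 hL y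
    obtain ⟨f, hf⟩ := (he₀ y hyU₀).2 (L.presheaf.germ ⊤ y trivial s₁)
    simp only at hf
    rw [← hf, smul_smul] at hu
    have h1 : (u : X.presheaf.stalk y) * r * f = 0 :=
      (he₀ y hyU₀).1 (by simp only; rw [hu, zero_smul])
    have hf0 : f ≠ 0 := by
      rintro rfl
      rw [zero_smul] at hf
      exact hs₁ (Groth.Agent.Helper13.IntInv.eq_zero_of_germ_eq_zero L hL s₁ y trivial hf.symm)
    have hu0 : (u : X.presheaf.stalk y) ≠ 0 :=
      nonZeroDivisors.ne_zero (Mero.regStalk_le_nonZeroDivisors y u.2)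
    have hr : r = 0 := by
      rcases mul_eq_zero.1 h1 with h2 | h2
      · rcases mul_eq_zero.1 h2 with h3 | h3
        · exact absurd h3 hu0
        · exact h3
      · exact absurd h2 hf0
    rw [hr]
    exact Localization.mk_zero d

/-- a trivialisation of `L` on `U` together with the coefficient of the section `s₁` -/
structure Chart (s₁ : Γ(L, ⊤)) (U : X.Opens) where
  e : Γ(L, U)
  he : IsGenOn L e
  c : Γ(X, U)
  hc : c ∈ Mero.regSub X U
  eq : L.presheaf.map (homOfLE (le_top : U ≤ ⊤)).op s₁ = c • e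

theorem exists_chart [IsIntegral X] (hL : PicF.IsInvertible L) (s₁ : Γ(L, ⊤)) (hs₁ : s₁ ≠ 0)
    (x : X) (N : X.Opens) (hxN : x ∈ N) :
    ∃ U : X.Opens, IsAffineOpen U ∧ x ∈ U ∧ U ≤ N ∧ Nonempty (Chart s₁ U) := by
  obtain ⟨U₀, hxU₀, e₀, he₀⟩ := (isInvertible_iff_exists_isGen (L := L)).1 hL x
  obtain ⟨_, ⟨U, hU, rfl⟩, hxU, hUle⟩ :=
    X.isBasis_affineOpens.exists_subset_of_mem_open
      (show x ∈ ((U₀ ⊓ N : X.Opens) : Set X) from ⟨hxU₀, hxN⟩) (U₀ ⊓ N).2
  have hUU₀ : U ≤ U₀ := fun y hy => (hUle hy).1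
  have hUN : U ≤ N := fun y hy => (hUle hy).2
  have he : IsGenOn L (L.presheaf.map (homOfLE hUU₀).op e₀) := IsGenOn.res he₀ hUU₀
  obtain ⟨c, hc⟩ := he.exists_smul_eq (L.presheaf.map (homOfLE (le_top : U ≤ ⊤)).op s₁)
  refine ⟨U, hU, hxU, hUN, ⟨⟨_, he, c, mem_regSub_of_ne_zero c ?_, hc⟩⟩⟩
  rintro rfl
  rw [zero_smul] at hc
  apply hs₁
  apply Groth.Agent.Helper13.IntInv.eq_zero_of_germ_eq_zero L hL s₁ x trivial
  rw [← germ_congr_res L (le_top : U ≤ ⊤) x hxU, hc, map_zero]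

section Setup

variable [IsIntegral X] (hL : PicF.IsInvertible L) (s₁ : Γ(L, ⊤)) (hs₁ : s₁ ≠ 0)

/-- division by the section `s₁` -/
noncomputable def ιOf : L ⟶ Mero.kmod X :=
  ιHom regStalk_eq_nonZeroDivisors_of_integral hL (Mero.toMerFun L ⊤ s₁)
    (isRegularMero_toMerFun hL s₁ hs₁)

theorem mono_ιOf : Mono (ιOf hL s₁ hs₁) :=
  mono_ιHom regStalk_eq_nonZeroDivisors_of_integral hL (Mero.toMerFun L ⊤ s₁)
    (isRegularMero_toMerFun hL s₁ hs₁)

theorem ιOf_app_sec (V : X.Opens) :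
    (ιOf hL s₁ hs₁).app V (L.presheaf.map (homOfLE (le_top : V ≤ ⊤)).op s₁) = 1 := by
  apply Subtype.ext
  funext y
  change quot regStalk_eq_nonZeroDivisors_of_integral hL (Mero.toMerFun L ⊤ s₁)
    (isRegularMero_toMerFun hL s₁ hs₁) y.1 (L.presheaf.germ V y.1 y.2 _) = 1
  apply quot_eq
  rw [one_smul, germ_congr_res]
  rfl

theorem Chart.ι_e {U : X.Opens} (F : Chart s₁ U) :
    (ιOf hL s₁ hs₁).app U F.e = frac 1 ⟨F.c, F.hc⟩ := by
  have h1 := ιOf_app_sec hL s₁ hs₁ U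
  rw [F.eq, app_smul] at h1
  have h2 := toK_mul_frac (1 : Γ(X, U)) ⟨F.c, F.hc⟩
  rw [map_one] at h2
  calc (ιOf hL s₁ hs₁).app U F.e
      = (ιOf hL s₁ hs₁).app U F.e * (Mero.toK X U F.c * frac 1 ⟨F.c, F.hc⟩) := by
        rw [h2, mul_one]
    _ = (Mero.toK X U F.c * (ιOf hL s₁ hs₁).app U F.e) * frac 1 ⟨F.c, F.hc⟩ := by ring
    _ = frac 1 ⟨F.c, F.hc⟩ := by rw [h1, one_mul]

theorem Chart.isGenBy {U : X.Opens} (F : Chart s₁ U) :
    IsGenBy L (ιOf hL s₁ hs₁) U (fracUnit 1 F.c (Submonoid.one_mem _) F.hc) := by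
  intro V hV
  have hval : ((fracUnit 1 F.c (Submonoid.one_mem _) F.hc : (Γ(Mero.kmod X, U))ˣ) :
      Γ(Mero.kmod X, U)) = (ιOf hL s₁ hs₁).app U F.e := (F.ι_e hL s₁ hs₁).symm
  rw [hval]
  ext t
  constructor
  · rintro ⟨m₀, rfl⟩
    obtain ⟨m, rfl⟩ : ∃ m : Γ(L, V), m = m₀ := ⟨m₀, rfl⟩
    obtain ⟨r, hr⟩ := F.he.exists_smul_eq' hV m
    refine ⟨r, ?_⟩
    rw [val_app_eq, hr, app_smul, app_res]
  · rintro ⟨r, rfl⟩
    refine ⟨r • L.presheaf.map (homOfLE hV).op F.e, ?_⟩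
    rw [val_app_eq, app_smul, app_res]

end Setup

end Groth.Agent.Helper23.ZeroSch
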