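import Groth.Agent.Lib.Helper23.QProj4
import Groth.Agent.Lib.Helper23.CartEq1
import Groth.Agent.Lib.Helper23.ZeroSch2
import Groth.Agent.Lib.Helper13.GlobGen
import Groth.Agent.Lib.Helper13.GenLocusQcqs

set_option autoImplicit false
set_option linter.style.haveILetI false

open CategoryTheory AlgebraicGeometry Opposite TopologicalSpace IsLocalRing

universe u

namespace Groth.Agent.Helper23.QProj

open Groth.Agent.Helper23.CartEq Groth.Agent.Helper13.Inv Groth.Agent.Helper13.GenLoc
open Groth.Agent.Helper13.GlobGen Groth.Agent.Helper23.DivInv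

variable {X : Scheme.{u}}

theorem ggAt_of_isGen (L : X.Modules) (t : Γ(L, ⊤)) (y : X) (h : IsGen L t y trivial) :
    GGAt L y := by
  unfold GGAt
  rw [eq_top_iff]
  intro m _
  obtain ⟨r, hr⟩ := h.2 m
  rw [← hr]
  exact Submodule.smul_mem _ _ (Submodule.subset_span ⟨t, rfl⟩)

theorem mem_of_isGenericPoint [IsIntegral X] {W : X.Opens} {y : X} (hy : y ∈ W) :
    genericPoint X ∈ W :=
  ((genericPoint_spec X).mem_open_set_iff W.isOpen).mpr ⟨y, trivial, hy⟩

/-- germs are determined by their images in the function field -/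
theorem germ_eq_of_generic [IsIntegral X] {W W' : X.Opens} {z : X} (hz : z ∈ W) (hz' : z ∈ W')
    (s : Γ(X, W)) (s' : Γ(X, W'))
    (h : X.presheaf.germ W (genericPoint X) (mem_of_isGenericPoint hz) s =
      X.presheaf.germ W' (genericPoint X) (mem_of_isGenericPoint hz') s') :
    X.presheaf.germ W z hz s = X.presheaf.germ W' z hz' s' := by
  apply IsFractionRing.injective (X.presheaf.stalk z) X.functionField
  haveI : Nonempty W := ⟨⟨z, hz⟩⟩
  haveI : Nonempty W' := ⟨⟨z, hz'⟩⟩
  rw [Scheme.algebraMap_germ_eq_germToFunctionField, Scheme.algebraMap_germ_eq_germToFunctionField]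
  exact h

theorem germ_mul_eq_one_of_generic [IsIntegral X] {W W' : X.Opens} {z : X} (hz : z ∈ W)
    (hz' : z ∈ W') (s : Γ(X, W)) (s' : Γ(X, W'))
    (h : X.presheaf.germ W (genericPoint X) (mem_of_isGenericPoint hz) s *
      X.presheaf.germ W' (genericPoint X) (mem_of_isGenericPoint hz') s' = 1) :
    X.presheaf.germ W z hz s * X.presheaf.germ W' z hz' s' = 1 := by
  apply IsFractionRing.injective (X.presheaf.stalk z) X.functionField
  haveI : Nonempty W := ⟨⟨z, hz⟩⟩
  haveI : Nonempty W' := ⟨⟨z, hz'⟩⟩
  rw [map_mul, map_one, Scheme.algebraMap_germ_eq_germToFunctionField,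
    Scheme.algebraMap_germ_eq_germToFunctionField]
  exact h

theorem exists_of_data [IsIntegral X] {U : X.Opens} [Nonempty U] (g : Γ(X, U))
    (hdata : ∀ x : X, x ∉ U → ∃ t ∈ maximalIdeal (X.presheaf.stalk x),
      algebraMap Γ(X, U) X.functionField g *
        algebraMap (X.presheaf.stalk x) X.functionField t = 1) :
    ∃ (L : X.Modules) (s : Coh.structureModule X ⟶ L), PicF.IsInvertible L ∧
      Curv2.IsGloballyGenerated L ∧ CohB1.genLocus L s = U := by
  classical
  let S := {x : X // x ∉ U}
  have hη : genericPoint X ∈ U :=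
    ((genericPoint_spec X).mem_open_set_iff U.isOpen).mpr (by simpa using ‹Nonempty U›)
  have hsp : ∀ y : S, ∃ (W' : X.Opens) (hy : y.1 ∈ W') (τ' : Γ(X, W')),
      X.presheaf.germ W' y.1 hy τ' ∈ maximalIdeal (X.presheaf.stalk y.1) ∧
      X.presheaf.germ W' (genericPoint X) (mem_of_isGenericPoint hy) τ' *
        X.presheaf.germ U (genericPoint X) hη g = 1 := by
    intro y
    obtain ⟨t, ht, hgt⟩ := hdata y.1 y.2
    obtain ⟨W', hy, τ', rfl⟩ := TopCat.Presheaf.exists_germ_eq X.presheaf t
    refine ⟨W', hy, τ', ht, ?_⟩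
    haveI : Nonempty W' := ⟨⟨y.1, hy⟩⟩
    rw [Scheme.algebraMap_germ_eq_germToFunctionField] at hgt
    rw [mul_comm]
    exact hgt
  choose W' hyW' τ' hτm hτg using hsp
  -- the basic facts
  have F1 : ∀ (y : S) (z : X) (hz : z ∈ W' y) (hzU : z ∈ U),
      X.presheaf.germ (W' y) z hz (τ' y) * X.presheaf.germ U z hzU g = 1 := by
    intro y z hz hzU
    exact germ_mul_eq_one_of_generic hz hzU (τ' y) g (hτg y)
  have F2 : ∀ (y y' : S) (z : X) (hz : z ∈ W' y) (hz' : z ∈ W' y'),
      X.presheaf.germ (W' y) z hz (τ' y) = X.presheaf.germ (W' y') z hz' (τ' y') := by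
    intro y y' z hz hz'
    apply germ_eq_of_generic hz hz'
    have h1 := hτg y
    have h2 := hτg y'
    calc X.presheaf.germ (W' y) (genericPoint X) _ (τ' y)
        = X.presheaf.germ (W' y) (genericPoint X) _ (τ' y) *
          (X.presheaf.germ (W' y') (genericPoint X) (mem_of_isGenericPoint hz') (τ' y') *
            X.presheaf.germ U (genericPoint X) hη g) := by rw [h2, mul_one]
      _ = X.presheaf.germ (W' y') (genericPoint X) _ (τ' y') *
          (X.presheaf.germ (W' y) (genericPoint X) (mem_of_isGenericPoint hz) (τ' y) *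
            X.presheaf.germ U (genericPoint X) hη g) := by ring
      _ = _ := by rw [h1, mul_one]
  have hτ0 : ∀ y : S, τ' y ≠ 0 := by
    intro y h0
    have h1 := hτg y
    rw [h0, map_zero, zero_mul] at h1
    exact zero_ne_one h1
  let Wf : Option S → X.Opens := fun i => match i with
    | none => U
    | some y => W' y
  let τf : ∀ i, Γ(X, Wf i) := fun i => match i with
    | none => (1 : Γ(X, U))
    | some y => τ' y
  let E : Data X :=
    { ι := Option S
      W := Wf
      τ := τf
      reg := fun i => match i with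
        | none => one_mem _
        | some y => Groth.Agent.Helper23.ZeroSch.mem_regSub_of_ne_zero (τ' y) (hτ0 y)
      cover := fun y => by
        by_cases hy : y ∈ U
        · exact ⟨none, hy⟩
        · exact ⟨some ⟨y, hy⟩, hyW' ⟨y, hy⟩⟩
      compat := fun i j z hi hj => match i, j, hi, hj with
        | none, none, hi, hj => ⟨1, (one_mul _).symm⟩
        | none, some y, hi, hj => by
            refine ⟨⟨X.presheaf.germ U z hi g, X.presheaf.germ (W' y) z hj (τ' y), ?_, F1 y z hj hi⟩, ?_⟩
            · rw [mul_comm]; exact F1 y z hj hi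
            · change X.presheaf.germ U z hi 1 = X.presheaf.germ U z hi g *
                X.presheaf.germ (W' y) z hj (τ' y)
              rw [map_one, mul_comm]
              exact (F1 y z hj hi).symm
        | some y, none, hi, hj => by
            refine ⟨⟨X.presheaf.germ (W' y) z hi (τ' y), X.presheaf.germ U z hj g, F1 y z hi hj, ?_⟩, ?_⟩
            · rw [mul_comm]; exact F1 y z hi hj
            · change X.presheaf.germ (W' y) z hi (τ' y) = X.presheaf.germ (W' y) z hi (τ' y) *
                X.presheaf.germ U z hj 1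
              rw [map_one, mul_one]
        | some y, some y', hi, hj => ⟨1, by rw [Units.val_one, one_mul]; exact F2 y y' z hi hj⟩ }
  let hf : ∀ i, Γ(X, Wf i) := fun i => match i with
    | none => g
    | some y => (1 : Γ(X, W' y))
  let Nh : E.Num :=
    { h := hf
      compat := fun i j z hi hj => match i, j, hi, hj with
        | none, none, hi, hj => rfl
        | none, some y, hi, hj => by
            change X.presheaf.germ U z hi g * X.presheaf.germ (W' y) z hj (τ' y) =
              X.presheaf.germ (W' y) z hj 1 * X.presheaf.germ U z hi 1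
            rw [map_one, map_one, mul_one, mul_comm]
            exact F1 y z hj hi
        | some y, none, hi, hj => by
            change X.presheaf.germ (W' y) z hi 1 * X.presheaf.germ U z hj 1 =
              X.presheaf.germ U z hj g * X.presheaf.germ (W' y) z hi (τ' y)
            rw [map_one, map_one, mul_one, mul_comm]
            exact (F1 y z hi hj).symm
        | some y, some y', hi, hj => by
            change X.presheaf.germ (W' y) z hi 1 * X.presheaf.germ (W' y') z hj (τ' y') =
              X.presheaf.germ (W' y') z hj 1 * X.presheaf.germ (W' y) z hi (τ' y)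
            rw [map_one, map_one, one_mul, one_mul]
            exact F2 y' y z hj hi }
  have hL : PicF.IsInvertible (Mero.divMod E.divisor) := isInvertible_divMod _
  refine ⟨Mero.divMod E.divisor, Groth.Agent.Helper13.LocFree.homOfSec _ E.one.sec, hL, ?_, ?_⟩
  · rw [isGloballyGenerated_iff]
    intro y
    by_cases hy : y ∈ U
    · apply ggAt_of_isGen _ E.one.sec
      rw [E.one.isGen_sec_iff none y hy]
      change IsUnit (X.presheaf.germ U y hy 1)
      rw [map_one]
      exact isUnit_one
    · apply ggAt_of_isGen _ Nh.sec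
      rw [Nh.isGen_sec_iff (some ⟨y, hy⟩) y (hyW' ⟨y, hy⟩)]
      change IsUnit (X.presheaf.germ (W' ⟨y, hy⟩) y _ 1)
      rw [map_one]
      exact isUnit_one
  · ext y
    rw [SetLike.mem_coe, mem_genLocus_iff_isGen _ _ hL y, sec_homOfSec]
    by_cases hy : y ∈ U
    · refine iff_of_true ?_ hy
      rw [E.one.isGen_sec_iff none y hy]
      change IsUnit (X.presheaf.germ U y hy 1)
      rw [map_one]
      exact isUnit_one
    · refine iff_of_false ?_ hy
      rw [E.one.isGen_sec_iff (some ⟨y, hy⟩) y (hyW' ⟨y, hy⟩)]
      exact hτm ⟨y, hy⟩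

end Groth.Agent.Helper23.QProj
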