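import Mathlib

/-!
# Galois descent for `A ⊗[k] L`: invariants (helper23)
-/

set_option autoImplicit false

namespace Groth.Agent.Helper23.QsGal

open scoped TensorProduct

variable (k L A : Type*) [Field k] [Field L] [Algebra k L] [CommRing A] [Algebra k A]

/-- the action of an automorphism of `L` on `A ⊗[k] L`. -/
noncomputable def act (σ : L ≃ₐ[k] L) : A ⊗[k] L →ₐ[A] A ⊗[k] L :=
  Algebra.TensorProduct.map (AlgHom.id A A) (σ : L →ₐ[k] L)

variable {k L A}

@[simp]
theorem act_tmul (σ : L ≃ₐ[k] L) (a : A) (l : L) : act k L A σ (a ⊗ₜ[k] l) = a ⊗ₜ[k] σ l := by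
  simp [act]

theorem act_mul (σ τ : L ≃ₐ[k] L) (b : A ⊗[k] L) :
    act k L A (σ * τ) b = act k L A σ (act k L A τ b) := by
  induction b using TensorProduct.induction_on with
  | zero => simp
  | tmul a l => simp [AlgEquiv.mul_apply]
  | add x y hx hy => simp only [map_add, hx, hy]

theorem act_one (b : A ⊗[k] L) : act k L A 1 b = b := by
  induction b using TensorProduct.induction_on with
  | zero => simp
  | tmul a l => simp
  | add x y hx hy => simp only [map_add, hx, hy]

theorem act_inv_act (σ : L ≃ₐ[k] L) (b : A ⊗[k] L) : act k L A σ⁻¹ (act k L A σ b) = b := by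
  rw [← act_mul, inv_mul_cancel, act_one]

theorem act_act_inv (σ : L ≃ₐ[k] L) (b : A ⊗[k] L) : act k L A σ (act k L A σ⁻¹ b) = b := by
  rw [← act_mul, mul_inv_cancel, act_one]

theorem act_injective (σ : L ≃ₐ[k] L) : Function.Injective (act k L A σ) := by
  intro x y h
  have := congrArg (act k L A σ⁻¹) h
  rwa [act_inv_act, act_inv_act] at this

variable [FiniteDimensional k L] [IsGalois k L]

/-- the sum over the group is in the image of `A`. -/
theorem sum_act_mem_range (b : A ⊗[k] L) :
    ∃ a : A, a ⊗ₜ[k] (1 : L) = ∑ σ : L ≃ₐ[k] L, act k L A σ b := by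
  induction b using TensorProduct.induction_on with
  | zero => exact ⟨0, by simp⟩
  | tmul a l =>
    refine ⟨Algebra.trace k L l • a, ?_⟩
    simp only [act_tmul]
    rw [← TensorProduct.tmul_sum, ← trace_eq_sum_automorphisms, Algebra.algebraMap_eq_smul_one,
      TensorProduct.tmul_smul, TensorProduct.smul_tmul']
  | add x y hx hy =>
    obtain ⟨a, ha⟩ := hx
    obtain ⟨a', ha'⟩ := hy
    refine ⟨a + a', ?_⟩
    simp only [map_add, Finset.sum_add_distrib, TensorProduct.add_tmul, ha, ha']

/-- Galois descent: invariant elements come from `A`. -/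
theorem exists_of_invariant (b : A ⊗[k] L) (hb : ∀ σ : L ≃ₐ[k] L, act k L A σ b = b) :
    ∃ a : A, a ⊗ₜ[k] (1 : L) = b := by
  obtain ⟨l₀, hl₀⟩ := Algebra.trace_surjective k L 1
  obtain ⟨a, ha⟩ := sum_act_mem_range ((1 : A) ⊗ₜ[k] l₀ * b)
  refine ⟨a, ?_⟩
  rw [ha]
  simp only [map_mul, act_tmul, hb]
  rw [← Finset.sum_mul, ← TensorProduct.tmul_sum, ← trace_eq_sum_automorphisms, hl₀, map_one]
  exact one_mul b

omit [FiniteDimensional k L] [IsGalois k L] in
theorem includeLeft_injective' : Function.Injective (fun a : A => a ⊗ₜ[k] (1 : L)) := by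
  have := Algebra.TensorProduct.includeLeft_injective (R := k) (S := k) (A := A) (B := L)
    (algebraMap k L).injective
  exact this

/-- If `A` has only trivial idempotents, so do the invariants of `A ⊗ L`. -/
theorem invariant_idempotent_trivial (hA : ∀ a : A, IsIdempotentElem a → a = 0 ∨ a = 1)
    (b : A ⊗[k] L) (hb : ∀ σ : L ≃ₐ[k] L, act k L A σ b = b) (hi : IsIdempotentElem b) :
    b = 0 ∨ b = 1 := by
  obtain ⟨a, rfl⟩ := exists_of_invariant b hb
  have ha : IsIdempotentElem a := by
    apply includeLeft_injective' (k := k) (L := L)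
    show (a * a) ⊗ₜ[k] (1 : L) = a ⊗ₜ[k] (1 : L)
    have := hi
    unfold IsIdempotentElem at this
    rw [Algebra.TensorProduct.tmul_mul_tmul, mul_one] at this
    exact this
  rcases hA a ha with rfl | rfl
  · left; simp
  · right; rfl

end Groth.Agent.Helper23.QsGal
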