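import Mathlib

/-!
# Finding an orthogonal orbit of idempotents under a finite group action (helper23)
-/

set_option autoImplicit false

namespace Groth.Agent.Helper23.QsGal

open scoped Classical in
/-- Let a finite group act on a commutative ring whose invariant idempotents are trivial, and let
`e` be a nontrivial idempotent. Then there is a nonzero idempotent `ε`, not fixed by the whole
group, all of whose translates are either equal or orthogonal to it. -/
theorem exists_orthogonal_idempotent {G B : Type*} [Group G] [Fintype G] [CommRing B]
    (act : G → B →+* B) (hmul : ∀ σ τ b, act (σ * τ) b = act σ (act τ b))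
    (hone : ∀ b, act 1 b = b)
    (hinv : ∀ b : B, (∀ σ, act σ b = b) → IsIdempotentElem b → b = 0 ∨ b = 1)
    (e : B) (he : IsIdempotentElem e) (h0 : e ≠ 0) (h1 : e ≠ 1) :
    ∃ ε : B, IsIdempotentElem ε ∧ ε ≠ 0 ∧ (∃ τ, act τ ε ≠ ε) ∧
      ∀ τ, act τ ε = ε ∨ ε * act τ ε = 0 := by
  let eS : Finset G → B := fun S => ∏ σ ∈ S, act σ e
  have hidem : ∀ σ, IsIdempotentElem (act σ e) := fun σ => by
    unfold IsIdempotentElem
    rw [← map_mul, he.eq]
  have habsorb : ∀ (T : Finset G) (a : G), a ∈ T → act a e * eS T = eS T := by
    intro T a ha
    simp only [eS]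
    rw [← Finset.mul_prod_erase T _ ha, ← mul_assoc, (hidem a).eq]
  have hunion : ∀ S S' : Finset G, eS S * eS S' = eS (S ∪ S') := by
    intro S S'
    induction S' using Finset.induction_on with
    | empty => simp [eS]
    | insert a S' ha ih =>
      have h1 : eS (insert a S') = act a e * eS S' := Finset.prod_insert ha
      rw [h1, mul_left_comm, ih, Finset.union_insert]
      by_cases hmem : a ∈ S ∪ S'
      · rw [Finset.insert_eq_of_mem hmem]
        exact habsorb _ a hmem
      · exact (Finset.prod_insert (f := fun σ => act σ e) hmem).symm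
  have hact : ∀ (τ : G) (S : Finset G), act τ (eS S) = eS (S.image (τ * ·)) := by
    intro τ S
    simp only [eS]
    rw [map_prod, Finset.prod_image (fun x _ y _ h => mul_left_cancel h)]
    exact Finset.prod_congr rfl fun σ _ => (hmul τ σ e).symm
  -- the family of subsets with nonzero product
  let fam : Finset (Finset G) := Finset.univ.filter fun S => eS S ≠ 0
  have hfam : fam.Nonempty := ⟨{1}, by
    simp only [fam, Finset.mem_filter, Finset.mem_univ, true_and, eS, Finset.prod_singleton]
    rw [hone]; exact h0⟩
  obtain ⟨S, hS, hmax⟩ := Finset.exists_max_image fam Finset.card hfam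
  have hS0 : eS S ≠ 0 := (Finset.mem_filter.mp hS).2
  have hdich : ∀ τ, act τ (eS S) = eS S ∨ eS S * act τ (eS S) = 0 := by
    intro τ
    rw [hact τ S]
    by_cases hSS : S.image (τ * ·) = S
    · left; rw [hSS]
    · right
      rw [hunion]
      by_contra hne
      have hmem : S ∪ S.image (τ * ·) ∈ fam := Finset.mem_filter.mpr ⟨Finset.mem_univ _, hne⟩
      have hle := hmax _ hmem
      have hcard : (S.image (τ * ·)).card = S.card :=
        Finset.card_image_of_injective _ (fun x y h => mul_left_cancel h)
      have hsub : S.image (τ * ·) ⊆ S := by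
        have h2 : S ∪ S.image (τ * ·) = S :=
          (Finset.eq_of_subset_of_card_le Finset.subset_union_left hle).symm
        intro x hx
        rw [← h2]
        exact Finset.mem_union_right _ hx
      exact hSS (Finset.eq_of_subset_of_card_le hsub (by rw [hcard]))
  refine ⟨eS S, ?_, hS0, ?_, hdich⟩
  · unfold IsIdempotentElem
    rw [hunion, Finset.union_self]
  · by_contra hall
    have hall : ∀ τ, act τ (eS S) = eS S := fun τ => by
      by_contra hτ
      exact hall ⟨τ, hτ⟩
    have hprod : eS S = 1 := by
      rcases hinv (eS S) hall (by unfold IsIdempotentElem; rw [hunion, Finset.union_self]) with h | h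
      · exact absurd h hS0
      · exact h
    have hSne : S.Nonempty := by
      by_contra hemp
      rw [Finset.not_nonempty_iff_eq_empty] at hemp
      have h2 := hmax {1} (Finset.mem_filter.mpr ⟨Finset.mem_univ _, by
        simp only [eS, Finset.prod_singleton]; rw [hone]; exact h0⟩)
      rw [hemp] at h2
      simp at h2
    obtain ⟨σ, hσ⟩ := hSne
    have h3 : act σ e = 1 := by
      have h4 := habsorb S σ hσ
      rw [hprod, mul_one] at h4
      exact h4
    have h5 : e = 1 := by
      have := congrArg (act σ⁻¹) h3
      rw [← hmul, inv_mul_cancel, hone, map_one] at this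
      exact this
    exact h1 h5

end Groth.Agent.Helper23.QsGal
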