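import Mathlib
import Groth.Agent.Lib.Helper23.QsGal1
import Groth.Agent.Lib.Helper23.QsGal2

/-!
# From an orthogonal orbit of idempotents to a subfield of the Galois extension (helper23)
-/

set_option autoImplicit false

namespace Groth.Agent.Helper23.QsGal

open scoped TensorProduct

variable {k L A : Type*} [Field k] [Field L] [Algebra k L] [CommRing A] [Algebra k A]

/-- the stabilizer of an element of `A ⊗ L`. -/
def stab (ε : A ⊗[k] L) : Subgroup (L ≃ₐ[k] L) where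
  carrier := {τ | act k L A τ ε = ε}
  one_mem' := act_one ε
  mul_mem' := by
    intro σ τ hσ hτ
    simp only [Set.mem_ofPred_eq] at hσ hτ ⊢
    rw [act_mul, hτ, hσ]
  inv_mem' := by
    intro σ hσ
    simp only [Set.mem_ofPred_eq] at hσ ⊢
    have := act_inv_act σ ε
    rwa [hσ] at this

theorem mem_stab (ε : A ⊗[k] L) (τ : L ≃ₐ[k] L) : τ ∈ stab ε ↔ act k L A τ ε = ε := Iff.rfl

/-- the translate of `ε` by a coset of its stabilizer. -/
noncomputable def εq (ε : A ⊗[k] L) (q : (L ≃ₐ[k] L) ⧸ stab ε) : A ⊗[k] L :=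
  act k L A q.out ε

theorem act_eq_εq (ε : A ⊗[k] L) (g : L ≃ₐ[k] L) :
    act k L A g ε = εq ε (QuotientGroup.mk g) := by
  obtain ⟨h, hh⟩ := QuotientGroup.mk_out_eq_mul (stab ε) g
  unfold εq
  rw [hh, act_mul, (mem_stab ε h.1).mp h.2]

/-- the translate of an element of the fixed field by a coset. -/
noncomputable def lq (ε : A ⊗[k] L) (q : (L ≃ₐ[k] L) ⧸ stab ε)
    (l : IntermediateField.fixedField (stab ε)) : L := q.out (l : L)

theorem apply_eq_lq (ε : A ⊗[k] L) (g : L ≃ₐ[k] L) (l : IntermediateField.fixedField (stab ε)) :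
    g (l : L) = lq ε (QuotientGroup.mk g) l := by
  obtain ⟨h, hh⟩ := QuotientGroup.mk_out_eq_mul (stab ε) g
  unfold lq
  rw [hh, AlgEquiv.mul_apply]
  congr 1
  exact (l.2 h).symm

theorem act_εq (ε : A ⊗[k] L) (σ : L ≃ₐ[k] L) (q : (L ≃ₐ[k] L) ⧸ stab ε) :
    act k L A σ (εq ε q) = εq ε (σ • q) := by
  unfold εq
  rw [← act_mul, act_eq_εq]
  congr 1
  conv_rhs => rw [← QuotientGroup.out_eq' q]
  rfl

theorem apply_lq (ε : A ⊗[k] L) (σ : L ≃ₐ[k] L) (q : (L ≃ₐ[k] L) ⧸ stab ε)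
    (l : IntermediateField.fixedField (stab ε)) :
    σ (lq ε q l) = lq ε (σ • q) l := by
  unfold lq
  rw [← AlgEquiv.mul_apply, apply_eq_lq]
  congr 1
  conv_rhs => rw [← QuotientGroup.out_eq' q]
  rfl

variable (ε : A ⊗[k] L) (hε : IsIdempotentElem ε)
  (hdich : ∀ τ : L ≃ₐ[k] L, act k L A τ ε = ε ∨ ε * act k L A τ ε = 0)

include hε in
theorem εq_idem (q : (L ≃ₐ[k] L) ⧸ stab ε) : εq ε q * εq ε q = εq ε q := by
  unfold εq
  rw [← map_mul, hε.eq]

include hdich in
theorem εq_orth (q q' : (L ≃ₐ[k] L) ⧸ stab ε) (h : q ≠ q') : εq ε q * εq ε q' = 0 := by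
  unfold εq
  have h1 : act k L A q'.out ε = act k L A q.out (act k L A (q.out⁻¹ * q'.out) ε) := by
    rw [← act_mul, mul_inv_cancel_left]
  rw [h1, ← map_mul]
  rcases hdich (q.out⁻¹ * q'.out) with h2 | h2
  · exfalso
    apply h
    have : (QuotientGroup.mk q.out : (L ≃ₐ[k] L) ⧸ stab ε) = QuotientGroup.mk q'.out :=
      QuotientGroup.eq.mpr h2
    rwa [QuotientGroup.out_eq', QuotientGroup.out_eq'] at this
  · rw [h2, map_zero]

end Groth.Agent.Helper23.QsGal
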