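import Mathlib
import Groth.Agent.Lib.Helper23.QsGal3

/-!
# The subfield attached to an orthogonal orbit of idempotents (helper23)
-/

set_option autoImplicit false

namespace Groth.Agent.Helper23.QsGal

open scoped TensorProduct

variable {k L A : Type*} [Field k] [Field L] [Algebra k L] [CommRing A] [Algebra k A]
  [FiniteDimensional k L] [IsGalois k L]

variable (ε : A ⊗[k] L) (hε : IsIdempotentElem ε) (hε0 : ε ≠ 0)
  (hdich : ∀ τ : L ≃ₐ[k] L, act k L A τ ε = ε ∨ ε * act k L A τ ε = 0)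
  (hA : ∀ a : A, IsIdempotentElem a → a = 0 ∨ a = 1)

open scoped Classical in
noncomputable instance : Fintype ((L ≃ₐ[k] L) ⧸ stab ε) := Fintype.ofFinite _

/-- the candidate ring homomorphism from the fixed field to `A ⊗ L`. -/
noncomputable def ψ (l : IntermediateField.fixedField (stab ε)) : A ⊗[k] L :=
  ∑ q : (L ≃ₐ[k] L) ⧸ stab ε, ((1 : A) ⊗ₜ[k] lq ε q l) * εq ε q

theorem act_ψ (σ : L ≃ₐ[k] L) (l : IntermediateField.fixedField (stab ε)) :
    act k L A σ (ψ ε l) = ψ ε l := by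
  unfold ψ
  rw [map_sum]
  simp only [map_mul, act_tmul, act_εq, apply_lq]
  exact Equiv.sum_comp (MulAction.toPerm σ : ((L ≃ₐ[k] L) ⧸ stab ε) ≃ _)
    (fun q => ((1 : A) ⊗ₜ[k] lq ε q l) * εq ε q)

include hε hdich in
theorem ψ_mul (l l' : IntermediateField.fixedField (stab ε)) :
    ψ ε (l * l') = ψ ε l * ψ ε l' := by
  unfold ψ
  rw [Finset.sum_mul_sum]
  refine Finset.sum_congr rfl fun q _ => ?_
  rw [Finset.sum_eq_single q]
  · have h1 : lq ε q (l * l') = lq ε q l * lq ε q l' := by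
      unfold lq
      simp
    rw [h1]
    have h2 : ((1 : A) ⊗ₜ[k] (lq ε q l * lq ε q l')) =
        ((1 : A) ⊗ₜ[k] lq ε q l) * ((1 : A) ⊗ₜ[k] lq ε q l') := by
      rw [Algebra.TensorProduct.tmul_mul_tmul, one_mul]
    rw [h2]
    have h3 := εq_idem ε hε q
    calc (1 ⊗ₜ[k] lq ε q l) * (1 ⊗ₜ[k] lq ε q l') * εq ε q
        = (1 ⊗ₜ[k] lq ε q l) * (1 ⊗ₜ[k] lq ε q l') * (εq ε q * εq ε q) := by rw [h3]
      _ = (1 ⊗ₜ[k] lq ε q l) * εq ε q * ((1 ⊗ₜ[k] lq ε q l') * εq ε q) := by ring
  · intro q' _ hq'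
    have h3 := εq_orth ε hdich q q' (Ne.symm hq')
    calc (1 ⊗ₜ[k] lq ε q l) * εq ε q * ((1 ⊗ₜ[k] lq ε q' l') * εq ε q')
        = (1 ⊗ₜ[k] lq ε q l) * (1 ⊗ₜ[k] lq ε q' l') * (εq ε q * εq ε q') := by ring
      _ = 0 := by rw [h3, mul_zero]
  · intro h
    exact absurd (Finset.mem_univ q) h

theorem ψ_add (l l' : IntermediateField.fixedField (stab ε)) :
    ψ ε (l + l') = ψ ε l + ψ ε l' := by
  unfold ψ
  rw [← Finset.sum_add_distrib]
  refine Finset.sum_congr rfl fun q _ => ?_
  have h1 : lq ε q (l + l') = lq ε q l + lq ε q l' := by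
    unfold lq
    simp
  rw [h1, TensorProduct.tmul_add, add_mul]

theorem ψ_algebraMap (c : k) :
    ψ ε (algebraMap k (IntermediateField.fixedField (stab ε)) c) =
      ((1 : A) ⊗ₜ[k] algebraMap k L c) * ψ ε 1 := by
  unfold ψ
  rw [Finset.mul_sum]
  refine Finset.sum_congr rfl fun q _ => ?_
  have h1 : lq ε q (algebraMap k (IntermediateField.fixedField (stab ε)) c) = algebraMap k L c := by
    unfold lq
    simp
  have h2 : lq ε q (1 : IntermediateField.fixedField (stab ε)) = 1 := by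
    unfold lq
    simp
  rw [h1, h2, ← mul_assoc, Algebra.TensorProduct.tmul_mul_tmul, one_mul, mul_one]

include hε hε0 hdich hA in
theorem ψ_one : ψ ε 1 = 1 := by
  have hidem : IsIdempotentElem (ψ ε 1) := by
    unfold IsIdempotentElem
    rw [← ψ_mul ε hε hdich, one_mul]
  have hne : ψ ε 1 ≠ 0 := by
    intro h0
    apply hε0
    have h1 : ε * ψ ε 1 = ε := by
      unfold ψ
      rw [Finset.mul_sum, Finset.sum_eq_single (QuotientGroup.mk (1 : L ≃ₐ[k] L))]
      · have h2 : lq ε (QuotientGroup.mk (1 : L ≃ₐ[k] L)) 1 = 1 := by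
          unfold lq; simp
        have h3 : εq ε (QuotientGroup.mk (1 : L ≃ₐ[k] L)) = ε := by
          rw [← act_eq_εq, act_one]
        rw [h2, h3]
        have : ((1 : A) ⊗ₜ[k] (1 : L)) = 1 := rfl
        rw [this, one_mul, hε.eq]
      · intro q _ hq
        have h3 : εq ε (QuotientGroup.mk (1 : L ≃ₐ[k] L)) = ε := by
          rw [← act_eq_εq, act_one]
        have h4 := εq_orth ε hdich _ q (Ne.symm hq)
        rw [h3] at h4
        rw [mul_left_comm, h4, mul_zero]
      · intro h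
        exact absurd (Finset.mem_univ _) h
    rw [h0, mul_zero] at h1
    exact h1.symm
  rcases invariant_idempotent_trivial hA (ψ ε 1) (fun σ => act_ψ ε σ 1) hidem with h | h
  · exact absurd h hne
  · exact h

include hε hε0 hdich hA in
/-- the algebra homomorphism from the fixed field of the stabilizer to `A`. -/
theorem exists_algHom_fixedField :
    Nonempty (IntermediateField.fixedField (stab ε) →ₐ[k] A) := by
  have hex : ∀ l : IntermediateField.fixedField (stab ε), ∃ a : A, a ⊗ₜ[k] (1 : L) = ψ ε l :=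
    fun l => exists_of_invariant (ψ ε l) (fun σ => act_ψ ε σ l)
  choose φ hφ using hex
  have hinj := includeLeft_injective' (k := k) (L := L) (A := A)
  have h1 := ψ_one ε hε hε0 hdich hA
  refine ⟨
    { toFun := φ
      map_one' := by
        apply hinj
        show φ 1 ⊗ₜ[k] (1 : L) = (1 : A) ⊗ₜ[k] (1 : L)
        rw [hφ, h1]; rfl
      map_mul' := by
        intro l l'
        apply hinj
        show φ (l * l') ⊗ₜ[k] (1 : L) = (φ l * φ l') ⊗ₜ[k] (1 : L)
        have : (φ l * φ l') ⊗ₜ[k] (1 : L) = (φ l ⊗ₜ[k] (1 : L)) * (φ l' ⊗ₜ[k] (1 : L)) := by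
          rw [Algebra.TensorProduct.tmul_mul_tmul, mul_one]
        rw [this, hφ, hφ, hφ, ψ_mul ε hε hdich]
      map_zero' := by
        apply hinj
        show φ 0 ⊗ₜ[k] (1 : L) = (0 : A) ⊗ₜ[k] (1 : L)
        rw [hφ, TensorProduct.zero_tmul]
        have := ψ_add ε 0 0
        rw [add_zero] at this
        exact left_eq_add.mp this
      map_add' := by
        intro l l'
        apply hinj
        show φ (l + l') ⊗ₜ[k] (1 : L) = (φ l + φ l') ⊗ₜ[k] (1 : L)
        rw [TensorProduct.add_tmul, hφ, hφ, hφ, ψ_add]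
      commutes' := by
        intro c
        apply hinj
        show φ (algebraMap k _ c) ⊗ₜ[k] (1 : L) = (algebraMap k A c) ⊗ₜ[k] (1 : L)
        rw [hφ, ψ_algebraMap, h1, mul_one, Algebra.algebraMap_eq_smul_one,
          Algebra.algebraMap_eq_smul_one, TensorProduct.tmul_smul, TensorProduct.smul_tmul'] }⟩

end Groth.Agent.Helper23.QsGal
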