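import Mathlib
import Groth.Agent.Lib.Helper23.QsGal4

/-!
# Idempotents of `A ⊗ L` and subfields mapping to `A` (helper23)
-/

set_option autoImplicit false

namespace Groth.Agent.Helper23.QsGal

open scoped TensorProduct

/-- Let `L/k` be finite Galois and `A` a `k`-algebra with only trivial idempotents. If `A ⊗[k] L`
has a nontrivial idempotent, then some intermediate field `F ≠ k` of `L/k` maps to `A` by a
`k`-algebra homomorphism. -/
theorem exists_intermediateField_algHom {k L A : Type*} [Field k] [Field L] [Algebra k L]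
    [CommRing A] [Algebra k A] [FiniteDimensional k L] [IsGalois k L]
    (hA : ∀ a : A, IsIdempotentElem a → a = 0 ∨ a = 1)
    (e : A ⊗[k] L) (he : IsIdempotentElem e) (h0 : e ≠ 0) (h1 : e ≠ 1) :
    ∃ F : IntermediateField k L, F ≠ ⊥ ∧ Nonempty (F →ₐ[k] A) := by
  classical
  obtain ⟨ε, hε, hε0, ⟨τ, hτ⟩, hdich⟩ := exists_orthogonal_idempotent
    (fun σ : L ≃ₐ[k] L => ((act k L A σ : A ⊗[k] L →ₐ[A] A ⊗[k] L) : A ⊗[k] L →+* A ⊗[k] L))
    (fun σ τ b => act_mul σ τ b) (fun b => act_one b)
    (fun b hb hi => invariant_idempotent_trivial hA b hb hi) e he h0 h1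
  refine ⟨IntermediateField.fixedField (stab ε), ?_, exists_algHom_fixedField ε hε hε0 hdich hA⟩
  intro hbot
  have h2 := IntermediateField.fixingSubgroup_fixedField (stab ε)
  rw [hbot, IntermediateField.fixingSubgroup_bot] at h2
  have : τ ∈ stab ε := by rw [← h2]; trivial
  exact hτ this

end Groth.Agent.Helper23.QsGal
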