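import Mathlib
import Groth.Agent.Lib.Helper23.QsGeo1
import Groth.Agent.Lib.Helper23.QsGeo2
import Groth.Agent.Lib.Helper23.QsGal5

/-!
# A connected `k`-scheme that becomes disconnected over a Galois extension (helper23)
-/

set_option autoImplicit false

universe u

open CategoryTheory AlgebraicGeometry TopologicalSpace Opposite Limits
open scoped TensorProduct

namespace Groth.Agent.Helper23.QsGeo

/-- Let `X` be a connected quasi-compact quasi-separated `k`-scheme and `L ⊆ K` a finite Galois
extension of `k` such that `X_L` is not connected. Then the structure morphism of `X` factors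
through `Spec F` for some intermediate field `F ≠ k` finite over `k`. -/
theorem exists_factorization (k : Type u) [Field k] (K : Type u) [Field K] [Algebra k K]
    (L : IntermediateField k K) [FiniteDimensional k L] [IsGalois k L]
    (X : Scheme.{u}) [X.Over (Spec (CommRingCat.of k))]
    [QuasiSeparated (X ↘ Spec (CommRingCat.of k))] [QuasiCompact (X ↘ Spec (CommRingCat.of k))]
    [ConnectedSpace X]
    (hdisc : ¬ ConnectedSpace ↥(pullback (X ↘ Spec (CommRingCat.of k))
      (Spec.map (CommRingCat.ofHom (algebraMap k L))))) :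
    ∃ (F : IntermediateField k K) (_ : FiniteDimensional k F) (_ : F ≠ ⊥)
      (g : X ⟶ Spec (CommRingCat.of F)),
      g ≫ Spec.map (CommRingCat.ofHom (algebraMap k F)) = X ↘ Spec (CommRingCat.of k) := by
  classical
  haveI : CompactSpace X :=
    (quasiCompact_iff_compactSpace (X ↘ Spec (CommRingCat.of k))).mp inferInstance
  haveI : QuasiSeparatedSpace X :=
    (quasiSeparated_iff_quasiSeparatedSpace (X ↘ Spec (CommRingCat.of k))).mp inferInstance
  set iX := X ↘ Spec (CommRingCat.of k) with hiX
  set f := Spec.map (CommRingCat.ofHom (algebraMap k L)) with hf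
  -- `X_L` is nonempty
  have hne : Nonempty ↥(pullback iX f) := by
    obtain ⟨x⟩ := (inferInstance : Nonempty X)
    let y : Spec (CommRingCat.of L) := (⊥ : PrimeSpectrum L)
    have hxy : iX x = f y := by
      have : Subsingleton (PrimeSpectrum k) := inferInstance
      exact this.elim _ _
    obtain ⟨z, -⟩ := Scheme.Pullback.exists_preimage_pullback x y hxy
    exact ⟨z⟩
  have hnp : ¬ PreconnectedSpace ↥(pullback iX f) := fun h =>
    hdisc { toPreconnectedSpace := h, toNonempty := hne }
  obtain ⟨e, he, he0, he1⟩ := exists_idempotent_of_not_preconnected _ hnp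
  letI := gammaAlgebra k X
  obtain ⟨ρ⟩ := nonempty_ringEquiv_gamma_pullback k X L
  obtain ⟨F', hF', ⟨φ⟩⟩ := QsGal.exists_intermediateField_algHom (k := k) (L := L) (A := Γ(X, ⊤))
    (idempotent_trivial_of_preconnected X) (ρ.symm e) (he.map ρ.symm.toRingHom)
    (fun h => he0 (by simpa using h)) (fun h => he1 (by simpa using h))
  refine ⟨IntermediateField.lift F', ?_, ?_, ?_⟩
  · exact LinearEquiv.finiteDimensional (IntermediateField.liftAlgEquiv F').toLinearEquiv
  · intro h
    exact hF' (IntermediateField.lift_injective L (h.trans (IntermediateField.lift_bot (F := k) (E := K) L).symm))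
  · let ψ : ↥(IntermediateField.lift F') →ₐ[k] Γ(X, ⊤) :=
      φ.comp (IntermediateField.liftAlgEquiv F').symm.toAlgHom
    refine ⟨X.toSpecΓ ≫ Spec.map (CommRingCat.ofHom ψ.toRingHom), ?_⟩
    rw [Category.assoc, ← Spec.map_comp]
    have h1 : CommRingCat.ofHom (algebraMap k ↥(IntermediateField.lift F')) ≫
        CommRingCat.ofHom ψ.toRingHom =
        (Scheme.ΓSpecIso (CommRingCat.of k)).inv ≫ iX.appTop := by
      ext c
      exact ψ.commutes c
    rw [h1, Spec.map_comp, ← Scheme.toSpecΓ_naturality_assoc, toSpecΓ_SpecMap_ΓSpecIso_inv,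
      Category.comp_id]

end Groth.Agent.Helper23.QsGeo
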