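import Mathlib
import Groth.Prelude.Def_W4c4chowquasisplitNorm
import Groth.Agent.Lib.Helper3.CycPush

/-!
# Norm subgroups of Chow groups: the section trick
-/

set_option autoImplicit false

universe u

open CategoryTheory AlgebraicGeometry

namespace Groth.Agent.Helper23.QsNorm

theorem map_apply' {X Y : Scheme.{u}} (f : X ⟶ Y) [QuasiCompact f] (wx : X → ℤ) (wy : Y → ℤ)
    (c : AlgebraicCycle X ℤ) (y : Y) :
    AlgebraicCycle.map f wx wy c y =
      ∑ᶠ x ∈ (f : X → Y) ⁻¹' {y}, c x * ((AlgebraicCycle.mapCoeff f wx wy x : ℕ) : ℤ) := rfl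

/-- value of the pushforward along a section `s` at a point of its image -/
theorem map_apply_section {X Y : Scheme.{u}} (s : X ⟶ Y) (π : Y ⟶ X) [QuasiCompact s]
    (h : s ≫ π = 𝟙 X) (wx : X → ℤ) (wy : Y → ℤ) (α : AlgebraicCycle X ℤ) (x : X) :
    AlgebraicCycle.map s wx wy α (s x) = α x * (AlgebraicCycle.mapCoeff s wx wy x : ℤ) := by
  have hinj : Function.Injective s := by
    intro a b hab
    have h1 : π (s a) = a := by
      rw [← Scheme.Hom.comp_apply, h]; rfl
    have h2 : π (s b) = b := by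
      rw [← Scheme.Hom.comp_apply, h]; rfl
    rw [← h1, ← h2, hab]
  unfold AlgebraicCycle.map
  rw [Function.locallyFinsupp.map_apply]
  have hset : (s : X → Y) ⁻¹' {s x} = {x} := by
    ext a
    simp only [Set.mem_preimage, Set.mem_singleton_iff]
    exact ⟨fun ha => hinj ha, fun ha => by rw [ha]⟩
  rw [hset, finsum_mem_singleton]

/-- the pushforward along a section vanishes outside its image -/
theorem map_apply_not_range {X Y : Scheme.{u}} (s : X ⟶ Y) [QuasiCompact s]
    (wx : X → ℤ) (wy : Y → ℤ) (α : AlgebraicCycle X ℤ) (y : Y) (hy : ∀ x : X, s x ≠ y) :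
    AlgebraicCycle.map s wx wy α y = 0 := by
  unfold AlgebraicCycle.map
  rw [Function.locallyFinsupp.map_apply]
  have hset : (s : X → Y) ⁻¹' {y} = ∅ := by
    ext a
    simp only [Set.mem_preimage, Set.mem_singleton_iff, Set.mem_empty_iff_false, iff_false]
    exact hy a
  rw [hset, finsum_mem_empty]

theorem map_section {X Y : Scheme.{u}} (s : X ⟶ Y) (π : Y ⟶ X) [QuasiCompact s] [QuasiCompact π]
    (h : s ≫ π = 𝟙 X) (δ : X → ℤ) (α : AlgebraicCycle X ℤ) :
    AlgebraicCycle.map π (δ ∘ π) δ (AlgebraicCycle.map s δ (δ ∘ π) α) = α := by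
  have hπs : ∀ a : X, π (s a) = a := by
    intro a
    rw [← Scheme.Hom.comp_apply, h]; rfl
  ext x
  have hdeg : π.residueDegree (s x) * s.residueDegree x = 1 := by
    rw [← Groth.Agent.Helper3.CycPush.residueDegree_comp, h, Scheme.Hom.residueDegree_id]
  show AlgebraicCycle.map π (δ ∘ π) δ (AlgebraicCycle.map s δ (δ ∘ π) α) x = α x
  rw [map_apply']
  have hsupp : ∀ y ∈ (π : Y → X) ⁻¹' {x}, y ≠ s x →
      (AlgebraicCycle.map s δ (δ ∘ π) α) y * ((AlgebraicCycle.mapCoeff π (δ ∘ π) δ y : ℕ) : ℤ) = 0 := by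
    intro y hy hne
    rw [map_apply_not_range s δ (δ ∘ π) α y, zero_mul]
    intro a ha
    apply hne
    have : π y = x := hy
    rw [← ha, hπs] at this
    rw [← ha, this]
  rw [finsum_mem_inter_support_eq' _ ((π : Y → X) ⁻¹' {x}) {s x} (by
    intro y hy
    constructor
    · intro hy'
      by_contra hne
      exact hy (hsupp y hy' hne)
    · intro hy'
      rw [Set.mem_singleton_iff] at hy'
      rw [hy']
      exact hπs x), finsum_mem_singleton]
  rw [map_apply_section s π h]
  unfold AlgebraicCycle.mapCoeff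
  rw [if_pos (by simp [hπs]), if_pos (by simp), mul_assoc, ← Nat.cast_mul,
    mul_comm (s.residueDegree x), hdeg, Nat.cast_one, mul_one]

end Groth.Agent.Helper23.QsNorm
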