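import Mathlib
import Groth.Prelude.Def_W4c4chowquasisplitNorm
import Groth.Agent.Lib.Helper23.QsNorm1

set_option autoImplicit false

universe u

open CategoryTheory AlgebraicGeometry

namespace Groth.Agent.Helper23.QsNorm

theorem map_mem_Zk_of_section {X Y : Scheme.{u}} (s : X ⟶ Y) (π : Y ⟶ X) [QuasiCompact s]
    (h : s ≫ π = 𝟙 X) (δ : X → ℤ) (j : ℤ) (α : AlgebraicCycle X ℤ) (hα : α ∈ Cyc.Zk X δ j) :
    AlgebraicCycle.map s δ (δ ∘ π) α ∈ Cyc.Zk Y (δ ∘ π) j := by
  have hπs : ∀ a : X, π (s a) = a := by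
    intro a
    rw [← Scheme.Hom.comp_apply, h]; rfl
  intro y hy
  by_cases hr : ∃ x : X, s x = y
  · obtain ⟨x, rfl⟩ := hr
    rw [map_apply_section s π h]
    have : δ x ≠ j := by
      simpa [hπs] using hy
    rw [hα x this, zero_mul]
  · exact map_apply_not_range s δ (δ ∘ π) α y (fun x hx => hr ⟨x, hx⟩)

/-- If the projection `X_F ⟶ X` has a section (for some finite intermediate field `F ≠ k`),
the norm subgroup is the whole Chow group. -/
theorem normSubgroup_eq_top_of_section (k : Type u) [Field k] (K : Type u) [Field K] [Algebra k K]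
    (F : IntermediateField k K) [FiniteDimensional k F] (hF : F ≠ ⊥)
    (X : Scheme.{u}) [X.Over (Spec (CommRingCat.of k))]
    (s : X ⟶ Curv2.bc k X F) (hs : s ≫ Curv2.bcFst k X F = 𝟙 X)
    (δ : X → ℤ) (j : ℤ) : QsChow.normSubgroup k K X δ j = ⊤ := by
  haveI : QuasiCompact (s ≫ Curv2.bcFst k X F) := by rw [hs]; infer_instance
  haveI : QuasiCompact s := QuasiCompact.of_comp s (Curv2.bcFst k X F)
  rw [eq_top_iff]
  intro c _
  obtain ⟨⟨α, hα⟩, rfl⟩ := QuotientAddGroup.mk'_surjective (ChowOps.ratTriv X δ j) c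
  apply AddSubgroup.subset_closure
  have hmap := map_section s (Curv2.bcFst k X F) hs δ α
  refine ⟨F, inferInstance, hF, AlgebraicCycle.map s δ (δ ∘ (Curv2.bcFst k X F)) α,
    map_mem_Zk_of_section s (Curv2.bcFst k X F) hs δ j α hα, ?_, ?_⟩
  · rw [hmap]; exact hα
  · unfold ChowOps.cl ChowOps.clHom
    congr 1
    exact Subtype.ext hmap.symm

end Groth.Agent.Helper23.QsNorm
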