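import Mathlib
import Groth.Prelude.Def_W4c4chowquasisplitNorm
import Groth.Agent.Lib.Helper23.QsNorm1
import Groth.Agent.Lib.Helper23.QsPt1

/-!
# `CH_0` of the spectrum of a field and the norm subgroup of the point
-/

set_option autoImplicit false

universe u

open CategoryTheory AlgebraicGeometry

namespace Groth.Agent.Helper23.QsPt

variable (k : Type u) [Field k]

instance uniquePt : Unique (Spec (CommRingCat.of k)) :=
  inferInstanceAs (Unique (PrimeSpectrum k))

/-- the unique point -/
noncomputable def pt : Spec (CommRingCat.of k) := default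

theorem eq_pt (x : Spec (CommRingCat.of k)) : x = pt k := Subsingleton.elim _ _

/-- the cycle `n · [pt]` -/
noncomputable def constCycle (n : ℤ) : AlgebraicCycle (Spec (CommRingCat.of k)) ℤ where
  toFun := fun _ => n
  supportWithinDomain' := Set.subset_univ _
  supportLocallyFiniteWithinDomain' := fun _ _ => ⟨Set.univ, Filter.univ_mem, Set.toFinite _⟩

theorem constCycle_apply (n : ℤ) (x : Spec (CommRingCat.of k)) : constCycle k n x = n := rfl

theorem mem_Zk (α : AlgebraicCycle (Spec (CommRingCat.of k)) ℤ) :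
    α ∈ Cyc.Zk (Spec (CommRingCat.of k)) (fun _ => 0) 0 := fun _ hx => absurd rfl hx

theorem ratTriv_eq_bot :
    ChowOps.ratTriv (Spec (CommRingCat.of k)) (fun _ => (0 : ℤ)) 0 = ⊥ := by
  unfold ChowOps.ratTriv
  rw [AddSubgroup.closure_eq_bot_iff]
  rintro a ⟨ι, ξ, f, hdim, -, -, hsum⟩
  rw [Set.mem_singleton_iff]
  have hemp : IsEmpty ι := ⟨fun i => by
    have h1 : (0 : ℤ) = 0 + 1 := hdim i
    omega⟩
  apply Subtype.ext
  ext x
  rw [hsum x, finsum_of_isEmpty]
  rfl

/-- evaluation at the point, on the group of `0`-cycles -/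
noncomputable def evZ : ↥(ChowOps.zk (Spec (CommRingCat.of k)) (fun _ => (0 : ℤ)) 0) →+ ℤ where
  toFun a := a.1 (pt k)
  map_zero' := rfl
  map_add' _ _ := rfl

/-- evaluation at the point, on the Chow group -/
noncomputable def evHom : ChowOps.CH (Spec (CommRingCat.of k)) (fun _ => (0 : ℤ)) 0 →+ ℤ :=
  QuotientAddGroup.lift _ (evZ k) (by
    intro a ha
    rw [ratTriv_eq_bot, AddSubgroup.mem_bot] at ha
    rw [ha]
    exact zero_mem _)

theorem evHom_cl (α : AlgebraicCycle (Spec (CommRingCat.of k)) ℤ)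
    (h : α ∈ Cyc.Zk (Spec (CommRingCat.of k)) (fun _ => 0) 0) :
    evHom k (ChowOps.cl α h) = α (pt k) := rfl

theorem evHom_bijective : Function.Bijective (evHom k) := by
  constructor
  · rw [injective_iff_map_eq_zero]
    intro c hc
    obtain ⟨⟨α, hα⟩, rfl⟩ := QuotientAddGroup.mk'_surjective _ c
    have h0 : α (pt k) = 0 := hc
    have : α = 0 := by
      ext x
      rw [eq_pt k x, h0]; rfl
    subst this
    rfl
  · intro n
    exact ⟨ChowOps.cl (constCycle k n) (mem_Zk k _), rfl⟩

variable {k}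

theorem map_apply_pt (F : Type u) [Field F] [Algebra k F]
    (β : AlgebraicCycle (Spec (CommRingCat.of F)) ℤ) :
    AlgebraicCycle.map (Spec.map (CommRingCat.ofHom (algebraMap k F)))
      (fun _ => (0 : ℤ)) (fun _ => (0 : ℤ)) β (pt k) = β (pt F) * (Module.finrank k F : ℤ) := by
  rw [Groth.Agent.Helper23.QsNorm.map_apply']
  have hset : ((Spec.map (CommRingCat.ofHom (algebraMap k F))) :
      Spec (CommRingCat.of F) → Spec (CommRingCat.of k)) ⁻¹' {pt k} = {pt F} := by
    ext x
    simp only [Set.mem_preimage, Set.mem_singleton_iff]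
    exact ⟨fun _ => eq_pt F x, fun _ => eq_pt k _⟩
  rw [hset, finsum_mem_singleton]
  unfold AlgebraicCycle.mapCoeff
  rw [if_pos rfl, residueDegree_spec_field]

end Groth.Agent.Helper23.QsPt
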