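import Mathlib
import Groth.Prelude.Def_W4c4chowquasisplitNorm
import Groth.Agent.Lib.Helper23.QsPt2

set_option autoImplicit false

universe u

open CategoryTheory AlgebraicGeometry

namespace Groth.Agent.Helper23.QsPt

variable (k : Type u) [Field k] (K : Type u) [Field K] [Algebra k K]

/-- the set of degrees of the nontrivial finite subextensions of `K/k` -/
def degSet : Set ℤ :=
  {n | ∃ F : IntermediateField k K, FiniteDimensional k F ∧ F ≠ ⊥ ∧ n = (Module.finrank k F : ℤ)}

theorem map_ptNormSubgroup :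
    (QsChow.ptNormSubgroup k K).map (evHom k) = AddSubgroup.closure (degSet k K) := by
  apply le_antisymm
  · rw [AddSubgroup.map_le_iff_le_comap]
    unfold QsChow.ptNormSubgroup
    rw [AddSubgroup.closure_le]
    rintro c ⟨F, hfd, hF, α, h, rfl⟩
    show evHom k _ ∈ AddSubgroup.closure (degSet k K)
    rw [evHom_cl, map_apply_pt]
    have : α (pt F) * (Module.finrank k F : ℤ) = α (pt F) • (Module.finrank k F : ℤ) := by
      rw [smul_eq_mul]
    rw [this]
    have hgen : (Module.finrank k F : ℤ) ∈ degSet k K := ⟨F, hfd, hF, rfl⟩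
    exact AddSubgroup.zsmul_mem _ (AddSubgroup.subset_closure hgen) _
  · rw [AddSubgroup.closure_le]
    rintro n ⟨F, hfd, hF, rfl⟩
    have hmem : ChowOps.cl (AlgebraicCycle.map (Spec.map (CommRingCat.ofHom (algebraMap k F)))
        (fun _ => (0 : ℤ)) (fun _ => (0 : ℤ)) (constCycle F 1)) (mem_Zk k _) ∈
        QsChow.ptNormSubgroup k K :=
      AddSubgroup.subset_closure ⟨F, hfd, hF, constCycle F 1, mem_Zk k _, rfl⟩
    refine ⟨_, hmem, ?_⟩
    rw [evHom_cl, map_apply_pt, constCycle_apply, one_mul]

theorem ptNormSubgroup_eq_top (h : AddSubgroup.closure (degSet k K) = ⊤) :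
    QsChow.ptNormSubgroup k K = ⊤ := by
  rw [eq_top_iff]
  intro c _
  have hc : evHom k c ∈ (QsChow.ptNormSubgroup k K).map (evHom k) := by
    rw [map_ptNormSubgroup, h]; trivial
  obtain ⟨c', hc', hcc⟩ := hc
  rw [← (evHom_bijective k).1 hcc]
  exact hc'

theorem index_ptNormSubgroup :
    (QsChow.ptNormSubgroup k K).index = (AddSubgroup.closure (degSet k K)).index := by
  rw [← map_ptNormSubgroup, AddSubgroup.index_map_of_bijective (evHom_bijective k)]

end Groth.Agent.Helper23.QsPt
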