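import Mathlib
import Groth.Prelude.Def_W4c4chowquasisplitNorm
import Groth.Agent.Lib.Helper23.QsPt3

set_option autoImplicit false

universe u

open CategoryTheory AlgebraicGeometry

namespace Groth.Agent.Helper23.QsPt

/-- a subgroup of `ℤ` is generated by one element -/
theorem exists_zmultiples_eq (S : AddSubgroup ℤ) : ∃ g : ℤ, S = AddSubgroup.zmultiples g := by
  haveI : IsAddCyclic S := inferInstance
  obtain ⟨g, hg⟩ := IsAddCyclic.exists_generator (α := S)
  refine ⟨g.1, le_antisymm ?_ ?_⟩
  · intro x hx
    obtain ⟨n, hn⟩ := AddSubgroup.mem_zmultiples_iff.1 (hg ⟨x, hx⟩)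
    exact AddSubgroup.mem_zmultiples_iff.2 ⟨n, by
      have := congrArg Subtype.val hn
      simpa using this⟩
  · rw [AddSubgroup.zmultiples_le]
    exact g.2

/-- a subgroup of `ℤ` containing, for every prime `q`, a natural number prime to `q`, is everything -/
theorem eq_top_of_forall_prime (S : AddSubgroup ℤ)
    (h : ∀ q : ℕ, q.Prime → ∃ n : ℕ, (n : ℤ) ∈ S ∧ ¬ q ∣ n) : S = ⊤ := by
  obtain ⟨g, rfl⟩ := exists_zmultiples_eq S
  have hg : g.natAbs = 1 := by
    by_contra hne
    obtain ⟨q, hq, hqg⟩ := Nat.exists_prime_and_dvd hne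
    obtain ⟨n, hn, hqn⟩ := h q hq
    apply hqn
    rw [Int.mem_zmultiples_iff] at hn
    have h1 : (g.natAbs : ℤ) ∣ (n : ℤ) := by
      rw [Int.natAbs_dvd]
      exact hn
    exact dvd_trans hqg (Int.natCast_dvd_natCast.1 h1)
  rw [eq_top_iff]
  intro x _
  rw [Int.mem_zmultiples_iff]
  have : IsUnit g := Int.isUnit_iff_natAbs_eq.2 hg
  exact this.dvd

variable (k : Type u) [Field k] (K : Type u) [Field K] [Algebra k K]

/-- Galois correspondence inside `K`: a subgroup of `Gal(L/k)` gives a finite subextension of `K/k`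
of degree its index. -/
theorem exists_intermediate_of_subgroup (L : IntermediateField k K) [FiniteDimensional k L]
    [IsGalois k L] (H : Subgroup (L ≃ₐ[k] L)) :
    ∃ F : IntermediateField k K, FiniteDimensional k F ∧
      Module.finrank k F * Nat.card H = Module.finrank k L := by
  let E : IntermediateField k L := IntermediateField.fixedField H
  refine ⟨IntermediateField.lift E, ?_, ?_⟩
  · exact Module.Finite.equiv (IntermediateField.liftAlgEquiv E).toLinearEquiv
  · rw [← (IntermediateField.liftAlgEquiv E).toLinearEquiv.finrank_eq,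
      ← IntermediateField.finrank_fixedField_eq_card H]
    exact Module.finrank_mul_finrank k E L

theorem ne_bot_of_finrank_ne_one (F : IntermediateField k K) (h : Module.finrank k F ≠ 1) :
    F ≠ ⊥ := by
  intro hF
  apply h
  rw [hF]
  exact IntermediateField.finrank_bot

end Groth.Agent.Helper23.QsPt
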