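import Mathlib
import Groth.Prelude.Def_W4c4chowquasisplitNorm
import Groth.Agent.Lib.Helper23.QsPt4

set_option autoImplicit false

universe u

open CategoryTheory AlgebraicGeometry

namespace Groth.Agent.Helper23.QsPt

variable (k : Type u) [Field k] (K : Type u) [Field K] [Algebra k K]

theorem closure_degSet_eq_top (L : IntermediateField k K) [FiniteDimensional k L] [IsGalois k L]
    (hL : ∀ p n : ℕ, p.Prime → Module.finrank k L ≠ p ^ n) :
    AddSubgroup.closure (degSet k K) = ⊤ := by
  apply eq_top_of_forall_prime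
  intro q hq
  haveI : Fact q.Prime := ⟨hq⟩
  have hN : Module.finrank k L ≠ 0 := (Module.finrank_pos).ne'
  have hcard : Nat.card (L ≃ₐ[k] L) = Module.finrank k L := IsGalois.card_aut_eq_finrank k L
  let P : Sylow q (L ≃ₐ[k] L) := default
  have hP : Nat.card P = q ^ (Module.finrank k L).factorization q := by
    rw [← hcard]
    exact P.card_eq_multiplicity
  obtain ⟨F, hfd, hF⟩ := exists_intermediate_of_subgroup k K L (P : Subgroup (L ≃ₐ[k] L))
  have hP' : Nat.card (P : Subgroup (L ≃ₐ[k] L)) = q ^ (Module.finrank k L).factorization q := hP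
  rw [hP'] at hF
  have hdiv : Module.finrank k F =
      Module.finrank k L / q ^ (Module.finrank k L).factorization q :=
    (Nat.div_eq_of_eq_mul_left (pow_pos hq.pos _) hF.symm).symm
  refine ⟨Module.finrank k F, AddSubgroup.subset_closure ⟨F, hfd, ?_, rfl⟩, ?_⟩
  · apply ne_bot_of_finrank_ne_one
    intro h1
    rw [h1, one_mul] at hF
    exact hL q _ hq hF.symm
  · rw [hdiv]
    exact Nat.not_dvd_ordCompl hq hN

theorem closure_degSet_eq_zmultiples (L : IntermediateField k K) [FiniteDimensional k L]
    [IsGalois k L] (p n : ℕ) (hp : p.Prime) (hn : 1 ≤ n) (hL : Module.finrank k L = p ^ n)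
    (hF : ∀ F : IntermediateField k K, FiniteDimensional k F →
      ∃ e : ℕ, Module.finrank k F = p ^ e) :
    AddSubgroup.closure (degSet k K) = AddSubgroup.zmultiples (p : ℤ) := by
  haveI : Fact p.Prime := ⟨hp⟩
  apply le_antisymm
  · rw [AddSubgroup.closure_le]
    rintro m ⟨F, hfd, hne, rfl⟩
    obtain ⟨e, he⟩ := hF F hfd
    have he0 : e ≠ 0 := by
      rintro rfl
      rw [pow_zero] at he
      exact hne (IntermediateField.finrank_eq_one_iff.1 he)
    show (Module.finrank k F : ℤ) ∈ AddSubgroup.zmultiples (p : ℤ)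
    rw [Int.mem_zmultiples_iff, he]
    exact_mod_cast dvd_pow_self p he0
  · rw [AddSubgroup.zmultiples_le]
    have hcard : Nat.card (L ≃ₐ[k] L) = p ^ n := by
      rw [IsGalois.card_aut_eq_finrank k L, hL]
    obtain ⟨H, hH⟩ := Sylow.exists_subgroup_card_pow_prime (G := L ≃ₐ[k] L) p (n := n - 1) (by
      rw [hcard]
      exact pow_dvd_pow p (Nat.sub_le n 1))
    obtain ⟨F, hfd, hFH⟩ := exists_intermediate_of_subgroup k K L H
    rw [hH, hL] at hFH
    have hFp : Module.finrank k F = p := by
      have h2 : p ^ n = p * p ^ (n - 1) := by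
        rw [← pow_succ']
        congr 1
        omega
      rw [h2] at hFH
      exact Nat.eq_of_mul_eq_mul_right (pow_pos hp.pos _) hFH
    apply AddSubgroup.subset_closure
    refine ⟨F, hfd, ?_, by rw [hFp]⟩
    apply ne_bot_of_finrank_ne_one
    rw [hFp]
    exact hp.one_lt.ne'

end Groth.Agent.Helper23.QsPt
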