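import Mathlib
import Groth.Prelude.Def_SGA1

set_option autoImplicit false
universe u
open CategoryTheory AlgebraicGeometry TopologicalSpace Opposite

namespace Groth.Agent.Helper23.QuotSub

variable {G : Type u} [Group G] {X XG : Scheme.{u}} (ρ : G →* Aut X)

theorem hom_mul (a b : G) : (ρ (a * b)).hom = (ρ b).hom ≫ (ρ a).hom := by
  rw [map_mul]
  rfl

theorem hom_one : (ρ 1).hom = 𝟙 X := by
  rw [map_one]
  rfl

theorem apply_mul (a b : G) (x : X) : (ρ (a * b)).hom x = (ρ a).hom ((ρ b).hom x) := by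
  rw [hom_mul]
  rfl

theorem apply_one (x : X) : (ρ 1).hom x = x := by
  rw [hom_one]
  rfl

section Elem

variable {X Y Z : Scheme.{u}}

/-- restriction maps of the structure sheaf -/
noncomputable abbrev res {X : Scheme.{u}} {A B : X.Opens} (h : A ≤ B) : Γ(X, B) →+* Γ(X, A) :=
  (X.presheaf.map (homOfLE h).op).hom

theorem res_res {X : Scheme.{u}} {A B C : X.Opens} (h₁ : A ≤ B) (h₂ : B ≤ C) (s : Γ(X, C)) :
    res h₁ (res h₂ s) = res (h₁.trans h₂) s := by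
  unfold res
  rw [← RingHom.comp_apply, ← CommRingCat.hom_comp, ← Functor.map_comp]
  rfl

theorem res_self {X : Scheme.{u}} {A : X.Opens} (h : A ≤ A) (s : Γ(X, A)) : res h s = s := by
  unfold res
  have : (homOfLE h).op = 𝟙 (op A) := rfl
  rw [this, X.presheaf.map_id]
  rfl

theorem appLE_res (f : X ⟶ Y) {U : Y.Opens} {V V' : X.Opens} (e : V ≤ f ⁻¹ᵁ U) (h : V' ≤ V)
    (s : Γ(Y, U)) : res h ((f.appLE U V e).hom s) = (f.appLE U V' (h.trans e)).hom s := by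
  have := f.appLE_map e (homOfLE h).op
  exact congr($(this).hom s)

theorem res_appLE (f : X ⟶ Y) {U U' : Y.Opens} {V : X.Opens} (e : V ≤ f ⁻¹ᵁ U) (h : U ≤ U')
    (s : Γ(Y, U')) :
    (f.appLE U V e).hom (res h s) = (f.appLE U' V (e.trans (fun _ hx => h hx))).hom s := by
  have := f.map_appLE e (homOfLE h).op
  exact congr($(this).hom s)

theorem appLE_appLE (f : X ⟶ Y) (g : Y ⟶ Z) {U : Z.Opens} {V : Y.Opens} {W : X.Opens}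
    (e₁ : V ≤ g ⁻¹ᵁ U) (e₂ : W ≤ f ⁻¹ᵁ V) (s : Γ(Z, U)) :
    (f.appLE V W e₂).hom ((g.appLE U V e₁).hom s) =
      ((f ≫ g).appLE U W (e₂.trans (fun _ hx => e₁ hx))).hom s := by
  have := Scheme.Hom.appLE_comp_appLE f g U V W e₁ e₂
  exact congr($(this).hom s)

theorem appLE_congr_hom {f f' : X ⟶ Y} (h : f = f') {U : Y.Opens} {V : X.Opens}
    (e : V ≤ f ⁻¹ᵁ U) (e' : V ≤ f' ⁻¹ᵁ U) (s : Γ(Y, U)) :
    (f.appLE U V e).hom s = (f'.appLE U V e').hom s := by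
  subst h
  rfl

theorem id_appLE_apply {U : X.Opens} (e : U ≤ (𝟙 X) ⁻¹ᵁ U) (s : Γ(X, U)) :
    ((𝟙 X : X ⟶ X).appLE U U e).hom s = s := by
  have h1 : (𝟙 X : X ⟶ X).appLE U U e = X.presheaf.map (homOfLE (le_refl U)).op := by
    simp only [Scheme.Hom.appLE, Scheme.Hom.id_app, Category.id_comp]
    rfl
  rw [h1]
  exact res_self _ s

theorem subsingleton_of_eq_bot (O : X.Opens) (h : O = ⊥) : Subsingleton Γ(X, O) := by
  subst h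
  infer_instance

end Elem

section

variable (p : X ⟶ XG) (hP : SGA1.IsQuot ρ p) (H : Subgroup G) (Y : X.Opens)
  (hcov : ∀ x : X, ∃ g : G, x ∈ (ρ g).hom.base '' (Y : Set X))
  (hdisj : ∀ g : G, g ∉ H → Disjoint ((ρ g).hom.base '' (Y : Set X)) (Y : Set X))
  (ρY : H →* Aut (Y : Scheme.{u})) (hρY : ∀ h : H, (ρY h).hom ≫ Y.ι = Y.ι ≫ (ρ (h : G)).hom)

include hρY in
theorem mem_of_mem (h : H) (y : X) (hy : y ∈ Y) : (ρ (h : G)).hom y ∈ Y := by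
  have h1 := congrArg (fun f => f.base (⟨y, hy⟩ : Y)) (hρY h)
  have h2 : (ρ (h : G)).hom y = ((ρY h).hom (⟨y, hy⟩ : Y)).1 := h1.symm
  rw [h2]
  exact ((ρY h).hom (⟨y, hy⟩ : Y)).2

include hcov in
theorem exists_mem (x : X) : ∃ g : G, (ρ g).hom x ∈ Y := by
  obtain ⟨g, y, hy, rfl⟩ := hcov x
  refine ⟨g⁻¹, ?_⟩
  have : (ρ g⁻¹).hom ((ρ g).hom y) = y := by
    rw [← apply_mul, inv_mul_cancel, apply_one]
  rw [this]
  exact hy

include hdisj in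
theorem mem_subgroup (g : G) (x : X) (hx : x ∈ Y) (hgx : (ρ g).hom x ∈ Y) : g ∈ H := by
  by_contra hg
  exact Set.disjoint_left.mp (hdisj g hg) ⟨x, hx, rfl⟩ hgx

include hP in
theorem p_apply (g : G) (x : X) : p ((ρ g).hom x) = p x := by
  have := congrArg (fun f => f.base x) (hP.inv g)
  exact this

include hcov hdisj hρY in
theorem isClosed_Y : IsClosed (Y : Set X) := by
  rw [← isOpen_compl_iff]
  have : (Y : Set X)ᶜ = ⋃ g : {g : G // g ∉ H}, ((ρ g.1).hom ⁻¹ᵁ Y : Set X) := by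
    ext x
    simp only [Set.mem_compl_iff, Set.mem_iUnion]
    constructor
    · intro hx
      obtain ⟨g, hg⟩ := exists_mem ρ Y hcov x
      refine ⟨⟨g, fun hgH => hx ?_⟩, hg⟩
      have h1 := mem_of_mem ρ H Y ρY hρY ⟨g, hgH⟩⁻¹ _ hg
      have h2 : (ρ ((⟨g, hgH⟩ : H)⁻¹ : H)).hom ((ρ g).hom x) = x := by
        show (ρ (g⁻¹)).hom ((ρ g).hom x) = x
        rw [← apply_mul, inv_mul_cancel, apply_one]
      rwa [h2] at h1
    · rintro ⟨⟨g, hg⟩, hgx⟩ hx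
      exact hg (mem_subgroup ρ H Y hdisj g x hx hgx)
  rw [this]
  exact isOpen_iUnion fun g => ((ρ g.1).hom ⁻¹ᵁ Y).2

include hP hcov hdisj hρY in
theorem isAffineHom_comp : IsAffineHom (Y.ι ≫ p) := by
  haveI := hP.affine
  haveI : IsClosedImmersion Y.ι := by
    apply IsClosedImmersion.of_isPreimmersion
    rw [Scheme.Opens.range_ι]
    exact isClosed_Y ρ H Y hcov hdisj ρY hρY
  infer_instance

include hP hρY in
theorem inv_comp (h : H) : (ρY h).hom ≫ Y.ι ≫ p = Y.ι ≫ p := by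
  rw [← Category.assoc, hρY, Category.assoc, hP.inv]

/-- the open `Y ∩ p⁻¹U` of `X`, as the image of the open `(Y.ι ≫ p)⁻¹ U` of `Y` -/
noncomputable abbrev O₀ (U : XG.Opens) : X.Opens := Y.ι ''ᵁ ((Y.ι ≫ p) ⁻¹ᵁ U)

theorem O₀_le_W (U : XG.Opens) : O₀ p Y U ≤ p ⁻¹ᵁ U := by
  rintro _ ⟨v, hv, rfl⟩
  exact hv

theorem O₀_le_Y (U : XG.Opens) : O₀ p Y U ≤ Y := by
  rintro _ ⟨v, hv, rfl⟩
  exact v.2

theorem mem_O₀ (U : XG.Opens) (x : X) (hxY : x ∈ Y) (hxW : x ∈ p ⁻¹ᵁ U) : x ∈ O₀ p Y U :=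
  ⟨⟨x, hxY⟩, hxW, rfl⟩

theorem comp_app_apply (U : XG.Opens) (a : Γ(XG, U)) :
    ((Y.ι ≫ p).app U).hom a = res (O₀_le_W p Y U) ((p.app U).hom a) := by
  rw [Scheme.Hom.comp_app]
  rfl

include hP in
theorem V_le_W (U : XG.Opens) (g : G) : (ρ g).hom ⁻¹ᵁ O₀ p Y U ≤ p ⁻¹ᵁ U := by
  intro x hx
  have h1 : p ((ρ g).hom x) ∈ U := O₀_le_W p Y U hx
  rw [p_apply ρ p hP] at h1
  exact h1

include hP hcov in
theorem W_le_iSup (U : XG.Opens) : p ⁻¹ᵁ U ≤ ⨆ g : G, (ρ g).hom ⁻¹ᵁ O₀ p Y U := by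
  intro x hx
  obtain ⟨g, hg⟩ := exists_mem ρ Y hcov x
  refine Opens.mem_iSup.mpr ⟨g, mem_O₀ p Y U _ hg ?_⟩
  show p ((ρ g).hom x) ∈ U
  rw [p_apply ρ p hP]
  exact hx

include hP hρY in
theorem O₀_le_preimage (U : XG.Opens) (h : H) :
    O₀ p Y U ≤ (ρ (h : G)).hom ⁻¹ᵁ O₀ p Y U := by
  intro x hx
  refine mem_O₀ p Y U _ (mem_of_mem ρ H Y ρY hρY h x (O₀_le_Y p Y U hx)) ?_
  show p ((ρ (h : G)).hom x) ∈ U
  rw [p_apply ρ p hP]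
  exact O₀_le_W p Y U hx

include hP hcov in
theorem injective_app (U : XG.Opens) : Function.Injective ((Y.ι ≫ p).app U).hom := by
  rw [injective_iff_map_eq_zero]
  intro a ha
  rw [comp_app_apply] at ha
  apply hP.injective U
  rw [map_zero]
  set t := (p.app U).hom a with ht
  have hinv : ∀ g : G, ((ρ g).hom.appLE (p ⁻¹ᵁ U) (p ⁻¹ᵁ U)
      (SGA1.preimage_le_of_inv ρ p hP.inv g U)).hom t = t :=
    (hP.range_iff U t).mp ⟨a, rfl⟩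
  refine TopCat.Sheaf.eq_of_locally_eq' X.sheaf (fun g : G => (ρ g).hom ⁻¹ᵁ O₀ p Y U) (p ⁻¹ᵁ U)
    (fun g => homOfLE (V_le_W ρ p hP Y U g)) (W_le_iSup ρ p hP Y hcov U) t 0 ?_
  intro g
  have h1 : res (V_le_W ρ p hP Y U g) t = res (V_le_W ρ p hP Y U g)
      (((ρ g).hom.appLE (p ⁻¹ᵁ U) (p ⁻¹ᵁ U) (SGA1.preimage_le_of_inv ρ p hP.inv g U)).hom t) := by
    rw [hinv g]
  have h2 : res (V_le_W ρ p hP Y U g) t = 0 := by
    rw [h1, appLE_res, ← res_appLE (ρ g).hom (le_refl _) (O₀_le_W p Y U), ha]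
    exact map_zero _
  exact h2.trans (map_zero _).symm

include hP hρY in
theorem range_forward (U : XG.Opens) (a : Γ(XG, U)) (h : H)
    (e : (Y.ι ≫ p) ⁻¹ᵁ U ≤ (ρY h).hom ⁻¹ᵁ ((Y.ι ≫ p) ⁻¹ᵁ U)) :
    ((ρY h).hom.appLE ((Y.ι ≫ p) ⁻¹ᵁ U) ((Y.ι ≫ p) ⁻¹ᵁ U) e).hom (((Y.ι ≫ p).app U).hom a) =
      ((Y.ι ≫ p).app U).hom a := by
  have h1 : ((Y.ι ≫ p).app U) = (Y.ι ≫ p).appLE U ((Y.ι ≫ p) ⁻¹ᵁ U) le_rfl :=
    (Y.ι ≫ p).app_eq_appLE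
  rw [h1, appLE_appLE]
  exact appLE_congr_hom (inv_comp ρ p hP H Y ρY hρY h) _ _ a

theorem V₀_le (U : XG.Opens) : (Y.ι ≫ p) ⁻¹ᵁ U ≤ Y.ι ⁻¹ᵁ O₀ p Y U :=
  fun v hv => ⟨v, hv, rfl⟩

theorem ι_appLE_apply (U : XG.Opens) (s : Γ(X, O₀ p Y U)) :
    (Y.ι.appLE (O₀ p Y U) ((Y.ι ≫ p) ⁻¹ᵁ U) (V₀_le p Y U)).hom s = s := by
  rw [Scheme.Opens.ι_appLE]
  exact res_self _ s

include hP hρY in
theorem inv_transfer (U : XG.Opens) (s : Γ(X, O₀ p Y U)) (h : H)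
    (e : (Y.ι ≫ p) ⁻¹ᵁ U ≤ (ρY h).hom ⁻¹ᵁ ((Y.ι ≫ p) ⁻¹ᵁ U)) :
    ((ρY h).hom.appLE ((Y.ι ≫ p) ⁻¹ᵁ U) ((Y.ι ≫ p) ⁻¹ᵁ U) e).hom s =
      ((ρ (h : G)).hom.appLE (O₀ p Y U) (O₀ p Y U) (O₀_le_preimage ρ p hP H Y ρY hρY U h)).hom s := by
  have h1 : ((ρY h).hom.appLE ((Y.ι ≫ p) ⁻¹ᵁ U) ((Y.ι ≫ p) ⁻¹ᵁ U) e).hom s =
      ((ρY h).hom.appLE ((Y.ι ≫ p) ⁻¹ᵁ U) ((Y.ι ≫ p) ⁻¹ᵁ U) e).hom
        ((Y.ι.appLE (O₀ p Y U) ((Y.ι ≫ p) ⁻¹ᵁ U) (V₀_le p Y U)).hom s) := by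
    rw [ι_appLE_apply]
  rw [h1, appLE_appLE]
  have h2 := appLE_appLE Y.ι (ρ (h : G)).hom (O₀_le_preimage ρ p hP H Y ρY hρY U h)
    (V₀_le p Y U) s
  rw [ι_appLE_apply] at h2
  rw [h2]
  exact appLE_congr_hom (hρY h) _ _ s

include hP hcov hdisj hρY in
theorem range_backward (U : XG.Opens) (s : Γ(X, O₀ p Y U))
    (hs : ∀ h : H, ((ρ (h : G)).hom.appLE (O₀ p Y U) (O₀ p Y U)
      (O₀_le_preimage ρ p hP H Y ρY hρY U h)).hom s = s) :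
    ∃ a : Γ(XG, U), res (O₀_le_W p Y U) ((p.app U).hom a) = s := by
  let V : G → X.Opens := fun g => (ρ g).hom ⁻¹ᵁ O₀ p Y U
  let sf : ∀ g : G, Γ(X, V g) := fun g => ((ρ g).hom.appLE (O₀ p Y U) (V g) le_rfl).hom s
  have hVW : ∀ g, V g ≤ p ⁻¹ᵁ U := fun g => V_le_W ρ p hP Y U g
  have hcompat : TopCat.Presheaf.IsCompatible X.presheaf V sf := by
    intro g g'
    change res (inf_le_left : V g ⊓ V g' ≤ V g) (sf g) =
      res (inf_le_right : V g ⊓ V g' ≤ V g') (sf g')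
    by_cases hh : g' * g⁻¹ ∈ H
    · have h3 : (ρ g').hom = (ρ g).hom ≫ (ρ ((⟨g' * g⁻¹, hh⟩ : H) : G)).hom := by
        rw [← hom_mul]
        congr 2
        simp
      have e1 : V g ⊓ V g' ≤ (ρ g).hom ⁻¹ᵁ O₀ p Y U := inf_le_left
      have h4 := appLE_appLE (ρ g).hom (ρ ((⟨g' * g⁻¹, hh⟩ : H) : G)).hom
        (O₀_le_preimage ρ p hP H Y ρY hρY U ⟨g' * g⁻¹, hh⟩) e1 s
      rw [hs] at h4
      show res _ (((ρ g).hom.appLE (O₀ p Y U) (V g) le_rfl).hom s) =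
        res _ (((ρ g').hom.appLE (O₀ p Y U) (V g') le_rfl).hom s)
      rw [appLE_res, appLE_res, h4]
      exact (appLE_congr_hom h3 _ _ s).symm
    · haveI := subsingleton_of_eq_bot (V g ⊓ V g') (by
        rw [eq_bot_iff]
        rintro x ⟨hx, hx'⟩
        exfalso
        apply hh
        have hx1 : (ρ g).hom x ∈ Y := O₀_le_Y p Y U hx
        have hx2 : (ρ g').hom x ∈ Y := O₀_le_Y p Y U hx'
        refine mem_subgroup ρ H Y hdisj (g' * g⁻¹) _ hx1 ?_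
        rw [← apply_mul, inv_mul_cancel_right]
        exact hx2)
      exact Subsingleton.elim _ _
  obtain ⟨st₀, hst₀, -⟩ := X.sheaf.existsUnique_gluing' V (p ⁻¹ᵁ U) (fun g => homOfLE (hVW g))
    (W_le_iSup ρ p hP Y hcov U) sf hcompat
  let st : Γ(X, p ⁻¹ᵁ U) := st₀
  have hst : ∀ g, res (hVW g) st = sf g := hst₀
  have hinv : ∀ g₀ : G, ((ρ g₀).hom.appLE (p ⁻¹ᵁ U) (p ⁻¹ᵁ U)
      (SGA1.preimage_le_of_inv ρ p hP.inv g₀ U)).hom st = st := by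
    intro g₀
    refine TopCat.Sheaf.eq_of_locally_eq' X.sheaf V (p ⁻¹ᵁ U) (fun g => homOfLE (hVW g))
      (W_le_iSup ρ p hP Y hcov U) _ st ?_
    intro g
    change res (hVW g) _ = res (hVW g) st
    have e5 : V g ≤ (ρ g₀).hom ⁻¹ᵁ V (g * g₀⁻¹) := by
      intro x hx
      show (ρ (g * g₀⁻¹)).hom ((ρ g₀).hom x) ∈ O₀ p Y U
      rw [← apply_mul, inv_mul_cancel_right]
      exact hx
    rw [hst g, appLE_res, ← res_appLE (ρ g₀).hom e5 (hVW (g * g₀⁻¹)), hst (g * g₀⁻¹)]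
    show ((ρ g₀).hom.appLE (V (g * g₀⁻¹)) (V g) e5).hom
      (((ρ (g * g₀⁻¹)).hom.appLE (O₀ p Y U) (V (g * g₀⁻¹)) le_rfl).hom s) = _
    rw [appLE_appLE]
    refine appLE_congr_hom ?_ _ _ s
    rw [← hom_mul, inv_mul_cancel_right]
  obtain ⟨a, ha⟩ := (hP.range_iff U st).mpr hinv
  refine ⟨a, ?_⟩
  rw [ha]
  have h1 : O₀ p Y U ≤ V 1 := by
    intro x hx
    show (ρ 1).hom x ∈ O₀ p Y U
    rw [apply_one]
    exact hx
  rw [← res_res h1 (hVW 1), hst 1]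
  show res h1 (((ρ 1).hom.appLE (O₀ p Y U) (V 1) le_rfl).hom s) = s
  rw [appLE_res]
  exact (appLE_congr_hom (hom_one ρ) _
    (show O₀ p Y U ≤ (𝟙 X : X ⟶ X) ⁻¹ᵁ O₀ p Y U from le_rfl) s).trans (id_appLE_apply _ s)

include hP hcov hdisj hρY in
theorem main : SGA1.IsQuot ρY (Y.ι ≫ p) := by
  refine ⟨isAffineHom_comp ρ p hP H Y hcov hdisj ρY hρY, inv_comp ρ p hP H Y ρY hρY,
    injective_app ρ p hP Y hcov, fun U s => ⟨?_, fun hs => ?_⟩⟩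
  · rintro ⟨a, rfl⟩ h
    exact range_forward ρ p hP H Y ρY hρY U a h _
  · obtain ⟨a, ha⟩ := range_backward ρ p hP H Y hcov hdisj ρY hρY U s (fun h => by
      rw [← inv_transfer ρ p hP H Y ρY hρY U s h
        (SGA1.preimage_le_of_inv ρY (Y.ι ≫ p) (inv_comp ρ p hP H Y ρY hρY) h U)]
      exact hs h)
    exact ⟨a, (comp_app_apply p Y U a).trans ha⟩

end

end Groth.Agent.Helper23.QuotSub
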