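import Mathlib
import Groth.Prelude.Def_W4c2azumayainvolQEt

/-!
# Rings with involution: helper lemmas (helper23)
-/

namespace Groth.Agent.Helper23.RInvLib

open RInv

variable {S : Type*} {R : Type*} [CommRing S] [CommRing R] [Algebra S R] {lam : R ≃+* R}

lemma lam_algebraMap (hS : IsFixedRing S R lam) (s : S) :
    lam (algebraMap S R s) = algebraMap S R s :=
  (hS.2 _).2 ⟨s, rfl⟩

lemma exists_of_fixed (hS : IsFixedRing S R lam) {x : R} (h : lam x = x) :
    ∃ s, algebraMap S R s = x :=
  (hS.2 x).1 h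

lemma exists_trace (hlam : Function.Involutive lam) (hS : IsFixedRing S R lam) (x : R) :
    ∃ s, algebraMap S R s = x + lam x :=
  exists_of_fixed hS (by rw [map_add, hlam x, add_comm])

lemma exists_norm (hlam : Function.Involutive lam) (hS : IsFixedRing S R lam) (x : R) :
    ∃ s, algebraMap S R s = x * lam x :=
  exists_of_fixed hS (by rw [map_mul, hlam x, mul_comm])

/-- For `s` in the maximal ideal of the local fixed ring, `1 - s z` is a unit for all `z`. -/
lemma isUnit_one_sub (hlam : Function.Involutive lam) (hS : IsFixedRing S R lam) [IsLocalRing S]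
    {s : S} (hs : s ∈ IsLocalRing.maximalIdeal S) (z : R) :
    IsUnit (1 - algebraMap S R s * z) := by
  obtain ⟨st, hst⟩ := exists_trace hlam hS z
  obtain ⟨sn, hsn⟩ := exists_norm hlam hS z
  have hprod : (1 - algebraMap S R s * z) * (1 - algebraMap S R s * lam z) =
      algebraMap S R (1 - s * (st - s * sn)) := by
    simp only [map_sub, map_mul, map_one, hst, hsn]; ring
  have hu : IsUnit (1 - s * (st - s * sn)) := by
    have hmem : s * (st - s * sn) ∈ IsLocalRing.maximalIdeal S := Ideal.mul_mem_right _ _ hs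
    exact IsLocalRing.isUnit_one_sub_self_of_mem_nonunits _
      ((IsLocalRing.mem_maximalIdeal _).1 hmem)
  exact isUnit_of_mul_isUnit_left (by rw [hprod]; exact hu.map (algebraMap S R))

lemma algebraMap_mem_of_isMaximal (hlam : Function.Involutive lam) (hS : IsFixedRing S R lam)
    [IsLocalRing S] {s : S} (hs : s ∈ IsLocalRing.maximalIdeal S) (M : Ideal R)
    [hM : M.IsMaximal] : algebraMap S R s ∈ M := by
  by_contra hnot
  obtain ⟨y, i, hi, hyi⟩ := hM.exists_inv hnot
  have h1 : i = 1 - algebraMap S R s * y := by rw [← hyi]; ring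
  have hu := isUnit_one_sub hlam hS hs y
  rw [← h1] at hu
  exact hM.ne_top (Ideal.eq_top_of_isUnit_mem _ hi hu)

/-- Over a local fixed ring, any two maximal ideals are conjugate under the involution. -/
lemma isMaximal_eq_or_eq_comap (hlam : Function.Involutive lam) (hS : IsFixedRing S R lam)
    [IsLocalRing S] (M M' : Ideal R) [hM : M.IsMaximal] [hM' : M'.IsMaximal] :
    M' = M ∨ M' = M.comap (lam : R →+* R) := by
  by_contra hcon
  push Not at hcon
  obtain ⟨h1, h2⟩ := hcon
  have hMl : (M.comap (lam : R →+* R)).IsMaximal :=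
    Ideal.comap_isMaximal_of_surjective _ lam.surjective
  have hn1 : ¬ M' ≤ M := fun h => h1 (hM'.eq_of_le hM.ne_top h)
  have hn2 : ¬ M' ≤ M.comap (lam : R →+* R) := fun h => h2 (hM'.eq_of_le hMl.ne_top h)
  have hsub : ¬ ((M' : Set R) ⊆ (M : Set R) ∪ (M.comap (lam : R →+* R) : Set R)) := by
    rw [Ideal.subset_union]; push Not; exact ⟨hn1, hn2⟩
  rw [Set.not_subset] at hsub
  obtain ⟨y, hyM', hy⟩ := hsub
  have hy1 : y ∉ M := fun h => hy (Or.inl h)
  have hy2 : lam y ∉ M := fun h => hy (Or.inr h)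
  obtain ⟨s, hs⟩ := exists_norm hlam hS y
  have hsm : s ∈ IsLocalRing.maximalIdeal S := by
    by_contra hns
    have hsu : IsUnit s := by
      by_contra h; exact hns ((IsLocalRing.mem_maximalIdeal _).2 h)
    have : IsUnit (y * lam y) := by rw [← hs]; exact hsu.map _
    exact hM'.ne_top (Ideal.eq_top_of_isUnit_mem _ (Ideal.mul_mem_right _ _ hyM') this)
  have := algebraMap_mem_of_isMaximal hlam hS hsm M
  rw [hs] at this
  rcases hM.isPrime.mem_or_mem this with h | h
  · exact hy1 h
  · exact hy2 h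

/-- decomposition with respect to `{1, r}` when `r - lam r` is a unit -/
lemma decomp (hlam : Function.Involutive lam) (hS : IsFixedRing S R lam) {r : R} (u : Rˣ)
    (hu : (u : R) = r - lam r) (x : R) :
    ∃ sa sb : S, x = algebraMap S R sa + algebraMap S R sb * r := by
  have hlu : lam (u : R) = -(u : R) := by rw [hu, map_sub, hlam r]; ring
  have hlui : lam ((u⁻¹ : Rˣ) : R) = -((u⁻¹ : Rˣ) : R) := by
    have h1 : lam ((u⁻¹ : Rˣ) : R) * lam (u : R) = 1 := by
      rw [← map_mul, Units.inv_mul, map_one]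
    rw [hlu] at h1
    calc lam ((u⁻¹ : Rˣ) : R)
        = lam ((u⁻¹ : Rˣ) : R) * ((u : R) * ((u⁻¹ : Rˣ) : R)) := by rw [Units.mul_inv, mul_one]
      _ = -(lam ((u⁻¹ : Rˣ) : R) * -(u : R)) * ((u⁻¹ : Rˣ) : R) := by ring
      _ = -((u⁻¹ : Rˣ) : R) := by rw [h1]; ring
  have hbfix : lam ((x - lam x) * ((u⁻¹ : Rˣ) : R)) = (x - lam x) * ((u⁻¹ : Rˣ) : R) := by
    rw [map_mul, map_sub, hlam x, hlui]; ring
  obtain ⟨sb, hsb⟩ := exists_of_fixed hS hbfix
  have hbu : (x - lam x) * ((u⁻¹ : Rˣ) : R) * (r - lam r) = x - lam x := by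
    rw [← hu, mul_assoc, Units.inv_mul, mul_one]
  have hafix : lam (x - (x - lam x) * ((u⁻¹ : Rˣ) : R) * r) =
      x - (x - lam x) * ((u⁻¹ : Rˣ) : R) * r := by
    rw [map_sub, map_mul, hbfix]
    linear_combination hbu
  obtain ⟨sa, hsa⟩ := exists_of_fixed hS hafix
  exact ⟨sa, sb, by rw [hsa, hsb]; ring⟩

lemma linInd (hS : IsFixedRing S R lam) {r : R}
    (hu : IsUnit (r - lam r)) : LinearIndependent S ![(1 : R), r] := by
  rw [LinearIndependent.pair_iff]
  intro s t h
  rw [Algebra.smul_def, Algebra.smul_def, mul_one] at h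
  have h2 := congrArg lam h
  rw [map_add, map_mul, lam_algebraMap hS, lam_algebraMap hS, map_zero] at h2
  have h3 : algebraMap S R t * (r - lam r) = 0 * (r - lam r) := by linear_combination h - h2
  have h4 : algebraMap S R t = 0 := hu.mul_left_inj.1 h3
  have ht : t = 0 := hS.1 (by rw [h4, map_zero])
  subst ht
  rw [map_zero, zero_mul, add_zero] at h
  exact ⟨hS.1 (by rw [h, map_zero]), rfl⟩

/-- S15573 -/
theorem isQuadEtale_of_isUnit (hlam : Function.Involutive lam) (hS : IsFixedRing S R lam) {r : R}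
    (hu : IsUnit (r - lam r)) : IsQuadEtale S R := by
  obtain ⟨u, hu'⟩ := hu
  have hdec := decomp hlam hS u hu'
  have hli := linInd hS (r := r) ⟨u, hu'⟩
  have hsp : ⊤ ≤ Submodule.span S (Set.range ![(1 : R), r]) := by
    intro x _
    obtain ⟨sa, sb, rfl⟩ := hdec x
    rw [Matrix.range_cons, Matrix.range_cons, Matrix.range_empty, Set.union_empty,
      Set.singleton_union, Submodule.mem_span_pair]
    exact ⟨sa, sb, by rw [Algebra.smul_def, Algebra.smul_def, mul_one]⟩
  let b : Module.Basis (Fin 2) S R := Module.Basis.mk hli hsp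
  have hfin : Module.Finite S R := Module.Finite.of_basis b
  have hfree : Module.Free S R := Module.Free.of_basis b
  refine ⟨hfin, inferInstance, ?_, ?_⟩
  · constructor
    have hDr : KaehlerDifferential.D S R r = 0 := by
      obtain ⟨st, hst⟩ := exists_trace hlam hS r
      obtain ⟨sn, hsn⟩ := exists_norm hlam hS r
      have hrel : r * r = algebraMap S R st * r - algebraMap S R sn := by rw [hst, hsn]; ring
      have h1 := congrArg (KaehlerDifferential.D S R) hrel
      rw [Derivation.leibniz, map_sub, Derivation.leibniz, Derivation.map_algebraMap,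
        Derivation.map_algebraMap, smul_zero, add_zero, sub_zero] at h1
      have h2 : (u : R) • KaehlerDifferential.D S R r = 0 := by
        have h3 : (u : R) • KaehlerDifferential.D S R r =
            r • KaehlerDifferential.D S R r + r • KaehlerDifferential.D S R r -
              algebraMap S R st • KaehlerDifferential.D S R r := by
          rw [hu', hst]; module
        rw [h3, h1, sub_self]
      calc KaehlerDifferential.D S R r
          = ((u⁻¹ : Rˣ) : R) • ((u : R) • KaehlerDifferential.D S R r) := by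
            rw [smul_smul, Units.inv_mul, one_smul]
        _ = 0 := by rw [h2, smul_zero]
    have hD : ∀ x : R, KaehlerDifferential.D S R x = 0 := by
      intro x
      obtain ⟨sa, sb, rfl⟩ := hdec x
      rw [map_add, Derivation.leibniz, Derivation.map_algebraMap, Derivation.map_algebraMap,
        hDr, smul_zero, smul_zero, add_zero, add_zero]
    have htop : (⊤ : Submodule R (Ω[R⁄S])) = ⊥ := by
      rw [← KaehlerDifferential.span_range_derivation, Submodule.span_eq_bot]
      rintro _ ⟨x, rfl⟩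
      exact hD x
    exact (Submodule.subsingleton_iff R).1 (subsingleton_of_bot_eq_top htop.symm)
  · intro p
    have : Nontrivial S := nontrivial_of_ne (0 : S) 1
      (fun h => p.isPrime.ne_top ((Ideal.eq_top_iff_one _).2 (h ▸ Ideal.zero_mem _)))
    have h2 : Module.finrank S R = 2 := by
      rw [Module.finrank_eq_card_basis b, Fintype.card_fin]
    have := congrFun (Module.rankAtStalk_eq_finrank_of_free (R := S) (M := R)) p
    rw [this]; simp [h2]

/-- key step for S15576 -/
theorem isUnit_of_notMem_jacobson (hlam : Function.Involutive lam) (hS : IsFixedRing S R lam)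
    [IsLocalRing S] {r : R} (h : lam r - r ∉ Ring.jacobson R) : IsUnit (lam r - r) := by
  by_contra hnu
  obtain ⟨M, hM, hxM⟩ := exists_max_ideal_of_mem_nonunits hnu
  apply h
  rw [Ring.jacobson_eq_sInf_isMaximal, Submodule.mem_sInf]
  intro M' hM'
  have hM'' : Ideal.IsMaximal M' := hM'
  rcases isMaximal_eq_or_eq_comap hlam hS M M' with h1 | h1
  · rw [h1]; exact hxM
  · rw [h1, Ideal.mem_comap]
    have h2 : lam (lam r - r) = -(lam r - r) := by rw [map_sub, hlam r]; ring
    show lam (lam r - r) ∈ M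
    rw [h2]; exact M.neg_mem hxM

/-- S15576 -/
theorem isQuadEtale_of_notMem_jacobson (hlam : Function.Involutive lam)
    (hS : IsFixedRing S R lam) [IsLocalRing S] (h : ∃ r : R, lam r - r ∉ Ring.jacobson R) :
    IsQuadEtale S R := by
  obtain ⟨r, hr⟩ := h
  have hu := isUnit_of_notMem_jacobson hlam hS hr
  refine isQuadEtale_of_isUnit hlam hS (r := r) ?_
  have : r - lam r = -(lam r - r) := by ring
  rw [this]; exact hu.neg


/-- coordinates with respect to `{1, b 1}` when the `0`-coordinate of `1` is a unit -/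
lemma exists_coords_aux (b : Module.Basis (Fin 2) S R) (α' : S) (hα : b.repr 1 0 * α' = 1) :
    ∃ (r : R) (α₀ β : R →ₗ[S] S),
      (∀ x : R, x = algebraMap S R (α₀ x) + algebraMap S R (β x) * r) ∧ β 1 = 0 ∧ β r = 1 := by
  refine ⟨b 1, α' • b.coord 0, b.coord 1 - (α' * b.repr 1 1) • b.coord 0, ?_, ?_, ?_⟩
  · intro x
    have h1 : (1 : R) = b.repr 1 0 • b 0 + b.repr 1 1 • b 1 := by
      have := b.sum_repr 1
      rw [Fin.sum_univ_two] at this
      exact this.symm
    have hb0 : b 0 = α' • (1 : R) - (α' * b.repr 1 1) • b 1 := by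
      have h2 : b 0 = (b.repr 1 0 * α') • b 0 := by rw [hα, one_smul]
      have h3 : α' • (1 : R) = α' • (b.repr 1 0 • b 0 + b.repr 1 1 • b 1) := by rw [← h1]
      rw [h3]
      conv_lhs => rw [h2]
      module
    have hx : x = b.repr x 0 • b 0 + b.repr x 1 • b 1 := by
      have := b.sum_repr x
      rw [Fin.sum_univ_two] at this
      exact this.symm
    conv_lhs => rw [hx, hb0]
    simp only [LinearMap.smul_apply, LinearMap.sub_apply, Module.Basis.coord_apply, smul_eq_mul,
      map_mul, map_sub, Algebra.smul_def, mul_one]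
    ring
  · simp only [LinearMap.smul_apply, LinearMap.sub_apply, Module.Basis.coord_apply, smul_eq_mul]
    have : α' * b.repr 1 1 * b.repr 1 0 = b.repr 1 1 * (b.repr 1 0 * α') := by ring
    rw [this, hα, mul_one, sub_self]
  · simp [Module.Basis.coord_apply]

lemma exists_coords [IsLocalRing S] (hq : IsQuadEtale S R) :
    ∃ (r : R) (α₀ β : R →ₗ[S] S),
      (∀ x : R, x = algebraMap S R (α₀ x) + algebraMap S R (β x) * r) ∧ β 1 = 0 ∧ β r = 1 := by
  obtain ⟨hfin, hproj, -, hrank⟩ := hq
  have hfree : Module.Free S R := Module.free_of_flat_of_isLocalRing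
  have h2 : Module.finrank S R = 2 := by
    have := congrFun (Module.rankAtStalk_eq_finrank_of_free (R := S) (M := R))
      (IsLocalRing.closedPoint S)
    rw [hrank] at this
    simpa using this.symm
  let b : Module.Basis (Fin 2) S R := Module.finBasisOfFinrankEq S R h2
  have h1 : (1 : R) = b.repr 1 0 • b 0 + b.repr 1 1 • b 1 := by
    have := b.sum_repr 1
    rw [Fin.sum_univ_two] at this
    exact this.symm
  have hor : IsUnit (b.repr 1 0) ∨ IsUnit (b.repr 1 1) := by
    by_contra hcon
    push Not at hcon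
    obtain ⟨hn0, hn1⟩ := hcon
    have hm0 : b.repr 1 0 ∈ IsLocalRing.maximalIdeal S := (IsLocalRing.mem_maximalIdeal _).2 hn0
    have hm1 : b.repr 1 1 ∈ IsLocalRing.maximalIdeal S := (IsLocalRing.mem_maximalIdeal _).2 hn1
    have h3 : b 0 = b.repr 1 0 • (b 0 * b 0) + b.repr 1 1 • (b 0 * b 1) := by
      conv_lhs => rw [← mul_one (b 0), h1]
      rw [mul_add, mul_smul_comm, mul_smul_comm]
    have h4 := congrArg (fun y => b.repr y 0) h3
    simp only [map_add, map_smul, Finsupp.coe_add, Finsupp.coe_smul, Pi.add_apply, Pi.smul_apply,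
      smul_eq_mul, Module.Basis.repr_self, Finsupp.single_eq_same] at h4
    have h5 : (1 : S) ∈ IsLocalRing.maximalIdeal S := by
      rw [h4]
      exact Ideal.add_mem _ (Ideal.mul_mem_right _ _ hm0) (Ideal.mul_mem_right _ _ hm1)
    exact (IsLocalRing.maximalIdeal S).ne_top_iff_one.1 (IsLocalRing.maximalIdeal.isMaximal S).ne_top h5
  rcases hor with hu | hu
  · obtain ⟨u, hu⟩ := hu
    exact exists_coords_aux b ((u⁻¹ : Sˣ) : S) (by rw [← hu, Units.mul_inv])
  · obtain ⟨u, hu⟩ := hu
    refine exists_coords_aux (b.reindex (Equiv.swap (0 : Fin 2) 1)) ((u⁻¹ : Sˣ) : S) ?_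
    have : (b.reindex (Equiv.swap (0 : Fin 2) 1)).repr 1 0 = b.repr 1 1 := by
      simp
    rw [this, ← hu, Units.mul_inv]

/-- S15574 -/
theorem exists_isUnit_sub_of_isQuadEtale (hlam : Function.Involutive lam)
    (hS : IsFixedRing S R lam) [IsLocalRing S] (hq : IsQuadEtale S R) :
    ∃ r : R, IsUnit (r - lam r) := by
  obtain ⟨r, α₀, β, hdec, hβ1, hβr⟩ := exists_coords hq
  refine ⟨r, ?_⟩
  obtain ⟨st, hst⟩ := exists_trace hlam hS r
  obtain ⟨sn, hsn⟩ := exists_norm hlam hS r
  have hrel : r * r = algebraMap S R st * r - algebraMap S R sn := by rw [hst, hsn]; ring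
  have hβrr : β (r * r) = st := by
    rw [hrel]
    simp only [Algebra.algebraMap_eq_smul_one, smul_mul_assoc, one_mul, map_sub, map_smul,
      hβ1, hβr, smul_eq_mul, mul_zero, mul_one, sub_zero]
  have hsm : ∀ x z : R, x • (Ideal.Quotient.mk (Ideal.span {r - lam r}) z :
      R ⧸ Ideal.span {r - lam r}) = Ideal.Quotient.mk (Ideal.span {r - lam r}) (x * z) :=
    fun x z => rfl
  let D₀ : R →ₗ[S] (R ⧸ Ideal.span {r - lam r}) :=
    ((Ideal.Quotient.mkₐ S (Ideal.span {r - lam r})).toLinearMap).comp
      ((Algebra.linearMap S R).comp β)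
  have hD₀ : ∀ x, D₀ x = Ideal.Quotient.mk (Ideal.span {r - lam r}) (algebraMap S R (β x)) :=
    fun x => rfl
  have hleib : ∀ x y : R, D₀ (x * y) = x • D₀ y + y • D₀ x := by
    intro x y
    obtain ⟨a, b, hx, hbx⟩ : ∃ a b : S, x = algebraMap S R a + algebraMap S R b * r ∧ β x = b :=
      ⟨α₀ x, β x, hdec x, rfl⟩
    obtain ⟨a', b', hy, hby⟩ : ∃ a' b' : S,
        y = algebraMap S R a' + algebraMap S R b' * r ∧ β y = b' := ⟨α₀ y, β y, hdec y, rfl⟩
    have hxy : x * y = algebraMap S R (a * a') + algebraMap S R (a * b' + a' * b) * r +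
        algebraMap S R (b * b') * (r * r) := by
      rw [hx, hy]; simp only [map_mul, map_add]; ring
    have hxy' : x * y = (a * a') • (1 : R) + (a * b' + a' * b) • r + (b * b') • (r * r) := by
      rw [hxy]; simp only [Algebra.smul_def, mul_one]
    have hβxy : β (x * y) = a * b' + a' * b + b * b' * st := by
      rw [hxy', map_add, map_add, map_smul, map_smul, map_smul, hβ1, hβr, hβrr]
      simp only [smul_eq_mul, mul_zero, mul_one, zero_add]
    rw [hD₀, hD₀, hD₀, hβxy, hbx, hby, hsm, hsm, ← map_add, Ideal.Quotient.eq,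
      Ideal.mem_span_singleton']
    refine ⟨-algebraMap S R (b * b'), ?_⟩
    rw [hx, hy]
    simp only [map_mul, map_add, hst]
    ring
  let D : Derivation S R (R ⧸ Ideal.span {r - lam r}) := Derivation.mk' D₀ hleib
  have hunr : Algebra.FormallyUnramified S R := hq.2.2.1
  have hDr : D r = 0 := by
    rw [← D.liftKaehlerDifferential_comp_D r, Subsingleton.elim (KaehlerDifferential.D S R r) 0,
      map_zero]
  have h1 : Ideal.Quotient.mk (Ideal.span {r - lam r}) (1 : R) = 0 := by
    have : D r = Ideal.Quotient.mk (Ideal.span {r - lam r}) (algebraMap S R (β r)) := rfl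
    rw [this, hβr, map_one] at hDr
    exact hDr
  rw [Ideal.Quotient.eq_zero_iff_mem, Ideal.mem_span_singleton'] at h1
  obtain ⟨c, hc⟩ := h1
  exact isUnit_iff_exists_inv.2 ⟨c, by rw [mul_comm]; exact hc⟩

/-- S15577 -/
theorem isLocalRing_and_not_isQuadEtale (hlam : Function.Involutive lam)
    (hS : IsFixedRing S R lam) [IsLocalRing S] (h : ∀ r : R, lam r - r ∈ Ring.jacobson R) :
    IsLocalRing R ∧ ¬ IsQuadEtale S R := by
  have hnt : Nontrivial R := hS.1.nontrivial
  have hloc : IsLocalRing R := by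
    apply IsLocalRing.of_unique_max_ideal
    obtain ⟨M, hM⟩ := Ideal.exists_maximal R
    refine ⟨M, hM, fun M' hM' => ?_⟩
    have hM'' : Ideal.IsMaximal M' := hM'
    have hcomap : M.comap (lam : R →+* R) = M := by
      have hMl : (M.comap (lam : R →+* R)).IsMaximal :=
        Ideal.comap_isMaximal_of_surjective _ lam.surjective
      refine (hM.eq_of_le hMl.ne_top ?_).symm
      intro x hx
      rw [Ideal.mem_comap]
      have h1 : lam x - x ∈ M := Ring.jacobson_le_of_isMaximal M (h x)
      have h2 : lam x = (lam x - x) + x := by ring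
      show lam x ∈ M
      rw [h2]; exact M.add_mem h1 hx
    rcases isMaximal_eq_or_eq_comap hlam hS M M' with h1 | h1
    · exact h1
    · rw [h1, hcomap]
  refine ⟨hloc, fun hq => ?_⟩
  obtain ⟨r, hr⟩ := exists_isUnit_sub_of_isQuadEtale hlam hS hq
  have h1 : r - lam r ∈ Ring.jacobson R := by
    have : r - lam r = -(lam r - r) := by ring
    rw [this]; exact (Ring.jacobson R).neg_mem (h r)
  have h2 : Ring.jacobson R = ⊤ := Ideal.eq_top_of_isUnit_mem _ h1 hr
  exact (Ring.jacobson_lt_top (R := R)).ne h2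


/-- S15579 -/
theorem jacobson_eq_map [IsLocalRing S] (hq : IsQuadEtale S R) :
    Ring.jacobson R = (IsLocalRing.maximalIdeal S).map (algebraMap S R) := by
  obtain ⟨hfin, hproj, hunr, hrank⟩ := hq
  have hint : Algebra.IsIntegral S R := Algebra.IsIntegral.of_finite S R
  apply le_antisymm
  · have hrad : ((IsLocalRing.maximalIdeal S).map (algebraMap S R)).IsRadical :=
      Algebra.FormallyUnramified.isRadical_map_isMaximal (A := S) (B := R)
        (p := IsLocalRing.maximalIdeal S)
    rw [← hrad.radical, Ideal.radical_eq_sInf]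
    refine le_sInf ?_
    rintro P ⟨hle, hP⟩
    have hcomap : P.comap (algebraMap S R) = IsLocalRing.maximalIdeal S := by
      have h1 : IsLocalRing.maximalIdeal S ≤ P.comap (algebraMap S R) :=
        Ideal.map_le_iff_le_comap.1 hle
      exact ((IsLocalRing.maximalIdeal.isMaximal S).eq_of_le
        (Ideal.comap_ne_top _ hP.ne_top) h1).symm
    have hPmax : P.IsMaximal :=
      Ideal.isMaximal_of_isIntegral_of_isMaximal_comap P
        (by rw [hcomap]; exact IsLocalRing.maximalIdeal.isMaximal S)
    exact Ring.jacobson_le_of_isMaximal P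
  · rw [Ring.jacobson_eq_sInf_isMaximal]
    refine le_sInf ?_
    intro M hM
    have hM' : Ideal.IsMaximal M := hM
    rw [Ideal.map_le_iff_le_comap]
    have : (M.comap (algebraMap S R)).IsMaximal :=
      Ideal.isMaximal_comap_of_isIntegral_of_isMaximal M
    exact (IsLocalRing.eq_maximalIdeal this).ge

/-- S15580 -/
theorem hilbert90 (hlam : Function.Involutive lam) (hS : IsFixedRing S R lam) [IsLocalRing S]
    (hq : IsQuadEtale S R) (r : Rˣ) (hr : lam r * r = 1) :
    ∃ a : Rˣ, (r : R) = (a⁻¹ : Rˣ) * lam a := by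
  obtain ⟨r', hr'⟩ := exists_isUnit_sub_of_isQuadEtale hlam hS hq
  have hkey : ∀ c : R, IsUnit (c + r * lam c) → ∃ a : Rˣ, (r : R) = (a⁻¹ : Rˣ) * lam a := by
    intro c hc
    obtain ⟨ub, hub⟩ := hc
    have hrel : (r : R) * lam (ub : R) = ub := by
      rw [hub, map_add, map_mul, hlam c]
      linear_combination c * hr
    let a : Rˣ := ⟨lam ub, lam ((ub⁻¹ : Rˣ) : R), by rw [← map_mul, Units.mul_inv, map_one],
      by rw [← map_mul, Units.inv_mul, map_one]⟩
    refine ⟨a, ?_⟩
    have ha : (a : R) = lam (ub : R) := rfl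
    have hla : lam (a : R) = ub := by rw [ha, hlam]
    rw [hla]
    have h1 : (a : R) * r = ub := by rw [ha, mul_comm]; exact hrel
    calc (r : R) = ((a⁻¹ : Rˣ) : R) * ((a : R) * r) := by
          rw [← mul_assoc, Units.inv_mul, one_mul]
      _ = (a⁻¹ : Rˣ) * ub := by rw [h1]
  have hF : ∀ M : Ideal R, M.IsMaximal → (1 + (r : R)) ∈ M → r' + r * lam r' ∈ M → False := by
    intro M hM h1 h2
    have h3 : (r : R) * (lam r' - r') ∈ M := by
      have : (r : R) * (lam r' - r') = (r' + r * lam r') - r' * (1 + (r : R)) := by ring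
      rw [this]; exact M.sub_mem h2 (M.mul_mem_left _ h1)
    have hu : IsUnit ((r : R) * (lam r' - r')) := by
      refine r.isUnit.mul ?_
      have : lam r' - r' = -(r' - lam r') := by ring
      rw [this]; exact hr'.neg
    exact hM.ne_top (Ideal.eq_top_of_isUnit_mem _ h3 hu)
  by_cases hu1 : IsUnit (1 + (r : R))
  · exact hkey 1 (by rw [map_one, mul_one]; exact hu1)
  obtain ⟨M₁, hM₁, hb1M₁⟩ := exists_max_ideal_of_mem_nonunits hu1
  by_cases hu2 : IsUnit (r' + r * lam r')
  · exact hkey r' hu2
  obtain ⟨M₂, hM₂, hb2M₂⟩ := exists_max_ideal_of_mem_nonunits hu2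
  have hb2M₁ : r' + r * lam r' ∉ M₁ := fun h => hF M₁ hM₁ hb1M₁ h
  have hb1M₂ : (1 + (r : R)) ∉ M₂ := fun h => hF M₂ hM₂ h hb2M₂
  have hne : M₂ ≠ M₁ := by rintro rfl; exact hb2M₁ hb2M₂
  have hM₂eq : M₂ = M₁.comap (lam : R →+* R) :=
    (isMaximal_eq_or_eq_comap hlam hS M₁ M₂).resolve_left hne
  have hu3 : IsUnit ((1 + (r : R)) + (r' + r * lam r')) := by
    by_contra hnu
    obtain ⟨M, hM, hM3⟩ := exists_max_ideal_of_mem_nonunits hnu
    rcases isMaximal_eq_or_eq_comap hlam hS M₁ M with h | h
    · subst h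
      apply hb2M₁
      have : r' + r * lam r' = ((1 + (r : R)) + (r' + r * lam r')) - (1 + (r : R)) := by ring
      rw [this]; exact M.sub_mem hM3 hb1M₁
    · rw [← hM₂eq] at h; subst h
      apply hb1M₂
      have : (1 + (r : R)) = ((1 + (r : R)) + (r' + r * lam r')) - (r' + r * lam r') := by ring
      rw [this]; exact M.sub_mem hM3 hb2M₂
  refine hkey (1 + r') ?_
  have : (1 + r') + r * lam (1 + r') = (1 + (r : R)) + (r' + r * lam r') := by
    rw [map_add, map_one]; ring
  rw [this]; exact hu3

/-- S15581 -/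
theorem jacobson_sq_le (hlam : Function.Involutive lam) (hS : IsFixedRing S R lam)
    [IsLocalRing S] (h2 : IsUnit (2 : S)) :
    (Ring.jacobson R) ^ 2 ≤ (IsLocalRing.maximalIdeal S).map (algebraMap S R) := by
  have hnt : Nontrivial R := hS.1.nontrivial
  have hstab : ∀ x ∈ Ring.jacobson R, lam x ∈ Ring.jacobson R := by
    intro x hx
    rw [Ring.jacobson_eq_sInf_isMaximal, Submodule.mem_sInf] at hx ⊢
    intro M hM
    have hM' : Ideal.IsMaximal M := hM
    have hMl : Ideal.IsMaximal (Ideal.comap (lam : R →+* R) M) :=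
      Ideal.comap_isMaximal_of_surjective _ lam.surjective
    exact hx _ hMl
  have hinv : ∀ z ∈ Ring.jacobson R, lam z = z →
      z ∈ (IsLocalRing.maximalIdeal S).map (algebraMap S R) := by
    intro z hz hfix
    obtain ⟨s, rfl⟩ := exists_of_fixed hS hfix
    apply Ideal.mem_map_of_mem
    rw [IsLocalRing.mem_maximalIdeal]
    intro hsu
    exact (Ring.jacobson_lt_top (R := R)).ne (Ideal.eq_top_of_isUnit_mem _ hz (hsu.map _))
  obtain ⟨u2, hu2⟩ := h2
  obtain ⟨c, hc⟩ : ∃ c : R, c = algebraMap S R ((u2⁻¹ : Sˣ) : S) := ⟨_, rfl⟩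
  have hc2 : c * 2 = 1 := by
    have h3 : (2 : R) = algebraMap S R (u2 : S) := by rw [hu2, map_ofNat]
    rw [hc, h3, ← map_mul, Units.inv_mul, map_one]
  have hlc : lam c = c := by rw [hc]; exact lam_algebraMap hS _
  rw [pow_two, Ideal.mul_le]
  intro x hx y hy
  have hx' := hstab x hx
  have hy' := hstab y hy
  obtain ⟨xp, hxp⟩ : ∃ xp : R, xp = c * (x + lam x) := ⟨_, rfl⟩
  obtain ⟨xm, hxm⟩ : ∃ xm : R, xm = c * (x - lam x) := ⟨_, rfl⟩
  obtain ⟨yp, hyp⟩ : ∃ yp : R, yp = c * (y + lam y) := ⟨_, rfl⟩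
  obtain ⟨ym, hym⟩ : ∃ ym : R, ym = c * (y - lam y) := ⟨_, rfl⟩
  have hxsum : x = xp + xm := by rw [hxp, hxm]; linear_combination (-x) * hc2
  have hysum : y = yp + ym := by rw [hyp, hym]; linear_combination (-y) * hc2
  have hxpJ : xp ∈ (IsLocalRing.maximalIdeal S).map (algebraMap S R) :=
    hinv xp (by rw [hxp]; exact Ideal.mul_mem_left _ _ (Ideal.add_mem _ hx hx'))
      (by rw [hxp, map_mul, map_add, hlam x, hlc]; ring)
  have hypJ : yp ∈ (IsLocalRing.maximalIdeal S).map (algebraMap S R) :=
    hinv yp (by rw [hyp]; exact Ideal.mul_mem_left _ _ (Ideal.add_mem _ hy hy'))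
      (by rw [hyp, map_mul, map_add, hlam y, hlc]; ring)
  have hxmJac : xm ∈ Ring.jacobson R := by
    rw [hxm]; exact Ideal.mul_mem_left _ _ (Ideal.sub_mem _ hx hx')
  have hlxm : lam xm = -xm := by rw [hxm, map_mul, map_sub, hlam x, hlc]; ring
  have hlym : lam ym = -ym := by rw [hym, map_mul, map_sub, hlam y, hlc]; ring
  have hmm : xm * ym ∈ (IsLocalRing.maximalIdeal S).map (algebraMap S R) :=
    hinv _ (Ideal.mul_mem_right _ _ hxmJac) (by rw [map_mul, hlxm, hlym]; ring)
  have hsum : x * y = xp * y + xm * yp + xm * ym := by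
    have : y = yp + ym := hysum
    calc x * y = (xp + xm) * y := by rw [← hxsum]
      _ = xp * y + xm * y := by ring
      _ = xp * y + xm * (yp + ym) := by rw [← hysum]
      _ = xp * y + xm * yp + xm * ym := by ring
  rw [hsum]
  exact Ideal.add_mem _ (Ideal.add_mem _ (Ideal.mul_mem_right _ _ hxpJ)
    (Ideal.mul_mem_left _ _ hypJ)) hmm


section basechange

open TensorProduct

variable {S' : Type*} [CommRing S'] [Algebra S S']

theorem isFixedRing_baseChange_aux (lam : R ≃ₐ[S] R)
    (hA : Function.Injective ((Algebra.linearMap S R).lTensor S'))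
    (hB : ∀ z : S' ⊗[S] R, ((lam.toLinearMap - LinearMap.id).lTensor S') z = 0 →
      z ∈ Set.range ((Algebra.linearMap S R).lTensor S')) :
    IsFixedRing S' (S' ⊗[S] R)
      (Algebra.TensorProduct.congr (AlgEquiv.refl : S' ≃ₐ[S] S') lam).toRingEquiv := by
  have F1 : ∀ s' : S', algebraMap S' (S' ⊗[S] R) s' =
      ((Algebra.linearMap S R).lTensor S') (s' ⊗ₜ[S] (1 : S)) := by
    intro s'
    rw [LinearMap.lTensor_tmul, Algebra.linearMap_apply, map_one,
      Algebra.TensorProduct.algebraMap_apply]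
    rfl
  have F2 : ∀ w : S' ⊗[S] S, ∃ s' : S', w = s' ⊗ₜ[S] (1 : S) := by
    intro w
    refine ⟨TensorProduct.rid S S' w, ?_⟩
    rw [← TensorProduct.rid_symm_apply, LinearEquiv.symm_apply_apply]
  have F3 : ∀ z : S' ⊗[S] R,
      (Algebra.TensorProduct.congr (AlgEquiv.refl : S' ≃ₐ[S] S') lam) z - z =
        ((lam.toLinearMap - LinearMap.id).lTensor S') z := by
    intro z
    induction z using TensorProduct.induction_on with
    | zero => simp
    | tmul s' r => simp
    | add x y hx hy => rw [map_add, map_add, ← hx, ← hy]; abel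
  constructor
  · intro s' t' hst
    rw [F1, F1] at hst
    have h1 := hA hst
    have h2 := congrArg (TensorProduct.rid S S') h1
    simpa using h2
  · intro z
    constructor
    · intro hz
      have hz' : (Algebra.TensorProduct.congr (AlgEquiv.refl : S' ≃ₐ[S] S') lam) z = z := hz
      obtain ⟨w, hw⟩ := hB z (by rw [← F3, hz', sub_self])
      obtain ⟨s', rfl⟩ := F2 w
      exact ⟨s', by rw [F1, hw]⟩
    · rintro ⟨s', rfl⟩
      show (Algebra.TensorProduct.congr (AlgEquiv.refl : S' ≃ₐ[S] S') lam) _ = _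
      rw [Algebra.TensorProduct.algebraMap_apply]
      simp

/-- S15586 -/
theorem isFixedRing_baseChange (lam : R ≃ₐ[S] R) (hlam : Function.Involutive lam)
    (hS : IsFixedRing S R lam.toRingEquiv) (h : Module.Flat S S' ∨ IsUnit (2 : S)) :
    IsFixedRing S' (S' ⊗[S] R)
      (Algebra.TensorProduct.congr (AlgEquiv.refl : S' ≃ₐ[S] S') lam).toRingEquiv := by
  have hinj : Function.Injective (Algebra.linearMap S R) := hS.1
  have hex : Function.Exact (Algebra.linearMap S R)
      ((lam.toLinearMap : R →ₗ[S] R) - (LinearMap.id : R →ₗ[S] R)) := by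
    intro y
    rw [LinearMap.sub_apply, LinearMap.id_apply, sub_eq_zero]
    exact hS.2 y
  rcases h with hflat | h2
  · apply isFixedRing_baseChange_aux lam
    · exact Module.Flat.lTensor_preserves_injective_linearMap _ hinj
    · intro z hz
      exact ((Module.Flat.lTensor_exact S' hex) z).1 hz
  · obtain ⟨u2, hu2⟩ := h2
    obtain ⟨c, hc⟩ : ∃ c : S, c = ((u2⁻¹ : Sˣ) : S) := ⟨_, rfl⟩
    have hc2 : c * 2 = 1 := by rw [hc, ← hu2, Units.inv_mul]
    have hmem : ∀ x : R, c • (x + lam x) ∈ LinearMap.range (Algebra.linearMap S R) := by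
      intro x
      have hfix : lam.toRingEquiv (c • (x + lam x)) = c • (x + lam x) := by
        show lam (c • (x + lam x)) = _
        rw [map_smul, map_add, hlam x, add_comm]
      obtain ⟨s, hs⟩ := (hS.2 _).1 hfix
      exact ⟨s, hs⟩
    choose ρ₀ hρ₀ using hmem
    have hρ₀' : ∀ x : R, algebraMap S R (ρ₀ x) = c • (x + lam x) := hρ₀
    let ρ : R →ₗ[S] S :=
      { toFun := ρ₀
        map_add' := fun x y => hinj (by
          show algebraMap S R (ρ₀ (x + y)) = algebraMap S R (ρ₀ x + ρ₀ y)
          rw [map_add, hρ₀', hρ₀', hρ₀', map_add, ← smul_add]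
          congr 1; abel)
        map_smul' := fun a x => hinj (by
          show algebraMap S R (ρ₀ (a • x)) = algebraMap S R (a • ρ₀ x)
          rw [smul_eq_mul, map_mul, hρ₀', hρ₀', map_smul, ← smul_add, ← Algebra.smul_def,
            smul_comm]) }
    have hιρ : ∀ x : R, Algebra.linearMap S R (ρ x) = c • (x + lam x) := hρ₀'
    have hid : (LinearMap.id : R →ₗ[S] R) - (Algebra.linearMap S R).comp ρ =
        -(c • (lam.toLinearMap - LinearMap.id)) := by
      refine LinearMap.ext fun x => ?_
      simp only [LinearMap.sub_apply, LinearMap.id_apply, LinearMap.comp_apply,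
        LinearMap.neg_apply, LinearMap.smul_apply, hιρ, AlgEquiv.toLinearMap_apply]
      have hx : c • (x + x) = x := by rw [← two_smul S x, smul_smul, hc2, one_smul]
      calc x - c • (x + lam x) = c • (x + x) - c • (x + lam x) := by rw [hx]
        _ = -(c • (lam x - x)) := by rw [← smul_sub, ← smul_neg]; congr 1; abel
    have hρι : ρ.comp (Algebra.linearMap S R) = LinearMap.id := by
      refine LinearMap.ext fun s => ?_
      apply hinj
      simp only [LinearMap.comp_apply, LinearMap.id_apply, hιρ, Algebra.linearMap_apply]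
      have h3 : lam (algebraMap S R s) = algebraMap S R s := lam.commutes s
      rw [h3, ← two_smul S (algebraMap S R s), smul_smul, hc2, one_smul]
    apply isFixedRing_baseChange_aux lam
    · intro a b hab
      have h3 := congrArg (ρ.lTensor S') hab
      rwa [← LinearMap.comp_apply, ← LinearMap.comp_apply, ← LinearMap.lTensor_comp, hρι,
        LinearMap.lTensor_id, LinearMap.id_apply, LinearMap.id_apply] at h3
    · intro z hz
      have h3 := congrArg (fun f : R →ₗ[S] R => (f.lTensor S') z) hid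
      simp only [LinearMap.lTensor_sub, LinearMap.lTensor_id, LinearMap.lTensor_comp,
        LinearMap.lTensor_neg, LinearMap.lTensor_smul, LinearMap.sub_apply, LinearMap.id_apply,
        LinearMap.comp_apply, LinearMap.neg_apply, LinearMap.smul_apply] at h3
      have hz' : (LinearMap.lTensor S' lam.toLinearMap) z - z = 0 := by
        simpa only [LinearMap.lTensor_sub, LinearMap.lTensor_id, LinearMap.sub_apply,
          LinearMap.id_apply] using hz
      rw [hz', smul_zero, neg_zero] at h3
      exact ⟨(ρ.lTensor S') z, (sub_eq_zero.1 h3).symm⟩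

end basechange

end Groth.Agent.Helper23.RInvLib
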