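import Mathlib
import Groth.Agent.Lib.Helper23.RInvLib

/-!
# Rings with involution: localisation, branch locus (helper23)
-/

namespace Groth.Agent.Helper23.RInvLoc

open RInv TensorProduct Polynomial
open Groth.Agent.Helper23.RInvLib

variable {S : Type*} {R : Type*} [CommRing S] [CommRing R] [Algebra S R] {lam : R ≃+* R}

/-- `lam` as an `S`-algebra automorphism. -/
noncomputable def lamA (hS : IsFixedRing S R lam) : R ≃ₐ[S] R :=
  AlgEquiv.ofRingEquiv (f := lam) (fun s => lam_algebraMap hS s)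

@[simp] lemma lamA_apply (hS : IsFixedRing S R lam) (x : R) : lamA hS x = lam x := rfl

section baseChange

variable (S' : Type*) [CommRing S'] [Algebra S S']

/-- The base change of the involution to `S' ⊗[S] R`, as an `S`-algebra automorphism. -/
noncomputable def lamTA (hS : IsFixedRing S R lam) : (S' ⊗[S] R) ≃ₐ[S] (S' ⊗[S] R) :=
  Algebra.TensorProduct.congr (AlgEquiv.refl : S' ≃ₐ[S] S') (lamA hS)

/-- The base change of the involution to `S' ⊗[S] R`. -/
noncomputable def lamT (hS : IsFixedRing S R lam) : (S' ⊗[S] R) ≃+* (S' ⊗[S] R) :=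
  (lamTA S' hS).toRingEquiv

lemma lamT_tmul (hS : IsFixedRing S R lam) (a : S') (r : R) :
    lamT S' hS (a ⊗ₜ[S] r) = a ⊗ₜ[S] lam r := by
  show (Algebra.TensorProduct.congr (AlgEquiv.refl : S' ≃ₐ[S] S') (lamA hS)) (a ⊗ₜ[S] r) = _
  simp

lemma lamT_smul (hS : IsFixedRing S R lam) (s : S) (t : S' ⊗[S] R) :
    lamT S' hS (s • t) = s • lamT S' hS t :=
  map_smul (lamTA S' hS) s t

lemma lamT_involutive (hlam : Function.Involutive lam) (hS : IsFixedRing S R lam) :
    Function.Involutive (lamT S' hS) := by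
  intro z
  induction z using TensorProduct.induction_on with
  | zero => simp
  | tmul a r => rw [lamT_tmul, lamT_tmul, hlam r]
  | add x y hx hy => rw [map_add, map_add, hx, hy]

lemma isFixedRing_lamT [Module.Flat S S'] (hlam : Function.Involutive lam)
    (hS : IsFixedRing S R lam) : IsFixedRing S' (S' ⊗[S] R) (lamT S' hS) :=
  isFixedRing_baseChange (lamA hS) (fun x => hlam x) ⟨hS.1, fun r => hS.2 r⟩
    (Or.inl inferInstance)

lemma one_tmul_algebraMap (s : S) :
    (1 : S') ⊗ₜ[S] (algebraMap S R s) = algebraMap S' (S' ⊗[S] R) (algebraMap S S' s) := by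
  have h1 : algebraMap S' (S' ⊗[S] R) (algebraMap S S' s) =
      (algebraMap S S' s) ⊗ₜ[S] (1 : R) := by
    rw [Algebra.TensorProduct.algebraMap_apply]; rfl
  rw [h1, Algebra.algebraMap_eq_smul_one, Algebra.algebraMap_eq_smul_one (A := S'),
    TensorProduct.smul_tmul]

/-- Unit criterion: if `(r - lam r) r' = s` with `s` invertible in the flat `S`-algebra `S'`, then
`S' ⊗ R` is quadratic etale over `S'`. -/
theorem isQuadEtale_of_mul_eq [Module.Flat S S'] (hlam : Function.Involutive lam)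
    (hS : IsFixedRing S R lam) {r r' : R} {s : S}
    (h : (r - lam r) * r' = algebraMap S R s) (hs : IsUnit (algebraMap S S' s)) :
    IsQuadEtale S' (S' ⊗[S] R) := by
  refine isQuadEtale_of_isUnit (lamT_involutive S' hlam hS) (isFixedRing_lamT S' hlam hS)
    (r := (1 : S') ⊗ₜ[S] r) ?_
  rw [lamT_tmul, ← TensorProduct.tmul_sub]
  have h1 : ((1 : S') ⊗ₜ[S] (r - lam r)) * ((1 : S') ⊗ₜ[S] r') =
      algebraMap S' (S' ⊗[S] R) (algebraMap S S' s) := by
    rw [Algebra.TensorProduct.tmul_mul_tmul, h, one_mul, one_tmul_algebraMap]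
  exact isUnit_of_mul_isUnit_left (by rw [h1]; exact hs.map _)

end baseChange

section atPrime

variable (p : Ideal S) [p.IsPrime]

lemma exists_smul_eq_tmul (t : Localization.AtPrime p ⊗[S] R) :
    ∃ (s : S) (r : R), s ∉ p ∧ s • t = (1 : Localization.AtPrime p) ⊗ₜ[S] r := by
  obtain ⟨⟨r, s⟩, h⟩ := IsLocalizedModule.surj p.primeCompl
    (TensorProduct.mk S (Localization.AtPrime p) R 1) t
  exact ⟨s, r, s.2, h⟩

lemma exists_smul_eq_of_tmul_eq {x y : R}
    (h : (1 : Localization.AtPrime p) ⊗ₜ[S] x = 1 ⊗ₜ[S] y) :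
    ∃ c : S, c ∉ p ∧ c • x = c • y := by
  obtain ⟨c, hc⟩ := IsLocalizedModule.exists_of_eq (S := p.primeCompl)
    (f := TensorProduct.mk S (Localization.AtPrime p) R 1) h
  exact ⟨c, c.2, hc⟩

lemma isUnit_algebraMap_of_notMem {s : S} (hs : s ∉ p) :
    IsUnit (algebraMap S (Localization.AtPrime p) s) :=
  IsLocalization.map_units (Localization.AtPrime p) (⟨s, hs⟩ : p.primeCompl)

/-- `1 ⊗ y` is a unit of `S_p ⊗ R` iff `y` divides an element of `S \ p`. -/
lemma exists_mul_eq_of_isUnit_tmul {y : R}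
    (hu : IsUnit ((1 : Localization.AtPrime p) ⊗ₜ[S] y)) :
    ∃ (r' : R) (s : S), s ∉ p ∧ y * r' = algebraMap S R s := by
  obtain ⟨t', ht'⟩ := hu.exists_right_inv
  obtain ⟨s2, r', hs2, h3⟩ := exists_smul_eq_tmul p t'
  have h4 : (1 : Localization.AtPrime p) ⊗ₜ[S] (y * r') = 1 ⊗ₜ[S] (algebraMap S R s2) := by
    have h5 : ((1 : Localization.AtPrime p) ⊗ₜ[S] y) * (s2 • t') =
        s2 • (1 : Localization.AtPrime p ⊗[S] R) := by
      rw [mul_smul_comm, ht']
    rw [h3, Algebra.TensorProduct.tmul_mul_tmul, one_mul] at h5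
    rw [h5, Algebra.algebraMap_eq_smul_one, TensorProduct.tmul_smul]
    rfl
  obtain ⟨c, hc, h5⟩ := exists_smul_eq_of_tmul_eq p h4
  refine ⟨c • r', c * s2, ?_, ?_⟩
  · exact fun h => (Ideal.IsPrime.mem_or_mem inferInstance h).elim hc hs2
  · rw [mul_smul_comm, h5, map_mul, Algebra.smul_def]

lemma isUnit_tmul_of_mul_eq {y r' : R} {s : S} (hs : s ∉ p) (h : y * r' = algebraMap S R s) :
    IsUnit ((1 : Localization.AtPrime p) ⊗ₜ[S] y) := by
  have h1 : ((1 : Localization.AtPrime p) ⊗ₜ[S] y) * ((1 : Localization.AtPrime p) ⊗ₜ[S] r') =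
      algebraMap (Localization.AtPrime p) (Localization.AtPrime p ⊗[S] R)
        (algebraMap S (Localization.AtPrime p) s) := by
    rw [Algebra.TensorProduct.tmul_mul_tmul, h, one_mul, one_tmul_algebraMap]
  exact isUnit_of_mul_isUnit_left (by rw [h1]; exact (isUnit_algebraMap_of_notMem p hs).map _)

theorem exists_mul_eq_of_isQuadEtale (hlam : Function.Involutive lam) (hS : IsFixedRing S R lam)
    (hq : IsQuadEtale (Localization.AtPrime p) (Localization.AtPrime p ⊗[S] R)) :
    ∃ (r r' : R) (s : S), s ∉ p ∧ (r - lam r) * r' = algebraMap S R s := by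
  have hlamT := lamT_involutive (Localization.AtPrime p) hlam hS
  have hfix := isFixedRing_lamT (Localization.AtPrime p) hlam hS
  obtain ⟨t, ht⟩ := exists_isUnit_sub_of_isQuadEtale hlamT hfix hq
  obtain ⟨s1, r, hs1, h1⟩ := exists_smul_eq_tmul p t
  have h2 : s1 • (t - lamT (Localization.AtPrime p) hS t) =
      (1 : Localization.AtPrime p) ⊗ₜ[S] (r - lam r) := by
    rw [smul_sub, ← lamT_smul, h1, lamT_tmul, TensorProduct.tmul_sub]
  have hu : IsUnit ((1 : Localization.AtPrime p) ⊗ₜ[S] (r - lam r)) := by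
    rw [← h2, Algebra.smul_def]
    refine IsUnit.mul ?_ ht
    rw [IsScalarTower.algebraMap_apply S (Localization.AtPrime p)
      (Localization.AtPrime p ⊗[S] R)]
    exact (isUnit_algebraMap_of_notMem p hs1).map _
  obtain ⟨r', s, hs, h⟩ := exists_mul_eq_of_isUnit_tmul p hu
  exact ⟨r, r', s, hs, h⟩

theorem isQuadEtale_atPrime_iff (hlam : Function.Involutive lam) (hS : IsFixedRing S R lam) :
    IsQuadEtale (Localization.AtPrime p) (Localization.AtPrime p ⊗[S] R) ↔
      ∃ (r r' : R) (s : S), s ∉ p ∧ (r - lam r) * r' = algebraMap S R s :=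
  ⟨exists_mul_eq_of_isQuadEtale p hlam hS, fun ⟨_, _, _, hs, h⟩ =>
    isQuadEtale_of_mul_eq (Localization.AtPrime p) hlam hS h (isUnit_algebraMap_of_notMem p hs)⟩

end atPrime

section integral

lemma isIntegral_elem (hlam : Function.Involutive lam) (hS : IsFixedRing S R lam) (x : R) :
    IsIntegral S x := by
  obtain ⟨st, hst⟩ := exists_trace hlam hS x
  obtain ⟨sn, hsn⟩ := exists_norm hlam hS x
  refine ⟨X ^ 2 + (C (-st) * X + C sn),
    Polynomial.monic_X_pow_add (degree_linear_le.trans_lt (by norm_num)), ?_⟩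
  simp only [eval₂_add, eval₂_pow, eval₂_X, eval₂_mul, eval₂_C, eval₂_neg, map_neg, hst, hsn]
  ring

lemma algebra_isIntegral (hlam : Function.Involutive lam) (hS : IsFixedRing S R lam) :
    Algebra.IsIntegral S R := ⟨isIntegral_elem hlam hS⟩

lemma comap_lam_comap (hS : IsFixedRing S R lam) (Q : Ideal R) :
    (Q.comap (lam : R →+* R)).comap (algebraMap S R) = Q.comap (algebraMap S R) := by
  ext s
  simp only [Ideal.mem_comap]
  show lam (algebraMap S R s) ∈ Q ↔ _
  rw [lam_algebraMap hS]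

lemma eq_of_le_of_comap_eq (hlam : Function.Involutive lam) (hS : IsFixedRing S R lam)
    {Q' P : Ideal R} [Q'.IsPrime]
    (hP : P.comap (algebraMap S R) = Q'.comap (algebraMap S R)) (hle : Q' ≤ P) : Q' = P := by
  by_contra hne
  have hlt : Q' < P := lt_of_le_of_ne hle hne
  obtain ⟨x, hxP, hxQ'⟩ := SetLike.exists_of_lt hlt
  have := Ideal.comap_lt_comap_of_integral_mem_sdiff hle ⟨hxP, hxQ'⟩ (isIntegral_elem hlam hS x)
  rw [hP] at this
  exact lt_irrefl _ this

/-- Two primes of `R` over the same prime of `S` are conjugate under the involution. -/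
theorem prime_eq_or_eq_comap (hlam : Function.Involutive lam) (hS : IsFixedRing S R lam)
    (Q Q' : Ideal R) [Q.IsPrime] [Q'.IsPrime]
    (h : Q'.comap (algebraMap S R) = Q.comap (algebraMap S R)) :
    Q' = Q ∨ Q' = Q.comap (lam : R →+* R) := by
  by_contra hcon
  push Not at hcon
  obtain ⟨h1, h2⟩ := hcon
  have n1 : ¬ Q' ≤ Q := fun hle => h1 (eq_of_le_of_comap_eq hlam hS h.symm hle)
  have n2 : ¬ Q' ≤ Q.comap (lam : R →+* R) := fun hle =>
    h2 (eq_of_le_of_comap_eq hlam hS (by rw [comap_lam_comap hS, h]) hle)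
  have hnot : ¬ ((Q' : Set R) ⊆ (Q : Set R) ∪ (Q.comap (lam : R →+* R) : Ideal R)) := by
    rw [Ideal.subset_union]; push Not; exact ⟨n1, n2⟩
  obtain ⟨x, hxQ', hx⟩ := Set.not_subset.1 hnot
  rw [Set.mem_union, not_or] at hx
  obtain ⟨sn, hsn⟩ := exists_norm hlam hS x
  have h3 : algebraMap S R sn ∈ Q' := by rw [hsn]; exact Q'.mul_mem_right _ hxQ'
  have h4 : algebraMap S R sn ∈ Q := by
    have : sn ∈ Q'.comap (algebraMap S R) := h3
    rw [h] at this; exact this
  rw [hsn] at h4
  rcases Ideal.IsPrime.mem_or_mem inferInstance h4 with h5 | h5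
  · exact hx.1 h5
  · exact hx.2 h5

lemma comap_lam_eq_self {Q : Ideal R} (h : ∀ x, lam x - x ∈ Q) :
    Q.comap (lam : R →+* R) = Q := by
  ext x
  rw [Ideal.mem_comap]
  show lam x ∈ Q ↔ x ∈ Q
  constructor
  · intro hx; have := Q.sub_mem hx (h x); simpa using this
  · intro hx; have := Q.add_mem (h x) hx; simpa using this

end integral

section branch

/-- S15588 -/
theorem map_sub_mem_radical (W : Set (PrimeSpectrum S)) (hlam : Function.Involutive lam)
    (hS : IsFixedRing S R lam)
    (hW : W = {p : PrimeSpectrum S | ¬ IsQuadEtale (Localization.AtPrime p.asIdeal)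
      (Localization.AtPrime p.asIdeal ⊗[S] R)})
    (r : R) :
    lam r - r ∈ ((PrimeSpectrum.vanishingIdeal W).map (algebraMap S R)).radical := by
  have hfix : lam ((r - lam r) * (r - lam r)) = (r - lam r) * (r - lam r) := by
    rw [map_mul, map_sub, hlam r]; ring
  obtain ⟨s, hs⟩ := exists_of_fixed hS hfix
  have hsI : s ∈ PrimeSpectrum.vanishingIdeal W := by
    rw [PrimeSpectrum.mem_vanishingIdeal]
    intro p hp
    by_contra hsp
    rw [hW] at hp
    exact hp ((isQuadEtale_atPrime_iff p.asIdeal hlam hS).2 ⟨r, r - lam r, s, hsp, hs.symm⟩)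
  refine ⟨2, ?_⟩
  have : (lam r - r) ^ 2 = algebraMap S R s := by rw [hs]; ring
  rw [this]
  exact Ideal.mem_map_of_mem _ hsI

/-- S15587, forward direction -/
theorem exists_unique_prime (p : Ideal S) [p.IsPrime] (hlam : Function.Involutive lam)
    (hS : IsFixedRing S R lam)
    [IsLocalRing (Localization.AtPrime p ⊗[S] R)]
    (hjac : ∀ t, lamT (Localization.AtPrime p) hS t - t ∈
      Ring.jacobson (Localization.AtPrime p ⊗[S] R)) :
    ∃ q : PrimeSpectrum R, q.asIdeal.comap (algebraMap S R) = p ∧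
        (∀ q' : PrimeSpectrum R, q'.asIdeal.comap (algebraMap S R) = p → q' = q) ∧
        ∀ r : R, lam r - r ∈ q.asIdeal := by
  have hlamT := lamT_involutive (Localization.AtPrime p) hlam hS
  have hfix := isFixedRing_lamT (Localization.AtPrime p) hlam hS
  let ι : R →+* (Localization.AtPrime p ⊗[S] R) :=
    (Algebra.TensorProduct.includeRight : R →ₐ[S] (Localization.AtPrime p ⊗[S] R)).toRingHom
  have hmem : ∀ y : R, y ∈ (IsLocalRing.maximalIdeal (Localization.AtPrime p ⊗[S] R)).comap ι ↔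
      ¬ IsUnit ((1 : Localization.AtPrime p) ⊗ₜ[S] y) := by
    intro y
    rw [Ideal.mem_comap, IsLocalRing.mem_maximalIdeal, mem_nonunits_iff]
    rfl
  have hover : ((IsLocalRing.maximalIdeal (Localization.AtPrime p ⊗[S] R)).comap ι).comap
      (algebraMap S R) = p := by
    ext s
    rw [Ideal.mem_comap, hmem]
    constructor
    · intro h
      by_contra hsp
      apply h
      rw [one_tmul_algebraMap]
      exact (isUnit_algebraMap_of_notMem p hsp).map _
    · intro hsp hu
      have h1 : algebraMap S (Localization.AtPrime p) s ∈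
          IsLocalRing.maximalIdeal (Localization.AtPrime p) :=
        (IsLocalization.AtPrime.to_map_mem_maximal_iff (Localization.AtPrime p) p s).2 hsp
      have h2 := algebraMap_mem_of_isMaximal hlamT hfix h1
        (IsLocalRing.maximalIdeal (Localization.AtPrime p ⊗[S] R))
      rw [← one_tmul_algebraMap, IsLocalRing.mem_maximalIdeal, mem_nonunits_iff] at h2
      exact h2 hu
  refine ⟨⟨(IsLocalRing.maximalIdeal (Localization.AtPrime p ⊗[S] R)).comap ι, inferInstance⟩,
    hover, ?_, ?_⟩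
  · intro q' hq'
    apply PrimeSpectrum.ext
    show q'.asIdeal = _
    have := q'.isPrime
    refine eq_of_le_of_comap_eq hlam hS (by rw [hover, hq']) ?_
    intro x hx
    rw [hmem]
    intro hu
    obtain ⟨r', s, hs, h⟩ := exists_mul_eq_of_isUnit_tmul p hu
    apply hs
    rw [← hq', Ideal.mem_comap, ← h]
    exact Ideal.mul_mem_right _ _ hx
  · intro r
    show lam r - r ∈ (IsLocalRing.maximalIdeal (Localization.AtPrime p ⊗[S] R)).comap ι
    rw [Ideal.mem_comap]
    have h1 : ι (lam r - r) = lamT (Localization.AtPrime p) hS ((1 : Localization.AtPrime p) ⊗ₜ[S] r)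
        - (1 : Localization.AtPrime p) ⊗ₜ[S] r := by
      rw [lamT_tmul, ← TensorProduct.tmul_sub]; rfl
    rw [h1]
    exact Ring.jacobson_le_of_isMaximal _ (hjac _)

end branch

end Groth.Agent.Helper23.RInvLoc
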