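import Mathlib
import Groth.Prelude.Def_W4c5nonratstablectREq
import Groth.Agent.Lib.Helper23.P1Irr

/-!
# Direct R-links through an affine line (helper23)
-/

set_option autoImplicit false

universe u

open CategoryTheory AlgebraicGeometry TopologicalSpace Opposite Limits MvPolynomial

namespace Groth.Agent.Helper23.RLink1

open Groth.Agent.Helper23.P1Irr

section chart

variable (n : ℕ) (S : Scheme.{u}) (i : Fin (n + 1))

set_option backward.isDefEq.respectTransparency false in
theorem chartOverIso_hom_over :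
    (chartOverIso n S i).hom ≫ (AffineSpace (ULift.{u} {j : Fin (n + 1) // j ≠ i}) S ↘ S) =
      pullback.snd (aι n i) (fstP n S) ≫ CohB1.ProjSpaceOver.toBase n S := by
  show (chartOverIso n S i).hom ≫ pullback.fst (terminal.from S) (terminal.from _) = _
  unfold chartOverIso
  simp only [Iso.trans_hom, asIso_hom, Category.assoc]
  have e1 := pullback.lift_fst
    (pullback.fst (specULiftZIsTerminal.from S) (aι n i ≫ CohB1.ProjSpace.toSpec n (ULift.{u} ℤ))
      ≫ 𝟙 S)
    (pullback.snd (specULiftZIsTerminal.from S) (aι n i ≫ CohB1.ProjSpace.toSpec n (ULift.{u} ℤ))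
      ≫ (chartIso n i).hom)
    (f := terminal.from S) (g := terminal.from (Spec (CommRingCat.of
        (MvPolynomial (ULift.{u} {j : Fin (n + 1) // j ≠ i}) (ULift.{u} ℤ)))))
    (by rw [Category.assoc, Category.assoc]; exact terminal.hom_ext _ _)
  unfold pullback.map
  rw [e1, Category.comp_id, pullbackSymmetry_hom_comp_fst,
    pullbackRightPullbackFstIso_hom_snd]
  rfl

theorem chartOverIso_inv_over :
    (chartOverIso n S i).inv ≫ pullback.snd (aι n i) (fstP n S) ≫
      CohB1.ProjSpaceOver.toBase n S =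
      (AffineSpace (ULift.{u} {j : Fin (n + 1) // j ≠ i}) S ↘ S) := by
  rw [← chartOverIso_hom_over, Iso.inv_hom_id_assoc]

end chart

section line

variable (K : Type u) [Field K]

/-- index type of the affine chart of the projective line -/
abbrev σ1 : Type u := ULift.{u} {j : Fin (1 + 1) // j ≠ (0 : Fin (1 + 1))}

/-- the affine line `Spec K[T] ⟶ P^1_K` (an open immersion over `K`) -/
noncomputable def lineι : Spec (CommRingCat.of (MvPolynomial σ1 K)) ⟶ REq.P1K K :=
  (AffineSpace.SpecIso σ1 (CommRingCat.of K)).inv ≫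
    (chartOverIso 1 (Spec (CommRingCat.of K)) 0).inv ≫
      pullback.snd (aι 1 0) (fstP 1 (Spec (CommRingCat.of K)))

instance : IsOpenImmersion (lineι K) := by
  unfold lineι
  infer_instance

theorem lineι_over : lineι K ≫ REq.P1K.toSpec K =
    Spec.map (CommRingCat.ofHom (C : K →+* MvPolynomial σ1 K)) := by
  have h1 := chartOverIso_inv_over 1 (Spec (CommRingCat.of K)) 0
  have h2 := AffineSpace.SpecIso_inv_over (n := σ1) (CommRingCat.of K)
  unfold lineι
  rw [Category.assoc, Category.assoc]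
  refine Eq.trans ?_ h2
  exact congrArg (fun t => (AffineSpace.SpecIso σ1 (CommRingCat.of K)).inv ≫ t) h1

end line

section algebra

variable {k K : Type u} [Field k] [Field K] [Algebra k K] {n : ℕ}

/-- the parameter of the affine line -/
noncomputable def tt : MvPolynomial σ1 K := X ⟨⟨1, by decide⟩⟩

/-- the line through two points of affine space -/
noncomputable def lineHom (φA φB : MvPolynomial (Fin n) k →+* K) :
    MvPolynomial (Fin n) k →+* MvPolynomial σ1 K :=
  eval₂Hom ((C : K →+* MvPolynomial σ1 K).comp (algebraMap k K))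
    (fun m => C (φA (X m)) * (1 - tt) + C (φB (X m)) * tt)

/-- evaluation at a constant -/
noncomputable def evc (c : K) : MvPolynomial σ1 K →+* K := eval (fun _ => c)

theorem evc_comp_C (c : K) : (evc c).comp (C : K →+* MvPolynomial σ1 K) = RingHom.id K := by
  ext x
  simp [evc]

theorem lineHom_comp_C (φA φB : MvPolynomial (Fin n) k →+* K) :
    (lineHom φA φB).comp (C : k →+* MvPolynomial (Fin n) k) =
      (C : K →+* MvPolynomial σ1 K).comp (algebraMap k K) := by
  ext x
  simp [lineHom]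

theorem evc_zero_lineHom (φA φB : MvPolynomial (Fin n) k →+* K)
    (hA : φA.comp (C : k →+* MvPolynomial (Fin n) k) = algebraMap k K) :
    (evc 0).comp (lineHom φA φB) = φA := by
  refine MvPolynomial.ringHom_ext (fun r => ?_) (fun m => ?_)
  · have := RingHom.congr_fun hA r
    simp only [RingHom.comp_apply] at this
    simp [lineHom, evc, this]
  · simp [lineHom, evc, tt]

theorem evc_one_lineHom (φA φB : MvPolynomial (Fin n) k →+* K)
    (hB : φB.comp (C : k →+* MvPolynomial (Fin n) k) = algebraMap k K) :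
    (evc 1).comp (lineHom φA φB) = φB := by
  refine MvPolynomial.ringHom_ext (fun r => ?_) (fun m => ?_)
  · have := RingHom.congr_fun hB r
    simp only [RingHom.comp_apply] at this
    simp [lineHom, evc, this]
  · simp [lineHom, evc, tt]

end algebra

section link

variable {k : Type u} [Field k] {X : Scheme.{u}} (f : X ⟶ Spec (CommRingCat.of k))

theorem mem_of_comp_ι {Y Z : Scheme.{u}} (V : Y.Opens) (g : Z ⟶ (V : Scheme.{u})) (z : ↥Z) :
    (g ≫ V.ι) z ∈ V := by
  rw [Scheme.Hom.comp_apply]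
  have : (V.ι (g z)) ∈ Set.range V.ι := ⟨_, rfl⟩
  rwa [Scheme.Opens.range_ι] at this

theorem elemLink_of_retract (U : X.Opens) (n : ℕ)
    (V : (Spec (CommRingCat.of (MvPolynomial (Fin n) k))).Opens)
    (a : (U : Scheme.{u}) ⟶ (V : Scheme.{u})) (b : (V : Scheme.{u}) ⟶ (U : Scheme.{u}))
    (hab : a ≫ b = 𝟙 (U : Scheme.{u}))
    (ha : a ≫ V.ι ≫ Spec.map (CommRingCat.ofHom (algebraMap k (MvPolynomial (Fin n) k))) =
      U.ι ≫ f)
    (hb : b ≫ U.ι ≫ f =
      V.ι ≫ Spec.map (CommRingCat.ofHom (algebraMap k (MvPolynomial (Fin n) k))))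
    (K : Type u) [Field K] [Algebra k K] (A B : REq.Pts (U.ι ≫ f) K) :
    REq.ElemLink (U.ι ≫ f) K A B := by
  obtain ⟨φA, hφA⟩ : ∃ φ : CommRingCat.of (MvPolynomial (Fin n) k) ⟶ CommRingCat.of K,
      Spec.map φ = A.1 ≫ a ≫ V.ι := ⟨Spec.preimage _, Spec.map_preimage _⟩
  obtain ⟨φB, hφB⟩ : ∃ φ : CommRingCat.of (MvPolynomial (Fin n) k) ⟶ CommRingCat.of K,
      Spec.map φ = B.1 ≫ a ≫ V.ι := ⟨Spec.preimage _, Spec.map_preimage _⟩
  have hover : ∀ (P : REq.Pts (U.ι ≫ f) K)
      (φ : CommRingCat.of (MvPolynomial (Fin n) k) ⟶ CommRingCat.of K),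
      Spec.map φ = P.1 ≫ a ≫ V.ι →
      φ.hom.comp (C : k →+* MvPolynomial (Fin n) k) = algebraMap k K := by
    intro P φ hφ
    have h1 : Spec.map (CommRingCat.ofHom (algebraMap k (MvPolynomial (Fin n) k)) ≫ φ) =
        Spec.map (CommRingCat.ofHom (algebraMap k K)) := by
      rw [Spec.map_comp, hφ, Category.assoc, Category.assoc, ha]
      exact P.2
    have h2 := Spec.map_injective h1
    have h3 := congrArg CommRingCat.Hom.hom h2
    rw [CommRingCat.hom_comp] at h3
    exact h3
  have hA := hover A φA hφA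
  have hB := hover B φB hφB
  -- the line
  let ψ := lineHom φA.hom φB.hom
  let L : Spec (CommRingCat.of (MvPolynomial σ1 K)) ⟶
      Spec (CommRingCat.of (MvPolynomial (Fin n) k)) := Spec.map (CommRingCat.ofHom ψ)
  have e0 : Spec.map (CommRingCat.ofHom (evc (K := K) 0)) ≫ L = A.1 ≫ a ≫ V.ι := by
    rw [← hφA, ← Spec.map_comp, ← CommRingCat.ofHom_comp, evc_zero_lineHom _ _ hA]
    rfl
  have e1 : Spec.map (CommRingCat.ofHom (evc (K := K) 1)) ≫ L = B.1 ≫ a ≫ V.ι := by
    rw [← hφB, ← Spec.map_comp, ← CommRingCat.ofHom_comp, evc_one_lineHom _ _ hB]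
    rfl
  have eL : L ≫ Spec.map (CommRingCat.ofHom (algebraMap k (MvPolynomial (Fin n) k))) =
      Spec.map (CommRingCat.ofHom (C : K →+* MvPolynomial σ1 K)) ≫ REq.specMap k K := by
    rw [← Spec.map_comp, ← Spec.map_comp, ← CommRingCat.ofHom_comp, ← CommRingCat.ofHom_comp]
    congr 2
    exact lineHom_comp_C _ _
  have eC : ∀ c : K, Spec.map (CommRingCat.ofHom (evc (K := K) c)) ≫
      Spec.map (CommRingCat.ofHom (C : K →+* MvPolynomial σ1 K)) = 𝟙 _ := by
    intro c
    rw [← Spec.map_comp, ← CommRingCat.ofHom_comp, evc_comp_C]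
    exact Spec.map_id _
  let W' : (Spec (CommRingCat.of (MvPolynomial σ1 K))).Opens := L ⁻¹ᵁ V
  have hr : ∀ (c : K) (P : REq.Pts (U.ι ≫ f) K),
      Spec.map (CommRingCat.ofHom (evc (K := K) c)) ≫ L = P.1 ≫ a ≫ V.ι →
      Set.range (Spec.map (CommRingCat.ofHom (evc (K := K) c))) ⊆ Set.range W'.ι := by
    rintro c P hc _ ⟨x, rfl⟩
    rw [Scheme.Opens.range_ι]
    show L ((Spec.map (CommRingCat.ofHom (evc (K := K) c))) x) ∈ V
    rw [← Scheme.Hom.comp_apply, hc, ← Category.assoc]
    exact mem_of_comp_ι V _ x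
  let p0 := IsOpenImmersion.lift W'.ι (Spec.map (CommRingCat.ofHom (evc (K := K) 0))) (hr 0 A e0)
  let p1 := IsOpenImmersion.lift W'.ι (Spec.map (CommRingCat.ofHom (evc (K := K) 1))) (hr 1 B e1)
  have hp0 : p0 ≫ W'.ι = Spec.map (CommRingCat.ofHom (evc (K := K) 0)) :=
    IsOpenImmersion.lift_fac _ _ _
  have hp1 : p1 ≫ W'.ι = Spec.map (CommRingCat.ofHom (evc (K := K) 1)) :=
    IsOpenImmersion.lift_fac _ _ _
  let j := lineι K
  let iso := j.isoImage W'
  have hiso : iso.hom ≫ (j ''ᵁ W').ι = W'.ι ≫ j := Scheme.Hom.isoImage_hom_ι _ _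
  have hres : (L ∣_ V) ≫ V.ι = W'.ι ≫ L := morphismRestrict_ι L V
  refine ⟨j ''ᵁ W', iso.inv ≫ (L ∣_ V) ≫ b, p0 ≫ iso.hom, p1 ≫ iso.hom, ?_, ?_, ?_, ?_, ?_⟩
  · rw [Category.assoc, Category.assoc, hb, reassoc_of% hres, eL, ← Category.assoc W'.ι,
      ← lineι_over, Iso.inv_comp_eq, ← reassoc_of% hiso]
    simp only [Category.assoc]
  · rw [Category.assoc, reassoc_of% hiso, reassoc_of% hp0, lineι_over, eC]
  · rw [Category.assoc, reassoc_of% hiso, reassoc_of% hp1, lineι_over, eC]
  · rw [Category.assoc, Iso.hom_inv_id_assoc]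
    have : p0 ≫ (L ∣_ V) = A.1 ≫ a := by
      rw [← cancel_mono V.ι, Category.assoc, hres, reassoc_of% hp0, e0, Category.assoc]
    rw [reassoc_of% this, hab, Category.comp_id]
  · rw [Category.assoc, Iso.hom_inv_id_assoc]
    have : p1 ≫ (L ∣_ V) = B.1 ≫ a := by
      rw [← cancel_mono V.ι, Category.assoc, hres, reassoc_of% hp1, e1, Category.assoc]
    rw [reassoc_of% this, hab, Category.comp_id]

end link

end Groth.Agent.Helper23.RLink1
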