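import Mathlib
import Groth.Prelude.Def_W4c5nonratstablectREq
import Groth.Agent.Lib.Helper23.RLink1

/-!
# Almost R-triviality of retract rational varieties (helper23)
-/

set_option autoImplicit false

universe u

open CategoryTheory AlgebraicGeometry TopologicalSpace Opposite Limits MvPolynomial

namespace Groth.Agent.Helper23.RLink2

open Groth.Agent.Helper23.RLink1

/-- a non-empty open subset of affine space over an infinite field has a rational point -/
theorem exists_rat_point (k : Type u) [Field k] [Infinite k] (n : ℕ)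
    (V : (Spec (CommRingCat.of (MvPolynomial (Fin n) k))).Opens) (hV : (V : Set ↥(Spec (CommRingCat.of (MvPolynomial (Fin n) k)))).Nonempty) :
    ∃ c : Fin n → k, ∀ y : ↥(Spec (CommRingCat.of k)),
      (Spec.map (CommRingCat.ofHom (eval c : MvPolynomial (Fin n) k →+* k))) y ∈ V := by
  obtain ⟨x, hx⟩ := hV
  obtain ⟨_, ⟨g, rfl⟩, hxg, hgV⟩ :=
    (PrimeSpectrum.isTopologicalBasis_basic_opens (R := MvPolynomial (Fin n) k)).exists_subset_of_mem_open
      hx V.isOpen
  have hg0 : g ≠ 0 := by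
    rintro rfl
    exact hxg (Submodule.zero_mem _)
  have : ∃ c : Fin n → k, eval c g ≠ 0 := by
    by_contra hcon
    push Not at hcon
    exact hg0 (MvPolynomial.funext (fun c => by rw [hcon c, map_zero]))
  obtain ⟨c, hc⟩ := this
  refine ⟨c, fun y => hgV ?_⟩
  rw [Spec.map_apply]
  show g ∉ (PrimeSpectrum.comap _ y).asIdeal
  rw [PrimeSpectrum.comap_asIdeal, Ideal.mem_comap]
  intro hmem
  have hbot : y.asIdeal = ⊥ := Ideal.eq_bot_of_prime _
  rw [hbot] at hmem
  exact hc hmem

section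

variable {k : Type u} [Field k] {X : Scheme.{u}} (f : X ⟶ Spec (CommRingCat.of k))

theorem elemLink_of_open (U : X.Opens) (K : Type u) [Field K] [Algebra k K]
    (A B : REq.Pts f K) (A' B' : REq.Pts (U.ι ≫ f) K) (hA : A'.1 ≫ U.ι = A.1)
    (hB : B'.1 ≫ U.ι = B.1) (h : REq.ElemLink (U.ι ≫ f) K A' B') : REq.ElemLink f K A B := by
  obtain ⟨W, g, a, b, h0, h1, h2, h3, h4⟩ := h
  refine ⟨W, g ≫ U.ι, a, b, ?_, h1, h2, ?_, ?_⟩
  · rw [Category.assoc]; exact h0
  · rw [← Category.assoc, h3, hA]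
  · rw [← Category.assoc, h4, hB]

theorem isAlmostRTrivial_of_retract [Infinite k] [IrreducibleSpace X]
    (hX : REq.IsRetractRational f) : REq.IsAlmostRTrivial f := by
  obtain ⟨U, n, V, a, b, hne, hab, ha, hb⟩ := hX
  refine ⟨U, U.isOpen.dense hne, fun K _ _ => ⟨?_, ?_⟩⟩
  · -- a K-point in U
    have hVne : (V : Set ↥(Spec (CommRingCat.of (MvPolynomial (Fin n) k)))).Nonempty := by
      obtain ⟨x, hx⟩ := hne
      have := mem_of_comp_ι V (𝟙 _ ≫ a) (⟨x, hx⟩ : ↥(U : Scheme.{u}))
      exact ⟨_, this⟩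
    obtain ⟨c, hc⟩ := exists_rat_point k n V hVne
    let e : Spec (CommRingCat.of k) ⟶ Spec (CommRingCat.of (MvPolynomial (Fin n) k)) :=
      Spec.map (CommRingCat.ofHom (eval c : MvPolynomial (Fin n) k →+* k))
    have hr : Set.range e ⊆ Set.range V.ι := by
      rintro _ ⟨y, rfl⟩
      rw [Scheme.Opens.range_ι]
      exact hc y
    let p := IsOpenImmersion.lift V.ι e hr
    have hp : p ≫ V.ι = e := IsOpenImmersion.lift_fac _ _ _
    have he : e ≫ Spec.map (CommRingCat.ofHom (algebraMap k (MvPolynomial (Fin n) k))) = 𝟙 _ := by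
      rw [← Spec.map_comp, ← CommRingCat.ofHom_comp]
      have : (eval c : MvPolynomial (Fin n) k →+* k).comp
          (algebraMap k (MvPolynomial (Fin n) k)) = RingHom.id k := by
        ext x; simp
      rw [this]
      exact Spec.map_id _
    refine ⟨⟨REq.specMap k K ≫ p ≫ b ≫ U.ι, ?_⟩, ?_⟩
    · rw [Category.assoc, Category.assoc, Category.assoc, hb, reassoc_of% hp, he, Category.comp_id]
    · rintro _ ⟨y, rfl⟩
      show (REq.specMap k K ≫ p ≫ b ≫ U.ι) y ∈ U
      rw [← Category.assoc, ← Category.assoc]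
      exact mem_of_comp_ι U _ y
  · intro A B hA hB
    have hrA : Set.range A.1 ⊆ Set.range U.ι := by rw [Scheme.Opens.range_ι]; exact hA
    have hrB : Set.range B.1 ⊆ Set.range U.ι := by rw [Scheme.Opens.range_ι]; exact hB
    let A' : REq.Pts (U.ι ≫ f) K := ⟨IsOpenImmersion.lift U.ι A.1 hrA, by
      rw [← Category.assoc, IsOpenImmersion.lift_fac]; exact A.2⟩
    let B' : REq.Pts (U.ι ≫ f) K := ⟨IsOpenImmersion.lift U.ι B.1 hrB, by
      rw [← Category.assoc, IsOpenImmersion.lift_fac]; exact B.2⟩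
    exact Relation.EqvGen.rel _ _ (elemLink_of_open f U K A B A' B'
      (IsOpenImmersion.lift_fac _ _ _) (IsOpenImmersion.lift_fac _ _ _)
      (elemLink_of_retract f U n V a b hab ha hb K A' B'))

end

end Groth.Agent.Helper23.RLink2
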