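import Mathlib
import Groth.Prelude.Def_W4c5nonratstablectREq
import Groth.Agent.Lib.Helper23.RLink1
import Groth.Agent.Lib.Helper23.ProjPtPn

/-!
# Two points of an open of projective space are directly R-linked (helper23)
-/

set_option autoImplicit false

universe u

open CategoryTheory AlgebraicGeometry TopologicalSpace Opposite Limits MvPolynomial

namespace Groth.Agent.Helper23.RLink3

open Groth.Agent.Helper23.RLink1 Groth.Agent.Helper23.ProjPt Groth.Agent.Helper23.ProjPtPn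
open Groth.Agent.Lib.Helper26.ProjChart

section general

variable {k : Type u} [Field k] {X : Scheme.{u}} (f : X ⟶ Spec (CommRingCat.of k))

theorem elemLink_of_map (V : X.Opens) (K : Type u) [Field K] [Algebra k K] (Z : Scheme.{u})
    (j : Z ⟶ REq.P1K K) [IsOpenImmersion j] (L : Z ⟶ X)
    (hL : L ≫ f = j ≫ REq.P1K.toSpec K ≫ REq.specMap k K)
    (p0 p1 : Spec (CommRingCat.of K) ⟶ Z)
    (h0 : p0 ≫ j ≫ REq.P1K.toSpec K = 𝟙 _) (h1 : p1 ≫ j ≫ REq.P1K.toSpec K = 𝟙 _)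
    (A B : REq.Pts (V.ι ≫ f) K) (hA : p0 ≫ L = A.1 ≫ V.ι) (hB : p1 ≫ L = B.1 ≫ V.ι) :
    REq.ElemLink (V.ι ≫ f) K A B := by
  let W' : Z.Opens := L ⁻¹ᵁ V
  have hr : ∀ (p : Spec (CommRingCat.of K) ⟶ Z) (P : REq.Pts (V.ι ≫ f) K),
      p ≫ L = P.1 ≫ V.ι → Set.range p ⊆ Set.range W'.ι := by
    rintro p P hp _ ⟨x, rfl⟩
    rw [Scheme.Opens.range_ι]
    show L (p x) ∈ V
    rw [← Scheme.Hom.comp_apply, hp]
    exact mem_of_comp_ι V _ x
  let q0 := IsOpenImmersion.lift W'.ι p0 (hr p0 A hA)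
  let q1 := IsOpenImmersion.lift W'.ι p1 (hr p1 B hB)
  have hq0 : q0 ≫ W'.ι = p0 := IsOpenImmersion.lift_fac _ _ _
  have hq1 : q1 ≫ W'.ι = p1 := IsOpenImmersion.lift_fac _ _ _
  let iso := j.isoImage W'
  have hiso : iso.hom ≫ (j ''ᵁ W').ι = W'.ι ≫ j := Scheme.Hom.isoImage_hom_ι _ _
  have hres : (L ∣_ V) ≫ V.ι = W'.ι ≫ L := morphismRestrict_ι L V
  refine ⟨j ''ᵁ W', iso.inv ≫ (L ∣_ V), q0 ≫ iso.hom, q1 ≫ iso.hom, ?_, ?_, ?_, ?_, ?_⟩
  · rw [Category.assoc, reassoc_of% hres, hL, Iso.inv_comp_eq, ← reassoc_of% hiso]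
  · rw [Category.assoc, reassoc_of% hiso, reassoc_of% hq0, h0]
  · rw [Category.assoc, reassoc_of% hiso, reassoc_of% hq1, h1]
  · rw [Category.assoc, Iso.hom_inv_id_assoc, ← cancel_mono V.ι, Category.assoc, hres,
      reassoc_of% hq0, hA]
  · rw [Category.assoc, Iso.hom_inv_id_assoc, ← cancel_mono V.ι, Category.assoc, hres,
      reassoc_of% hq1, hB]

end general

section line

variable (n : ℕ) {K : Type u} [Field K]

/-- the canonical ring hom `ULift ℤ → S` -/
noncomputable def cst (S : Type*) [Ring S] : ULift.{u} ℤ →+* S :=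
  (Int.castRingHom S).comp (ULift.ringEquiv : ULift.{u} ℤ ≃+* ℤ).toRingHom

/-- the parametrised line through two coordinate vectors -/
noncomputable def lineT (eA eB : MvPolynomial (Fin (n + 1)) (ULift.{u} ℤ) →+* K) :
    MvPolynomial (Fin (n + 1)) (ULift.{u} ℤ) →+* MvPolynomial σ1 K :=
  eval₂Hom (cst (MvPolynomial σ1 K))
    (fun m => C (eA (X m)) * (1 - tt) + C (eB (X m)) * tt)

theorem evc_zero_lineT (eA eB : MvPolynomial (Fin (n + 1)) (ULift.{u} ℤ) →+* K) :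
    (evc 0).comp (lineT n eA eB) = eA := by
  refine MvPolynomial.ringHom_ext (fun r => ?_) (fun m => ?_)
  · exact RingHom.congr_fun (ringHom_ulift_int_ext
      (((evc 0).comp (lineT n eA eB)).comp C) (eA.comp C)) r
  · simp [lineT, evc, tt]

theorem evc_one_lineT (eA eB : MvPolynomial (Fin (n + 1)) (ULift.{u} ℤ) →+* K) :
    (evc 1).comp (lineT n eA eB) = eB := by
  refine MvPolynomial.ringHom_ext (fun r => ?_) (fun m => ?_)
  · exact RingHom.congr_fun (ringHom_ulift_int_ext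
      (((evc 1).comp (lineT n eA eB)).comp C) (eB.comp C)) r
  · simp [lineT, evc, tt]

/-- a linear form not vanishing at two given points -/
theorem exists_form (eA eB : MvPolynomial (Fin (n + 1)) (ULift.{u} ℤ) →+* K) (i j : Fin (n + 1))
    (hA : eA (X i) = 1) (hB : eB (X j) = 1) :
    ∃ f : MvPolynomial (Fin (n + 1)) (ULift.{u} ℤ), f ∈ CohB1.polyGrading n (ULift.{u} ℤ) 1 ∧
      eA f ≠ 0 ∧ eB f ≠ 0 := by
  by_cases h1 : eB (X i) = 0
  · by_cases h2 : eA (X j) = 0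
    · refine ⟨X i + X j, Submodule.add_mem _ (X_mem n _ i) (X_mem n _ j), ?_, ?_⟩
      · rw [map_add, hA, h2, add_zero]; exact one_ne_zero
      · rw [map_add, hB, h1, zero_add]; exact one_ne_zero
    · exact ⟨X j, X_mem n _ j, h2, by rw [hB]; exact one_ne_zero⟩
  · exact ⟨X i, X_mem n _ i, by rw [hA]; exact one_ne_zero, h1⟩

end line

section main

variable (k : Type u) [Field k] (n : ℕ)

theorem elemLink_of_coords (V : (CohB1.ProjSpaceOver n (Spec (CommRingCat.of k))).Opens)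
    (K : Type u) [Field K] [Algebra k K]
    (A B : REq.Pts (V.ι ≫ CohB1.ProjSpaceOver.toBase n (Spec (CommRingCat.of k))) K)
    (eA eB : MvPolynomial (Fin (n + 1)) (ULift.{u} ℤ) →+* K)
    (f : MvPolynomial (Fin (n + 1)) (ULift.{u} ℤ))
    (f_deg : f ∈ CohB1.polyGrading n (ULift.{u} ℤ) 1) (hfA : eA f ≠ 0) (hfB : eB f ≠ 0)
    (hxA : A.1 ≫ V.ι ≫ P1Irr.fstP n (Spec (CommRingCat.of k)) =
      pt (CohB1.polyGrading n (ULift.{u} ℤ)) eA f_deg one_pos hfA.isUnit)
    (hxB : B.1 ≫ V.ι ≫ P1Irr.fstP n (Spec (CommRingCat.of k)) =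
      pt (CohB1.polyGrading n (ULift.{u} ℤ)) eB f_deg one_pos hfB.isUnit)
    (gt : MvPolynomial σ1.{u} K) (hgt : gt = lineT n eA eB f)
    (R : Type u) [CommRing R] [Algebra (MvPolynomial σ1.{u} K) R] [IsLocalization.Away gt R] :
    REq.ElemLink (V.ι ≫ CohB1.ProjSpaceOver.toBase n (Spec (CommRingCat.of k))) K A B := by
  have hg0 : evc 0 gt = eA f := by
    rw [hgt]; exact RingHom.congr_fun (evc_zero_lineT n eA eB) f
  have hg1 : evc 1 gt = eB f := by
    rw [hgt]; exact RingHom.congr_fun (evc_one_lineT n eA eB) f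
  have hu0 : IsUnit (evc (K := K) 0 gt) := by rw [hg0]; exact hfA.isUnit
  have hu1 : IsUnit (evc (K := K) 1 gt) := by rw [hg1]; exact hfB.isUnit
  let alg : MvPolynomial σ1 K →+* R := algebraMap _ _
  let eR : MvPolynomial (Fin (n + 1)) (ULift.{u} ℤ) →+* R := alg.comp (lineT n eA eB)
  have hunit : IsUnit (eR f) := by
    show IsUnit (algebraMap (MvPolynomial σ1 K) R (lineT n eA eB f))
    rw [← hgt]
    exact IsLocalization.Away.algebraMap_isUnit gt
  let ρ0 : R →+* K := IsLocalization.Away.lift gt hu0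
  let ρ1 : R →+* K := IsLocalization.Away.lift gt hu1
  have hρ0 : ρ0.comp alg = evc 0 := IsLocalization.Away.lift_comp _ _
  have hρ1 : ρ1.comp alg = evc 1 := IsLocalization.Away.lift_comp _ _
  have hρ0e : ρ0.comp eR = eA := by
    rw [← RingHom.comp_assoc, hρ0, evc_zero_lineT]
  have hρ1e : ρ1.comp eR = eB := by
    rw [← RingHom.comp_assoc, hρ1, evc_one_lineT]
  -- the line in `P^n_ℤ`
  let L0 : Spec (CommRingCat.of R) ⟶ Proj (CohB1.polyGrading n (ULift.{u} ℤ)) :=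
    pt (CohB1.polyGrading n (ULift.{u} ℤ)) eR f_deg one_pos hunit
  have hL0A : Spec.map (CommRingCat.ofHom ρ0) ≫ L0 =
      A.1 ≫ V.ι ≫ P1Irr.fstP n (Spec (CommRingCat.of k)) := by
    rw [hxA, pt_comp]
    exact pt_congr_hom _ _ _ hρ0e f_deg one_pos _
  have hL0B : Spec.map (CommRingCat.ofHom ρ1) ≫ L0 =
      B.1 ≫ V.ι ≫ P1Irr.fstP n (Spec (CommRingCat.of k)) := by
    rw [hxB, pt_comp]
    exact pt_congr_hom _ _ _ hρ1e f_deg one_pos _
  -- the structure morphism to `Spec K`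
  let sK : Spec (CommRingCat.of R) ⟶ Spec (CommRingCat.of K) :=
    Spec.map (CommRingCat.ofHom (alg.comp (C : K →+* MvPolynomial σ1 K)))
  have hsK0 : Spec.map (CommRingCat.ofHom ρ0) ≫ sK = 𝟙 _ := by
    rw [← Spec.map_comp, ← CommRingCat.ofHom_comp, ← RingHom.comp_assoc, hρ0, evc_comp_C]
    exact Spec.map_id _
  have hsK1 : Spec.map (CommRingCat.ofHom ρ1) ≫ sK = 𝟙 _ := by
    rw [← Spec.map_comp, ← CommRingCat.ofHom_comp, ← RingHom.comp_assoc, hρ1, evc_comp_C]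
    exact Spec.map_id _
  let Lk : Spec (CommRingCat.of R) ⟶ CohB1.ProjSpaceOver n (Spec (CommRingCat.of k)) :=
    pullback.lift L0 (sK ≫ REq.specMap k K) (specULiftZIsTerminal.hom_ext _ _)
  have hLk1 : Lk ≫ P1Irr.fstP n (Spec (CommRingCat.of k)) = L0 := pullback.lift_fst _ _ _
  have hLk2 : Lk ≫ CohB1.ProjSpaceOver.toBase n (Spec (CommRingCat.of k)) = sK ≫ REq.specMap k K :=
    pullback.lift_snd _ _ _
  let jZ : Spec (CommRingCat.of R) ⟶ REq.P1K K := Spec.map (CommRingCat.ofHom alg) ≫ lineι K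
  haveI : IsOpenImmersion (Spec.map (CommRingCat.ofHom alg)) :=
    IsOpenImmersion.of_isLocalization gt
  haveI : IsOpenImmersion jZ := inferInstanceAs (IsOpenImmersion (_ ≫ _))
  have hjZ : jZ ≫ REq.P1K.toSpec K = sK := by
    show (Spec.map (CommRingCat.ofHom alg) ≫ lineι K) ≫ REq.P1K.toSpec K = sK
    rw [Category.assoc, lineι_over, ← Spec.map_comp, ← CommRingCat.ofHom_comp]
  refine elemLink_of_map _ V K _ jZ Lk ?_ (Spec.map (CommRingCat.ofHom ρ0))
    (Spec.map (CommRingCat.ofHom ρ1)) ?_ ?_ A B ?_ ?_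
  · rw [hLk2, reassoc_of% hjZ]
  · rw [hjZ, hsK0]
  · rw [hjZ, hsK1]
  · apply pullback.hom_ext
    · exact (Category.assoc _ _ _).trans
        ((congrArg (fun t => Spec.map (CommRingCat.ofHom ρ0) ≫ t) hLk1).trans
          (hL0A.trans (Category.assoc _ _ _).symm))
    · refine (Category.assoc _ _ _).trans
        ((congrArg (fun t => Spec.map (CommRingCat.ofHom ρ0) ≫ t) hLk2).trans ?_)
      refine Eq.trans ?_ (A.2.symm.trans (Category.assoc _ _ _).symm)
      rw [reassoc_of% hsK0]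
  · apply pullback.hom_ext
    · exact (Category.assoc _ _ _).trans
        ((congrArg (fun t => Spec.map (CommRingCat.ofHom ρ1) ≫ t) hLk1).trans
          (hL0B.trans (Category.assoc _ _ _).symm))
    · refine (Category.assoc _ _ _).trans
        ((congrArg (fun t => Spec.map (CommRingCat.ofHom ρ1) ≫ t) hLk2).trans ?_)
      refine Eq.trans ?_ (B.2.symm.trans (Category.assoc _ _ _).symm)
      rw [reassoc_of% hsK1]

theorem elemLink_projSpace (V : (CohB1.ProjSpaceOver n (Spec (CommRingCat.of k))).Opens)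
    (K : Type u) [Field K] [Algebra k K]
    (A B : REq.Pts (V.ι ≫ CohB1.ProjSpaceOver.toBase n (Spec (CommRingCat.of k))) K) :
    REq.ElemLink (V.ι ≫ CohB1.ProjSpaceOver.toBase n (Spec (CommRingCat.of k))) K A B := by
  obtain ⟨i, eA, heA, hxA⟩ := exists_pt_eq n K
    (A.1 ≫ V.ι ≫ P1Irr.fstP n (Spec (CommRingCat.of k)))
  obtain ⟨j, eB, heB, hxB⟩ := exists_pt_eq n K
    (B.1 ≫ V.ι ≫ P1Irr.fstP n (Spec (CommRingCat.of k)))
  obtain ⟨f, f_deg, hfA, hfB⟩ := exists_form n eA eB i j heA heB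
  obtain ⟨gt, hgt⟩ : ∃ g, g = lineT n eA eB f := ⟨_, rfl⟩
  refine elemLink_of_coords k n V K A B eA eB f f_deg hfA hfB ?_ ?_ gt hgt (Localization.Away gt)
  · rw [hxA]
    exact pt_indep _ _ _ _ _ _ _ _
  · rw [hxB]
    exact pt_indep _ _ _ _ _ _ _ _

end main

end Groth.Agent.Helper23.RLink3
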