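import Mathlib
import Groth.Agent.Lib.Helper23.Reg6
import Groth.Agent.Lib.Helper23.GrSyzMin
import Groth.Agent.S15423

/-!
# Regularity: the regularity (syzygy sense) in terms of graded local cohomology
-/

set_option autoImplicit false
set_option linter.unusedVariables false
set_option linter.unusedSectionVars false

open DirectSum Groth.Agent.Helper20.GrInj

namespace Groth.Agent.Helper23.Reg

universe u

section ResOfAdd

variable {ι : Type} [AddCommGroup ι] [DecidableEq ι]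
variable {R : Type u} [CommRing R]
variable {σ : Type u} [SetLike σ R] [AddSubgroupClass σ R] {𝒜 : ι → σ} [GradedRing 𝒜]
variable {M : Type u} [AddCommGroup M] [Module R M]
variable {τ : Type u} [SetLike τ M] [AddSubgroupClass τ M] {ℳ : ι → τ}
  [DirectSum.Decomposition ℳ] [SetLike.GradedSMul 𝒜 ℳ]

/-- a *injective resolution over the underlying family of additive subgroups, viewed over the
original family -/
def resOfAdd (E : GrLC.StarInjRes 𝒜 (addGr ℳ)) : GrLC.StarInjRes 𝒜 ℳ where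
  X := E.X
  d := E.d
  ε := E.ε
  d_grHom := E.d_grHom
  ε_grHom := E.ε_grHom
  ε_injective := E.ε_injective
  exact_zero := E.exact_zero
  exact_succ := E.exact_succ
  starInj := E.starInj

variable (𝒜 ℳ) in
/-- existence of *injective resolutions for gradings by sub-objects -/
noncomputable def starInjRes' : GrLC.StarInjRes 𝒜 ℳ := resOfAdd (starInjRes 𝒜 (addGr ℳ))

end ResOfAdd

section Poly

variable {k : Type u} [Field k] {r : ℕ}
variable {M : Type u} [AddCommGroup M] [Module k M] [Module (MvPolynomial (Fin (r + 1)) k) M]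
  [IsScalarTower k (MvPolynomial (Fin (r + 1)) k) M] [Module.Finite (MvPolynomial (Fin (r + 1)) k) M]
  {ℳ : ℤ → Submodule k M} [DirectSum.Decomposition ℳ]
  [SetLike.GradedSMul (GrSyz.stdGr k (Fin (r + 1))) ℳ]

theorem reg_le_iff_isGenLE (F : GrSyz.FreeRes (GrSyz.stdGr k (Fin (r + 1))) ℳ)
    (hF : F.IsMinimal (GrSyz.irrel (GrSyz.stdGr k (Fin (r + 1)))).toIdeal) (ρ : ℤ) :
    GrSyz.reg (GrSyz.stdGr k (Fin (r + 1))) ℳ (GrSyz.irrel (GrSyz.stdGr k (Fin (r + 1)))).toIdeal ≤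
        ((ρ : WithTop ℤ) : WithBot (WithTop ℤ)) ↔ F.IsGenLE ρ := by
  rw [Groth.Agent.S15423.main F hF, Groth.Agent.S15423.sup_le_iff]

theorem reg_le_iff_Hcomp (E : GrLC.StarInjRes (GrSyz.stdGr k (Fin (r + 1))) ℳ) (ρ : ℤ) :
    GrSyz.reg (GrSyz.stdGr k (Fin (r + 1))) ℳ (GrSyz.irrel (GrSyz.stdGr k (Fin (r + 1)))).toIdeal ≤
        ((ρ : WithTop ℤ) : WithBot (WithTop ℤ)) ↔
      ∀ (i : ℕ) (n : ℤ), ρ - i < n →
        E.Hcomp (GrSyz.irrel (GrSyz.stdGr k (Fin (r + 1)))) i n = ⊥ := by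
  obtain ⟨F, hF⟩ := Groth.Agent.Helper23.GrSyzMin.exists_freeRes_isMinimal (σ := Fin (r + 1)) ℳ
  rw [reg_le_iff_isGenLE F hF, isGenLE_iff_Hcomp F hF E ρ]

theorem reg_le_iff_weak (E : GrLC.StarInjRes (GrSyz.stdGr k (Fin (r + 1))) ℳ) (d : ℤ) :
    GrSyz.reg (GrSyz.stdGr k (Fin (r + 1))) ℳ (GrSyz.irrel (GrSyz.stdGr k (Fin (r + 1)))).toIdeal ≤
        ((d : WithTop ℤ) : WithBot (WithTop ℤ)) ↔
      (GrLC.endDeg (E.Hgr (GrSyz.irrel (GrSyz.stdGr k (Fin (r + 1)))) 0) ≤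
          ((d : WithTop ℤ) : WithBot (WithTop ℤ)) ∧
        ∀ i : ℕ, 0 < i →
          E.Hcomp (GrSyz.irrel (GrSyz.stdGr k (Fin (r + 1)))) i (d - (i : ℤ) + 1) = ⊥) := by
  rw [reg_le_iff_Hcomp E d]
  have e0 : GrLC.endDeg (E.Hgr (GrSyz.irrel (GrSyz.stdGr k (Fin (r + 1)))) 0) ≤
      ((d : WithTop ℤ) : WithBot (WithTop ℤ)) ↔
      ∀ n : ℤ, d < n → E.Hcomp (GrSyz.irrel (GrSyz.stdGr k (Fin (r + 1)))) 0 n = ⊥ :=
    endDeg_Hgr_le_iff (resToAdd E) (GrSyz.irrel (GrSyz.stdGr k (Fin (r + 1)))) 0 d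
  rw [e0]
  constructor
  · intro h
    refine ⟨fun n hn => h 0 n (by push_cast; omega), fun i _ => h i _ (by omega)⟩
  · rintro ⟨h0, h1⟩ i n hn
    cases i with
    | zero => exact h0 n (by push_cast at hn; omega)
    | succ i =>
      have hp := wreg_propagate (GrSyz.irrel (GrSyz.stdGr k (Fin (r + 1)))) irrel_stdGr_eq_span
        (resToAdd E) d h1 (i + 1) (Nat.succ_pos i) n (by omega)
      exact hp

theorem eq_of_forall_int {x y : WithBot (WithTop ℤ)}
    (h : ∀ ρ : ℤ, x ≤ ((ρ : WithTop ℤ) : WithBot (WithTop ℤ)) ↔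
      y ≤ ((ρ : WithTop ℤ) : WithBot (WithTop ℤ))) : x = y :=
  le_antisymm (Groth.Agent.S15423.le_of_forall_int (fun ρ hρ => (h ρ).mpr hρ))
    (Groth.Agent.S15423.le_of_forall_int (fun ρ hρ => (h ρ).mp hρ))

end Poly

end Groth.Agent.Helper23.Reg
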