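import Groth.Agent.Lib.Helper23.Reg7

/-!
# Graded local cohomology below the depth, and the top of the resolution of a CM module

* `HVan_self_lt`: `H^i_𝔪(S) = 0` (all degrees) for `i <` number of variables;
* `HVan_syz_lt`: `H^i_𝔪(M) = 0` for `i + ℓ ≤ r` when `M` has a resolution of length `≤ ℓ` over
  `k[x_0..x_r]`;
* `HVan_top`: if all generators of `F_ℓ` have degree `< e + r + 1` then `H^{r+1-ℓ}_𝔪(M)_e = 0`.
-/

set_option autoImplicit false
set_option linter.unusedVariables false
set_option linter.unusedSectionVars false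

open DirectSum Groth.Agent.Helper20.GrInj MvPolynomial

namespace Groth.Agent.Helper23.Reg

universe u

section Var

variable {k : Type u} [Field k] {σ : Type}

/-- total vanishing below the depth on the chain of quotients -/
theorem HVan_varQuot_lt [Finite σ] [DecidableEq σ] (T : Finset σ) :
    ∀ (i : ℕ), i < T.card → ∀ n : ℤ,
      HVan (varQuot k T) (GrSyz.irrel (GrSyz.stdGr k σ)) i n := by
  induction T using Finset.induction_on with
  | empty =>
    intro i hi
    simp at hi
  | insert v T hv ih =>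
    intro i hi n
    rw [Finset.card_insert_of_notMem hv] at hi
    have hreg : ∀ z : (varQuot k (insert v T)).carrier, (X v : MvPolynomial σ k) • z = 0 → z = 0 :=
      X_regular_varQuot (insert v T) (Finset.mem_insert_self v T)
    cases i with
    | zero =>
      intro E
      apply Hcomp_zero_eq_bot E _ n
      intro m _ hm
      obtain ⟨N, hN⟩ := hm
      have h1 : (X v : MvPolynomial σ k) ^ N • m = 0 :=
        hN _ (Ideal.pow_mem_pow (X_mem_irrel v) N)
      clear hN
      induction N with
      | zero => rwa [pow_zero, one_smul] at h1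
      | succ N ihN =>
        apply ihN
        apply hreg
        rw [← mul_smul, ← pow_succ']
        exact h1
    | succ i =>
      intro E
      have hx : (X v : MvPolynomial σ k) ∈ GrSyz.stdGr k σ 1 := by
        rw [GrSyz.mem_stdGr_iff]
        exact isWeightedHomogeneous_X k _ v
      refine Hcomp_succ_eq_bot_of_regular (GrSyz.irrel (GrSyz.stdGr k σ)) one_pos hx (X_mem_irrel v)
        hreg (varProj T) (varProj_surjective T) (varProj_grHom T) (varProj_ker T hv) E
        (starInjRes (GrSyz.stdGr k σ) (varQuot k T).gr) i (n + 1)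
        (fun n' _ => ih i (by omega) n' _) n ?_
      omega

/-- `H^i_𝔪(S) = 0` in all degrees for `i < #variables` -/
theorem HVan_self_lt [Fintype σ] [DecidableEq σ] (i : ℕ) (hi : i < Fintype.card σ) (n : ℤ) :
    HVan (selfGMod (GrSyz.stdGr k σ)) (GrSyz.irrel (GrSyz.stdGr k σ)) i n := by
  have hbot : varIdeal k (Finset.univ : Finset σ) = ⊥ := by
    rw [varIdeal]
    have : {i : σ | i ∉ (Finset.univ : Finset σ)} = ∅ := by
      ext i
      simp
    rw [this, Set.image_empty, Ideal.span_empty]
  let e : (varQuot k (Finset.univ : Finset σ)).carrier ≃ₗ[MvPolynomial σ k] MvPolynomial σ k :=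
    Submodule.quotEquivOfEqBot _ hbot
  refine HVan_of_equiv (X := varQuot k Finset.univ) (Y := selfGMod (GrSyz.stdGr k σ)) e ?_ _ i n
    (HVan_varQuot_lt Finset.univ i (by rwa [Finset.card_univ]) n)
  intro g z hz
  obtain ⟨y, hy, rfl⟩ := (mem_varQuot_gr _ g z).mp hz
  have : e (varMk k Finset.univ y) = y := Submodule.quotEquivOfEqBot_apply_mk _ hbot y
  show e (varMk k Finset.univ y) ∈ GrSyz.stdGr k σ g
  rw [this]
  exact hy

end Var

section Res

variable {k : Type u} [Field k] {r : ℕ}
  {M : Type u} [AddCommGroup M] [Module k M] [Module (MvPolynomial (Fin (r + 1)) k) M]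
  [IsScalarTower k (MvPolynomial (Fin (r + 1)) k) M] [Module.Finite (MvPolynomial (Fin (r + 1)) k) M]
  {ℳ : ℤ → Submodule k M} [DirectSum.Decomposition ℳ]
  [SetLike.GradedSMul (GrSyz.stdGr k (Fin (r + 1))) ℳ]
  (F : GrSyz.FreeRes (GrSyz.stdGr k (Fin (r + 1))) ℳ)

local notation "𝔪" => GrSyz.irrel (GrSyz.stdGr k (Fin (r + 1)))

theorem HVan_FM_lt (j i : ℕ) (hi : i < r + 1) (n : ℤ) : HVan (FM F j) 𝔪 i n := by
  apply HVan_free
  intro b
  exact HVan_self_lt i (by rwa [Fintype.card_fin]) _

theorem syz_eq_zero (j : ℕ) (h : F.rk (j + 1) = 0) (z : (syz F (j + 1)).carrier) : z = 0 := by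
  apply syzι_injective F j
  rw [map_zero]
  have hz : syzι F j z ∈ LinearMap.range (F.dLin j) := by
    rw [← syzι_range]
    exact LinearMap.mem_range_self _ z
  obtain ⟨w, hw⟩ := hz
  have hw0 : w = 0 := by
    funext b
    have := b.2
    omega
  rw [← hw, hw0, map_zero]

/-- vanishing below the depth, read off a finite resolution -/
theorem HVan_syz_lt (ℓ : ℕ) (hℓ : F.HasLengthLE ℓ) :
    ∀ c j i : ℕ, j + c = ℓ + 1 → i + c ≤ r + 1 → ∀ n : ℤ, HVan (syz F j) 𝔪 i n := by
  intro c
  induction c with
  | zero =>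
    intro j i hj _ n
    obtain ⟨j', rfl⟩ : ∃ j', j = j' + 1 := ⟨ℓ, by omega⟩
    exact HVan_of_forall_eq_zero (X := syz F (j' + 1))
      (syz_eq_zero F j' (hℓ (j' + 1) (by omega))) 𝔪 i n
  | succ c ih =>
    intro j i hj hi n
    refine HVan_right (X' := syz F (j + 1)) (X := FM F j) (X'' := syz F j) (syzι F j) (syzφ F j)
      (syzι_grHom F j) (syzφ_grHom F j) (syzι_injective F j) (syz_exact F j)
      (syzφ_surjective F j) 𝔪 i n ?_ ?_
    · exact HVan_FM_lt F j i (by omega) n
    · exact ih (j + 1) (i + 1) (by omega) (by omega) n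

/-- if all generators of the last term `F_ℓ` have degree `≤ e + r`, then
`H^{r+1-ℓ}_𝔪(M)_e = 0` -/
theorem HVan_top (ℓ : ℕ) (hℓ : F.HasLengthLE ℓ) (e : ℤ) (hdeg : ∀ b, F.deg ℓ b ≤ e + r) :
    ∀ c j t : ℕ, j + c = ℓ → t + ℓ = r + 1 → HVan (syz F j) 𝔪 (t + j) e := by
  intro c
  induction c with
  | zero =>
    intro j t hj ht
    have hjℓ : j = ℓ := by omega
    subst hjℓ
    refine HVan_right (X' := syz F (j + 1)) (X := FM F j) (X'' := syz F j) (syzι F j) (syzφ F j)
      (syzι_grHom F j) (syzφ_grHom F j) (syzι_injective F j) (syz_exact F j)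
      (syzφ_surjective F j) 𝔪 (t + j) e ?_ ?_
    · apply HVan_free
      intro b
      apply HVan_self
      have := hdeg b
      push_cast
      omega
    · exact HVan_of_forall_eq_zero (X := syz F (j + 1))
        (syz_eq_zero F j (hℓ (j + 1) (by omega))) 𝔪 _ e
  | succ c ih =>
    intro j t hj ht
    refine HVan_right (X' := syz F (j + 1)) (X := FM F j) (X'' := syz F j) (syzι F j) (syzφ F j)
      (syzι_grHom F j) (syzφ_grHom F j) (syzι_injective F j) (syz_exact F j)
      (syzφ_surjective F j) 𝔪 (t + j) e ?_ ?_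
    · exact HVan_FM_lt F j (t + j) (by omega) e
    · have := ih (j + 1) t (by omega) ht
      rwa [← add_assoc] at this

end Res

end Groth.Agent.Helper23.Reg
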