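import Groth.Agent.Lib.Helper23.Reg8
import Groth.Agent.Lib.Helper23.ABPoly2

/-!
# Cohen–Macaulay modules attain their regularity at the end of the minimal resolution
-/

set_option autoImplicit false
set_option linter.unusedVariables false
set_option linter.unusedSectionVars false

open DirectSum Groth.Agent.Helper20.GrInj MvPolynomial

namespace Groth.Agent.Helper23.Reg

universe u

variable {k : Type u} [Field k] {r : ℕ}
  {M : Type u} [AddCommGroup M] [Module k M] [Module (MvPolynomial (Fin (r + 1)) k) M]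
  [IsScalarTower k (MvPolynomial (Fin (r + 1)) k) M] [Module.Finite (MvPolynomial (Fin (r + 1)) k) M]
  {ℳ : ℤ → Submodule k M} [DirectSum.Decomposition ℳ]
  [SetLike.GradedSMul (GrSyz.stdGr k (Fin (r + 1))) ℳ]
  (F : GrSyz.FreeRes (GrSyz.stdGr k (Fin (r + 1))) ℳ)

local notation "𝔪" => GrSyz.irrel (GrSyz.stdGr k (Fin (r + 1)))

/-- For a Cohen–Macaulay graded module over `k[x_0..x_r]` with minimal resolution of length exactly
`ℓ` and regularity exactly `ρ`, the last term `F_ℓ` has a generator of degree `ρ + ℓ`. -/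
theorem exists_top_deg_of_CM
    (hCM : Module.supportDim (MvPolynomial (Fin (r + 1)) k) M =
      ((LocCoh.idealDepth (GrSyz.irrel (GrSyz.stdGr k (Fin (r + 1)))).toIdeal M : ℕ∞) : WithBot ℕ∞))
    (hF : F.IsMinimal (GrSyz.irrel (GrSyz.stdGr k (Fin (r + 1)))).toIdeal)
    (ℓ : ℕ) (hℓ : F.HasLengthLE ℓ) (hℓ' : F.rk ℓ ≠ 0)
    (ρ : ℤ) (hρ : F.IsGenLE ρ) (hρ' : ∃ (i : ℕ) (b : Fin (F.rk i)), F.deg i b = ρ + i) :
    ∃ b : Fin (F.rk ℓ), F.deg ℓ b = ρ + ℓ := by
  have hAB := Groth.Agent.Helper23.ABPoly.ab_formula F hF ℓ hℓ hℓ'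
  -- the depth as a natural number
  have hne : LocCoh.idealDepth (GrSyz.irrel (GrSyz.stdGr k (Fin (r + 1)))).toIdeal M ≠ ⊤ := by
    intro h
    rw [h, add_top] at hAB
    exact ENat.top_ne_coe _ hAB
  obtain ⟨t, ht⟩ := ENat.ne_top_iff_exists.mp hne
  rw [← ht] at hAB hCM
  have htℓ : t + ℓ = r + 1 := by
    have : ((ℓ + t : ℕ) : ℕ∞) = ((r + 1 : ℕ) : ℕ∞) := by
      rw [← hAB]; push_cast; rfl
    have := Nat.cast_injective (R := ℕ∞) this
    omega
  have hdim : Module.supportDim (MvPolynomial (Fin (r + 1)) k) M < ((t + 1 : ℕ) : WithBot ℕ∞) := by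
    rw [hCM]
    exact_mod_cast Nat.lt_succ_self t
  by_contra hno
  rw [not_exists] at hno
  have hdeg : ∀ b, F.deg ℓ b ≤ (ρ - t) + r := by
    intro b
    have h1 := hρ ℓ b
    have h2 := hno b
    have h3 : (t : ℤ) + ℓ = r + 1 := by exact_mod_cast htℓ
    omega
  have hTop := HVan_top F ℓ hℓ (ρ - t) hdeg ℓ 0 t (by omega) htℓ
  rw [add_zero] at hTop
  have hgen : F.IsGenLE (ρ - 1) := by
    refine isGenLE_of_HVan F 𝔪 irrel_stdGr_eq_span one_notMem_irrel hF
      (fun i n hn => HVan_self i n hn) (ρ - 1) ?_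
    intro i n hn
    by_cases hn' : ρ - i < n
    · exact HVan_syz_of_isGenLE F 𝔪 (fun i n hn => HVan_self i n hn) (r + 2)
        (fun X hX i hi n => hcd_poly X hX i hi n) ρ hρ (r + 2) i (by omega) 0 n
        (by push_cast; omega)
    · have hn'' : n = ρ - i := by omega
      subst hn''
      rcases lt_trichotomy i t with hlt | heq | hgt
      · exact HVan_syz_lt F ℓ hℓ (ℓ + 1) 0 i (by omega) (by omega) _
      · subst heq; exact hTop
      · intro E
        exact Hcomp_eq_bot_of_supportDim_lt 𝔪 isIrr_std (t + 1) M (addGr ℳ) hdim i (by omega) _ E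
  obtain ⟨i, b, hb⟩ := hρ'
  have := hgen i b
  omega

end Groth.Agent.Helper23.Reg
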