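import Groth.Agent.Lib.Helper23.RegMero9
import Groth.Agent.Lib.Helper23.AbsCurve4
import Groth.Agent.Lib.Helper13.SemiLocal3

set_option autoImplicit false
set_option linter.style.haveILetI false

open CategoryTheory AlgebraicGeometry Opposite TopologicalSpace IsLocalRing

universe u

namespace Groth.Agent.Helper23.RegMero

open Groth.Agent.Helper13.Inv Groth.Agent.Helper13.MeroLib

variable {X : Scheme.{u}} {L : X.Modules}

/-- locally Noetherian with the associated points in an affine open: every invertible module is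
`O_X(D)` -/
theorem exists_iso_divMod_of_assoc_affine [IsLocallyNoetherian X]
    (hX : ∃ W : X.Opens, IsAffineOpen W ∧ ∀ x : X,
      IsAssociatedPrime (maximalIdeal (X.presheaf.stalk x)) (X.presheaf.stalk x) → x ∈ W)
    (hL : PicF.IsInvertible L) : ∃ D : Mero.Divisor X, Nonempty (L ≅ Mero.divMod D) := by
  obtain ⟨W₀, hW₀, hass⟩ := hX
  have hfin := Groth.Agent.Helper23.AbsCurve.finite_assPts hW₀
  haveI : IsAffine (W₀ : Scheme.{u}) := hW₀
  obtain ⟨U, hU, hEU, -, hUW₀, t, ht⟩ :=
    Groth.Agent.Helper13.SemiLocal.exists_affine_trivial_finite L hL W₀ ⊤ hfin.toFinset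
      (fun _ _ => trivial) (fun x hx => by
        obtain ⟨h, _⟩ := hfin.mem_toFinset.1 hx
        exact h)
  have hV : ∀ x : X, IsAssociatedPrime (maximalIdeal (X.presheaf.stalk x)) (X.presheaf.stalk x) →
      x ∈ U := fun x hx => hEU x (hfin.mem_toFinset.2 ⟨hass x hx, hx⟩)
  have hreg := hasRegularMero_of_dense hL (m := t) ht (exists_regular_of_assoc_mem U hV)
  exact exists_iso_divMod_of_regularMero (fun x => regStalk_eq_nonZeroDivisors X x) hL hreg

end Groth.Agent.Helper23.RegMero
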