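import Groth.Agent.Lib.Helper23.RegMero1

set_option autoImplicit false
set_option linter.style.haveILetI false

open CategoryTheory AlgebraicGeometry Opposite TopologicalSpace IsLocalRing

universe u

namespace Groth.Agent.Helper23.RegMero

open Groth.Agent.Helper23.CDivDepth Groth.Agent.Helper13.Inv Groth.Agent.Helper13.MeroLib
open Groth.Agent.Helper13.QCoh Groth.Agent.Helper23.FracIdeal

variable {X : Scheme.{u}} {L : X.Modules}

/-- the local form of a meromorphic section with respect to a local generator -/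
structure LocalForm (s : Γ(Mero.merMod L, ⊤)) (W : X.Opens) where
  e : Γ(L, W)
  he : IsGenOn L e
  α : Γ(X, W)
  β : Γ(X, W)
  hα : α ∈ Mero.regSub X W
  hβ : β ∈ Mero.regSub X W
  eq : ∀ (y : X) (hy : y ∈ W), s.1 ⟨y, trivial⟩ =
    (LocalizedModule.mk (L.presheaf.germ W y hy (α • e)) (Mero.regGerm ⟨y, hy⟩ ⟨β, hβ⟩) :
      Mero.MStalk L y)

theorem exists_localForm (hreg : ∀ x : X, Mero.regStalk X x = nonZeroDivisors (X.presheaf.stalk x))
    (hL : PicF.IsInvertible L) (s : Γ(Mero.merMod L, ⊤)) (hs : Mero.IsRegularMero L s) (x : X) :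
    ∃ (W : X.Opens) (_ : x ∈ W), Nonempty (LocalForm s W) := by
  obtain ⟨U₀, hxU₀, e₀, he₀⟩ := (isInvertible_iff_exists_isGen (L := L)).1 hL x
  obtain ⟨V, hxV, i, n, b, hnb⟩ := s.2 ⟨x, trivial⟩
  have hW₁U : U₀ ⊓ V ≤ U₀ := inf_le_left
  have hW₁V : U₀ ⊓ V ≤ V := inf_le_right
  have hxW₁ : x ∈ U₀ ⊓ V := ⟨hxU₀, hxV⟩
  have he₁ : IsGenOn L (L.presheaf.map (homOfLE hW₁U).op e₀) := IsGenOn.res he₀ hW₁U
  obtain ⟨a, ha⟩ := he₁.exists_smul_eq (L.presheaf.map (homOfLE hW₁V).op n)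
  -- the germ of `a` at `x` is a nonzerodivisor
  have hsx : s.1 ⟨x, trivial⟩ = LocalizedModule.mk (L.presheaf.germ V x hxV n) (Mero.regGerm ⟨x, hxV⟩ b) :=
    hnb ⟨x, hxV⟩
  have hgn : L.presheaf.germ V x hxV n = X.presheaf.germ (U₀ ⊓ V) x hxW₁ a • L.presheaf.germ U₀ x hxU₀ e₀ := by
    rw [← germ_congr_res L hW₁V x hxW₁, ha, Mero.germ_smul, germ_congr_res]
  have hnzd : X.presheaf.germ (U₀ ⊓ V) x hxW₁ a ∈ nonZeroDivisors (X.presheaf.stalk x) := by
    rw [mem_nonZeroDivisors_iff_right]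
    intro r hr
    have h1 : algebraMap (X.presheaf.stalk x) (Mero.KStalk X x) r • s.1 ⟨x, trivial⟩ = 0 := by
      rw [hsx, algebraMap_smul (Mero.KStalk X x) r
        (LocalizedModule.mk (L.presheaf.germ V x hxV n) (Mero.regGerm ⟨x, hxV⟩ b) : Mero.MStalk L x),
        LocalizedModule.smul'_mk, hgn, smul_smul, hr, zero_smul, LocalizedModule.zero_mk]
    have h2 := hs x _ h1
    exact Mero.algebraMap_KStalk_injective x (h2.trans (map_zero _).symm)
  rw [← hreg x] at hnzd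
  obtain ⟨U', hxU', f, hf, hfa⟩ := hnzd
  obtain ⟨N, hxN, j₁, j₂, hj⟩ := X.presheaf.germ_eq x hxU' hxW₁ f a hfa
  have hNW₁ : N ≤ U₀ ⊓ V := j₂.le
  have hNU₀ : N ≤ U₀ := hNW₁.trans hW₁U
  have hNV : N ≤ V := hNW₁.trans hW₁V
  refine ⟨N, hxN, ⟨⟨L.presheaf.map (homOfLE hNU₀).op e₀, IsGenOn.res he₀ hNU₀,
    X.presheaf.map (homOfLE hNW₁).op a, X.presheaf.map (homOfLE hNV).op b.1, ?_,
    Mero.regSub_res _ b.2, ?_⟩⟩⟩
  · have : X.presheaf.map (homOfLE hNW₁).op a = X.presheaf.map j₁.op f := hj.symm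
    rw [this]
    exact Mero.regSub_res _ hf
  · intro y hy
    have h1 : s.1 ⟨y, trivial⟩ = LocalizedModule.mk (L.presheaf.germ V y (hNV hy) n)
        (Mero.regGerm ⟨y, hNV hy⟩ b) := hnb ⟨y, hNV hy⟩
    rw [h1]
    refine Mero.mk_congr ?_ ?_
    · rw [← germ_congr_res L hW₁V y (hNW₁ hy), ha, ← germ_congr_res L hNW₁ y hy, res_smul, res_res]
    · exact (TopCat.Presheaf.germ_res_apply X.presheaf (homOfLE hNV) y hy b.1).symm

/-- cancellation by a regular meromorphic section -/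
theorem quot_unique' (s : Γ(Mero.merMod L, ⊤)) (hs : Mero.IsRegularMero L s) (y : X)
    (q q' : Mero.KStalk X y) (σ : Mero.MStalk L y)
    (h : q • s.1 ⟨y, trivial⟩ = σ) (h' : q' • s.1 ⟨y, trivial⟩ = σ) : q = q' := by
  rw [← sub_eq_zero]
  apply hs y
  rw [sub_smul, h, h', sub_self]

/-- the quotient `c e / s` in the local form -/
theorem LocalForm.quot_smul {s : Γ(Mero.merMod L, ⊤)} {W : X.Opens} (F : LocalForm s W)
    (y : X) (hy : y ∈ W) (c : X.presheaf.stalk y) :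
    (LocalizedModule.mk (c * X.presheaf.germ W y hy F.β) (Mero.regGerm ⟨y, hy⟩ ⟨F.α, F.hα⟩) :
      Mero.KStalk X y) • s.1 ⟨y, trivial⟩ =
    (LocalizedModule.mk (c • L.presheaf.germ W y hy F.e) 1 : Mero.MStalk L y) := by
  rw [F.eq y hy]
  refine (LocalizedModule.mk_smul_mk _ _ _ _).trans ?_
  rw [LocalizedModule.mk_eq]
  refine ⟨1, ?_⟩
  rw [Mero.germ_smul]
  simp only [one_smul, Submonoid.smul_def, Submonoid.coe_mul, smul_smul]
  congr 1
  ring

section Quot

variable (hreg : ∀ x : X, Mero.regStalk X x = nonZeroDivisors (X.presheaf.stalk x))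
  (hL : PicF.IsInvertible L) (s : Γ(Mero.merMod L, ⊤)) (hs : Mero.IsRegularMero L s)

include hreg hL hs in
theorem exists_quot (y : X) (μ : L.presheaf.stalk y) :
    ∃ q : Mero.KStalk X y, q • s.1 ⟨y, trivial⟩ = (LocalizedModule.mk μ 1 : Mero.MStalk L y) := by
  obtain ⟨W, hyW, ⟨F⟩⟩ := exists_localForm hreg hL s hs y
  obtain ⟨c, hc⟩ := (F.he y hyW).2 μ
  simp only at hc
  refine ⟨_, (F.quot_smul y hyW c).trans ?_⟩
  rw [hc]

/-- division by the regular meromorphic section `s` -/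
noncomputable def quot (y : X) (μ : L.presheaf.stalk y) : Mero.KStalk X y :=
  (exists_quot hreg hL s hs y μ).choose

theorem quot_spec (y : X) (μ : L.presheaf.stalk y) :
    quot hreg hL s hs y μ • s.1 ⟨y, trivial⟩ = (LocalizedModule.mk μ 1 : Mero.MStalk L y) :=
  (exists_quot hreg hL s hs y μ).choose_spec

theorem quot_eq (y : X) (μ : L.presheaf.stalk y) (q : Mero.KStalk X y)
    (h : q • s.1 ⟨y, trivial⟩ = (LocalizedModule.mk μ 1 : Mero.MStalk L y)) :
    quot hreg hL s hs y μ = q :=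
  quot_unique' s hs y _ _ _ (quot_spec hreg hL s hs y μ) h

theorem quot_add (y : X) (μ μ' : L.presheaf.stalk y) :
    quot hreg hL s hs y (μ + μ') = quot hreg hL s hs y μ + quot hreg hL s hs y μ' := by
  apply quot_eq
  rw [add_smul, quot_spec, quot_spec, ← LocalizedModule.mkLinearMap_apply,
    ← LocalizedModule.mkLinearMap_apply, ← LocalizedModule.mkLinearMap_apply, map_add]

theorem quot_zero (y : X) : quot hreg hL s hs y 0 = 0 := by
  apply quot_eq
  rw [zero_smul, LocalizedModule.zero_mk]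

theorem quot_smul (y : X) (r : X.presheaf.stalk y) (μ : L.presheaf.stalk y) :
    quot hreg hL s hs y (r • μ) = r • quot hreg hL s hs y μ := by
  apply quot_eq
  rw [smul_assoc, quot_spec, LocalizedModule.smul'_mk]

theorem LocalForm.quot_eq' {W : X.Opens} (F : LocalForm s W) (y : X) (hy : y ∈ W)
    (c : X.presheaf.stalk y) :
    quot hreg hL s hs y (c • L.presheaf.germ W y hy F.e) =
      LocalizedModule.mk (c * X.presheaf.germ W y hy F.β) (Mero.regGerm ⟨y, hy⟩ ⟨F.α, F.hα⟩) :=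
  quot_eq hreg hL s hs y _ _ (F.quot_smul y hy c)

/-- the division map on sections -/
noncomputable def ιFun (U : X.Opens) : Γ(L, U) →+ Γ(Mero.kmod X, U) where
  toFun m := ⟨fun y => quot hreg hL s hs y.1 (L.presheaf.germ U y.1 y.2 m), by
    intro y
    obtain ⟨W, hyW, ⟨F⟩⟩ := exists_localForm hreg hL s hs y.1
    have hNW : W ⊓ U ≤ W := inf_le_left
    have hNU : W ⊓ U ≤ U := inf_le_right
    obtain ⟨c, hc⟩ := F.he.exists_smul_eq' hNW (L.presheaf.map (homOfLE hNU).op m)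
    refine ⟨W ⊓ U, ⟨hyW, y.2⟩, homOfLE hNU, c * X.presheaf.map (homOfLE hNW).op F.β,
      ⟨X.presheaf.map (homOfLE hNW).op F.α, Mero.regSub_res _ F.hα⟩, fun z => ?_⟩
    have h1 : L.presheaf.germ U z.1 (hNU z.2) m =
        X.presheaf.germ (W ⊓ U) z.1 z.2 c • L.presheaf.germ W z.1 (hNW z.2) F.e := by
      rw [← germ_congr_res L hNU z.1 z.2, hc, Mero.germ_smul, germ_congr_res]
    change quot hreg hL s hs z.1 (L.presheaf.germ U z.1 (hNU z.2) m) = _
    rw [h1, F.quot_eq' hreg hL s hs z.1 (hNW z.2)]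
    refine Mero.mk_congr ?_ ?_
    · rw [map_mul, TopCat.Presheaf.germ_res_apply]
    · exact (TopCat.Presheaf.germ_res_apply X.presheaf (homOfLE hNW) z.1 z.2 F.α).symm⟩
  map_zero' := Subtype.ext <| funext fun y => by
    change quot hreg hL s hs y.1 (L.presheaf.germ U y.1 y.2 0) = 0
    rw [map_zero, quot_zero]
  map_add' m m' := Subtype.ext <| funext fun y => by
    change quot hreg hL s hs y.1 (L.presheaf.germ U y.1 y.2 (m + m')) =
      quot hreg hL s hs y.1 (L.presheaf.germ U y.1 y.2 m) +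
      quot hreg hL s hs y.1 (L.presheaf.germ U y.1 y.2 m')
    rw [map_add, quot_add]

theorem ιFun_apply (U : X.Opens) (m : Γ(L, U)) (y : U) :
    (ιFun hreg hL s hs U m).1 y = quot hreg hL s hs y.1 (L.presheaf.germ U y.1 y.2 m) := rfl

/-- the division map `L ⟶ K_X`, `m ↦ m / s` -/
noncomputable def ιHom : L ⟶ Mero.kmod X :=
  ⟨PresheafOfModules.homMk (M₁ := L.val) (M₂ := (Mero.kmod X).val)
    { app := fun U => AddCommGrpCat.ofHom (ιFun hreg hL s hs U.unop)
      naturality := fun {U V} i => by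
        ext m
        refine Subtype.ext (funext fun x => ?_)
        exact congrArg (quot hreg hL s hs x.1)
          (TopCat.Presheaf.germ_res_apply' L.presheaf i x.1 x.2 m) }
    (fun U r m => Subtype.ext <| funext fun x =>
      (congrArg (quot hreg hL s hs x.1) (Mero.germ_smul L U.unop x.1 x.2 r m)).trans
        (quot_smul hreg hL s hs x.1 _ _))⟩

theorem ιHom_app_apply (U : X.Opens) (m : Γ(L, U)) :
    (ιHom hreg hL s hs).app U m = ιFun hreg hL s hs U m := rfl

end Quot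

end Groth.Agent.Helper23.RegMero
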