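import Groth.Agent.Lib.Helper23.RegMero2

set_option autoImplicit false
set_option linter.style.haveILetI false

open CategoryTheory AlgebraicGeometry Opposite TopologicalSpace IsLocalRing

universe u

namespace Groth.Agent.Helper23.RegMero

open Groth.Agent.Helper23.CDivDepth Groth.Agent.Helper13.Inv Groth.Agent.Helper13.MeroLib
open Groth.Agent.Helper13.QCoh Groth.Agent.Helper23.FracIdeal

variable {X : Scheme.{u}} {L : X.Modules}

/-- the divisor condition may be checked on one representative -/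
theorem divCond_of_rep (D : Mero.Divisor X) (y : X) (g : (Mero.KStalk X y)ˣ)
    (hg : D.1 y = QuotientGroup.mk g) (t : Mero.KStalk X y)
    (h : t * g ∈ (algebraMap (X.presheaf.stalk y) (Mero.KStalk X y)).range) :
    Mero.DivCond D y t := by
  intro g' hg'
  have h1 : g⁻¹ * g' ∈ Mero.stalkUnits X y := QuotientGroup.eq.1 (hg.symm.trans hg')
  obtain ⟨u, hu⟩ := h1
  have h3 : (g' : Mero.KStalk X y) = g * ((g⁻¹ * g' : (Mero.KStalk X y)ˣ) : Mero.KStalk X y) := by
    rw [← Units.val_mul, mul_inv_cancel_left]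
  rw [h3, ← mul_assoc, ← hu]
  exact mul_mem h ⟨(u : X.presheaf.stalk y), rfl⟩

/-- lifting a morphism to `K_X` with values in `O_X(D)` -/
noncomputable def liftHom (ι : L ⟶ Mero.kmod X) (D : Mero.Divisor X)
    (hD : ∀ (U : X.Opens) (m : Γ(L, U)) (y : U), Mero.DivCond D y.1 ((ι.app U m).1 y)) :
    L ⟶ Mero.divMod D :=
  ⟨PresheafOfModules.homMk (M₁ := L.val) (M₂ := (Mero.divMod D).val)
    { app := fun U => AddCommGrpCat.ofHom
        { toFun := fun (m : Γ(L, U.unop)) =>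
            (⟨(ι.app U.unop m).1, (ι.app U.unop m).2, hD U.unop m⟩ : Γ(Mero.divMod D, U.unop))
          map_zero' := by
            apply Subtype.ext
            exact (congrArg Subtype.val (map_zero (ι.app U.unop).hom) :)
          map_add' := fun m m' => by
            apply Subtype.ext
            exact (congrArg Subtype.val (map_add (ι.app U.unop).hom m m') :) }
      naturality := fun {U V} i => by
        ext m
        apply Subtype.ext
        exact (congrArg Subtype.val (app_res L ι i.unop m) :) }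
    (fun U r m => by
      apply Subtype.ext
      exact (congrArg Subtype.val ((ι.val.app U).hom.map_smul r m) :))⟩

theorem liftHom_app_val (ι : L ⟶ Mero.kmod X) (D : Mero.Divisor X)
    (hD : ∀ (U : X.Opens) (m : Γ(L, U)) (y : U), Mero.DivCond D y.1 ((ι.app U m).1 y))
    (U : X.Opens) (m : Γ(L, U)) :
    ((liftHom ι D hD).app U m).1 = (ι.app U m).1 := rfl

/-- every invertible fractional ideal is `O_X(D)` for a divisor `D` -/
theorem exists_iso_divMod_of_mono (ι : L ⟶ Mero.kmod X) [Mono ι] (hL : PicF.IsInvertible L) :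
    ∃ D : Mero.Divisor X, Nonempty (L ≅ Mero.divMod D) := by
  have hgen := (isInvertible_iff (J := L) (ι := ι)).1 hL
  choose U hxU f hf using hgen
  have hinj : ∀ V : X.Opens, Function.Injective (ι.app V) :=
    (mono_iff_app_injective ι).1 inferInstance
  have key : ∀ (x x' y : X) (hy : y ∈ U x) (hy' : y ∈ U x'), ∃ u : (X.presheaf.stalk y)ˣ,
      (f x : Γ(Mero.kmod X, U x)).1 ⟨y, hy⟩ =
        algebraMap _ (Mero.KStalk X y) (u : X.presheaf.stalk y) *
          (f x' : Γ(Mero.kmod X, U x')).1 ⟨y, hy'⟩ := by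
    intro x x' y hy hy'
    have hVx : U x ⊓ U x' ≤ U x := inf_le_left
    have hVx' : U x ⊓ U x' ≤ U x' := inf_le_right
    have h1 : (Mero.kmod X).presheaf.map (homOfLE hVx).op (f x : Γ(Mero.kmod X, U x)) ∈
        Set.range ⇑(ι.val.app (op (U x ⊓ U x'))) := by
      rw [hf x _ hVx]; exact ⟨1, by rw [map_one, one_mul]⟩
    rw [hf x' _ hVx'] at h1
    obtain ⟨r, hr⟩ := h1
    have h2 : (Mero.kmod X).presheaf.map (homOfLE hVx').op (f x' : Γ(Mero.kmod X, U x')) ∈
        Set.range ⇑(ι.val.app (op (U x ⊓ U x'))) := by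
      rw [hf x' _ hVx']; exact ⟨1, by rw [map_one, one_mul]⟩
    rw [hf x _ hVx] at h2
    obtain ⟨r', hr'⟩ := h2
    have h3 : Mero.toK X (U x ⊓ U x') (r * r') = 1 := by
      have h4 : (Mero.kmod X).presheaf.map (homOfLE hVx).op (f x : Γ(Mero.kmod X, U x)) =
          Mero.toK X (U x ⊓ U x') (r * r') *
            (Mero.kmod X).presheaf.map (homOfLE hVx).op (f x : Γ(Mero.kmod X, U x)) := by
        rw [map_mul, mul_assoc, ← hr', ← hr]
      have h5 := congrArg (· * (Mero.kmod X).presheaf.map (homOfLE hVx).op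
        ((f x)⁻¹ : (Γ(Mero.kmod X, U x))ˣ).1) h4
      simp only at h5
      rw [mul_assoc, res_mul_res_inv, mul_one] at h5
      exact h5.symm
    have h5 : r * r' = 1 := toK_injective _ (h3.trans (map_one _).symm)
    have hyV : y ∈ U x ⊓ U x' := ⟨hy, hy'⟩
    have hu : IsUnit (X.presheaf.germ (U x ⊓ U x') y hyV r) :=
      IsUnit.of_mul_eq_one (X.presheaf.germ (U x ⊓ U x') y hyV r')
        (by rw [← map_mul, h5, map_one])
    refine ⟨hu.unit, ?_⟩
    have h6 := congrArg (fun t : Γ(Mero.kmod X, U x ⊓ U x') => t.1 ⟨y, hyV⟩) hr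
    simp only at h6
    rw [IsUnit.unit_spec]
    refine h6.trans ?_
    rw [Mero.kmod_mul_apply, toK_apply']
    rfl
  let Dfun : ∀ y : X, Mero.Germ X y := fun y => Mero.germOf (f y)⁻¹ ⟨y, hxU y⟩
  have hclass : ∀ (x y : X) (hy : y ∈ U x), Dfun y = Mero.germOf (f x)⁻¹ ⟨y, hy⟩ := by
    intro x y hy
    obtain ⟨u, hu⟩ := key x y y hy (hxU y)
    apply QuotientGroup.eq.2
    let A : (Mero.KStalk X y)ˣ := Units.map (Mero.evalK X (U y) ⟨y, hxU y⟩).toMonoidHom (f y)
    let B : (Mero.KStalk X y)ˣ := Units.map (Mero.evalK X (U x) ⟨y, hy⟩).toMonoidHom (f x)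
    let Uu : (Mero.KStalk X y)ˣ :=
      Units.map (algebraMap (X.presheaf.stalk y) (Mero.KStalk X y)).toMonoidHom u
    have hB : B = Uu * A := Units.ext hu
    have e : (Units.map (Mero.evalK X (U y) ⟨y, hxU y⟩).toMonoidHom (f y)⁻¹)⁻¹ *
        Units.map (Mero.evalK X (U x) ⟨y, hy⟩).toMonoidHom (f x)⁻¹ = A * B⁻¹ := by
      rw [map_inv, map_inv, inv_inv]
    rw [e, hB, mul_inv_rev, mul_inv_cancel_left]
    exact ⟨u⁻¹, map_inv _ u⟩
  let D : Mero.Divisor X := ⟨Dfun, fun x => ⟨U x, hxU x, (f x)⁻¹, fun y => hclass x y.1 y.2⟩⟩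
  have hmulinv : ∀ (x y : X) (hy : y ∈ U x), (f x : Γ(Mero.kmod X, U x)).1 ⟨y, hy⟩ *
      (((f x)⁻¹ : (Γ(Mero.kmod X, U x))ˣ) : Γ(Mero.kmod X, U x)).1 ⟨y, hy⟩ = 1 := fun x y hy =>
    congrArg (fun t : Γ(Mero.kmod X, U x) => t.1 ⟨y, hy⟩) (f x).mul_inv
  have hD : ∀ (V : X.Opens) (m : Γ(L, V)) (y : V), Mero.DivCond D y.1 ((ι.app V m).1 y) := by
    intro V m y
    have hNV : V ⊓ U y.1 ≤ V := inf_le_left
    have hNU : V ⊓ U y.1 ≤ U y.1 := inf_le_right
    have hyN : y.1 ∈ V ⊓ U y.1 := ⟨y.2, hxU y.1⟩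
    have h1 : ι.app (V ⊓ U y.1) (L.presheaf.map (homOfLE hNV).op m) ∈
        Set.range ⇑(ι.val.app (op (V ⊓ U y.1))) := ⟨_, rfl⟩
    rw [hf y.1 _ hNU] at h1
    obtain ⟨r, hr⟩ := h1
    apply divCond_of_rep D y.1
      (Units.map (Mero.evalK X (U y.1) ⟨y.1, hxU y.1⟩).toMonoidHom (f y.1)⁻¹) rfl
    refine ⟨X.presheaf.germ (V ⊓ U y.1) y.1 hyN r, ?_⟩
    rw [app_res] at hr
    have h2 := congrArg (fun t : Γ(Mero.kmod X, V ⊓ U y.1) => t.1 ⟨y.1, hyN⟩) hr
    simp only at h2
    have h3 : (ι.app V m).1 y = (Mero.toK X (V ⊓ U y.1) r).1 ⟨y.1, hyN⟩ *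
        (f y.1 : Γ(Mero.kmod X, U y.1)).1 ⟨y.1, hxU y.1⟩ := h2
    rw [h3, toK_apply']
    change _ = _ * _ * (((f y.1)⁻¹ : (Γ(Mero.kmod X, U y.1))ˣ) : Γ(Mero.kmod X, U y.1)).1 ⟨y.1, hxU y.1⟩
    rw [mul_assoc, hmulinv, mul_one]
  refine ⟨D, ?_⟩
  haveI : IsIso (liftHom ι D hD) := by
    apply Groth.Agent.Helper13.LocFree.isIso_of_app_bijective_of_isBasis (liftHom ι D hD)
      (B := {V : X.Opens | ∃ x : X, V ≤ U x})
    · rw [Opens.isBasis_iff_nbhd]
      intro U₀ x hx
      exact ⟨U₀ ⊓ U x, ⟨x, inf_le_right⟩, ⟨hx, hxU x⟩, inf_le_left⟩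
    · rintro V ⟨x, hV⟩
      constructor
      · intro m m' hmm
        apply hinj V
        apply Subtype.ext
        have := congrArg Subtype.val hmm
        exact this
      · intro t
        let t' : Γ(Mero.kmod X, V) := ⟨t.1, t.2.1⟩
        have hq : ∀ (y : X) (hy : y ∈ V),
            (t' * (Mero.kmod X).presheaf.map (homOfLE hV).op
              (((f x)⁻¹ : (Γ(Mero.kmod X, U x))ˣ) : Γ(Mero.kmod X, U x))).1 ⟨y, hy⟩ ∈
            (algebraMap (X.presheaf.stalk y) (Mero.KStalk X y)).range := by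
          intro y hy
          exact t.2.2 ⟨y, hy⟩
            (Units.map (Mero.evalK X (U x) ⟨y, hV hy⟩).toMonoidHom (f x)⁻¹) (hclass x y (hV hy))
        obtain ⟨r, hr⟩ := exists_toK_eq _ hq
        have ht' : t' = Mero.toK X V r * (Mero.kmod X).presheaf.map (homOfLE hV).op
            (f x : Γ(Mero.kmod X, U x)) := by
          rw [hr, mul_assoc, mul_comm ((Mero.kmod X).presheaf.map (homOfLE hV).op
            (((f x)⁻¹ : (Γ(Mero.kmod X, U x))ˣ) : Γ(Mero.kmod X, U x))), res_mul_res_inv, mul_one]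
        have hmem : t' ∈ Set.range ⇑(ι.val.app (op V)) := by
          rw [hf x V hV]; exact ⟨r, ht'⟩
        obtain ⟨m₀, hm₀⟩ := hmem
        obtain ⟨m, rfl⟩ : ∃ m : Γ(L, V), m = m₀ := ⟨m₀, rfl⟩
        refine ⟨m, ?_⟩
        apply Subtype.ext
        exact (congrArg Subtype.val hm₀ :)
  exact ⟨asIso (liftHom ι D hD)⟩

theorem mono_ιHom (hreg : ∀ x : X, Mero.regStalk X x = nonZeroDivisors (X.presheaf.stalk x))
    (hL : PicF.IsInvertible L) (s : Γ(Mero.merMod L, ⊤)) (hs : Mero.IsRegularMero L s) :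
    Mono (ιHom hreg hL s hs) := by
  rw [mono_iff_app_injective]
  intro U
  rw [injective_iff_map_eq_zero]
  intro m hm
  rw [ιHom_app_apply] at hm
  apply TopCat.Presheaf.section_ext ⟨L.presheaf, L.isSheaf⟩ U
  intro y hy
  change L.presheaf.germ U y hy m = L.presheaf.germ U y hy 0
  rw [map_zero]
  have h1 : quot hreg hL s hs y (L.presheaf.germ U y hy m) = 0 :=
    congrArg (fun t : Γ(Mero.kmod X, U) => t.1 ⟨y, hy⟩) hm
  have h2 := quot_spec hreg hL s hs y (L.presheaf.germ U y hy m)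
  rw [h1, zero_smul, eq_comm, ← LocalizedModule.zero_mk (1 : Mero.regStalk X y),
    LocalizedModule.mk_eq] at h2
  obtain ⟨t, ht⟩ := h2
  simp only [one_smul, smul_zero, Submonoid.smul_def] at ht
  obtain ⟨W, hyW, ⟨F⟩⟩ := exists_localForm hreg hL s hs y
  obtain ⟨c, hc⟩ := (F.he y hyW).2 (L.presheaf.germ U y hy m)
  simp only at hc
  rw [← hc, smul_smul] at ht
  have h3 : (t : X.presheaf.stalk y) * c = 0 := (F.he y hyW).1 (by simp only; rw [ht, zero_smul])
  have h4 : c = 0 :=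
    (mul_left_mem_nonZeroDivisors_eq_zero_iff (Mero.regStalk_le_nonZeroDivisors y t.2)).1 h3
  rw [← hc, h4, zero_smul]

/-- an invertible module with a regular meromorphic section is `O_X(D)` -/
theorem exists_iso_divMod_of_regularMero
    (hreg : ∀ x : X, Mero.regStalk X x = nonZeroDivisors (X.presheaf.stalk x))
    (hL : PicF.IsInvertible L) (h : Mero.HasRegularMero L) :
    ∃ D : Mero.Divisor X, Nonempty (L ≅ Mero.divMod D) := by
  obtain ⟨s, hs⟩ := h
  haveI := mono_ιHom hreg hL s hs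
  exact exists_iso_divMod_of_mono (ιHom hreg hL s hs) hL

end Groth.Agent.Helper23.RegMero
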