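import Groth.Agent.Lib.Helper23.RegMero3

set_option autoImplicit false
set_option linter.style.haveILetI false

open CategoryTheory AlgebraicGeometry Opposite TopologicalSpace IsLocalRing

universe u

namespace Groth.Agent.Helper23.RegMero

open Groth.Agent.Helper23.CDivDepth Groth.Agent.Helper13.Inv Groth.Agent.Helper13.MeroLib
open Groth.Agent.Helper13.QCoh Groth.Agent.Helper23.FracIdeal Groth.Agent.Helper23.DivInv

variable {X : Scheme.{u}} {L : X.Modules}

theorem mono_divModι (D : Mero.Divisor X) : Mono (Mero.divModι D) := by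
  rw [mono_iff_app_injective]
  intro U m m' h
  apply Subtype.ext
  exact (congrArg Subtype.val h :)

theorem divModι_app_val (D : Mero.Divisor X) (U : X.Opens) (t : Γ(Mero.divMod D, U)) :
    ((Mero.divModι D).app U t).1 = t.1 := rfl

section Fwd

variable (ψ : L ⟶ Mero.kmod X)

/-- `ψ(t) = c / 1` on `W` -/
def IsOneRep (W : X.Opens) (t : Γ(L, W)) (c : Γ(X, W)) : Prop :=
  ∀ (z : X) (hz : z ∈ W), (ψ.app W t).1 ⟨z, hz⟩ =
    algebraMap _ (Mero.KStalk X z) (X.presheaf.germ W z hz c)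

/-- `σ` is the element `t / c` with `ψ(t) = c`, i.e. "the meromorphic section `1`" -/
def IsOneAt (y : X) (σ : Mero.MStalk L y) : Prop :=
  ∃ (W : X.Opens) (hy : y ∈ W) (t : Γ(L, W)) (c : Mero.regSub X W), IsOneRep ψ W t c.1 ∧
    σ = LocalizedModule.mk (L.presheaf.germ W y hy t) (Mero.regGerm ⟨y, hy⟩ c)

variable {ψ}

theorem app_smul_apply {V : X.Opens} (r : Γ(X, V)) (m : Γ(L, V)) (z : V) :
    (ψ.app V (r • m)).1 z =
      algebraMap _ (Mero.KStalk X z.1) (X.presheaf.germ V z.1 z.2 r) * (ψ.app V m).1 z := by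
  rw [app_smul, Mero.kmod_mul_apply, toK_apply']

theorem app_res_apply {V W : X.Opens} (hW : W ≤ V) (m : Γ(L, V)) (z : W) :
    (ψ.app W (L.presheaf.map (homOfLE hW).op m)).1 z = (ψ.app V m).1 ⟨z.1, hW z.2⟩ := by
  rw [app_res]
  rfl

theorem IsOneAt.unique [Mono ψ] {y : X} {σ σ' : Mero.MStalk L y} (h : IsOneAt ψ y σ)
    (h' : IsOneAt ψ y σ') : σ = σ' := by
  obtain ⟨W, hy, t, c, hrep, rfl⟩ := h
  obtain ⟨W', hy', t', c', hrep', rfl⟩ := h'
  have hinj : ∀ V : X.Opens, Function.Injective (ψ.app V) :=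
    (mono_iff_app_injective ψ).1 inferInstance
  have hNW : W ⊓ W' ≤ W := inf_le_left
  have hNW' : W ⊓ W' ≤ W' := inf_le_right
  have hyN : y ∈ W ⊓ W' := ⟨hy, hy'⟩
  have e1 : X.presheaf.map (homOfLE hNW').op c'.1 • L.presheaf.map (homOfLE hNW).op t =
      X.presheaf.map (homOfLE hNW).op c.1 • L.presheaf.map (homOfLE hNW').op t' := by
    apply hinj
    apply Subtype.ext
    funext z
    rw [app_smul_apply, app_smul_apply, app_res_apply, app_res_apply, hrep z.1 (hNW z.2),
      hrep' z.1 (hNW' z.2), TopCat.Presheaf.germ_res_apply, TopCat.Presheaf.germ_res_apply,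
      mul_comm]
  have e2 := congrArg (L.presheaf.germ (W ⊓ W') y hyN) e1
  rw [Mero.germ_smul, Mero.germ_smul] at e2
  simp only [TopCat.Presheaf.germ_res_apply] at e2
  rw [LocalizedModule.mk_eq]
  refine ⟨1, ?_⟩
  simp only [one_smul, Submonoid.smul_def]
  exact e2

/-- a fractional ideal containing locally a regular function has a regular meromorphic section -/
theorem hasRegularMero_of_isOneRep [Mono ψ]
    (h : ∀ x : X, ∃ (W : X.Opens) (_ : x ∈ W) (t : Γ(L, W)) (c : Mero.regSub X W),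
      IsOneRep ψ W t c.1) : Mero.HasRegularMero L := by
  have hinj : ∀ V : X.Opens, Function.Injective (ψ.app V) :=
    (mono_iff_app_injective ψ).1 inferInstance
  have hex : ∀ y : X, ∃ σ : Mero.MStalk L y, IsOneAt ψ y σ := by
    intro y
    obtain ⟨W, hy, t, c, hrep⟩ := h y
    exact ⟨_, W, hy, t, c, hrep, rfl⟩
  choose σ hσ using hex
  have hloc : (Mero.mLoc L).pred (fun y : (⊤ : X.Opens) => σ y.1) := by
    intro x
    obtain ⟨W, hx, t, c, hrep⟩ := h x.1
    refine ⟨W, hx, homOfLE le_top, t, c, fun z => ?_⟩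
    exact (hσ z.1).unique ⟨W, z.2, t, c, hrep, rfl⟩
  refine ⟨⟨fun y => σ y.1, hloc⟩, ?_⟩
  intro x q hq
  obtain ⟨W, hx, t, c, hrep, hσx⟩ := hσ x
  change q • σ x = 0 at hq
  rw [hσx] at hq
  induction q using Localization.induction_on with
  | H rd =>
    obtain ⟨r, d⟩ := rd
    simp only at hq ⊢
    rw [LocalizedModule.mk_smul_mk, ← LocalizedModule.zero_mk (1 : Mero.regStalk X x),
      LocalizedModule.mk_eq] at hq
    obtain ⟨u, hu⟩ := hq
    simp only [one_smul, smul_zero, Submonoid.smul_def, smul_smul] at hu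
    obtain ⟨N₁, hxN₁, ρ, hρ⟩ := X.presheaf.exists_germ_eq ((u : X.presheaf.stalk x) * r)
    have hNW : N₁ ⊓ W ≤ W := inf_le_right
    have hN1 : N₁ ⊓ W ≤ N₁ := inf_le_left
    have hxN : x ∈ N₁ ⊓ W := ⟨hxN₁, hx⟩
    have h1 : L.presheaf.germ (N₁ ⊓ W) x hxN (X.presheaf.map (homOfLE hN1).op ρ •
        L.presheaf.map (homOfLE hNW).op t) = L.presheaf.germ (N₁ ⊓ W) x hxN 0 := by
      rw [Mero.germ_smul, TopCat.Presheaf.germ_res_apply, germ_congr_res, hρ, hu, map_zero]
    obtain ⟨N₂, hxN₂, i₁, i₂, e⟩ := L.presheaf.germ_eq x hxN hxN _ _ h1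
    have h2N : N₂ ≤ N₁ ⊓ W := i₁.le
    have e2 : L.presheaf.map (homOfLE h2N).op (X.presheaf.map (homOfLE hN1).op ρ •
        L.presheaf.map (homOfLE hNW).op t) = 0 := e.trans (map_zero _)
    have e3 := congrArg (fun m => (ψ.app N₂ m).1 ⟨x, hxN₂⟩) e2
    simp only at e3
    rw [app_res_apply, app_smul_apply, app_res_apply, hrep x hx, map_zero,
      TopCat.Presheaf.germ_res_apply, hρ, ← map_mul] at e3
    have e4 : (u : X.presheaf.stalk x) * r * X.presheaf.germ W x hx c.1 = 0 :=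
      Mero.algebraMap_KStalk_injective x (e3.trans (map_zero _).symm)
    have e5 : (u : X.presheaf.stalk x) * r = 0 :=
      (mul_right_mem_nonZeroDivisors_eq_zero_iff (c.2 ⟨x, hx⟩)).1 e4
    have e6 : r = 0 :=
      (mul_left_mem_nonZeroDivisors_eq_zero_iff (Mero.regStalk_le_nonZeroDivisors x u.2)).1 e5
    rw [e6]
    exact Localization.mk_zero d

end Fwd

/-- `O_X(D)`, and every module isomorphic to it, has a regular meromorphic section -/
theorem hasRegularMero_of_iso (D : Mero.Divisor X) (e : L ≅ Mero.divMod D) :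
    Mero.HasRegularMero L := by
  haveI := mono_divModι D
  haveI : Mono (e.hom ≫ Mero.divModι D) := mono_comp _ _
  apply hasRegularMero_of_isOneRep (ψ := e.hom ≫ Mero.divModι D)
  intro x
  obtain ⟨W, a, b, ha, hb, hxW, hrep⟩ := exists_isRep D x
  refine ⟨W, hxW, e.inv.app W (a • genSec D W a b ha hb hrep), ⟨b, hb⟩, ?_⟩
  intro z hz
  have h1 : e.hom.app W (e.inv.app W (a • genSec D W a b ha hb hrep)) =
      a • genSec D W a b ha hb hrep := by
    rw [← ConcreteCategory.comp_apply, ← Scheme.Modules.Hom.comp_app, e.inv_hom_id]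
    rfl
  change ((Mero.divModι D).app W (e.hom.app W (e.inv.app W (a • genSec D W a b ha hb hrep)))).1
    ⟨z, hz⟩ = _
  rw [h1, divModι_app_val]
  change X.presheaf.germ W z hz a • (genSec D W a b ha hb hrep).1 ⟨z, hz⟩ = _
  rw [genSec_apply, LocalizedModule.smul'_mk, mk_eq_algebraMap_iff _ (Mero.regStalk_le_nonZeroDivisors z)]
  simp only [smul_eq_mul]

end Groth.Agent.Helper23.RegMero
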