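import Groth.Agent.Lib.Helper23.RegMero4

set_option autoImplicit false
set_option linter.style.haveILetI false

open CategoryTheory AlgebraicGeometry Opposite TopologicalSpace IsLocalRing

universe u

namespace Groth.Agent.Helper23.RegMero

open Groth.Agent.Helper23.CDivDepth Groth.Agent.Helper13.Inv Groth.Agent.Helper13.MeroLib
open Groth.Agent.Helper13.QCoh Groth.Agent.Helper23.FracIdeal Groth.Agent.Helper23.DivInv

variable {X : Scheme.{u}} {L : X.Modules}

/-- a function whose germs vanish on the non-vanishing locus of a regular section is zero -/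
theorem eq_zero_of_germ_eq_zero_basicOpen {N : X.Opens} (γ ρ : Γ(X, N)) (hγ : γ ∈ Mero.regSub X N)
    (h : ∀ (z : X) (hz : z ∈ N), z ∈ X.basicOpen γ → X.presheaf.germ N z hz ρ = 0) : ρ = 0 := by
  apply TopCat.Presheaf.section_ext X.sheaf
  intro y hy
  change X.presheaf.germ N y hy ρ = X.presheaf.germ N y hy 0
  rw [map_zero]
  obtain ⟨_, ⟨W, hW, rfl⟩, hyW, hWN⟩ :=
    X.isBasis_affineOpens.exists_subset_of_mem_open (show y ∈ (N : Set X) from hy) N.2
  have hWN' : W ≤ N := hWN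
  have h1 : X.presheaf.map (homOfLE hWN').op ρ = 0 := by
    apply eq_zero_of_res_basicOpen hW (X.presheaf.map (homOfLE hWN').op γ) _
      (Mero.regSub_res _ hγ)
    apply TopCat.Presheaf.section_ext X.sheaf
    intro z hz
    have hzW : z ∈ W := X.basicOpen_le _ hz
    have hzγ : z ∈ X.basicOpen γ := by
      have := Scheme.basicOpen_res X γ (homOfLE hWN').op
      rw [this] at hz
      exact hz.2
    change X.presheaf.germ _ z hz _ = X.presheaf.germ _ z hz 0
    rw [map_zero, TopCat.Presheaf.germ_res_apply, TopCat.Presheaf.germ_res_apply]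
    exact h z (hWN' hzW) hzγ
  rw [← TopCat.Presheaf.germ_res_apply X.presheaf (homOfLE hWN') y hyW ρ, h1, map_zero]

/-- a section of an invertible module whose germs vanish on the non-vanishing locus of a regular
section is zero -/
theorem eq_zero_of_germ_eq_zero_basicOpen' (hL : PicF.IsInvertible L) {N : X.Opens} (γ : Γ(X, N))
    (hγ : γ ∈ Mero.regSub X N) (τ : Γ(L, N))
    (h : ∀ (z : X) (hz : z ∈ N), z ∈ X.basicOpen γ → L.presheaf.germ N z hz τ = 0) : τ = 0 := by
  apply TopCat.Presheaf.section_ext ⟨L.presheaf, L.isSheaf⟩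
  intro y hy
  change L.presheaf.germ N y hy τ = L.presheaf.germ N y hy 0
  rw [map_zero]
  obtain ⟨U₀, hyU₀, e₀, he₀⟩ := (isInvertible_iff_exists_isGen (L := L)).1 hL y
  have hNN : N ⊓ U₀ ≤ N := inf_le_left
  have hNU : N ⊓ U₀ ≤ U₀ := inf_le_right
  have hyN : y ∈ N ⊓ U₀ := ⟨hy, hyU₀⟩
  have he : IsGenOn L (L.presheaf.map (homOfLE hNU).op e₀) := IsGenOn.res he₀ hNU
  obtain ⟨r, hr⟩ := he.exists_smul_eq (L.presheaf.map (homOfLE hNN).op τ)
  have hr0 : r = 0 := by
    apply eq_zero_of_germ_eq_zero_basicOpen (X.presheaf.map (homOfLE hNN).op γ) r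
      (Mero.regSub_res _ hγ)
    intro z hz hzγ
    have hzγ' : z ∈ X.basicOpen γ := by
      have := Scheme.basicOpen_res X γ (homOfLE hNN).op
      rw [this] at hzγ
      exact hzγ.2
    have h1 := congrArg (L.presheaf.germ (N ⊓ U₀) z hz) hr
    rw [germ_congr_res, h z (hNN hz) hzγ', Mero.germ_smul] at h1
    apply (he z hz).1
    simp only
    rw [← h1, zero_smul]
  rw [hr0, zero_smul] at hr
  rw [← germ_congr_res L hNN y hyN, hr, map_zero]

section Ext

variable (V : X.Opens) (m : Γ(L, V))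

/-- `σ = n / β` where `n = β m` on `D(β) ⊆ V` -/
def IsExtAt (y : X) (σ : Mero.MStalk L y) : Prop :=
  ∃ (W : X.Opens) (hy : y ∈ W) (n : Γ(L, W)) (β : Mero.regSub X W) (hβV : X.basicOpen β.1 ≤ V),
    (∀ (z : X) (hz : z ∈ X.basicOpen β.1), L.presheaf.germ W z (X.basicOpen_le _ hz) n =
      X.presheaf.germ W z (X.basicOpen_le _ hz) β.1 • L.presheaf.germ V z (hβV hz) m) ∧
    σ = LocalizedModule.mk (L.presheaf.germ W y hy n) (Mero.regGerm ⟨y, hy⟩ β)

variable {V m}

theorem IsExtAt.unique (hL : PicF.IsInvertible L) {y : X} {σ σ' : Mero.MStalk L y}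
    (h : IsExtAt V m y σ) (h' : IsExtAt V m y σ') : σ = σ' := by
  obtain ⟨W, hy, n, β, hβV, hn, rfl⟩ := h
  obtain ⟨W', hy', n', β', hβ'V, hn', rfl⟩ := h'
  have hNW : W ⊓ W' ≤ W := inf_le_left
  have hNW' : W ⊓ W' ≤ W' := inf_le_right
  have hyN : y ∈ W ⊓ W' := ⟨hy, hy'⟩
  have hγ : X.presheaf.map (homOfLE hNW).op β.1 * X.presheaf.map (homOfLE hNW').op β'.1 ∈
      Mero.regSub X (W ⊓ W') :=
    Submonoid.mul_mem _ (Mero.regSub_res _ β.2) (Mero.regSub_res _ β'.2)
  have e1 : X.presheaf.map (homOfLE hNW').op β'.1 • L.presheaf.map (homOfLE hNW).op n -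
      X.presheaf.map (homOfLE hNW).op β.1 • L.presheaf.map (homOfLE hNW').op n' = 0 := by
    apply eq_zero_of_germ_eq_zero_basicOpen' hL _ hγ
    intro z hz hzγ
    rw [X.mem_basicOpen _ z hz, map_mul, TopCat.Presheaf.germ_res_apply,
      TopCat.Presheaf.germ_res_apply] at hzγ
    have hzβ : z ∈ X.basicOpen β.1 :=
      (X.mem_basicOpen _ z (hNW hz)).2 (isUnit_of_mul_isUnit_left hzγ)
    have hzβ' : z ∈ X.basicOpen β'.1 :=
      (X.mem_basicOpen _ z (hNW' hz)).2 (isUnit_of_mul_isUnit_right hzγ)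
    rw [map_sub, Mero.germ_smul, Mero.germ_smul]
    simp only [TopCat.Presheaf.germ_res_apply]
    rw [hn z hzβ, hn' z hzβ', smul_smul, smul_smul, mul_comm, sub_self]
  rw [sub_eq_zero] at e1
  have e2 := congrArg (L.presheaf.germ (W ⊓ W') y hyN) e1
  rw [Mero.germ_smul, Mero.germ_smul] at e2
  simp only [TopCat.Presheaf.germ_res_apply] at e2
  rw [LocalizedModule.mk_eq]
  refine ⟨1, ?_⟩
  simp only [one_smul, Submonoid.smul_def]
  exact e2

/-- Lemma E: a generator of `L` over an open `V` containing, near every point, the non-vanishing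
locus of a regular section, extends to a regular meromorphic section of `L` -/
theorem hasRegularMero_of_dense (hL : PicF.IsInvertible L) (hm : IsGenOn L m)
    (hP : ∀ (x : X) (U : X.Opens), x ∈ U → ∃ W : X.Opens, IsAffineOpen W ∧ x ∈ W ∧ W ≤ U ∧
      ∃ b : Γ(X, W), b ∈ Mero.regSub X W ∧ X.basicOpen b ≤ V) : Mero.HasRegularMero L := by
  have hloc : ∀ x : X, ∃ (W : X.Opens) (_ : x ∈ W) (n : Γ(L, W)) (β : Mero.regSub X W)
      (hβV : X.basicOpen β.1 ≤ V),
      ∀ (z : X) (hz : z ∈ X.basicOpen β.1), L.presheaf.germ W z (X.basicOpen_le _ hz) n =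
        X.presheaf.germ W z (X.basicOpen_le _ hz) β.1 • L.presheaf.germ V z (hβV hz) m := by
    intro x
    obtain ⟨U₀, hxU₀, e₀, he₀⟩ := (isInvertible_iff_exists_isGen (L := L)).1 hL x
    obtain ⟨W, hW, hxW, hWU₀, b, hb, hbV⟩ := hP x U₀ hxU₀
    have he : IsGenOn L (L.presheaf.map (homOfLE hWU₀).op e₀) := IsGenOn.res he₀ hWU₀
    have hD : X.basicOpen b ≤ W := X.basicOpen_le b
    obtain ⟨c, hc⟩ := (he.res hD).exists_smul_eq (L.presheaf.map (homOfLE hbV).op m)
    haveI := hW.isLocalization_basicOpen b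
    obtain ⟨⟨a, ⟨_, k, rfl⟩⟩, hak⟩ := IsLocalization.surj (Submonoid.powers b) c
    simp only at hak
    have hak' : c * X.presheaf.map (homOfLE hD).op (b ^ k) = X.presheaf.map (homOfLE hD).op a := hak
    have hβV : X.basicOpen (b ^ (k + 1)) ≤ V := by
      rw [X.basicOpen_pow b (Nat.succ_pos k)]; exact hbV
    refine ⟨W, hxW, (a * b) • L.presheaf.map (homOfLE hWU₀).op e₀,
      ⟨b ^ (k + 1), pow_mem hb _⟩, hβV, ?_⟩
    intro z hz
    have hzD : z ∈ X.basicOpen b := by
      rw [X.basicOpen_pow b (Nat.succ_pos k)] at hz; exact hz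
    have h1 := congrArg (L.presheaf.germ (X.basicOpen b) z hzD) hc
    rw [germ_congr_res, Mero.germ_smul, germ_congr_res] at h1
    have h2 := congrArg (X.presheaf.germ (X.basicOpen b) z hzD) hak'
    rw [map_mul, TopCat.Presheaf.germ_res_apply, TopCat.Presheaf.germ_res_apply] at h2
    rw [Mero.germ_smul, h1, smul_smul, map_mul, ← h2]
    congr 1
    have hzW : z ∈ W := hD hzD
    have key : X.presheaf.germ W z hzW (b ^ (k + 1)) =
        X.presheaf.germ W z hzW (b ^ k) * X.presheaf.germ W z hzW b := by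
      rw [pow_succ, map_mul]
    change _ = X.presheaf.germ W z hzW (b ^ (k + 1)) * _
    rw [key]
    ring
  have hex : ∀ y : X, ∃ σ : Mero.MStalk L y, IsExtAt V m y σ := by
    intro y
    obtain ⟨W, hy, n, β, hβV, hn⟩ := hloc y
    exact ⟨_, W, hy, n, β, hβV, hn, rfl⟩
  choose σ hσ using hex
  have hpred : (Mero.mLoc L).pred (fun y : (⊤ : X.Opens) => σ y.1) := by
    intro x
    obtain ⟨W, hx, n, β, hβV, hn⟩ := hloc x.1
    refine ⟨W, hx, homOfLE le_top, n, β, fun z => ?_⟩
    exact (hσ z.1).unique hL ⟨W, z.2, n, β, hβV, hn, rfl⟩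
  refine ⟨⟨fun y => σ y.1, hpred⟩, ?_⟩
  intro x q hq
  obtain ⟨W, hx, n, β, hβV, hn, hσx⟩ := hσ x
  change q • σ x = 0 at hq
  rw [hσx] at hq
  induction q using Localization.induction_on with
  | H rd =>
    obtain ⟨r, d⟩ := rd
    simp only at hq ⊢
    rw [LocalizedModule.mk_smul_mk, ← LocalizedModule.zero_mk (1 : Mero.regStalk X x),
      LocalizedModule.mk_eq] at hq
    obtain ⟨u, hu⟩ := hq
    simp only [one_smul, smul_zero, Submonoid.smul_def, smul_smul] at hu
    obtain ⟨N₁, hxN₁, ρ, hρ⟩ := X.presheaf.exists_germ_eq ((u : X.presheaf.stalk x) * r)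
    have hNW : N₁ ⊓ W ≤ W := inf_le_right
    have hN1 : N₁ ⊓ W ≤ N₁ := inf_le_left
    have hxN : x ∈ N₁ ⊓ W := ⟨hxN₁, hx⟩
    have h1 : L.presheaf.germ (N₁ ⊓ W) x hxN (X.presheaf.map (homOfLE hN1).op ρ •
        L.presheaf.map (homOfLE hNW).op n) = L.presheaf.germ (N₁ ⊓ W) x hxN 0 := by
      rw [Mero.germ_smul, TopCat.Presheaf.germ_res_apply, germ_congr_res, hρ, hu, map_zero]
    obtain ⟨N₂, hxN₂, i₁, i₂, e⟩ := L.presheaf.germ_eq x hxN hxN _ _ h1
    have h2N : N₂ ≤ N₁ ⊓ W := i₁.le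
    have h2W : N₂ ≤ W := h2N.trans hNW
    have h21 : N₂ ≤ N₁ := h2N.trans hN1
    have e2 : L.presheaf.map (homOfLE h2N).op (X.presheaf.map (homOfLE hN1).op ρ •
        L.presheaf.map (homOfLE hNW).op n) = 0 := e.trans (map_zero _)
    -- the germs of ρ vanish on N₂ ∩ D(β)
    have e3 : X.presheaf.map (homOfLE h21).op ρ = 0 := by
      apply eq_zero_of_germ_eq_zero_basicOpen (X.presheaf.map (homOfLE h2W).op β.1) _
        (Mero.regSub_res _ β.2)
      intro z hz hzβ
      have hzβ' : z ∈ X.basicOpen β.1 := by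
        have := Scheme.basicOpen_res X β.1 (homOfLE h2W).op
        rw [this] at hzβ
        exact hzβ.2
      have e4 := congrArg (L.presheaf.germ N₂ z hz) e2
      rw [germ_congr_res, Mero.germ_smul, TopCat.Presheaf.germ_res_apply, germ_congr_res,
        map_zero, hn z hzβ', smul_smul] at e4
      have e5 : X.presheaf.germ N₁ z (h21 hz) ρ * X.presheaf.germ W z (h2W hz) β.1 = 0 :=
        (hm z (hβV hzβ')).1 (by simp only; rw [e4, zero_smul])
      rw [TopCat.Presheaf.germ_res_apply]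
      exact (mul_right_mem_nonZeroDivisors_eq_zero_iff (β.2 ⟨z, h2W hz⟩)).1 e5
    have e6 : (u : X.presheaf.stalk x) * r = 0 := by
      rw [← hρ, ← TopCat.Presheaf.germ_res_apply X.presheaf (homOfLE h21) x hxN₂ ρ, e3, map_zero]
    have e7 : r = 0 :=
      (mul_left_mem_nonZeroDivisors_eq_zero_iff (Mero.regStalk_le_nonZeroDivisors x u.2)).1 e6
    rw [e7]
    exact Localization.mk_zero d

end Ext

end Groth.Agent.Helper23.RegMero
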