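import Groth.Agent.Lib.Helper23.RegMero5
import Groth.Agent.Lib.Helper23.MeroExt3

set_option autoImplicit false
set_option linter.style.haveILetI false

open CategoryTheory AlgebraicGeometry Opposite TopologicalSpace IsLocalRing

universe u

namespace Groth.Agent.Helper23.RegMero

open Groth.Agent.Helper23.CDivDepth Groth.Agent.Helper13.Inv Groth.Agent.Helper13.MeroLib
open Groth.Agent.Helper13.QCoh Groth.Agent.Helper23.FracIdeal Groth.Agent.Helper23.DivInv
open Groth.Agent.Helper23.MeroExt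

variable {X : Scheme.{u}} {L : X.Modules}

/-- finitely many maximal points in an open with finitely many irreducible components -/
theorem finite_maxPts_of_finite_irreducibleComponents (W : X.Opens)
    (h : (irreducibleComponents ↥(W : Scheme.{u})).Finite) :
    {ξ : X | ξ ∈ W ∧ IsMaxPt ξ}.Finite := by
  have h1 : {ζ : ↥(W : Scheme.{u}) | IsMaxPt ζ}.Finite := by
    refine Set.Finite.of_finite_image (f := fun ζ : ↥(W : Scheme.{u}) => closure ({ζ} : Set _))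
      (h.subset ?_) ?_
    · rintro _ ⟨ζ, hζ, rfl⟩
      exact closure_mem_irreducibleComponents hζ
    · intro ζ _ ζ' _ hh
      have h1 : ζ ⤳ ζ' := by
        rw [specializes_iff_closure_subset]; exact hh.symm.subset
      have h2 : ζ' ⤳ ζ := by
        rw [specializes_iff_closure_subset]; exact hh.subset
      exact (h1.antisymm h2).eq
  refine (h1.image (fun ζ : ↥(W : Scheme.{u}) => W.ι.base ζ)).subset ?_
  rintro ξ ⟨hξW, hξ⟩
  refine ⟨(⟨ξ, hξW⟩ : W), ?_, rfl⟩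
  intro z hz
  have h2 : W.ι.base z ⤳ W.ι.base (⟨ξ, hξW⟩ : W) := hz.map W.ι.base.hom.continuous
  have h3 : W.ι.base z = ξ := hξ _ h2
  exact W.ι.isOpenEmbedding.injective h3

/-- with locally finitely many maximal points, an invertible module has a generator over an open
set containing all the maximal points -/
theorem exists_generator_on_maxPts (hL : PicF.IsInvertible L)
    (hLF : ∀ x : X, ∃ W : X.Opens, x ∈ W ∧ {ξ : X | ξ ∈ W ∧ IsMaxPt ξ}.Finite) :
    ∃ (V : X.Opens) (m : Γ(L, V)), IsGenOn L m ∧ ∀ ξ : X, IsMaxPt ξ → ξ ∈ V := by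
  classical
  have hgen := (isInvertible_iff_exists_isGen (L := L)).1 hL
  choose U₀ hxU₀ e₀ he₀ using hgen
  choose W₀ hxW₀ hfin₀ using hLF
  let I := {ξ : X // IsMaxPt ξ}
  -- the closed set of the other components through `W₀ ξ`
  let C : I → Set X := fun i =>
    ⋃ ξ' ∈ {ξ' : X | (ξ' ∈ W₀ i.1 ∧ IsMaxPt ξ') ∧ ξ' ≠ i.1}, closure ({ξ'} : Set X)
  have hCcl : ∀ i, IsClosed (C i) := fun i =>
    ((hfin₀ i.1).subset fun _ h => h.1).isClosed_biUnion fun _ _ => isClosed_closure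
  have hiC : ∀ i : I, i.1 ∉ C i := by
    intro i h
    obtain ⟨ξ', ⟨⟨_, _⟩, hne⟩, hmem⟩ := Set.mem_iUnion₂.1 h
    exact hne (i.2 ξ' (specializes_iff_mem_closure.2 hmem))
  let Vi : I → X.Opens := fun i => U₀ i.1 ⊓ W₀ i.1 ⊓ ⟨(C i)ᶜ, (hCcl i).isOpen_compl⟩
  have hiV : ∀ i : I, i.1 ∈ Vi i := fun i => ⟨⟨hxU₀ i.1, hxW₀ i.1⟩, hiC i⟩
  have hViU : ∀ i, Vi i ≤ U₀ i.1 := fun i => inf_le_left.trans inf_le_left
  -- the only maximal point specializing to a point of `Vi i` is `i`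
  have honly : ∀ (i : I) (y : X), y ∈ Vi i → ∀ ξ : X, IsMaxPt ξ → ξ ⤳ y → ξ = i.1 := by
    intro i y hy ξ hξ hξy
    by_contra hne
    have hξW : ξ ∈ W₀ i.1 := hξy.mem_open (W₀ i.1).2 hy.1.2
    apply hy.2
    exact Set.mem_iUnion₂.2 ⟨ξ, ⟨⟨hξW, hξ⟩, hne⟩, specializes_iff_mem_closure.1 hξy⟩
  have hdisj : ∀ (i j : I) (y : X), y ∈ Vi i → y ∈ Vi j → i = j := by
    intro i j y hyi hyj
    obtain ⟨ξ, hξy, hξ⟩ := exists_maxPt_specializes y
    apply Subtype.ext
    rw [← honly i y hyi ξ hξ hξy, ← honly j y hyj ξ hξ hξy]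
  let V : X.Opens := ⨆ i, Vi i
  let sf : ∀ i : I, Γ(L, Vi i) := fun i => L.presheaf.map (homOfLE (hViU i)).op (e₀ i.1)
  have hcompat : TopCat.Presheaf.IsCompatible L.presheaf Vi sf := by
    intro i j
    apply TopCat.Presheaf.section_ext ⟨L.presheaf, L.isSheaf⟩
    intro z hz
    obtain rfl := hdisj i j z hz.1 hz.2
    rfl
  obtain ⟨m₀, hm₀, -⟩ := TopCat.Sheaf.existsUnique_gluing' (⟨L.presheaf, L.isSheaf⟩ : TopCat.Sheaf Ab X)
    Vi V (fun i => homOfLE (le_iSup Vi i)) (le_refl _) sf hcompat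
  let m : Γ(L, V) := m₀
  have hm : ∀ i, L.presheaf.map (homOfLE (le_iSup Vi i)).op m = sf i := hm₀
  refine ⟨V, m, ?_, fun ξ hξ => Opens.mem_iSup.2 ⟨⟨ξ, hξ⟩, hiV ⟨ξ, hξ⟩⟩⟩
  intro y hy
  obtain ⟨i, hyi⟩ := Opens.mem_iSup.1 hy
  rw [← isGen_res L (homOfLE (le_iSup Vi i)) m y hyi, hm i]
  exact IsGenOn.res (he₀ i.1) (hViU i) y hyi

end Groth.Agent.Helper23.RegMero
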