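import Groth.Agent.Lib.Helper23.RegMero6
import Groth.Agent.Lib.Helper23.SchDense

set_option autoImplicit false
set_option linter.style.haveILetI false

open CategoryTheory AlgebraicGeometry Opposite TopologicalSpace IsLocalRing

universe u

namespace Groth.Agent.Helper23.RegMero

open Groth.Agent.Helper23.CDivDepth Groth.Agent.Helper13.Inv Groth.Agent.Helper13.MeroLib
open Groth.Agent.Helper13.QCoh Groth.Agent.Helper23.FracIdeal Groth.Agent.Helper23.DivInv
open Groth.Agent.Helper23.MeroExt Groth.Agent.Helper23.DepthExt Groth.Agent.Helper23.RegPull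

variable {X : Scheme.{u}} {L : X.Modules}

/-- locally Noetherian schemes have locally finitely many maximal points -/
theorem locallyFinite_maxPts_of_noetherian [IsLocallyNoetherian X] (x : X) :
    ∃ W : X.Opens, x ∈ W ∧ {ξ : X | ξ ∈ W ∧ IsMaxPt ξ}.Finite := by
  obtain ⟨_, ⟨W, hW, rfl⟩, hxW, -⟩ :=
    X.isBasis_affineOpens.exists_subset_of_mem_open (Set.mem_univ x) isOpen_univ
  refine ⟨W, hxW, finite_maxPts_of_finite_irreducibleComponents W ?_⟩
  haveI : IsNoetherianRing Γ(X, W) := IsLocallyNoetherian.component_noetherian ⟨W, hW⟩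
  haveI : NoetherianSpace ↥(W : Scheme.{u}) := noetherianSpace_of_isAffineOpen W hW
  exact NoetherianSpace.finite_irreducibleComponents

/-- the maximal ideal at a maximal point is a minimal prime -/
theorem maximalIdeal_mem_minimalPrimes_of_isMaxPt {ξ : X} (hξ : IsMaxPt ξ) :
    maximalIdeal (X.presheaf.stalk ξ) ∈ minimalPrimes (X.presheaf.stalk ξ) := by
  obtain ⟨q, hq, -⟩ := Ideal.exists_minimalPrimes_le
    (bot_le : ⊥ ≤ maximalIdeal (X.presheaf.stalk ξ))
  obtain ⟨ξ', h, hmax, rfl⟩ := exists_maximalPoint_of_mem_minimalPrimes X ξ q hq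
  obtain rfl := hξ ξ' h
  have : X.presheaf.stalkSpecializes h = 𝟙 _ := TopCat.Presheaf.stalkSpecializes_refl _ _
  rw [this] at hq
  exact hq

/-- a maximal point of a locally Noetherian scheme is an associated point -/
theorem isAssociatedPrime_of_isMaxPt [IsLocallyNoetherian X] {ξ : X} (hξ : IsMaxPt ξ) :
    IsAssociatedPrime (maximalIdeal (X.presheaf.stalk ξ)) (X.presheaf.stalk ξ) := by
  have h1 := maximalIdeal_mem_minimalPrimes_of_isMaxPt hξ
  have h2 := Module.associatedPrimes.minimalPrimes_annihilator_subset_associatedPrimes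
    (X.presheaf.stalk ξ) (X.presheaf.stalk ξ)
  apply h2
  have : Module.annihilator (X.presheaf.stalk ξ) (X.presheaf.stalk ξ) = ⊥ := by
    rw [eq_bot_iff]
    intro r hr
    have := (Module.mem_annihilator.1 hr) 1
    rw [smul_eq_mul, mul_one] at this
    exact this
  rw [this]
  exact h1

/-- (P) for an open containing the associated points of a locally Noetherian scheme -/
theorem exists_regular_of_assoc_mem [IsLocallyNoetherian X] (V : X.Opens)
    (hV : ∀ x : X, IsAssociatedPrime (maximalIdeal (X.presheaf.stalk x)) (X.presheaf.stalk x) →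
      x ∈ V) (x : X) (U : X.Opens) (hx : x ∈ U) :
    ∃ W : X.Opens, IsAffineOpen W ∧ x ∈ W ∧ W ≤ U ∧
      ∃ b : Γ(X, W), b ∈ Mero.regSub X W ∧ X.basicOpen b ≤ V := by
  obtain ⟨_, ⟨W, hW, rfl⟩, hxW, hWU⟩ :=
    X.isBasis_affineOpens.exists_subset_of_mem_open (show x ∈ (U : Set X) from hx) U.2
  refine ⟨W, hW, hxW, hWU, exists_regular_of_noetherian hW ?_⟩
  exact injective_res_global V (fun y hy =>
    hasReg1_of_maximalIdeal_not_mem_associatedPrimes _ (fun hass => hy (hV y hass))) W

/-- no embedded points: every invertible module has a regular meromorphic section -/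
theorem hasRegularMero_of_noEmbedded [IsLocallyNoetherian X]
    (hne : ∀ x : X, IsAssociatedPrime (maximalIdeal (X.presheaf.stalk x)) (X.presheaf.stalk x) →
      ∀ y : X, IsAssociatedPrime (maximalIdeal (X.presheaf.stalk y)) (X.presheaf.stalk y) →
        y ⤳ x → y = x)
    (hL : PicF.IsInvertible L) : Mero.HasRegularMero L := by
  obtain ⟨V, m, hm, hV⟩ := exists_generator_on_maxPts hL locallyFinite_maxPts_of_noetherian
  apply hasRegularMero_of_dense hL hm
  apply exists_regular_of_assoc_mem V
  intro x hx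
  apply hV
  obtain ⟨ξ, hξx, hξ⟩ := exists_maxPt_specializes x
  obtain rfl := hne x hx ξ (isAssociatedPrime_of_isMaxPt hξ) hξx
  exact hξ

end Groth.Agent.Helper23.RegMero
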