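import Groth.Agent.Lib.Helper23.RegMero7

set_option autoImplicit false
set_option linter.style.haveILetI false

open CategoryTheory AlgebraicGeometry Opposite TopologicalSpace IsLocalRing

universe u

namespace Groth.Agent.Helper23.RegMero

open Groth.Agent.Helper23.CDivDepth Groth.Agent.Helper13.Inv Groth.Agent.Helper13.MeroLib
open Groth.Agent.Helper13.QCoh Groth.Agent.Helper23.FracIdeal Groth.Agent.Helper23.DivInv
open Groth.Agent.Helper23.MeroExt Groth.Agent.Helper23.DepthExt Groth.Agent.Helper23.RegPull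

variable {X : Scheme.{u}} {L : X.Modules}

/-- on a reduced scheme, an open containing the maximal points is schematically dense -/
theorem injective_res_of_maxPts_mem [IsReduced X] (V : X.Opens)
    (hV : ∀ ξ : X, IsMaxPt ξ → ξ ∈ V) (W : X.Opens) :
    Function.Injective (X.presheaf.map (homOfLE (inf_le_left : W ⊓ V ≤ W)).op) := by
  rw [injective_iff_map_eq_zero]
  intro r hr
  apply eq_zero_of_basicOpen_eq_bot
  rw [eq_bot_iff]
  intro y hy
  exfalso
  have hyW : y ∈ W := X.basicOpen_le r hy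
  obtain ⟨ξ, hξy, hξ⟩ := exists_maxPt_specializes y
  have hξr : ξ ∈ X.basicOpen r := hξy.mem_open (X.basicOpen r).2 hy
  have hξW : ξ ∈ W := X.basicOpen_le r hξr
  have hξV : ξ ∈ V := hV ξ hξ
  rw [X.mem_basicOpen r ξ hξW] at hξr
  have h1 : X.presheaf.germ W ξ hξW r = X.presheaf.germ (W ⊓ V) ξ ⟨hξW, hξV⟩
      (X.presheaf.map (homOfLE (inf_le_left : W ⊓ V ≤ W)).op r) :=
    (TopCat.Presheaf.germ_res_apply X.presheaf (homOfLE (inf_le_left : W ⊓ V ≤ W)) ξ
      ⟨hξW, hξV⟩ r).symm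
  have h2 : X.presheaf.map (homOfLE (inf_le_left : W ⊓ V ≤ W)).op r = 0 := hr
  rw [h1, h2, map_zero] at hξr
  exact not_isUnit_zero hξr

/-- (P) for an open containing the maximal points of a reduced scheme with locally finitely many
maximal points -/
theorem exists_regular_of_maxPts_mem [IsReduced X]
    (hLF : ∀ x : X, ∃ W : X.Opens, x ∈ W ∧ {ξ : X | ξ ∈ W ∧ IsMaxPt ξ}.Finite)
    (V : X.Opens) (hV : ∀ ξ : X, IsMaxPt ξ → ξ ∈ V) (x : X) (U : X.Opens) (hx : x ∈ U) :
    ∃ W : X.Opens, IsAffineOpen W ∧ x ∈ W ∧ W ≤ U ∧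
      ∃ b : Γ(X, W), b ∈ Mero.regSub X W ∧ X.basicOpen b ≤ V := by
  obtain ⟨W₀, hxW₀, hfin₀⟩ := hLF x
  obtain ⟨_, ⟨W, hW, rfl⟩, hxW, hWle⟩ :=
    X.isBasis_affineOpens.exists_subset_of_mem_open
      (show x ∈ ((U ⊓ W₀ : X.Opens) : Set X) from ⟨hx, hxW₀⟩) (U ⊓ W₀).2
  have hWU : W ≤ U := fun y hy => (hWle hy).1
  have hWW₀ : W ≤ W₀ := fun y hy => (hWle hy).2
  have hfinW : {ξ : X | ξ ∈ W ∧ IsMaxPt ξ}.Finite :=
    hfin₀.subset fun ξ hξ => ⟨hWW₀ hξ.1, hξ.2⟩
  exact ⟨W, hW, hxW, hWU,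
    exists_regular_of_reduced hW hfinW (injective_res_of_maxPts_mem V hV W)⟩

/-- reduced with locally finitely many maximal points: every invertible module has a regular
meromorphic section -/
theorem hasRegularMero_of_reduced [IsReduced X]
    (hLF : ∀ x : X, ∃ W : X.Opens, x ∈ W ∧ {ξ : X | ξ ∈ W ∧ IsMaxPt ξ}.Finite)
    (hL : PicF.IsInvertible L) : Mero.HasRegularMero L := by
  obtain ⟨V, m, hm, hV⟩ := exists_generator_on_maxPts hL hLF
  exact hasRegularMero_of_dense hL hm (exists_regular_of_maxPts_mem hLF V hV)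

end Groth.Agent.Helper23.RegMero
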