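import Groth.Agent.Lib.Helper23.RegMero8

set_option autoImplicit false
set_option linter.style.haveILetI false

open CategoryTheory AlgebraicGeometry Opposite TopologicalSpace IsLocalRing

universe u

namespace Groth.Agent.Helper23.RegMero

open Groth.Agent.Helper23.CDivDepth Groth.Agent.Helper13.Inv Groth.Agent.Helper13.MeroLib
open Groth.Agent.Helper13.QCoh Groth.Agent.Helper23.FracIdeal Groth.Agent.Helper23.DivInv
open Groth.Agent.Helper23.MeroExt Groth.Agent.Helper23.DepthExt Groth.Agent.Helper23.RegPull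

variable {X : Scheme.{u}} {L : X.Modules}

/-- the prime of a maximal generization is a minimal prime of the local ring -/
theorem comap_mem_minimalPrimes_of_isMaxPt {ξ x : X} (h : ξ ⤳ x) (hξ : IsMaxPt ξ) :
    Ideal.comap (X.presheaf.stalkSpecializes h).hom (maximalIdeal (X.presheaf.stalk ξ)) ∈
      minimalPrimes (X.presheaf.stalk x) := by
  have hinj : Function.Injective (X.fromSpecStalk x).base :=
    (X.fromSpecStalk x).isEmbedding.injective
  have hind : Topology.IsInducing (X.fromSpecStalk x).base :=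
    (X.fromSpecStalk x).isEmbedding.isInducing
  have hprime : (Ideal.comap (X.presheaf.stalkSpecializes h).hom
      (maximalIdeal (X.presheaf.stalk ξ))).IsPrime := Ideal.comap_isPrime _ _
  let P : PrimeSpectrum (X.presheaf.stalk x) := ⟨_, hprime⟩
  have hP : (X.fromSpecStalk x).base P = ξ := by
    have h1 := Scheme.SpecMap_stalkSpecializes_fromSpecStalk h
    have h5 : (Spec.map (X.presheaf.stalkSpecializes h) ≫ X.fromSpecStalk x).base
        (closedPoint (X.presheaf.stalk ξ)) = ξ := by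
      rw [h1]; exact Scheme.fromSpecStalk_closedPoint
    exact h5
  refine ⟨⟨hprime, bot_le⟩, ?_⟩
  rintro q' ⟨hq'prime, -⟩ hle
  let P' : PrimeSpectrum (X.presheaf.stalk x) := ⟨q', hq'prime⟩
  have h1 : P' ⤳ P := (PrimeSpectrum.le_iff_specializes P' P).1 hle
  have h2 : (X.fromSpecStalk x).base P' ⤳ (X.fromSpecStalk x).base P :=
    h1.map (X.fromSpecStalk x).base.hom.continuous
  rw [hP] at h2
  have h3 : (X.fromSpecStalk x).base P' = (X.fromSpecStalk x).base P := (hξ _ h2).trans hP.symm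
  have h4 : P' = P := hinj h3
  have h5 := congrArg PrimeSpectrum.asIdeal h4
  exact h5.symm.le

/-- on a reduced scheme with locally finitely many maximal points, the germs of regular sections are
exactly the nonzerodivisors of the local rings -/
theorem regStalk_eq_nonZeroDivisors_of_reduced [IsReduced X]
    (hLF : ∀ x : X, ∃ W : X.Opens, x ∈ W ∧ {ξ : X | ξ ∈ W ∧ IsMaxPt ξ}.Finite) (x : X) :
    Mero.regStalk X x = nonZeroDivisors (X.presheaf.stalk x) := by
  apply le_antisymm (Mero.regStalk_le_nonZeroDivisors x)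
  intro g hg
  obtain ⟨N, hxN, α, rfl⟩ := TopCat.Presheaf.exists_germ_eq X.presheaf g
  obtain ⟨W₀, hxW₀, hfin₀⟩ := hLF x
  let T : Set X := {ξ : X | (ξ ∈ W₀ ∧ IsMaxPt ξ) ∧ ξ ∉ X.basicOpen α}
  have hTfin : T.Finite := hfin₀.subset fun _ h => h.1
  let C : Set X := ⋃ ξ ∈ T, closure ({ξ} : Set X)
  have hCcl : IsClosed C := hTfin.isClosed_biUnion fun _ _ => isClosed_closure
  have hxC : x ∉ C := by
    intro hx
    obtain ⟨ξ, ⟨⟨hξW₀, hξ⟩, hξα⟩, hmem⟩ := Set.mem_iUnion₂.1 hx
    have h : ξ ⤳ x := specializes_iff_mem_closure.2 hmem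
    have hξN : ξ ∈ N := h.mem_open N.2 hxN
    have h1 := comap_mem_minimalPrimes_of_isMaxPt h hξ
    have h2 := Ideal.disjoint_nonZeroDivisors_of_mem_minimalPrimes h1
    apply Set.disjoint_left.1 h2 _ hg
    change (X.presheaf.stalkSpecializes h).hom (X.presheaf.germ N x hxN α) ∈ maximalIdeal _
    have h3 : (X.presheaf.stalkSpecializes h).hom (X.presheaf.germ N x hxN α) =
        X.presheaf.germ N ξ hξN α := by
      rw [← CommRingCat.comp_apply, TopCat.Presheaf.germ_stalkSpecializes]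
    rw [h3, mem_maximalIdeal, mem_nonunits_iff]
    intro hu
    exact hξα ((X.mem_basicOpen α ξ hξN).2 hu)
  let U' : X.Opens := N ⊓ W₀ ⊓ ⟨Cᶜ, hCcl.isOpen_compl⟩
  have hxU' : x ∈ U' := ⟨⟨hxN, hxW₀⟩, hxC⟩
  have hU'N : U' ≤ N := inf_le_left.trans inf_le_left
  refine ⟨U', hxU', X.presheaf.map (homOfLE hU'N).op α, ?_, TopCat.Presheaf.germ_res_apply _ _ _ _ _⟩
  rintro ⟨z, hz⟩
  change X.presheaf.germ U' z hz (X.presheaf.map (homOfLE hU'N).op α) ∈ nonZeroDivisors _
  rw [TopCat.Presheaf.germ_res_apply]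
  apply mem_nonZeroDivisors_of_forall_notMem_minimalPrimes
  intro q hq hmem
  obtain ⟨ξ, h, hmax, rfl⟩ := exists_maximalPoint_of_mem_minimalPrimes X z q hq
  have hξU' : ξ ∈ U' := h.mem_open U'.2 hz
  have hξN : ξ ∈ N := hU'N hξU'
  rw [Ideal.mem_comap] at hmem
  have h1 : (X.presheaf.stalkSpecializes h).hom (X.presheaf.germ N z (hU'N hz) α) =
      X.presheaf.germ N ξ hξN α := by
    rw [← CommRingCat.comp_apply, TopCat.Presheaf.germ_stalkSpecializes]
  rw [h1] at hmem
  have hξα : ξ ∈ X.basicOpen α := by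
    by_contra hcon
    apply hξU'.2
    exact Set.mem_iUnion₂.2 ⟨ξ, ⟨⟨hξU'.1.2, hmax⟩, hcon⟩, subset_closure (Set.mem_singleton ξ)⟩
  rw [X.mem_basicOpen α ξ hξN] at hξα
  exact (mem_maximalIdeal _).1 hmem hξα

end Groth.Agent.Helper23.RegMero
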