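import Mathlib

/-!
# Realising a finite extension of a residue field by a flat finitely presented algebra

Helper library of helper23 (for S14678).
-/

set_option autoImplicit false
universe u

open Polynomial

namespace Groth.Agent.Helper23.ResExt

section frac

variable {R' ℓ : Type*} [CommRing R'] [Field ℓ]

/-- The elements of the field `ℓ` which are fractions of elements in the image of `φ`. -/
def fracSet (φ : R' →+* ℓ) : Set ℓ := {y | ∃ a b : R', φ b ≠ 0 ∧ φ b * y = φ a}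

theorem mem_fracSet_of_range (φ : R' →+* ℓ) (a : R') : φ a ∈ fracSet φ :=
  ⟨a, 1, by simp, by simp⟩

theorem add_mem_fracSet (φ : R' →+* ℓ) {x y : ℓ} (hx : x ∈ fracSet φ) (hy : y ∈ fracSet φ) :
    x + y ∈ fracSet φ := by
  obtain ⟨a, b, hb, hab⟩ := hx
  obtain ⟨c, d, hd, hcd⟩ := hy
  refine ⟨a * d + c * b, b * d, by rw [map_mul]; exact mul_ne_zero hb hd, ?_⟩
  rw [map_mul, map_add, map_mul, map_mul, ← hab, ← hcd]
  ring

theorem mul_mem_fracSet (φ : R' →+* ℓ) {x y : ℓ} (hx : x ∈ fracSet φ) (hy : y ∈ fracSet φ) :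
    x * y ∈ fracSet φ := by
  obtain ⟨a, b, hb, hab⟩ := hx
  obtain ⟨c, d, hd, hcd⟩ := hy
  refine ⟨a * c, b * d, by rw [map_mul]; exact mul_ne_zero hb hd, ?_⟩
  rw [map_mul, map_mul, ← hab, ← hcd]
  ring

theorem div_mem_fracSet (φ : R' →+* ℓ) (a b : R') (hb : φ b ≠ 0) : φ a / φ b ∈ fracSet φ :=
  ⟨a, b, hb, by field_simp⟩

theorem fracSet_mono {R'' : Type*} [CommRing R''] (φ : R' →+* ℓ) (ψ : R'' →+* ℓ) (ι : R' →+* R'')
    (h : ψ.comp ι = φ) : fracSet φ ⊆ fracSet ψ := by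
  rintro y ⟨a, b, hb, hab⟩
  refine ⟨ι a, ι b, ?_, ?_⟩
  · rw [← RingHom.comp_apply, h]; exact hb
  · rw [← RingHom.comp_apply, ← RingHom.comp_apply, h]; exact hab

end frac

section main

variable {R κ : Type u} [CommRing R] [Field κ] (ρ : R →+* κ)

theorem exists_common_denom (hρ : ∀ c : κ, ∃ a b : R, ρ b ≠ 0 ∧ ρ b * c = ρ a) (s : Finset κ) :
    ∃ b : R, ρ b ≠ 0 ∧ ∀ c ∈ s, ∃ a : R, ρ b * c = ρ a := by
  classical
  induction s using Finset.induction_on with
  | empty => exact ⟨1, by simp, by simp⟩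
  | insert c s _ ih =>
    obtain ⟨b, hb, hbs⟩ := ih
    obtain ⟨a', b', hb', hab'⟩ := hρ c
    refine ⟨b * b', by rw [map_mul]; exact mul_ne_zero hb hb', ?_⟩
    intro c' hc'
    rw [Finset.mem_insert] at hc'
    rcases hc' with rfl | hc'
    · exact ⟨b * a', by rw [map_mul, map_mul, ← hab']; ring⟩
    · obtain ⟨a, ha⟩ := hbs c' hc'
      exact ⟨a * b', by rw [map_mul, map_mul, ← ha]; ring⟩

theorem exists_monic_lift (hρ : ∀ c : κ, ∃ a b : R, ρ b ≠ 0 ∧ ρ b * c = ρ a)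
    {ℓ : Type u} [Field ℓ] [Algebra κ ℓ] (x : ℓ) (hx : IsIntegral κ x) :
    ∃ (b : R) (Q : R[X]), ρ b ≠ 0 ∧ Q.Monic ∧
      eval₂ ((algebraMap κ ℓ).comp ρ) (algebraMap κ ℓ (ρ b) * x) Q = 0 := by
  classical
  set p := minpoly κ x with hp
  have hmonic : p.Monic := minpoly.monic hx
  have haeval : aeval x p = 0 := minpoly.aeval κ x
  obtain ⟨b, hb, hbs⟩ := exists_common_denom ρ hρ
    (Finset.image p.coeff (Finset.range (p.natDegree + 1)))
  have hq : scaleRoots p (ρ b) ∈ lifts ρ := by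
    rw [lifts_iff_coeff_lifts]
    intro n
    rw [coeff_scaleRoots]
    rcases lt_trichotomy n p.natDegree with hn | hn | hn
    · obtain ⟨a, ha⟩ := hbs (p.coeff n)
        (Finset.mem_image.mpr ⟨n, Finset.mem_range.mpr (by omega), rfl⟩)
      obtain ⟨e, he⟩ : ∃ e, p.natDegree - n = e + 1 := ⟨p.natDegree - n - 1, by omega⟩
      refine ⟨a * b ^ e, ?_⟩
      rw [map_mul, map_pow, ← ha, he, pow_succ]
      ring
    · subst hn
      refine ⟨1, ?_⟩
      rw [map_one, Nat.sub_self, pow_zero, mul_one]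
      exact hmonic.symm
    · refine ⟨0, ?_⟩
      rw [map_zero, coeff_eq_zero_of_natDegree_lt hn, zero_mul]
  obtain ⟨Q, hQ, -, hQm⟩ := lifts_and_degree_eq_and_monic hq
    ((monic_scaleRoots_iff (ρ b)).mpr hmonic)
  refine ⟨b, Q, hb, hQm, ?_⟩
  rw [← eval₂_map, hQ]
  exact scaleRoots_aeval_eq_zero haeval

end main

section induction

variable {R κ ℓ : Type u} [CommRing R] [Field κ] [Field ℓ] [Algebra κ ℓ] (ρ : R →+* κ)

/-- The inductive statement. -/
def Good (S : Subalgebra κ ℓ) : Prop :=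
  ∃ (R' : Type u) (_ : CommRing R') (_ : Algebra R R'), Module.Flat R R' ∧
    Algebra.FinitePresentation R R' ∧ ∃ φ : R' →+* ℓ,
      φ.comp (algebraMap R R') = (algebraMap κ ℓ).comp ρ ∧ ∀ y ∈ S, y ∈ fracSet φ

theorem good_bot (hρ : ∀ c : κ, ∃ a b : R, ρ b ≠ 0 ∧ ρ b * c = ρ a) :
    Good (ℓ := ℓ) ρ ⊥ := by
  refine ⟨R, inferInstance, inferInstance, inferInstance, inferInstance,
    (algebraMap κ ℓ).comp ρ, rfl, ?_⟩
  intro y hy
  obtain ⟨c, rfl⟩ := Algebra.mem_bot.mp hy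
  obtain ⟨a, b, hb, hab⟩ := hρ c
  refine ⟨a, b, ?_, ?_⟩
  · simpa using hb
  · simp only [RingHom.comp_apply]
    rw [← map_mul, hab]

theorem good_adjoin (hρ : ∀ c : κ, ∃ a b : R, ρ b ≠ 0 ∧ ρ b * c = ρ a)
    [Algebra.IsIntegral κ ℓ] (S : Subalgebra κ ℓ) (x : ℓ) (hS : Good ρ S) :
    Good ρ (Algebra.adjoin κ (insert x (S : Set ℓ))) := by
  obtain ⟨R', _, _, hflat, hfp, φ, hφ, hfrac⟩ := hS
  obtain ⟨b, Q, hb, hQ, hQx⟩ := exists_monic_lift ρ hρ x (Algebra.IsIntegral.isIntegral x)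
  set g : R'[X] := Q.map (algebraMap R R') with hg
  have hgm : g.Monic := hQ.map _
  set x' : ℓ := algebraMap κ ℓ (ρ b) * x with hx'
  have hgx : g.eval₂ φ x' = 0 := by
    rw [hg, eval₂_map, hφ]; exact hQx
  haveI : Module.Free R' (AdjoinRoot g) := hgm.free_adjoinRoot
  haveI : Module.Flat R R' := hflat
  haveI : Algebra.FinitePresentation R R' := hfp
  let ψ : AdjoinRoot g →+* ℓ := AdjoinRoot.lift φ x' hgx
  have hψφ : ψ.comp (AdjoinRoot.of g) = φ := AdjoinRoot.lift_comp_of hgx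
  refine ⟨AdjoinRoot g, inferInstance, inferInstance, Module.Flat.trans R R' (AdjoinRoot g),
    inferInstance, ψ, ?_, ?_⟩
  · rw [AdjoinRoot.algebraMap_eq' R, ← RingHom.comp_assoc, hψφ, hφ]
  · intro y hy
    induction hy using Algebra.adjoin_induction with
    | mem y hy =>
      rcases hy with rfl | hy
      · -- y = x
        refine ⟨AdjoinRoot.root g, AdjoinRoot.of g (algebraMap R R' b), ?_, ?_⟩
        · rw [← RingHom.comp_apply, hψφ, ← RingHom.comp_apply, hφ]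
          simpa using hb
        · rw [← RingHom.comp_apply, hψφ, ← RingHom.comp_apply, hφ]
          simp only [RingHom.comp_apply, ψ, AdjoinRoot.lift_root, hx']
      · exact fracSet_mono φ ψ (AdjoinRoot.of g) hψφ (hfrac y hy)
    | algebraMap c =>
      obtain ⟨a, b', hb', hab'⟩ := hρ c
      refine ⟨algebraMap R (AdjoinRoot g) a, algebraMap R (AdjoinRoot g) b', ?_, ?_⟩
      · rw [AdjoinRoot.algebraMap_eq' R, RingHom.comp_apply, ← RingHom.comp_apply ψ, hψφ,
          ← RingHom.comp_apply, hφ]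
        simpa using hb'
      · rw [AdjoinRoot.algebraMap_eq' R, RingHom.comp_apply, RingHom.comp_apply,
          ← RingHom.comp_apply ψ, ← RingHom.comp_apply ψ, hψφ,
          ← RingHom.comp_apply φ, ← RingHom.comp_apply φ, hφ]
        simp only [RingHom.comp_apply]
        rw [← map_mul, hab']
    | add y z _ _ hy hz => exact add_mem_fracSet ψ hy hz
    | mul y z _ _ hy hz => exact mul_mem_fracSet ψ hy hz

theorem exists_flat_fp [Module.Finite κ ℓ] (hρ : ∀ c : κ, ∃ a b : R, ρ b ≠ 0 ∧ ρ b * c = ρ a) :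
    ∃ (R' : Type u) (_ : CommRing R') (_ : Algebra R R'), Module.Flat R R' ∧
      Algebra.FinitePresentation R R' ∧ ∃ φ : R' →+* ℓ,
        φ.comp (algebraMap R R') = (algebraMap κ ℓ).comp ρ ∧
        ∀ y : ℓ, ∃ r s : R', IsUnit (φ s) ∧ φ s * y = φ r := by
  haveI : IsNoetherian κ ℓ := IsNoetherian.iff_fg.2 inferInstance
  haveI : Algebra.IsIntegral κ ℓ := Algebra.IsIntegral.of_finite κ ℓ
  have key : Good ρ (⊤ : Subalgebra κ ℓ) :=
    Subalgebra.induction_on_adjoin (Good ρ) (good_bot ρ hρ)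
      (fun S x hS => good_adjoin ρ hρ S x hS) ⊤
  obtain ⟨R', i1, i2, h1, h2, φ, hφ, hfrac⟩ := key
  refine ⟨R', i1, i2, h1, h2, φ, hφ, fun y => ?_⟩
  obtain ⟨a, b, hb, hab⟩ := hfrac y Algebra.mem_top
  exact ⟨a, b, isUnit_iff_ne_zero.mpr hb, hab⟩

end induction

end Groth.Agent.Helper23.ResExt
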