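import Mathlib
import Groth.Agent.Lib.Helper23.ResExt1
import Groth.Agent.Lib.Helper23.FFib3

/-!
# Finite residue field extensions occur fppf-locally

Helper library of helper23 (for S14678).
-/

set_option autoImplicit false
universe u

open CategoryTheory CategoryTheory.Limits AlgebraicGeometry

namespace Groth.Agent.Helper23.ResExt

theorem exists_frac_germ_residue {S : Scheme.{u}} {U : S.Opens} (hU : IsAffineOpen U) (s : S)
    (hs : s ∈ U) (c : S.residueField s) :
    ∃ a b : Γ(S, U), (S.presheaf.germ U s hs ≫ S.residue s).hom b ≠ 0 ∧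
      (S.presheaf.germ U s hs ≫ S.residue s).hom b * c =
        (S.presheaf.germ U s hs ≫ S.residue s).hom a := by
  letI : Algebra Γ(S, U) (S.presheaf.stalk s) := (S.presheaf.germ U s hs).hom.toAlgebra
  haveI := hU.isLocalization_stalk ⟨s, hs⟩
  obtain ⟨z, rfl⟩ := S.residue_surjective s c
  obtain ⟨a, b, rfl⟩ := IsLocalization.exists_mk'_eq (hU.primeIdealOf ⟨s, hs⟩).asIdeal.primeCompl z
  refine ⟨a, b, ?_, ?_⟩
  · intro h0
    have : (b : Γ(S, U)) ∈ RingHom.ker (S.presheaf.germ U s hs ≫ S.residue s).hom := h0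
    rw [FFib.ker_germ_residue hU s hs] at this
    exact b.2 this
  · have h1 : algebraMap Γ(S, U) (S.presheaf.stalk s) b *
        IsLocalization.mk' (S.presheaf.stalk s) a b = algebraMap Γ(S, U) (S.presheaf.stalk s) a := by
      rw [mul_comm]; exact IsLocalization.mk'_spec _ a b
    have h2 := congrArg (S.residue s).hom h1
    rw [map_mul] at h2
    exact h2

theorem main (S : Scheme.{u}) (s : ↥S)
    (ℓ : Type u) [Field ℓ] [Algebra (S.residueField s) ℓ] [Module.Finite (S.residueField s) ℓ] :
    ∃ (U' : Scheme.{u}) (b : U' ⟶ S) (t : Spec (CommRingCat.of ℓ) ⟶ U'),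
      IsAffine U' ∧ Flat b ∧ LocallyOfFinitePresentation b ∧ IsPreimmersion t ∧
        t ≫ b = Spec.map (CommRingCat.ofHom (algebraMap (S.residueField s) ℓ)) ≫
          S.fromSpecResidueField s := by
  obtain ⟨_, ⟨U, hU : IsAffineOpen U, rfl⟩, hs, -⟩ :=
    (S.isBasis_affineOpens).exists_subset_of_mem_open (Set.mem_univ s) isOpen_univ
  obtain ⟨R', _, _, hflat, hfp, φ, hφ, hfrac⟩ :=
    exists_flat_fp (ℓ := ℓ) (S.presheaf.germ U s hs ≫ S.residue s).hom
      (exists_frac_germ_residue hU s hs)
  refine ⟨Spec (.of R'), Spec.map (CommRingCat.ofHom (algebraMap Γ(S, U) R')) ≫ hU.fromSpec,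
    Spec.map (CommRingCat.ofHom φ), inferInstance, ?_, ?_, ?_, ?_⟩
  · haveI : Flat (Spec.map (CommRingCat.ofHom (algebraMap Γ(S, U) R'))) := by
      rw [Flat.SpecMap_iff]
      exact (RingHom.flat_algebraMap_iff).mpr hflat
    infer_instance
  · haveI : LocallyOfFinitePresentation (Spec.map (CommRingCat.ofHom (algebraMap Γ(S, U) R'))) := by
      rw [LocallyOfFinitePresentation.SpecMap_iff]
      exact (RingHom.finitePresentation_algebraMap).mpr hfp
    infer_instance
  · apply IsPreimmersion.mk_SpecMap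
    · exact Topology.IsEmbedding.of_subsingleton _
    · exact RingHom.surjectiveOnStalks_of_exists_div hfrac
  · rw [FFib.fromSpecResidueField_eq hU s hs, ← Category.assoc, ← Category.assoc, ← Spec.map_comp,
      ← Spec.map_comp]
    congr 2
    ext x
    have := congrArg (fun f => f x) hφ
    simpa using this

end Groth.Agent.Helper23.ResExt
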