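import Mathlib

universe u

open MvPolynomial

namespace Groth.Agent.Helper23.RetRat

/-- Pure algebra: a `k`-algebra map `γ : B → P_p` lifting the generic point spreads out to
`γ' : B → P_h` with `P_h → B_{π h}` a retraction of it. -/
theorem alg_main {k : Type u} [Field k] {n : ℕ} {B : Type u} [CommRing B] [IsDomain B] [Algebra k B]
    (π : MvPolynomial (Fin n) k →ₐ[k] B) (hπ : Function.Surjective π)
    [hp : (RingHom.ker π.toRingHom).IsPrime]
    (γ : B →+* Localization.AtPrime (RingHom.ker π.toRingHom))
    (hγk : ∀ c : k, γ (algebraMap k B c) = algebraMap k _ c)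
    (hγ : ∀ q : MvPolynomial (Fin n) k,
      IsLocalRing.residue _ (γ (π q)) = IsLocalRing.residue _ (algebraMap _ _ q)) :
    ∃ (h : MvPolynomial (Fin n) k) (_ : π h ≠ 0) (γ' : B →+* Localization.Away h),
      (∀ c : k, γ' (algebraMap k B c) = algebraMap k (Localization.Away h) c) ∧
      ∀ b : B, (IsLocalization.Away.map (Localization.Away h) (Localization.Away (π h))
        π.toRingHom h) (γ' b) = algebraMap B (Localization.Away (π h)) b := by
  classical
  set P := MvPolynomial (Fin n) k with hP
  set p := RingHom.ker π.toRingHom with hpdef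
  set A := Localization.AtPrime p with hA
  have hch : ∀ i : Fin n, ∃ (u : P) (s : p.primeCompl),
      γ (π (X i)) = IsLocalization.mk' A u s := fun i => by
    obtain ⟨⟨u, s⟩, h⟩ := IsLocalization.mk'_surjective p.primeCompl (γ (π (X i)))
    exact ⟨u, s, h.symm⟩
  choose u s hus using hch
  let h : P := ∏ i, (s i : P)
  have hhp : h ∈ p.primeCompl := prod_mem (fun i _ => (s i).2)
  have hmem : ∀ q : P, q ∈ p ↔ π q = 0 := fun q => by
    simp [hpdef, RingHom.mem_ker]
  have hh : π h ≠ 0 := fun h0 => hhp ((hmem h).2 h0)
  refine ⟨h, hh, ?_⟩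
  set Ph := Localization.Away h with hPh
  have hsu : ∀ i, IsUnit (algebraMap P Ph (s i)) := fun i =>
    isUnit_of_dvd_unit (map_dvd _ (Finset.dvd_prod_of_mem (fun i => (s i : P)) (Finset.mem_univ i)))
      (IsLocalization.Away.algebraMap_isUnit h)
  let t : Fin n → Ph := fun i => algebraMap P Ph (u i) * ↑((hsu i).unit⁻¹)
  let γ'' : P →ₐ[k] Ph := MvPolynomial.aeval t
  have hAh : IsUnit (algebraMap P A h) := IsLocalization.map_units A (⟨h, hhp⟩ : p.primeCompl)
  let lam : Ph →+* A := IsLocalization.Away.lift h hAh
  have hlam : ∀ q : P, lam (algebraMap P Ph q) = algebraMap P A q := fun q =>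
    IsLocalization.Away.lift_eq h hAh q
  have c1 : lam.comp γ''.toRingHom = γ.comp π.toRingHom := by
    apply MvPolynomial.ringHom_ext
    · intro c
      have e1 : γ''.toRingHom (C c) = algebraMap P Ph (C c) := by
        change γ'' (C c) = _
        rw [← MvPolynomial.algebraMap_eq, AlgHom.commutes, IsScalarTower.algebraMap_apply k P Ph]
      have e2 : π.toRingHom (C c) = algebraMap k B c := by
        change π (C c) = _
        rw [← MvPolynomial.algebraMap_eq, AlgHom.commutes]
      rw [RingHom.comp_apply, RingHom.comp_apply, e1, e2, hlam, hγk,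
        IsScalarTower.algebraMap_apply k P A, MvPolynomial.algebraMap_eq]
    · intro i
      have e1 : γ''.toRingHom (X i) = t i := by
        exact MvPolynomial.aeval_X t i
      rw [RingHom.comp_apply, RingHom.comp_apply, e1]
      change lam (t i) = γ (π (X i))
      rw [hus i, IsLocalization.eq_mk'_iff_mul_eq, ← hlam, ← map_mul, ← hlam]
      congr 1
      simp only [t]
      rw [mul_assoc, IsUnit.val_inv_mul, mul_one]
  have c1' : ∀ q : P, lam (γ'' q) = γ (π q) := fun q => congr($c1 q)
  have hAinj : Function.Injective (algebraMap P A) :=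
    IsLocalization.injective A (Ideal.primeCompl_le_nonZeroDivisors p)
  have hPhinj : Function.Injective (algebraMap P Ph) :=
    IsLocalization.injective Ph (powers_le_nonZeroDivisors_of_noZeroDivisors
      (fun h0 : h = 0 => hh (by rw [h0, map_zero])))
  have lam_inj : Function.Injective lam := by
    change Function.Injective (IsLocalization.Away.lift h hAh)
    unfold IsLocalization.Away.lift
    rw [IsLocalization.lift_injective_iff]
    intro x y
    rw [hPhinj.eq_iff, hAinj.eq_iff]
  have hker : RingHom.ker π.toRingHom ≤ RingHom.ker γ''.toRingHom := by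
    intro q hq
    rw [RingHom.mem_ker]
    apply lam_inj
    have : π q = 0 := by simpa [RingHom.mem_ker] using hq
    change lam (γ'' q) = lam 0
    rw [c1', this, map_zero, map_zero]
  let γ' : B →+* Ph := π.toRingHom.liftOfSurjective hπ ⟨γ''.toRingHom, hker⟩
  have hγ'π : ∀ q : P, γ' (π q) = γ'' q := fun q =>
    RingHom.liftOfSurjective_comp_apply π.toRingHom hπ ⟨γ''.toRingHom, hker⟩ q
  have hlamγ' : ∀ b : B, lam (γ' b) = γ b := by
    intro b
    obtain ⟨q, rfl⟩ := hπ b
    rw [hγ'π, c1']
  refine ⟨γ', ?_, ?_⟩
  · intro c
    rw [← AlgHom.commutes π, hγ'π, AlgHom.commutes]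
  · set B' := Localization.Away (π h) with hB'
    let π' : Ph →+* B' := IsLocalization.Away.map Ph B' π.toRingHom h
    have hπ' : ∀ q : P, π' (algebraMap P Ph q) = algebraMap B B' (π q) := fun q =>
      IsLocalization.map_eq _ q
    let β : B →+* IsLocalRing.ResidueField A := (IsLocalRing.residue A).comp γ
    have hβπ : ∀ q : P, β (π q) = IsLocalRing.residue A (algebraMap P A q) := fun q => hγ q
    have hβu : IsUnit (β (π h)) := by
      rw [hβπ]
      exact hAh.map _
    let ρ : B' →+* IsLocalRing.ResidueField A := IsLocalization.Away.lift (π h) hβu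
    have hρ : ∀ b : B, ρ (algebraMap B B' b) = β b := fun b =>
      IsLocalization.Away.lift_eq (π h) hβu b
    have hβinj : Function.Injective β := by
      rw [injective_iff_map_eq_zero]
      intro b hb
      obtain ⟨q, rfl⟩ := hπ b
      rw [hβπ, IsLocalRing.residue_eq_zero_iff,
        IsLocalization.AtPrime.to_map_mem_maximal_iff A p q] at hb
      exact (hmem q).1 hb
    have hB'inj : Function.Injective (algebraMap B B') :=
      IsLocalization.injective B' (powers_le_nonZeroDivisors_of_noZeroDivisors hh)
    have ρ_inj : Function.Injective ρ := by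
      change Function.Injective (IsLocalization.Away.lift (π h) hβu)
      unfold IsLocalization.Away.lift
      rw [IsLocalization.lift_injective_iff]
      intro x y
      rw [hB'inj.eq_iff, hβinj.eq_iff]
    have key : ρ.comp π' = (IsLocalRing.residue A).comp lam := by
      apply IsLocalization.ringHom_ext (Submonoid.powers h)
      refine RingHom.ext fun q => ?_
      simp only [RingHom.comp_apply]
      rw [hπ', hρ, hβπ, hlam]
    intro b
    apply ρ_inj
    have := congr($key (γ' b))
    simp only [RingHom.comp_apply] at this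
    rw [this, hlamγ', hρ]
    rfl

end Groth.Agent.Helper23.RetRat
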