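import Mathlib
import Groth.Agent.Lib.Helper23.RetRat2

universe u

open CategoryTheory AlgebraicGeometry MvPolynomial

namespace Groth.Agent.Helper23.RetRat

theorem build {k : Type u} [Field k] {X : Scheme.{u}} (f : X ⟶ Spec (CommRingCat.of k)) {n : ℕ}
    {B : Type u} [CommRing B] [Algebra k B] (j : Spec (CommRingCat.of B) ⟶ X) [IsOpenImmersion j]
    (hjf : j ≫ f = Spec.map (CommRingCat.ofHom (algebraMap k B)))
    (π : MvPolynomial (Fin n) k →ₐ[k] B) (h : MvPolynomial (Fin n) k)
    [Nontrivial (Localization.Away (π h))]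
    (γ' : B →+* Localization.Away h)
    (hγ'k : ∀ c : k, γ' (algebraMap k B c) = algebraMap k (Localization.Away h) c)
    (hret : ∀ b : B, (IsLocalization.Away.map (Localization.Away h) (Localization.Away (π h))
        π.toRingHom h) (γ' b) = algebraMap B (Localization.Away (π h)) b) :
    ∃ (U : X.Opens) (Y : (Spec (CommRingCat.of (MvPolynomial (Fin n) k))).Opens)
        (a : (U : Scheme.{u}) ⟶ (Y : Scheme.{u})) (b : (Y : Scheme.{u}) ⟶ (U : Scheme.{u})),
        (U : Set X).Nonempty ∧ a ≫ b = 𝟙 (U : Scheme.{u}) ∧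
        a ≫ Y.ι ≫ Spec.map (CommRingCat.ofHom (algebraMap k (MvPolynomial (Fin n) k))) = U.ι ≫ f ∧
        b ≫ U.ι ≫ f = Y.ι ≫ Spec.map (CommRingCat.ofHom (algebraMap k (MvPolynomial (Fin n) k))) := by
  classical
  let π' : (Localization.Away h) →+* (Localization.Away (π h)) := IsLocalization.Away.map (Localization.Away h) (Localization.Away (π h)) π.toRingHom h
  have hπ' : ∀ q : (MvPolynomial (Fin n) k), π' (algebraMap (MvPolynomial (Fin n) k) (Localization.Away h) q) = algebraMap B (Localization.Away (π h)) (π q) := fun q =>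
    IsLocalization.map_eq _ q
  let l : Spec (CommRingCat.of (Localization.Away (π h))) ⟶ Spec (CommRingCat.of B) :=
    Spec.map (CommRingCat.ofHom (algebraMap B (Localization.Away (π h))))
  let o : Spec (CommRingCat.of (Localization.Away h)) ⟶ Spec (CommRingCat.of (MvPolynomial (Fin n) k)) :=
    Spec.map (CommRingCat.ofHom (algebraMap (MvPolynomial (Fin n) k) (Localization.Away h)))
  haveI : IsOpenImmersion l := IsOpenImmersion.of_isLocalization (π h)
  haveI : IsOpenImmersion o := IsOpenImmersion.of_isLocalization h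
  let b₁ : Spec (CommRingCat.of (Localization.Away h)) ⟶ Spec (CommRingCat.of B) := Spec.map (CommRingCat.ofHom γ')
  let a₁ : Spec (CommRingCat.of (Localization.Away (π h))) ⟶ Spec (CommRingCat.of (Localization.Away h)) := Spec.map (CommRingCat.ofHom π')
  have hret' : a₁ ≫ b₁ = l := by
    simp only [a₁, b₁, l]
    rw [← Spec.map_comp]
    congr 1
    exact CommRingCat.hom_ext (RingHom.ext fun b => hret b)
  let U : X.Opens := (l ≫ j).opensRange
  let eU : Spec (CommRingCat.of (Localization.Away (π h))) ≅ (U : Scheme.{u}) := (l ≫ j).isoOpensRange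
  have heU : eU.inv ≫ l ≫ j = U.ι := (l ≫ j).isoOpensRange_inv_comp
  let Y' : (Spec (CommRingCat.of (Localization.Away h))).Opens := (b₁ ≫ j) ⁻¹ᵁ U
  let y : (Y' : Scheme.{u}) ⟶ Spec (CommRingCat.of (MvPolynomial (Fin n) k)) := Y'.ι ≫ o
  let Y : (Spec (CommRingCat.of (MvPolynomial (Fin n) k))).Opens := y.opensRange
  let eY : (Y' : Scheme.{u}) ≅ (Y : Scheme.{u}) := y.isoOpensRange
  have heY : eY.hom ≫ Y.ι = Y'.ι ≫ o := y.isoOpensRange_hom_ι
  have heY' : eY.inv ≫ Y'.ι ≫ o = Y.ι := y.isoOpensRange_inv_comp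
  let restr : (Y' : Scheme.{u}) ⟶ (U : Scheme.{u}) := (b₁ ≫ j) ∣_ U
  have hrestr : restr ≫ U.ι = Y'.ι ≫ b₁ ≫ j := morphismRestrict_ι _ _
  have hr : Set.range a₁ ⊆ Set.range Y'.ι := by
    rintro _ ⟨z, rfl⟩
    rw [Scheme.Opens.range_ι]
    change (b₁ ≫ j) (a₁ z) ∈ U
    rw [← Scheme.Hom.comp_apply, ← Category.assoc, hret']
    exact ⟨z, rfl⟩
  let a' : Spec (CommRingCat.of (Localization.Away (π h))) ⟶ (Y' : Scheme.{u}) := IsOpenImmersion.lift Y'.ι a₁ hr
  have ha' : a' ≫ Y'.ι = a₁ := IsOpenImmersion.lift_fac _ _ _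
  have hk1 : (CommRingCat.ofHom (algebraMap k (MvPolynomial (Fin n) k)) ≫ CommRingCat.ofHom (algebraMap (MvPolynomial (Fin n) k) (Localization.Away h))) ≫
      CommRingCat.ofHom π' = CommRingCat.ofHom (algebraMap k B) ≫
        CommRingCat.ofHom (algebraMap B (Localization.Away (π h))) := by
    refine CommRingCat.hom_ext (RingHom.ext fun c => ?_)
    change π' (algebraMap (MvPolynomial (Fin n) k) (Localization.Away h) (algebraMap k (MvPolynomial (Fin n) k) c)) = algebraMap B (Localization.Away (π h)) (algebraMap k B c)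
    rw [hπ', AlgHom.commutes]
  have hk2 : CommRingCat.ofHom (algebraMap k B) ≫ CommRingCat.ofHom γ' =
      CommRingCat.ofHom (algebraMap k (MvPolynomial (Fin n) k)) ≫ CommRingCat.ofHom (algebraMap (MvPolynomial (Fin n) k) (Localization.Away h)) := by
    refine CommRingCat.hom_ext (RingHom.ext fun c => ?_)
    change γ' (algebraMap k B c) = algebraMap (MvPolynomial (Fin n) k) (Localization.Away h) (algebraMap k (MvPolynomial (Fin n) k) c)
    rw [hγ'k, ← IsScalarTower.algebraMap_apply]
  refine ⟨U, Y, eU.inv ≫ a' ≫ eY.hom, eY.inv ≫ restr, ?_, ?_, ?_, ?_⟩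
  · obtain ⟨pt⟩ : Nonempty (Spec (CommRingCat.of (Localization.Away (π h)))) :=
      inferInstanceAs (Nonempty (PrimeSpectrum (Localization.Away (π h))))
    exact ⟨(l ≫ j) pt, ⟨pt, rfl⟩⟩
  · rw [← cancel_mono U.ι]
    simp only [Category.assoc, Iso.hom_inv_id_assoc, Category.id_comp]
    rw [hrestr, ← Category.assoc a', ha', ← Category.assoc a₁, hret', heU]
  · simp only [Category.assoc]
    rw [← Category.assoc eY.hom, heY]
    simp only [Category.assoc]
    rw [← Category.assoc a', ha', ← heU]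
    simp only [Category.assoc]
    rw [hjf]
    simp only [a₁, o, l]
    rw [← Spec.map_comp, ← Spec.map_comp, ← Spec.map_comp, hk1]
  · simp only [Category.assoc]
    rw [← Category.assoc restr, hrestr]
    simp only [Category.assoc]
    rw [hjf, ← heY']
    simp only [b₁, o, Category.assoc]
    rw [← Spec.map_comp, ← Spec.map_comp, hk2]

end Groth.Agent.Helper23.RetRat
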