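import Mathlib
import Groth.Agent.Lib.Helper23.RetRat3

universe u

open CategoryTheory AlgebraicGeometry MvPolynomial

namespace Groth.Agent.Helper23.RetRat

theorem factor_local {A : Type u} [CommRing A] [IsLocalRing A] {X : Scheme.{u}} {B : Type u}
    [CommRing B] (j : Spec (CommRingCat.of B) ⟶ X) [IsOpenImmersion j]
    (β : B →+* IsLocalRing.ResidueField A) (e : Spec (CommRingCat.of A) ⟶ X)
    (he : Spec.map (CommRingCat.ofHom (IsLocalRing.residue A)) ≫ e =
      Spec.map (CommRingCat.ofHom β) ≫ j) :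
    ∃ γ : B →+* A, Spec.map (CommRingCat.ofHom γ) ≫ j = e ∧
      (IsLocalRing.residue A).comp γ = β := by
  have hr : Set.range e ⊆ Set.range j := by
    apply range_subset_of_closedPoint
    obtain ⟨pt⟩ : Nonempty (Spec (CommRingCat.of (IsLocalRing.ResidueField A))) :=
      inferInstanceAs (Nonempty (PrimeSpectrum (IsLocalRing.ResidueField A)))
    rw [← specMap_residue_apply pt, ← Scheme.Hom.comp_apply, he]
    exact ⟨_, rfl⟩
  let g'' : Spec (CommRingCat.of A) ⟶ Spec (CommRingCat.of B) := IsOpenImmersion.lift j e hr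
  have hg'' : g'' ≫ j = e := IsOpenImmersion.lift_fac _ _ _
  let γc : CommRingCat.of B ⟶ CommRingCat.of A := Spec.preimage g''
  have hγc : Spec.map γc = g'' := Spec.map_preimage g''
  refine ⟨γc.hom, ?_, ?_⟩
  · rw [← hg'', ← hγc]
    rfl
  · have e1 : Spec.map (γc ≫ CommRingCat.ofHom (IsLocalRing.residue A)) =
        Spec.map (CommRingCat.ofHom β) := by
      rw [Spec.map_comp, hγc, ← cancel_mono j, Category.assoc, hg'', he]
    have e2 := Spec.map_injective e1
    exact congr($(e2).hom)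

theorem exists_beta {k : Type u} [Field k] {n : ℕ} {B : Type u} [CommRing B] [Algebra k B]
    (π : MvPolynomial (Fin n) k →ₐ[k] B) (hπ : Function.Surjective π)
    [hp : (RingHom.ker π.toRingHom).IsPrime] :
    ∃ β : B →+* IsLocalRing.ResidueField (Localization.AtPrime (RingHom.ker π.toRingHom)),
      (∀ q, β (π q) = IsLocalRing.residue _ (algebraMap _ _ q)) ∧
      (∀ c : k, β (algebraMap k B c) = IsLocalRing.residue _ (algebraMap k _ c)) := by
  have hker : RingHom.ker π.toRingHom ≤ RingHom.ker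
      ((IsLocalRing.residue (Localization.AtPrime (RingHom.ker π.toRingHom))).comp
        (algebraMap (MvPolynomial (Fin n) k) _)) := by
    intro q hq
    rw [RingHom.mem_ker, RingHom.comp_apply, IsLocalRing.residue_eq_zero_iff,
      IsLocalization.AtPrime.to_map_mem_maximal_iff _ (RingHom.ker π.toRingHom) q]
    exact hq
  have hβπ : ∀ q, (π.toRingHom.liftOfSurjective hπ ⟨_, hker⟩) (π q) =
      IsLocalRing.residue _ (algebraMap _ _ q) := fun q =>
    RingHom.liftOfSurjective_comp_apply π.toRingHom hπ ⟨_, hker⟩ q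
  refine ⟨π.toRingHom.liftOfSurjective hπ ⟨_, hker⟩, hβπ, ?_⟩
  intro c
  rw [← AlgHom.commutes π, hβπ, ← IsScalarTower.algebraMap_apply]

theorem dir2 {k : Type u} [Field k] {X : Scheme.{u}} (f : X ⟶ Spec (CommRingCat.of k))
    [IsIntegral X] [LocallyOfFiniteType f] (V : X.Opens) (hV : (V : Set X).Nonempty)
    (hlift : ∀ (A : Type u) [CommRing A] [IsLocalRing A] [Algebra k A]
        (g : Spec (CommRingCat.of (IsLocalRing.ResidueField A)) ⟶ (V : Scheme.{u})),
        g ≫ V.ι ≫ f =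
          Spec.map (CommRingCat.ofHom ((IsLocalRing.residue A).comp (algebraMap k A))) →
        ∃ g' : Spec (CommRingCat.of A) ⟶ (V : Scheme.{u}),
          Spec.map (CommRingCat.ofHom (IsLocalRing.residue A)) ≫ g' = g ∧
          g' ≫ V.ι ≫ f = Spec.map (CommRingCat.ofHom (algebraMap k A))) :
    ∃ (U : X.Opens) (n : ℕ) (Y : (Spec (CommRingCat.of (MvPolynomial (Fin n) k))).Opens)
        (a : (U : Scheme.{u}) ⟶ (Y : Scheme.{u})) (b : (Y : Scheme.{u}) ⟶ (U : Scheme.{u})),
        (U : Set X).Nonempty ∧ a ≫ b = 𝟙 (U : Scheme.{u}) ∧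
        a ≫ Y.ι ≫ Spec.map (CommRingCat.ofHom (algebraMap k (MvPolynomial (Fin n) k))) = U.ι ≫ f ∧
        b ≫ U.ι ≫ f = Y.ι ≫ Spec.map (CommRingCat.ofHom (algebraMap k (MvPolynomial (Fin n) k))) := by
  classical
  obtain ⟨x, hx⟩ := hV
  obtain ⟨_, ⟨V₀, hV₀, rfl⟩, hxV₀, hV₀V⟩ :=
    X.isBasis_affineOpens.exists_subset_of_mem_open hx V.2
  haveI : Nonempty V₀ := ⟨⟨x, hxV₀⟩⟩
  let φB : CommRingCat.of k ⟶ Γ(X, V₀) :=
    (Scheme.ΓSpecIso (CommRingCat.of k)).inv ≫ f.appLE ⊤ V₀ le_top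
  letI : Algebra k Γ(X, V₀) := φB.hom.toAlgebra
  have hft : Algebra.FiniteType k Γ(X, V₀) := by
    have h1 : (f.appLE ⊤ V₀ le_top).hom.FiniteType :=
      f.finiteType_appLE (isAffineOpen_top _) hV₀ le_top
    have h2 : φB.hom.FiniteType := by
      change ((f.appLE ⊤ V₀ le_top).hom.comp
        (Scheme.ΓSpecIso (CommRingCat.of k)).inv.hom).FiniteType
      exact h1.comp (RingHom.FiniteType.of_surjective _
        (ConcreteCategory.bijective_of_isIso (Scheme.ΓSpecIso (CommRingCat.of k)).inv).2)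
    exact h2
  obtain ⟨n, π, hπ⟩ := Algebra.FiniteType.iff_quotient_mvPolynomial''.1 hft
  haveI : (RingHom.ker π.toRingHom).IsPrime := RingHom.ker_isPrime π.toRingHom
  obtain ⟨β, hβπ, hβk⟩ := exists_beta π hπ
  have hjf : hV₀.fromSpec ≫ f = Spec.map φB := by
    rw [← (isAffineOpen_top (Spec (CommRingCat.of k))).SpecMap_appLE_fromSpec f hV₀ le_top,
      IsAffineOpen.fromSpec_top,
      Scheme.isoSpec_Spec_inv, ← Spec.map_comp]
  let j' : Spec Γ(X, V₀) ⟶ (V : Scheme.{u}) := IsOpenImmersion.lift V.ι hV₀.fromSpec (by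
    rw [hV₀.range_fromSpec, Scheme.Opens.range_ι]; exact hV₀V)
  have hj' : j' ≫ V.ι = hV₀.fromSpec := IsOpenImmersion.lift_fac _ _ _
  obtain ⟨g', hg'1, hg'2⟩ := hlift (Localization.AtPrime (RingHom.ker π.toRingHom))
    (Spec.map (CommRingCat.ofHom β) ≫ j') (by
      rw [Category.assoc, ← Category.assoc j', hj', hjf, ← Spec.map_comp]
      congr 1
      exact CommRingCat.hom_ext (RingHom.ext fun c => hβk c))
  obtain ⟨γ, hγ1, hγ2⟩ := factor_local (A := Localization.AtPrime (RingHom.ker π.toRingHom))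
    (B := Γ(X, V₀)) hV₀.fromSpec β (g' ≫ V.ι) (by
      rw [← Category.assoc, hg'1, Category.assoc, hj'])
  have hγk : ∀ c : k, γ (algebraMap k Γ(X, V₀) c) = algebraMap k _ c := by
    have e1 : Spec.map (φB ≫ CommRingCat.ofHom γ) =
        Spec.map (CommRingCat.ofHom (algebraMap k
          (Localization.AtPrime (RingHom.ker π.toRingHom)))) := by
      rw [Spec.map_comp, ← hjf, ← Category.assoc, hγ1, Category.assoc, hg'2]
    have e2 := Spec.map_injective e1
    intro c
    exact congr($(e2).hom c)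
  have hγres : ∀ q, IsLocalRing.residue _ (γ (π q)) =
      IsLocalRing.residue _ (algebraMap _ _ q) := fun q => by
    rw [← hβπ]
    exact congr($hγ2 (π q))
  obtain ⟨h, hh, γ', hγ'k, hret⟩ := alg_main π hπ γ hγk hγres
  haveI : Nontrivial (Localization.Away (π h)) :=
    (IsLocalization.injective (Localization.Away (π h))
      (powers_le_nonZeroDivisors_of_noZeroDivisors hh)).nontrivial
  obtain ⟨U, Y, a, b, h1, h2, h3, h4⟩ := build (B := Γ(X, V₀)) f hV₀.fromSpec hjf π h γ' hγ'k hret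
  exact ⟨U, n, Y, a, b, h1, h2, h3, h4⟩

end Groth.Agent.Helper23.RetRat
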