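import Mathlib
import Groth.Agent.Lib.Helper23.RetRat4

universe u

open CategoryTheory AlgebraicGeometry MvPolynomial

namespace Groth.Agent.Helper23.RetRat

theorem dir1' {k : Type u} [Field k] {X : Scheme.{u}} (f : X ⟶ Spec (CommRingCat.of k))
    (U : X.Opens) (σ : Type u) (Y : (Spec (CommRingCat.of (MvPolynomial (σ) k))).Opens)
    (a : (U : Scheme.{u}) ⟶ (Y : Scheme.{u})) (b : (Y : Scheme.{u}) ⟶ (U : Scheme.{u}))
    (hab : a ≫ b = 𝟙 (U : Scheme.{u}))
    (ha : a ≫ Y.ι ≫ Spec.map (CommRingCat.ofHom (algebraMap k (MvPolynomial (σ) k))) = U.ι ≫ f)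
    (hb : b ≫ U.ι ≫ f = Y.ι ≫ Spec.map (CommRingCat.ofHom (algebraMap k (MvPolynomial (σ) k))))
    (A : Type u) [CommRing A] [IsLocalRing A] [Algebra k A]
    (g : Spec (CommRingCat.of (IsLocalRing.ResidueField A)) ⟶ (U : Scheme.{u}))
    (hg : g ≫ U.ι ≫ f =
      Spec.map (CommRingCat.ofHom ((IsLocalRing.residue A).comp (algebraMap k A)))) :
    ∃ g' : Spec (CommRingCat.of A) ⟶ (U : Scheme.{u}),
      Spec.map (CommRingCat.ofHom (IsLocalRing.residue A)) ≫ g' = g ∧
      g' ≫ U.ι ≫ f = Spec.map (CommRingCat.ofHom (algebraMap k A)) := by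
  classical
  set P := MvPolynomial (σ) k with hP
  let c : Spec (CommRingCat.of (IsLocalRing.ResidueField A)) ⟶ Spec (CommRingCat.of P) :=
    g ≫ a ≫ Y.ι
  let φ : CommRingCat.of P ⟶ CommRingCat.of (IsLocalRing.ResidueField A) := Spec.preimage c
  have hφ : Spec.map φ = c := Spec.map_preimage c
  have hφk : ∀ x : k, φ.hom (algebraMap k P x) = IsLocalRing.residue A (algebraMap k A x) := by
    have e1 : Spec.map (CommRingCat.ofHom (algebraMap k P) ≫ φ) =
        Spec.map (CommRingCat.ofHom ((IsLocalRing.residue A).comp (algebraMap k A))) := by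
      rw [Spec.map_comp, hφ, ← hg]
      simp only [c, Category.assoc]
      rw [ha]
    have e2 := Spec.map_injective e1
    intro x
    exact congr($(e2).hom x)
  have hch : ∀ i : σ, ∃ t : A, IsLocalRing.residue A t = φ.hom (MvPolynomial.X i) := fun i =>
    IsLocalRing.residue_surjective _
  choose t ht using hch
  let ψ : P →ₐ[k] A := MvPolynomial.aeval t
  have hψ : (IsLocalRing.residue A).comp ψ.toRingHom = φ.hom := by
    apply MvPolynomial.ringHom_ext
    · intro x
      have e1 : ψ.toRingHom (C x) = algebraMap k A x := by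
        change ψ (C x) = _
        rw [← MvPolynomial.algebraMap_eq, AlgHom.commutes]
      rw [RingHom.comp_apply, e1, ← MvPolynomial.algebraMap_eq, hφk]
    · intro i
      have e1 : ψ.toRingHom (MvPolynomial.X i) = t i := MvPolynomial.aeval_X t i
      rw [RingHom.comp_apply, e1, ht]
  let d : Spec (CommRingCat.of A) ⟶ Spec (CommRingCat.of P) :=
    Spec.map (CommRingCat.ofHom ψ.toRingHom)
  have hd : Spec.map (CommRingCat.ofHom (IsLocalRing.residue A)) ≫ d = c := by
    rw [← hφ, ← Spec.map_comp]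
    congr 1
    exact CommRingCat.hom_ext hψ
  have hr : Set.range d ⊆ Set.range Y.ι := by
    apply range_subset_of_closedPoint
    obtain ⟨pt⟩ : Nonempty (Spec (CommRingCat.of (IsLocalRing.ResidueField A))) :=
      inferInstanceAs (Nonempty (PrimeSpectrum (IsLocalRing.ResidueField A)))
    rw [← specMap_residue_apply pt, ← Scheme.Hom.comp_apply, hd]
    exact ⟨a (g pt), by simp [c]⟩
  let d' : Spec (CommRingCat.of A) ⟶ (Y : Scheme.{u}) := IsOpenImmersion.lift Y.ι d hr
  have hd' : d' ≫ Y.ι = d := IsOpenImmersion.lift_fac _ _ _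
  refine ⟨d' ≫ b, ?_, ?_⟩
  · have e1 : Spec.map (CommRingCat.ofHom (IsLocalRing.residue A)) ≫ d' = g ≫ a := by
      rw [← cancel_mono Y.ι, Category.assoc, hd', hd, Category.assoc]
    rw [← Category.assoc, e1, Category.assoc, hab, Category.comp_id]
  · rw [Category.assoc, hb, ← Category.assoc, hd', ← Spec.map_comp]
    congr 1
    exact CommRingCat.hom_ext (RingHom.ext fun x => ψ.commutes x)


theorem retract_of_general {k : Type u} [Field k] {X : Scheme.{u}} (f : X ⟶ Spec (CommRingCat.of k))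
    [IsIntegral X] [LocallyOfFiniteType f]
    (U : X.Opens) (σ : Type u) (Y : (Spec (CommRingCat.of (MvPolynomial σ k))).Opens)
    (a : (U : Scheme.{u}) ⟶ (Y : Scheme.{u})) (b : (Y : Scheme.{u}) ⟶ (U : Scheme.{u}))
    (hU : (U : Set X).Nonempty)
    (hab : a ≫ b = 𝟙 (U : Scheme.{u}))
    (ha : a ≫ Y.ι ≫ Spec.map (CommRingCat.ofHom (algebraMap k (MvPolynomial σ k))) = U.ι ≫ f)
    (hb : b ≫ U.ι ≫ f = Y.ι ≫ Spec.map (CommRingCat.ofHom (algebraMap k (MvPolynomial σ k)))) :
    ∃ (U : X.Opens) (n : ℕ) (Y : (Spec (CommRingCat.of (MvPolynomial (Fin n) k))).Opens)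
        (a : (U : Scheme.{u}) ⟶ (Y : Scheme.{u})) (b : (Y : Scheme.{u}) ⟶ (U : Scheme.{u})),
        (U : Set X).Nonempty ∧ a ≫ b = 𝟙 (U : Scheme.{u}) ∧
        a ≫ Y.ι ≫ Spec.map (CommRingCat.ofHom (algebraMap k (MvPolynomial (Fin n) k))) = U.ι ≫ f ∧
        b ≫ U.ι ≫ f = Y.ι ≫ Spec.map (CommRingCat.ofHom (algebraMap k (MvPolynomial (Fin n) k))) := by
  apply dir2 f U hU
  intro A _ _ _ g hg
  exact dir1' f U σ Y a b hab ha hb A g hg

/-- A nonempty open of affine space over an infinite field has a rational point. -/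
theorem exists_rational_point {k : Type u} [Field k] [Infinite k] (σ : Type u)
    (W : (Spec (CommRingCat.of (MvPolynomial σ k))).Opens)
    (hW : (W : Set (Spec (CommRingCat.of (MvPolynomial σ k)))).Nonempty) :
    ∃ z : Spec (CommRingCat.of k) ⟶ Spec (CommRingCat.of (MvPolynomial σ k)),
      z ≫ Spec.map (CommRingCat.ofHom (algebraMap k (MvPolynomial σ k))) = 𝟙 _ ∧
      Set.range z ⊆ W := by
  classical
  obtain ⟨x, hx⟩ := hW
  obtain ⟨_, ⟨h, rfl⟩, hxh, hhW⟩ :=
    PrimeSpectrum.isTopologicalBasis_basic_opens.exists_subset_of_mem_open hx W.2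
  have hne : h ≠ 0 := by
    rintro rfl
    simp at hxh
  obtain ⟨t, ht⟩ : ∃ t : σ → k, MvPolynomial.eval t h ≠ 0 := by
    by_contra hcon
    simp only [not_exists, not_not] at hcon
    exact hne (MvPolynomial.funext (fun t => by rw [hcon t, map_zero]))
  refine ⟨Spec.map (CommRingCat.ofHom (MvPolynomial.eval t)), ?_, ?_⟩
  · rw [← Spec.map_comp, ← Spec.map_id]
    congr 1
    refine CommRingCat.hom_ext (RingHom.ext fun c => ?_)
    change MvPolynomial.eval t (algebraMap k _ c) = c
    rw [MvPolynomial.algebraMap_eq, MvPolynomial.eval_C]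
  · rintro _ ⟨pt, rfl⟩
    apply hhW
    change (PrimeSpectrum.comap (MvPolynomial.eval t) pt) ∈ PrimeSpectrum.basicOpen h
    rw [PrimeSpectrum.mem_basicOpen]
    change h ∉ (pt.asIdeal.comap (MvPolynomial.eval t))
    rw [Ideal.mem_comap]
    intro hmem
    have : pt.asIdeal = ⊥ := Ideal.eq_bot_of_prime _
    rw [this, Ideal.mem_bot] at hmem
    exact ht hmem

end Groth.Agent.Helper23.RetRat
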