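import Mathlib
import Groth.Agent.Lib.Helper23.RetRat5

universe u

open CategoryTheory AlgebraicGeometry MvPolynomial Limits

namespace Groth.Agent.Helper23.RetRat

theorem main15699 (k : Type u) [Field k] [Infinite k]
    (X Y : Scheme.{u}) (f : X ⟶ Spec (CommRingCat.of k)) (g : Y ⟶ Spec (CommRingCat.of k))
    [IsIntegral X] [LocallyOfFiniteType f]
    [IsIntegral (pullback f g)]
    [Scheme.IsRationalOver (pullback.fst f g ≫ f)] :
    ∃ (U : X.Opens) (n : ℕ) (Y' : (Spec (CommRingCat.of (MvPolynomial (Fin n) k))).Opens)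
        (a : (U : Scheme.{u}) ⟶ (Y' : Scheme.{u})) (b : (Y' : Scheme.{u}) ⟶ (U : Scheme.{u})),
        (U : Set X).Nonempty ∧ a ≫ b = 𝟙 (U : Scheme.{u}) ∧
        a ≫ Y'.ι ≫ Spec.map (CommRingCat.ofHom (algebraMap k (MvPolynomial (Fin n) k))) = U.ι ≫ f ∧
        b ≫ U.ι ≫ f = Y'.ι ≫ Spec.map (CommRingCat.ofHom (algebraMap k (MvPolynomial (Fin n) k))) := by
  classical
  obtain ⟨σ, pi, hover⟩ := Scheme.IsRationalOver.exists_birationalOver_affineSpace
    (pullback.fst f g ≫ f)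
  -- notation
  let W := pi.source
  let W' := pi.target
  let e := pi.iso
  let Φ := AffineSpace.SpecIso σ (CommRingCat.of k)
  have hΦ : Φ.hom ≫ Spec.map (CommRingCat.ofHom (algebraMap k (MvPolynomial σ k))) =
      𝔸(σ; Spec (CommRingCat.of k)) ↘ Spec (CommRingCat.of k) := by
    rw [← Iso.eq_inv_comp]
    exact (AffineSpace.SpecIso_inv_over (n := σ) (CommRingCat.of k)).symm
  have hover1 : e.hom ≫ W'.ι ≫ (𝔸(σ; Spec (CommRingCat.of k)) ↘ Spec (CommRingCat.of k)) =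
      W.ι ≫ pullback.fst f g ≫ f := hover
  have hover2 : e.inv ≫ W.ι ≫ pullback.fst f g ≫ f =
      W'.ι ≫ (𝔸(σ; Spec (CommRingCat.of k)) ↘ Spec (CommRingCat.of k)) := by
    rw [← hover1, Iso.inv_hom_id_assoc]
  -- rational point
  have hWne : (W : Set ↥(pullback f g)).Nonempty := pi.dense_source.nonempty
  obtain ⟨w1, hw1⟩ := hWne
  let w1' : W' := e.hom ⟨w1, hw1⟩
  let W'' : (Spec (CommRingCat.of (MvPolynomial σ k))).Opens := Φ.inv ⁻¹ᵁ W'
  have hW''ne : (W'' : Set (Spec (CommRingCat.of (MvPolynomial σ k)))).Nonempty := by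
    refine ⟨Φ.hom w1'.1, ?_⟩
    change Φ.inv (Φ.hom w1'.1) ∈ W'
    rw [← Scheme.Hom.comp_apply, Iso.hom_inv_id]
    exact w1'.2
  obtain ⟨z, hz1, hz2⟩ := exists_rational_point σ W'' hW''ne
  have hzr : Set.range (z ≫ Φ.inv) ⊆ Set.range W'.ι := by
    rintro _ ⟨pt, rfl⟩
    rw [Scheme.Opens.range_ι]
    exact hz2 ⟨pt, rfl⟩
  let w0' : Spec (CommRingCat.of k) ⟶ (W' : Scheme.{u}) := IsOpenImmersion.lift W'.ι (z ≫ Φ.inv) hzr
  have hw0' : w0' ≫ W'.ι = z ≫ Φ.inv := IsOpenImmersion.lift_fac _ _ _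
  let w0 : Spec (CommRingCat.of k) ⟶ (W : Scheme.{u}) := w0' ≫ e.inv
  have hw0 : w0 ≫ W.ι ≫ pullback.fst f g ≫ f = 𝟙 _ := by
    simp only [w0, Category.assoc]
    rw [hover2, ← Category.assoc, hw0', Category.assoc, ← hΦ, Iso.inv_hom_id_assoc, hz1]
  let y0 : Spec (CommRingCat.of k) ⟶ Y := w0 ≫ W.ι ≫ pullback.snd f g
  have hy0 : y0 ≫ g = 𝟙 _ := by
    simp only [y0, Category.assoc]
    rw [← pullback.condition, hw0]
  let s : X ⟶ pullback f g := pullback.lift (𝟙 X) (f ≫ y0) (by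
    rw [Category.id_comp, Category.assoc, hy0, Category.comp_id])
  have hs1 : s ≫ pullback.fst f g = 𝟙 X := pullback.lift_fst _ _ _
  have hs2 : s ≫ pullback.snd f g = f ≫ y0 := pullback.lift_snd _ _ _
  let U : X.Opens := s ⁻¹ᵁ W
  let x0 : Spec (CommRingCat.of k) ⟶ X := w0 ≫ W.ι ≫ pullback.fst f g
  have hx0s : x0 ≫ s = w0 ≫ W.ι := by
    apply pullback.hom_ext
    · simp only [Category.assoc, hs1, Category.comp_id, x0]
    · simp only [Category.assoc, hs2, x0]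
      rw [show w0 ≫ W.ι ≫ pullback.fst f g ≫ f ≫ y0 =
        (w0 ≫ W.ι ≫ pullback.fst f g ≫ f) ≫ y0 by simp only [Category.assoc], hw0,
        Category.id_comp]
  have hUne : (U : Set X).Nonempty := by
    obtain ⟨pt⟩ : Nonempty (Spec (CommRingCat.of k)) := inferInstanceAs (Nonempty (PrimeSpectrum k))
    refine ⟨x0 pt, ?_⟩
    change s (x0 pt) ∈ W
    rw [← Scheme.Hom.comp_apply, hx0s, Scheme.Hom.comp_apply]
    exact (w0 pt).2
  -- maps
  let sU : (U : Scheme.{u}) ⟶ (W : Scheme.{u}) := s ∣_ W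
  have hsU : sU ≫ W.ι = U.ι ≫ s := morphismRestrict_ι _ _
  let b0 : (W' : Scheme.{u}) ⟶ X := e.inv ≫ W.ι ≫ pullback.fst f g
  let Y1 : (W' : Scheme.{u}).Opens := b0 ⁻¹ᵁ U
  let y : (Y1 : Scheme.{u}) ⟶ Spec (CommRingCat.of (MvPolynomial σ k)) := Y1.ι ≫ W'.ι ≫ Φ.hom
  let Y2 : (Spec (CommRingCat.of (MvPolynomial σ k))).Opens := y.opensRange
  let eY : (Y1 : Scheme.{u}) ≅ (Y2 : Scheme.{u}) := y.isoOpensRange
  have heY : eY.hom ≫ Y2.ι = Y1.ι ≫ W'.ι ≫ Φ.hom := y.isoOpensRange_hom_ι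
  have heY' : eY.inv ≫ Y1.ι ≫ W'.ι ≫ Φ.hom = Y2.ι := y.isoOpensRange_inv_comp
  let restr : (Y1 : Scheme.{u}) ⟶ (U : Scheme.{u}) := b0 ∣_ U
  have hrestr : restr ≫ U.ι = Y1.ι ≫ b0 := morphismRestrict_ι _ _
  have hsb : sU ≫ e.hom ≫ b0 = U.ι := by
    simp only [b0, Iso.hom_inv_id_assoc]
    rw [← Category.assoc, hsU, Category.assoc, hs1, Category.comp_id]
  have hr : Set.range (sU ≫ e.hom) ⊆ Set.range Y1.ι := by
    rintro _ ⟨pt, rfl⟩
    rw [Scheme.Opens.range_ι]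
    change b0 ((sU ≫ e.hom) pt) ∈ U
    rw [← Scheme.Hom.comp_apply, Category.assoc, hsb]
    exact pt.2
  let a' : (U : Scheme.{u}) ⟶ (Y1 : Scheme.{u}) := IsOpenImmersion.lift Y1.ι (sU ≫ e.hom) hr
  have ha' : a' ≫ Y1.ι = sU ≫ e.hom := IsOpenImmersion.lift_fac _ _ _
  refine retract_of_general f U σ Y2 (a' ≫ eY.hom) (eY.inv ≫ restr) hUne ?_ ?_ ?_
  · rw [← cancel_mono U.ι]
    simp only [Category.assoc, Iso.hom_inv_id_assoc, Category.id_comp]
    rw [hrestr, ← Category.assoc a', ha', Category.assoc, hsb]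
  · simp only [Category.assoc]
    rw [← Category.assoc eY.hom, heY]
    simp only [Category.assoc]
    rw [hΦ, ← Category.assoc a', ha']
    simp only [Category.assoc]
    rw [hover1, ← Category.assoc sU, hsU, Category.assoc, ← Category.assoc s, hs1, Category.id_comp]
  · simp only [Category.assoc]
    rw [← Category.assoc restr, hrestr, ← heY']
    simp only [Category.assoc, b0]
    rw [hΦ, hover2]

end Groth.Agent.Helper23.RetRat
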