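import Mathlib
import Groth.Agent.Lib.Helper6.ThickAffB
import Groth.Agent.Lib.Helper6.IdealComap

/-!
# Closed-immersion criterion for maps out of a square-zero thickening

Helper library of helper23 (for S18343).
-/

set_option autoImplicit false
universe u

open CategoryTheory CategoryTheory.Limits AlgebraicGeometry

namespace Groth.Agent.Helper23.RibCI

/-- Algebra core: `φ : A → B`, `I ⊆ B` with `I² = 0`, `A → B/I` surjective and `φ⁻¹(I)·B = I`.
Then `φ` is surjective. -/
theorem surjective_of_sq_zero {A B : Type*} [CommRing A] [CommRing B] (φ : A →+* B)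
    (I : Ideal B) (hI : I ^ 2 = ⊥) (hsurj : ∀ b : B, ∃ a : A, b - φ a ∈ I)
    (hgen : (Ideal.comap φ I).map φ = I) : Function.Surjective φ := by
  have hmul : ∀ x ∈ I, ∀ y ∈ I, x * y = 0 := by
    intro x hx y hy
    have : x * y ∈ I ^ 2 := by
      rw [pow_two]; exact Ideal.mul_mem_mul hx hy
    rw [hI] at this
    exact this
  have hIrange : ∀ x ∈ I, ∃ a : A, φ a = x := by
    intro x hx
    rw [← hgen] at hx
    induction hx using Submodule.span_induction with
    | mem x hx =>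
      obtain ⟨k, -, rfl⟩ := hx
      exact ⟨k, rfl⟩
    | zero => exact ⟨0, map_zero _⟩
    | add x y hx hy ihx ihy =>
      obtain ⟨a, rfl⟩ := ihx
      obtain ⟨b, rfl⟩ := ihy
      exact ⟨a + b, map_add _ _ _⟩
    | smul b x hx ih =>
      obtain ⟨a, rfl⟩ := ih
      have hxI : φ a ∈ I := by
        have : φ a ∈ (Ideal.comap φ I).map φ := hx
        rwa [hgen] at this
      obtain ⟨a', ha'⟩ := hsurj b
      refine ⟨a' * a, ?_⟩
      have h0 : (b - φ a') * φ a = 0 := hmul _ ha' _ hxI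
      rw [map_mul, smul_eq_mul]
      linear_combination -h0
  intro b
  obtain ⟨a, ha⟩ := hsurj b
  obtain ⟨a', ha'⟩ := hIrange _ ha
  exact ⟨a + a', by rw [map_add, ha']; ring⟩

theorem surjective_of_ker_pow {D C : Scheme.{u}} (i : D ⟶ C) [IsClosedImmersion i] (n : ℕ)
    (hn : n ≠ 0) (hsq : i.ker ^ n = ⊥) : Function.Surjective i.base := by
  have h1 : (i.ker ^ n).support = i.ker.support := Scheme.IdealSheafData.support_pow _ n hn
  rw [hsq, Scheme.IdealSheafData.support_bot] at h1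
  have h2 : (i.ker.support : Set C) = closure (Set.range i) := i.support_ker
  rw [← h1] at h2
  have h3 : closure (Set.range i) = Set.range i := i.isClosedEmbedding.isClosed_range.closure_eq
  rw [h3] at h2
  intro x
  have : x ∈ Set.range i := by rw [← h2]; trivial
  exact this

theorem isClosedImmersion_of_sq_zero {D C X : Scheme.{u}} (i : D ⟶ C) [IsClosedImmersion i]
    (hsq : i.ker ^ 2 = ⊥) (f : C ⟶ X) [IsClosedImmersion (i ≫ f)]
    (h : (i ≫ f).ker.comap f = i.ker) : IsClosedImmersion f := by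
  have hsi : Function.Surjective i.base := surjective_of_ker_pow i 2 (by norm_num) hsq
  have haff : ∀ U : X.Opens, IsAffineOpen U → IsAffineOpen (f ⁻¹ᵁ U) := by
    intro U hU
    apply Groth.Agent.Helper6.ThickAff.isAffineOpen_of_isAffineOpen_preimage i hsi
    exact hU.preimage (i ≫ f)
  rw [isClosedImmersion_iff_isAffineHom]
  refine ⟨⟨haff⟩, fun U hU => ?_⟩
  have hV := haff U hU
  let φ := (f.app U).hom
  let I : Ideal Γ(C, f ⁻¹ᵁ U) := i.ker.ideal ⟨f ⁻¹ᵁ U, hV⟩
  have hIker : I = RingHom.ker (i.app (f ⁻¹ᵁ U)).hom := Scheme.Hom.ker_apply i ⟨f ⁻¹ᵁ U, hV⟩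
  have hI2 : I ^ 2 = ⊥ := by
    have := congrArg (fun J : C.IdealSheafData => J.ideal ⟨f ⁻¹ᵁ U, hV⟩) hsq
    rw [hIker]
    simpa using this
  have hcomp : ((i ≫ f).app U).hom = (i.app (f ⁻¹ᵁ U)).hom.comp φ := by
    rw [Scheme.Hom.comp_app]; rfl
  apply surjective_of_sq_zero φ I hI2
  · intro b
    obtain ⟨a, ha⟩ := Scheme.Hom.app_surjective (i ≫ f) U hU ((i.app (f ⁻¹ᵁ U)).hom b)
    refine ⟨a, ?_⟩
    rw [hIker, RingHom.mem_ker, map_sub, sub_eq_zero]
    have : ((i ≫ f).app U).hom a = (i.app (f ⁻¹ᵁ U)).hom (φ a) := by rw [hcomp]; rfl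
    rw [← this]
    exact ha.symm
  · have h1 := Groth.Agent.Helper6.IdealComap.ideal_comap f (i ≫ f).ker ⟨f ⁻¹ᵁ U, hV⟩ ⟨U, hU⟩ le_rfl
    rw [h] at h1
    have h2 : (i ≫ f).ker.ideal ⟨U, hU⟩ = Ideal.comap φ I := by
      rw [Scheme.Hom.ker_apply, hIker, hcomp]
      exact (RingHom.comap_ker _ _).symm
    rw [h2, Scheme.Hom.appLE_eq_app] at h1
    exact h1.symm

theorem comap_ker_of_isClosedImmersion {D C X : Scheme.{u}} (i : D ⟶ C) (f : C ⟶ X)
    [IsClosedImmersion i] [IsClosedImmersion f] : (i ≫ f).ker.comap f = i.ker := by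
  rw [← Scheme.IdealSheafData.ker_fst_of_isClosedImmersion (i ≫ f) f]
  let e : D ⟶ pullback f (i ≫ f) := pullback.lift i (𝟙 D) (by simp)
  have he1 : e ≫ pullback.snd f (i ≫ f) = 𝟙 D := pullback.lift_snd _ _ _
  have he3 : e ≫ pullback.fst f (i ≫ f) = i := pullback.lift_fst _ _ _
  have he2 : pullback.snd f (i ≫ f) ≫ e = 𝟙 _ := by
    apply pullback.hom_ext
    · rw [Category.assoc, he3, Category.id_comp, ← cancel_mono f, Category.assoc,
        ← pullback.condition]
    · rw [Category.assoc, he1, Category.comp_id, Category.id_comp]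
  haveI : IsIso e := ⟨⟨pullback.snd f (i ≫ f), he1, he2⟩⟩
  calc (pullback.fst f (i ≫ f)).ker = (e ≫ pullback.fst f (i ≫ f)).ker :=
        (Scheme.Hom.ker_comp_of_isIso e _).symm
    _ = i.ker := by rw [he3]

end Groth.Agent.Helper23.RibCI
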