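import Mathlib
import Groth.Prelude.Def_SchFin2

/-!
# Degree-zero cohomology on finite ringed posets and consequences of the schematic condition (helper23)
-/

set_option autoImplicit false
set_option linter.style.haveILetI false
set_option linter.unusedVariables false

namespace Groth.Agent.Helper23.SchFinH0

open SchFin

universe u

section bc

variable {R S : Type u} [CommRing R] [CommRing S] (g : R →+* S) {M N : Type u}
    [AddCommGroup M] [AddCommGroup N] [Module R M] [Module S N] (f : M →ₛₗ[g] N)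

/-- lifting property of a base change along a ring map -/
theorem bc_lift (h : IsBCAlong g f) {Q : Type*} [AddCommGroup Q] [Module S Q] (ψ : M →+ Q)
    (hψ : ∀ (r : R) (m : M), ψ (r • m) = g r • ψ m) :
    ∃ ψ' : N →ₗ[S] Q, ∀ m, ψ' (f m) = ψ m := by
  letI : Algebra R S := g.toAlgebra
  letI : Module R N := Module.compHom N g
  haveI : IsScalarTower R S N := IsScalarTower.of_algebraMap_smul fun _ _ => rfl
  letI : Module R Q := Module.compHom Q g
  haveI : IsScalarTower R S Q := IsScalarTower.of_algebraMap_smul fun _ _ => rfl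
  have h' : IsBaseChange S ({ toFun := f, map_add' := f.map_add, map_smul' := f.map_smulₛₗ } : M →ₗ[R] N) := h
  let ψl : M →ₗ[R] Q := { toFun := ψ, map_add' := ψ.map_add, map_smul' := fun r m => hψ r m }
  exact ⟨h'.lift ψl, fun m => h'.lift_eq ψl m⟩

/-- induction principle of a base change along a ring map -/
theorem bc_induction (h : IsBCAlong g f) (motive : N → Prop) (zero : motive 0)
    (tmul : ∀ (s : S) (m : M), motive (s • f m))
    (add : ∀ n₁ n₂, motive n₁ → motive n₂ → motive (n₁ + n₂)) (x : N) : motive x := by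
  letI : Algebra R S := g.toAlgebra
  letI : Module R N := Module.compHom N g
  haveI : IsScalarTower R S N := IsScalarTower.of_algebraMap_smul fun _ _ => rfl
  have h' : IsBaseChange S ({ toFun := f, map_add' := f.map_add, map_smul' := f.map_smulₛₗ } : M →ₗ[R] N) := h
  have : ∀ x : N, ∃ (l : List (S × M)), x = (l.map fun p => p.1 • f p.2).sum := by
    intro x
    refine h'.inductionOn x _ ⟨[], rfl⟩ (fun m => ⟨[(1, m)], by simp⟩) ?_ ?_
    · rintro s n ⟨l, rfl⟩
      refine ⟨l.map fun p => (s * p.1, p.2), ?_⟩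
      induction l with
      | nil => simp
      | cons a l ih => simp [smul_add, mul_smul, ih]
    · rintro n₁ n₂ ⟨l₁, rfl⟩ ⟨l₂, rfl⟩
      exact ⟨l₁ ++ l₂, by simp⟩
  obtain ⟨l, rfl⟩ := this x
  induction l with
  | nil => simpa using zero
  | cons a l ih =>
    rw [List.map_cons, List.sum_cons]
    exact add _ _ (tmul _ _) ih

end bc

section h0

variable {X : RSpace.{u}} {U : Set X.pt} {R : Type u} [CommRing R] (φ : Coef X U R)

/-- the one-point chain -/
def chain0 (q : U) : Chain U 0 :=
  OrderEmbedding.ofMapLEIff (fun _ => q) (fun a b => by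
    haveI : Subsingleton (Fin (0 + 1)) := inferInstanceAs (Subsingleton (Fin 1))
    simp only [le_refl, true_iff]; exact le_of_eq (Subsingleton.elim a b))

@[simp] theorem chain0_apply (q : U) (i : Fin 1) : chain0 q i = q := rfl

theorem chain0_surj (σ : Chain U 0) : ∃ q, σ = chain0 q :=
  ⟨σ 0, by
    apply DFunLike.ext
    intro i
    haveI : Subsingleton (Fin (0 + 1)) := inferInstanceAs (Subsingleton (Fin 1))
    rw [chain0_apply, Subsingleton.elim i 0]⟩

/-- the two-point chain -/
def chain1 (q q' : U) (h : q < q') : Chain U 1 :=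
  OrderEmbedding.ofStrictMono ![q, q'] (by
    intro a b hab
    fin_cases a <;> fin_cases b
    · exact absurd hab (lt_irrefl _)
    · exact h
    · exact absurd hab (by decide)
    · exact absurd hab (lt_irrefl _))

theorem chain1_face0 (q q' : U) (h : q < q') : (chain1 q q' h).face 0 = chain0 q' := by
  apply DFunLike.ext
  intro i
  fin_cases i
  rfl

theorem chain1_face1 (q q' : U) (h : q < q') : (chain1 q q' h).face 1 = chain0 q := by
  apply DFunLike.ext
  intro i
  fin_cases i
  rfl

theorem chain1_last (q q' : U) (h : q < q') : (chain1 q q' h) (Fin.last 1) = q' := rfl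

variable (M : OMod X)

theorem faceVal_eq {n : ℕ} (c : Cochain φ M n) (σ : Chain U (n + 1)) (j : Fin (n + 2))
    (τ : Chain U n) (hτ : σ.face j = τ) :
    c.faceVal σ j = M.res (show (τ (Fin.last n)).1 ≤ (σ (Fin.last (n + 1))).1 from
      hτ ▸ Chain.face_last_le j σ) (c τ) := by
  subst hτ
  rfl

/-- value of a degree zero cochain at a point -/
def ev0 (c : Cochain φ M 0) (q : U) : M.carrier q.1 := c (chain0 q)

theorem ev0_ext (c c' : Cochain φ M 0) (h : ∀ q, ev0 φ M c q = ev0 φ M c' q) : c = c' := by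
  funext σ
  obtain ⟨q, rfl⟩ := chain0_surj σ
  exact h q

theorem ev0_add (c c' : Cochain φ M 0) (q : U) :
    ev0 φ M (c + c') q = ev0 φ M c q + ev0 φ M c' q := rfl

theorem ev0_smul (a : R) (c : Cochain φ M 0) (q : U) :
    ev0 φ M (a • c) q = φ.map q a • ev0 φ M c q := rfl

/-- a degree-zero cocycle is a compatible family -/
theorem ev0_compat (c : Cochain φ M 0) (hc : c ∈ cocycles φ M 0) (q q' : U) (h : q.1 ≤ q'.1) :
    M.res h (ev0 φ M c q) = ev0 φ M c q' := by
  rcases eq_or_lt_of_le (show q ≤ q' from h) with e | hlt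
  · subst e
    exact M.res_self _ _
  · have hd : diff φ M 0 c = 0 := hc
    have h1 := congrFun hd (chain1 q q' hlt)
    change (∑ j : Fin 2, ((-1 : ℤ) ^ (j : ℕ)) • c.faceVal (chain1 q q' hlt) j) = 0 at h1
    rw [Fin.sum_univ_two, faceVal_eq φ M c _ 0 _ (chain1_face0 q q' hlt),
      faceVal_eq φ M c _ 1 _ (chain1_face1 q q' hlt)] at h1
    simp only [Fin.val_zero, pow_zero, one_smul, Fin.val_one, pow_one, neg_smul] at h1
    have h2 := add_neg_eq_zero.1 h1
    exact h2.symm.trans (M.res_self _ _)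

/-- a compatible family defines a degree-zero cochain -/
def ofFam (t : ∀ q : U, M.carrier q.1) : Cochain φ M 0 := fun σ => t (σ (Fin.last 0))

theorem ev0_ofFam (t : ∀ q : U, M.carrier q.1) (q : U) : ev0 φ M (ofFam φ M t) q = t q := rfl

theorem ofFam_mem (t : ∀ q : U, M.carrier q.1)
    (ht : ∀ (q q' : U) (h : q.1 ≤ q'.1), M.res h (t q) = t q') : ofFam φ M t ∈ cocycles φ M 0 := by
  change diff φ M 0 (ofFam φ M t) = 0
  funext σ
  change (∑ j : Fin 2, ((-1 : ℤ) ^ (j : ℕ)) • (ofFam φ M t).faceVal σ j) = 0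
  have : ∀ j : Fin 2, (ofFam φ M t).faceVal σ j = t (σ (Fin.last 1)) := by
    intro j
    unfold Cochain.faceVal ofFam
    exact ht _ _ _
  rw [Fin.sum_univ_two, this, this]
  simp

/-- the class map from cocycles to `H⁰` is injective -/
theorem mk0_injective : Function.Injective (H.mk φ M 0) := by
  intro a b hab
  have h1 : H.mk φ M 0 (a - b) = 0 := by rw [map_sub, hab, sub_self]
  have h2 : a - b ∈ (cobdry φ M 0).comap (cocycles φ M 0).subtype :=
    (Submodule.Quotient.mk_eq_zero _).1 h1
  have h3 : (a - b).1 = 0 := h2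
  exact sub_eq_zero.1 (Subtype.ext h3)

theorem mk0_surjective : Function.Surjective (H.mk φ M 0) := Submodule.mkQ_surjective _

/-- cocycles in degree zero are `H⁰` -/
noncomputable def h0Equiv : ↥(cocycles φ M 0) ≃ₗ[R] H φ M 0 :=
  LinearEquiv.ofBijective (H.mk φ M 0) ⟨mk0_injective φ M, mk0_surjective φ M⟩

theorem h0Equiv_apply (c : ↥(cocycles φ M 0)) : h0Equiv φ M c = H.mk φ M 0 c := rfl

/-- sections of the rings as a degree-zero cocycle -/
def secCoc (t : X.sectRing U) : ↥(cocycles φ X.str 0) :=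
  ⟨ofFam φ X.str t.1, ofFam_mem φ X.str t.1 t.2⟩

theorem secCoc_add (t t' : X.sectRing U) : secCoc φ (t + t') = secCoc φ t + secCoc φ t' := rfl

theorem secCoc_injective : Function.Injective (secCoc φ) := by
  intro t t' h
  apply Subtype.ext
  funext q
  have := congrArg (fun c : ↥(cocycles φ X.str 0) => ev0 φ X.str c.1 q) h
  exact this

theorem secCoc_surjective : Function.Surjective (secCoc φ) := by
  intro c
  refine ⟨⟨ev0 φ X.str c.1, ev0_compat φ X.str c.1 c.2⟩, ?_⟩
  apply Subtype.ext
  apply ev0_ext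
  intro q
  rfl

/-- sections of the rings over `U` are `H⁰` -/
noncomputable def secEquiv : X.sectRing U ≃+ H φ X.str 0 :=
  (AddEquiv.ofBijective (⟨⟨secCoc φ, rfl⟩, secCoc_add φ⟩ : X.sectRing U →+ ↥(cocycles φ X.str 0))
    ⟨secCoc_injective φ, secCoc_surjective φ⟩).trans (h0Equiv φ X.str).toAddEquiv

theorem secEquiv_apply (t : X.sectRing U) : secEquiv φ t = H.mk φ X.str 0 (secCoc φ t) := rfl

/-- the ring map from the coefficient ring to the sections -/
def coefSect : R →+* X.sectRing U where
  toFun a := ⟨fun q => φ.map q a, fun q q' h => φ.compat q q' h a⟩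
  map_one' := by ext q; simp only [map_one]; rfl
  map_mul' a b := by ext q; simp only [map_mul]; rfl
  map_zero' := by ext q; simp only [map_zero]; rfl
  map_add' a b := by ext q; simp only [map_add]; rfl

theorem secEquiv_smul (a : R) (t : X.sectRing U) :
    secEquiv φ (coefSect φ a * t) = a • secEquiv φ t := by
  rw [secEquiv_apply, secEquiv_apply, ← map_smul]
  congr 1

variable {U' : Set X.pt} {R' : Type u} [CommRing R'] {φ' : Coef X U' R'}

/-- restriction of sections to a smaller subset -/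
def restrSect (hle : U' ⊆ U) : X.sectRing U →+* X.sectRing U' where
  toFun t := ⟨fun q => t.1 ⟨q.1, hle q.2⟩, fun q q' h => t.2 ⟨q.1, hle q.2⟩ ⟨q'.1, hle q'.2⟩ h⟩
  map_one' := rfl
  map_mul' _ _ := rfl
  map_zero' := rfl
  map_add' _ _ := rfl

theorem resH_secEquiv (sub : Coef.Sub φ φ') (t : X.sectRing U) :
    resH X.str sub 0 (secEquiv φ t) = secEquiv φ' (restrSect sub.le t) := rfl

theorem sect_span (sub : Coef.Sub φ φ') (hbc : IsBCAlong sub.hom (resH X.str sub 0))
    (motive : X.sectRing U' → Prop) (zero : motive 0)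
    (tmul : ∀ (a : R') (t : X.sectRing U), motive (coefSect φ' a * restrSect sub.le t))
    (add : ∀ t₁ t₂, motive t₁ → motive t₂ → motive (t₁ + t₂)) (t : X.sectRing U') : motive t := by
  have key : ∀ h : H φ' X.str 0, motive ((secEquiv φ').symm h) := by
    intro h
    refine bc_induction sub.hom (resH X.str sub 0) hbc (fun h => motive ((secEquiv φ').symm h))
      ?_ ?_ ?_ h
    · simpa using zero
    · intro a m
      obtain ⟨t, rfl⟩ := (secEquiv φ).surjective m
      rw [resH_secEquiv, ← secEquiv_smul, AddEquiv.symm_apply_apply]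
      exact tmul a t
    · intro n₁ n₂ h₁ h₂
      rw [map_add]
      exact add _ _ h₁ h₂
  have := key (secEquiv φ' t)
  rwa [AddEquiv.symm_apply_apply] at this

/-- pushout property of sections in degree zero, from the base change condition -/
theorem pushout_desc (sub : Coef.Sub φ φ') (hbc : IsBCAlong sub.hom (resH X.str sub 0))
    {Ω : Type*} [CommRing Ω] (α : R' →+* Ω) (β : X.sectRing U →+* Ω)
    (hαβ : ∀ r : R, α (sub.hom r) = β (coefSect φ r)) :
    ∃ γ : X.sectRing U' →+* Ω, (∀ a, γ (coefSect φ' a) = α a) ∧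
      (∀ t, γ (restrSect sub.le t) = β t) := by
  letI : Module R' Ω := Module.compHom Ω α
  have hsm : ∀ (a : R') (w : Ω), a • w = α a * w := fun _ _ => rfl
  let ψ : H φ X.str 0 →+ Ω := β.toAddMonoidHom.comp (secEquiv φ).symm.toAddMonoidHom
  have hψ : ∀ (r : R) (m : H φ X.str 0), ψ (r • m) = sub.hom r • ψ m := by
    intro r m
    obtain ⟨t, rfl⟩ := (secEquiv φ).surjective m
    rw [← secEquiv_smul, hsm, hαβ]
    change β ((secEquiv φ).symm (secEquiv φ _)) = _ * β ((secEquiv φ).symm (secEquiv φ _))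
    rw [AddEquiv.symm_apply_apply, AddEquiv.symm_apply_apply, map_mul]
  obtain ⟨ψ', hψ'⟩ := bc_lift sub.hom (resH X.str sub 0) hbc ψ hψ
  have hψt : ∀ t, ψ (secEquiv φ t) = β t := by
    intro t
    change β ((secEquiv φ).symm (secEquiv φ _)) = _
    rw [AddEquiv.symm_apply_apply]
  have hpure : ∀ (a : R') (t : X.sectRing U),
      ψ' (secEquiv φ' (coefSect φ' a * restrSect sub.le t)) = α a * β t := by
    intro a t
    rw [secEquiv_smul, map_smul, ← resH_secEquiv φ sub t, hψ', hψt, hsm]
  have hone : ψ' (secEquiv φ' 1) = 1 := by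
    have := hpure 1 1
    rwa [map_one, map_one, map_one, map_one, one_mul, one_mul] at this
  have hmul : ∀ t t' : X.sectRing U', ψ' (secEquiv φ' (t * t')) =
      ψ' (secEquiv φ' t) * ψ' (secEquiv φ' t') := by
    intro t
    refine sect_span φ sub hbc (fun t => ∀ t', ψ' (secEquiv φ' (t * t')) =
      ψ' (secEquiv φ' t) * ψ' (secEquiv φ' t')) ?_ ?_ ?_ t
    · intro t'
      rw [zero_mul, map_zero, map_zero, zero_mul]
    · intro a u t'
      refine sect_span φ sub hbc (fun t' => ψ' (secEquiv φ' (coefSect φ' a * restrSect sub.le u * t')) =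
        ψ' (secEquiv φ' (coefSect φ' a * restrSect sub.le u)) * ψ' (secEquiv φ' t')) ?_ ?_ ?_ t'
      · rw [mul_zero, map_zero, map_zero, mul_zero]
      · intro a' u'
        have : coefSect φ' a * restrSect sub.le u * (coefSect φ' a' * restrSect sub.le u') =
            coefSect φ' (a * a') * restrSect sub.le (u * u') := by
          rw [map_mul, map_mul]; ring
        rw [this, hpure, hpure, hpure, map_mul, map_mul]
        ring
      · intro t₁ t₂ h₁ h₂
        rw [mul_add, map_add, map_add, map_add, map_add, h₁, h₂, mul_add]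
    · intro t₁ t₂ h₁ h₂ t'
      rw [add_mul, map_add, map_add, map_add, map_add, h₁, h₂, add_mul]
  refine ⟨{ toFun := fun t => ψ' (secEquiv φ' t), map_one' := hone, map_mul' := hmul,
            map_zero' := by rw [map_zero, map_zero],
            map_add' := fun a b => by rw [map_add, map_add] }, ?_, ?_⟩
  · intro a
    have := hpure a 1
    rw [map_one, map_one, mul_one, mul_one] at this
    exact this
  · intro t
    have := hpure 1 t
    rw [map_one, map_one, one_mul, one_mul] at this
    exact this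

end h0

section fields

open TensorProduct

/-- two primes with the same contraction are kernels of maps to a common field -/
theorem exists_field_of_comap_eq {R S T : Type u} [CommRing R] [CommRing S] [CommRing T]
    (g : R →+* S) (h : R →+* T) (P : Ideal S) [P.IsPrime] (Q : Ideal T) [Q.IsPrime]
    (hPQ : P.comap g = Q.comap h) :
    ∃ (Ω : Type u) (_ : Field Ω) (α : S →+* Ω) (β : T →+* Ω),
      (∀ r, α (g r) = β (h r)) ∧ RingHom.ker α = P ∧ RingHom.ker β = Q := by
  let p : Ideal R := P.comap g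
  haveI : p.IsPrime := Ideal.comap_isPrime g P
  let i : p.ResidueField →+* P.ResidueField := Ideal.ResidueField.map p P g rfl
  let j : p.ResidueField →+* Q.ResidueField := Ideal.ResidueField.map p Q h hPQ
  letI : Algebra p.ResidueField P.ResidueField := i.toAlgebra
  letI : Algebra p.ResidueField Q.ResidueField := j.toAlgebra
  haveI : Nontrivial (P.ResidueField ⊗[p.ResidueField] Q.ResidueField) :=
    Algebra.TensorProduct.nontrivial_of_algebraMap_injective_of_isDomain _ _ _
      (RingHom.injective _) (RingHom.injective _)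
  obtain ⟨M, hM⟩ := Ideal.exists_maximal (P.ResidueField ⊗[p.ResidueField] Q.ResidueField)
  letI := Ideal.Quotient.field M
  let a₀ : P.ResidueField →+* (P.ResidueField ⊗[p.ResidueField] Q.ResidueField) ⧸ M :=
    (Ideal.Quotient.mk M).comp
      (Algebra.TensorProduct.includeLeft (R := p.ResidueField) (S := p.ResidueField)
        (A := P.ResidueField) (B := Q.ResidueField)).toRingHom
  let b₀ : Q.ResidueField →+* (P.ResidueField ⊗[p.ResidueField] Q.ResidueField) ⧸ M :=
    (Ideal.Quotient.mk M).comp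
      (Algebra.TensorProduct.includeRight (R := p.ResidueField)
        (A := P.ResidueField) (B := Q.ResidueField)).toRingHom
  refine ⟨_, inferInstance, a₀.comp (algebraMap S P.ResidueField),
    b₀.comp (algebraMap T Q.ResidueField), ?_, ?_, ?_⟩
  · intro r
    have e1 : algebraMap S P.ResidueField (g r) = i (algebraMap R p.ResidueField r) :=
      (Ideal.ResidueField.map_algebraMap p P g rfl r).symm
    have e2 : algebraMap T Q.ResidueField (h r) = j (algebraMap R p.ResidueField r) :=
      (Ideal.ResidueField.map_algebraMap p Q h hPQ r).symm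
    change a₀ (algebraMap S P.ResidueField (g r)) = b₀ (algebraMap T Q.ResidueField (h r))
    rw [e1, e2]
    change Ideal.Quotient.mk M (i (algebraMap R p.ResidueField r) ⊗ₜ 1) =
      Ideal.Quotient.mk M (1 ⊗ₜ j (algebraMap R p.ResidueField r))
    congr 1
    have h1 : i (algebraMap R p.ResidueField r) = (algebraMap R p.ResidueField r) • (1 : P.ResidueField) := by
      rw [Algebra.smul_def, mul_one]; rfl
    have h2 : j (algebraMap R p.ResidueField r) = (algebraMap R p.ResidueField r) • (1 : Q.ResidueField) := by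
      rw [Algebra.smul_def, mul_one]; rfl
    rw [h1, h2, TensorProduct.smul_tmul]
  · ext s
    rw [RingHom.mem_ker, RingHom.comp_apply, map_eq_zero_iff a₀ (RingHom.injective a₀),
      Ideal.algebraMap_residueField_eq_zero]
  · ext t
    rw [RingHom.mem_ker, RingHom.comp_apply, map_eq_zero_iff b₀ (RingHom.injective b₀),
      Ideal.algebraMap_residueField_eq_zero]

end fields

section schematic

variable (X : RSpace.{u})

/-- In a schematic space, for `s ≤ x`, `s ≤ y`, the ring of sections over `U_x ∩ U_y` has the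
pushout property for `𝒪_x ← 𝒪_s → 𝒪_y` (existence part). -/
theorem schematic_pushout (hX : X.IsSchematic) {s x y : X.pt} (hx : s ≤ x) (hy : s ≤ y)
    {Ω : Type*} [CommRing Ω] (α : X.ring x →+* Ω) (β : X.ring y →+* Ω)
    (hαβ : ∀ r, α (X.res hx r) = β (X.res hy r)) :
    ∃ γ : X.sectRing (X.up x ∩ X.up y) →+* Ω,
      (∀ a, γ (X.resSect x _ Set.inter_subset_left a) = α a) ∧
      (∀ b, γ (X.resSect y _ Set.inter_subset_right b) = β b) := by
  have hbc := (hX.2.2 0 s x hx y y (le_refl y)).1
  set f := Hom.id X with hf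
  let y₀ : f.wedge s y := ⟨y, hy, le_refl y⟩
  obtain ⟨γ, h1, h2⟩ := pushout_desc _ (f.subSrc hx y) hbc α
    (β.comp (X.evalRing (f.wedge s y) y₀)) (fun r => (hαβ r).trans rfl)
  refine ⟨γ, fun a => h1 a, fun b => ?_⟩
  have hW : f.wedge s y ⊆ X.up y := fun q hq => hq.2
  have := h2 (X.resSect y _ hW b)
  rw [RingHom.comp_apply] at this
  have e : X.evalRing (f.wedge s y) y₀ (X.resSect y _ hW b) = b := X.res_self y b
  rw [e] at this
  rw [← this]
  rfl

/-- the hypothesis carried by the rows on schematic points -/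
def FFHyp : Prop :=
  ∀ s a b : X.pt, s ≤ a → s ≤ b → (X.up a ∩ X.up b).Nonempty →
    Module.FaithfullyFlat (X.sectRing (X.up a ∩ X.up b)) ((q : ↥(X.up a ∩ X.up b)) → X.ring q.1)

theorem pair_lift (hX : X.IsSchematic) (hff : FFHyp X)
    {s x y : X.pt} (hx : s ≤ x) (hy : s ≤ y) (P : PrimeSpectrum (X.ring x))
    (Q : PrimeSpectrum (X.ring y))
    (hPQ : PrimeSpectrum.comap (X.res hx) P = PrimeSpectrum.comap (X.res hy) Q) :
    X.PairRel ⟨x, P⟩ ⟨y, Q⟩ := by
  have hPQ' : P.asIdeal.comap (X.res hx) = Q.asIdeal.comap (X.res hy) :=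
    congrArg PrimeSpectrum.asIdeal hPQ
  obtain ⟨Ω, _, α, β, hαβ, hα, hβ⟩ :=
    exists_field_of_comap_eq (X.res hx) (X.res hy) P.asIdeal Q.asIdeal hPQ'
  obtain ⟨γ, hγ1, hγ2⟩ := schematic_pushout X hX hx hy α β hαβ
  have hne : (X.up x ∩ X.up y).Nonempty := by
    by_contra hemp
    rw [Set.not_nonempty_iff_eq_empty] at hemp
    have h01 : (1 : X.sectRing (X.up x ∩ X.up y)) = 0 := by
      apply Subtype.ext
      funext q
      have hq : q.1 ∈ (∅ : Set X.pt) := hemp ▸ q.2
      exact absurd hq (Set.notMem_empty _)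
    have := congrArg γ h01
    rw [map_one, map_zero] at this
    exact one_ne_zero this
  haveI := hff s x y hx hy hne
  let 𝔯 : PrimeSpectrum (X.sectRing (X.up x ∩ X.up y)) := ⟨RingHom.ker γ, RingHom.ker_isPrime γ⟩
  obtain ⟨𝔯', h𝔯'⟩ := PrimeSpectrum.comap_surjective_of_faithfullyFlat
    (B := ((q : ↥(X.up x ∩ X.up y)) → X.ring q.1)) 𝔯
  obtain ⟨⟨q₀, r⟩, hr⟩ := (PrimeSpectrum.sigmaToPi_bijective
    (fun q : ↥(X.up x ∩ X.up y) => X.ring q.1)).2 𝔯'
  rw [PrimeSpectrum.sigmaToPi_apply] at hr
  have hmem : ∀ t : X.sectRing (X.up x ∩ X.up y), t.1 q₀ ∈ r.asIdeal ↔ γ t = 0 := by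
    intro t
    have h1 : t ∈ 𝔯.asIdeal ↔ γ t = 0 := RingHom.mem_ker
    rw [← h1, ← h𝔯', ← hr]
    rfl
  refine ⟨q₀.1, q₀.2.1, q₀.2.2, r, ?_, ?_⟩
  · apply PrimeSpectrum.ext
    ext a
    change X.res _ a ∈ r.asIdeal ↔ a ∈ P.asIdeal
    rw [← hα, RingHom.mem_ker, ← hγ1, ← hmem]
    rfl
  · apply PrimeSpectrum.ext
    ext b
    change X.res _ b ∈ r.asIdeal ↔ b ∈ Q.asIdeal
    rw [← hβ, RingHom.mem_ker, ← hγ2, ← hmem]
    rfl

theorem pairRel_refl (a : X.Pair) : X.PairRel a a :=
  ⟨a.1, le_refl _, le_refl _, a.2, by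
    apply PrimeSpectrum.ext; ext t
    change X.res (le_refl a.1) t ∈ a.2.asIdeal ↔ t ∈ a.2.asIdeal
    rw [X.res_self], by
    apply PrimeSpectrum.ext; ext t
    change X.res (le_refl a.1) t ∈ a.2.asIdeal ↔ t ∈ a.2.asIdeal
    rw [X.res_self]⟩

theorem pairRel_symm {a b : X.Pair} (h : X.PairRel a b) : X.PairRel b a := by
  obtain ⟨z, hx, hy, r, h1, h2⟩ := h
  exact ⟨z, hy, hx, r, h2, h1⟩

theorem comap_comap_res {p q z : X.pt} (h : p ≤ q) (h' : q ≤ z) (r : PrimeSpectrum (X.ring z)) :
    PrimeSpectrum.comap (X.res h) (PrimeSpectrum.comap (X.res h') r) =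
      PrimeSpectrum.comap (X.res (h.trans h')) r := by
  apply PrimeSpectrum.ext; ext t
  change X.res h' (X.res h t) ∈ r.asIdeal ↔ X.res _ t ∈ r.asIdeal
  rw [X.res_comp]

theorem pairRel_trans (hX : X.IsSchematic) (hff : FFHyp X) {a b c : X.Pair}
    (h1 : X.PairRel a b) (h2 : X.PairRel b c) : X.PairRel a c := by
  obtain ⟨z, hx, hy, r, ha, hb⟩ := h1
  obtain ⟨z', hy', hw, r', hb', hc⟩ := h2
  obtain ⟨w, hzw, hz'w, r'', e1, e2⟩ := pair_lift X hX hff hy hy' r r' (hb.trans hb'.symm)
  refine ⟨w, hx.trans hzw, hw.trans hz'w, r'', ?_, ?_⟩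
  · rw [← comap_comap_res X hx hzw, e1, ha]
  · rw [← comap_comap_res X hw hz'w, e2, hc]

theorem pairRel_equivalence (hX : X.IsSchematic) (hff : FFHyp X) : Equivalence X.PairRel :=
  ⟨pairRel_refl X, pairRel_symm X, pairRel_trans X hX hff⟩

end schematic

end Groth.Agent.Helper23.SchFinH0
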