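import Mathlib
import Groth.Prelude.Def_SchFin2
import Groth.Agent.Lib.Helper23.SchFinH0

set_option autoImplicit false
set_option linter.style.haveILetI false
set_option linter.unusedVariables false
set_option linter.unusedSectionVars false

namespace Groth.Agent.Helper23.SchFinAff

open SchFin TensorProduct

universe u

section prodff

variable {R : Type u} [CommRing R] {ι : Type u}
    (S : ι → Type u) [∀ q, CommRing (S q)] [∀ q, Algebra R (S q)]
    {P N : Type u} [AddCommGroup P] [AddCommGroup N] [Module R P] [Module R N] (F : P →ₗ[R] N)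

theorem piLeft_comm [Fintype ι] [DecidableEq ι] (x : (∀ q, S q) ⊗[R] P) :
    piLeft R N S (F.lTensor (∀ q, S q) x) = fun q => (F.lTensor (S q)) (piLeft R P S x q) := by
  induction x using TensorProduct.induction_on with
  | zero => funext q; simp
  | tmul s p => ext q; simp
  | add a b ha hb =>
    funext q
    have ha' := congrFun ha q
    have hb' := congrFun hb q
    simp only [map_add, Pi.add_apply, ha', hb']

theorem injective_of_forall_lTensor [Finite ι] [Module.FaithfullyFlat R (∀ q, S q)]
    (h : ∀ q, Function.Injective (F.lTensor (S q))) : Function.Injective F := by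
  classical
  cases nonempty_fintype ι
  rw [← Module.FaithfullyFlat.lTensor_injective_iff_injective R (∀ q, S q)]
  intro x y hxy
  apply (piLeft R P S).injective
  funext q
  apply h q
  have := congrArg (piLeft R N S) hxy
  rw [piLeft_comm, piLeft_comm] at this
  exact congrFun this q

theorem surjective_of_forall_lTensor [Finite ι] [Module.FaithfullyFlat R (∀ q, S q)]
    (h : ∀ q, Function.Surjective (F.lTensor (S q))) : Function.Surjective F := by
  classical
  cases nonempty_fintype ι
  rw [← Module.FaithfullyFlat.lTensor_surjective_iff_surjective R (∀ q, S q)]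
  intro y
  choose x hx using fun q => h q (piLeft R N S y q)
  refine ⟨(piLeft R P S).symm x, ?_⟩
  apply (piLeft R N S).injective
  rw [piLeft_comm]
  funext q
  rw [LinearEquiv.apply_symm_apply]
  exact hx q

theorem bijective_of_forall_lTensor [Finite ι] [Module.FaithfullyFlat R (∀ q, S q)]
    (h : ∀ q, Function.Bijective (F.lTensor (S q))) : Function.Bijective F :=
  ⟨injective_of_forall_lTensor S F fun q => (h q).1,
    surjective_of_forall_lTensor S F fun q => (h q).2⟩

end prodff

section descent

variable {R₀ R : Type u} [CommRing R₀] [CommRing R] [Algebra R₀ R]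
  {ι : Type u} [Finite ι] (S : ι → Type u) [∀ q, CommRing (S q)] [∀ q, Algebra R (S q)]
  [∀ q, Algebra R₀ (S q)] [∀ q, IsScalarTower R₀ R (S q)]
  [Module.FaithfullyFlat R (∀ q, S q)]
  {M₀ N : Type u} [AddCommGroup M₀] [Module R₀ M₀] [AddCommGroup N] [Module R N] [Module R₀ N]
  [IsScalarTower R₀ R N]
  (f : M₀ →ₗ[R₀] N)
  (Nq : ι → Type u) [∀ q, AddCommGroup (Nq q)] [∀ q, Module (S q) (Nq q)] [∀ q, Module R (Nq q)]
  [∀ q, IsScalarTower R (S q) (Nq q)] [∀ q, Module R₀ (Nq q)] [∀ q, IsScalarTower R₀ (S q) (Nq q)]
  [∀ q, IsScalarTower R₀ R (Nq q)]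
  (p : ∀ q, N →ₗ[R] Nq q)

theorem isBaseChange_of_forall (hp : ∀ q, IsBaseChange (S q) (p q))
    (hpf : ∀ q, IsBaseChange (S q) (((p q).restrictScalars R₀).comp f)) : IsBaseChange R f := by
  have hP : IsBaseChange R (TensorProduct.mk R₀ R M₀ 1) := TensorProduct.isBaseChange R₀ M₀ R
  let F : R ⊗[R₀] M₀ →ₗ[R] N := hP.lift f
  have hFf : ∀ x, F (1 ⊗ₜ x) = f x := fun x => hP.lift_eq f x
  have hF : Function.Bijective F := by
    apply bijective_of_forall_lTensor S F
    intro q
    let jP : (R ⊗[R₀] M₀) →ₗ[R] S q ⊗[R] (R ⊗[R₀] M₀) := TensorProduct.mk R (S q) _ 1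
    have hjP : IsBaseChange (S q) jP := TensorProduct.isBaseChange R _ (S q)
    have h1 : IsBaseChange (S q) ((jP.restrictScalars R₀).comp (TensorProduct.mk R₀ R M₀ 1)) :=
      hP.comp hjP
    let G : S q ⊗[R] (R ⊗[R₀] M₀) →ₗ[S q] Nq q :=
      (hp q).equiv.toLinearMap ∘ₗ (AlgebraTensorModule.lTensor (S q) (S q) F)
    have hG : G = (hpf q).equiv.toLinearMap ∘ₗ h1.equiv.symm.toLinearMap := by
      apply h1.algHom_ext'
      ext x
      simp only [LinearMap.coe_comp, LinearMap.coe_restrictScalars, Function.comp_apply,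
        LinearEquiv.coe_coe]
      have e1 : h1.equiv.symm (jP ((TensorProduct.mk R₀ R M₀ 1) x)) = 1 ⊗ₜ x :=
        h1.equiv_symm_apply x
      rw [e1]
      simp [G, jP, hFf, IsBaseChange.equiv_tmul]
    have hGb : Function.Bijective G := by
      rw [hG]
      exact ((hpf q).equiv.bijective).comp h1.equiv.symm.bijective
    have : (F.lTensor (S q) : _ → _) = (hp q).equiv.symm ∘ G := by
      funext x
      simp [G]
    rw [this]
    exact (hp q).equiv.symm.bijective.comp hGb
  exact IsBaseChange.of_equiv (LinearEquiv.ofBijective F hF) hFf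

end descent

section congr

variable {R R' S : Type u} [CommRing R] [CommRing R'] [CommRing S]
  {M M' N : Type u} [AddCommGroup M] [AddCommGroup M'] [AddCommGroup N]
  [Module R M] [Module R' M'] [Module S N]

open Groth.Agent.Helper23.SchFinH0 in
/-- transfer of `IsBCAlong` along isomorphisms of the source ring and module -/
theorem isBCAlong_congr (e : R' ≃+* R) (g : R →+* S) (g' : R' →+* S) (hg : ∀ r', g' r' = g (e r'))
    (eM : M' ≃+ M) (heM : ∀ (r' : R') (m' : M'), eM (r' • m') = e r' • eM m')
    (f : M →ₛₗ[g] N) (f' : M' →ₛₗ[g'] N) (hf : ∀ m', f' m' = f (eM m'))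
    (h : IsBCAlong g' f') : IsBCAlong g f := by
  unfold IsBCAlong
  letI : Algebra R S := g.toAlgebra
  letI : Module R N := Module.compHom N g
  haveI : IsScalarTower R S N := IsScalarTower.of_algebraMap_smul fun _ _ => rfl
  apply IsBaseChange.of_lift_unique
  intro Q _ _ _ _ ψ
  have hsm : ∀ (r : R) (x : Q), r • x = g r • x := fun r x => by
    rw [← algebraMap_smul S r x]; rfl
  let ψ' : M' →+ Q := (ψ : M →+ Q).comp (eM : M' →+ M)
  have hψ' : ∀ (r' : R') (m' : M'), ψ' (r' • m') = g' r' • ψ' m' := by
    intro r' m'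
    show ψ (eM (r' • m')) = g' r' • ψ (eM m')
    rw [heM, map_smul, hsm, hg]
  letI : AddCommGroup Q := Module.addCommMonoidToAddCommGroup S
  obtain ⟨χ, hχ⟩ := bc_lift g' f' h ψ' hψ'
  refine ⟨χ, ?_, ?_⟩
  · ext m
    obtain ⟨m', rfl⟩ := eM.surjective m
    show χ (f (eM m')) = ψ (eM m')
    rw [← hf]
    exact hχ m'
  · intro χ₂ hχ₂
    ext n
    refine bc_induction g' f' h (fun n => χ₂ n = χ n) ?_ ?_ ?_ n
    · simp
    · intro s m'
      rw [map_smul, map_smul, hχ m', hf]
      have := LinearMap.congr_fun hχ₂ (eM m')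
      simp only [LinearMap.coe_comp, LinearMap.coe_restrictScalars, Function.comp_apply,
        LinearMap.coe_mk, AddHom.coe_mk] at this
      rw [this]
      rfl
    · intro a b ha hb
      rw [map_add, map_add, ha, hb]

end congr

section restrict

variable (X : RSpace.{u}) (U : Set X.pt)

/-- sections of the rings of the restricted space over everything = sections over `U` -/
def sectRingEquiv : (X.restrict U).sectRing Set.univ ≃+* X.sectRing U where
  toFun s := ⟨fun q => s.1 ⟨q, trivial⟩, fun q q' h => s.2 ⟨q, trivial⟩ ⟨q', trivial⟩ h⟩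
  invFun t := ⟨fun q => t.1 q.1, fun q q' h => t.2 q.1 q'.1 h⟩
  left_inv s := by ext q; rfl
  right_inv t := by ext q; rfl
  map_mul' a b := rfl
  map_add' a b := rfl

/-- sections of the restricted module over everything = sections over `U` -/
def sectEquiv (M : OMod X) : (M.restrict U).sect Set.univ ≃+ M.sect U where
  toFun s := ⟨fun q => s.1 ⟨q, trivial⟩, fun q q' h => s.2 ⟨q, trivial⟩ ⟨q', trivial⟩ h⟩
  invFun t := ⟨fun q => t.1 q.1, fun q q' h => t.2 q.1 q'.1 h⟩
  left_inv s := by ext q; rfl
  right_inv t := by ext q; rfl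
  map_add' a b := rfl

theorem restrict_isQcoh (M : OMod X) (hM : M.IsQcoh) : (M.restrict U).IsQcoh :=
  fun p p' h => hM p.1 p'.1 h

/-- on an affine subset, the value of a quasi-coherent module at a point is the base change of
the sections -/
theorem affine_bc (hUa : (X.restrict U).IsAffine) (M : OMod X) (hM : M.IsQcoh) (q : U) :
    IsBCAlong (X.evalRing U q) (M.evalMod U q) := by
  have h := hUa.2.2.1 (M.restrict U) (restrict_isQcoh X U M hM) q
  exact isBCAlong_congr (sectRingEquiv X U) _ _ (fun r' => rfl) (sectEquiv X U M)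
    (fun r' m' => rfl) _ _ (fun m' => rfl) h

end restrict


section family

variable {R R' : Type u} [CommRing R] [CommRing R'] [Algebra R R']
  {ι : Type u} [Finite ι]
  (B : ι → Type u) [∀ q, CommRing (B q)] [∀ q, Algebra R' (B q)] [∀ q, Algebra R (B q)]
  [∀ q, IsScalarTower R R' (B q)]

/-- conjugating `lTensor` by `cancelBaseChange` -/
theorem lTensor_cancel {N P : Type u} [AddCommGroup N] [AddCommGroup P] [Module R N] [Module R P]
    (f : N →ₗ[R] P) (q : ι) (x : B q ⊗[R'] (R' ⊗[R] N)) :
    AlgebraTensorModule.cancelBaseChange R R' R' (B q) P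
      ((AlgebraTensorModule.lTensor R' R' f).lTensor (B q) x) =
    f.lTensor (B q) (AlgebraTensorModule.cancelBaseChange R R' R' (B q) N x) := by
  induction x using TensorProduct.induction_on with
  | zero => simp
  | tmul b y =>
    induction y using TensorProduct.induction_on with
    | zero => simp
    | tmul r n => simp
    | add y z hy hz => simp only [tmul_add, map_add, hy, hz]
  | add x y hx hy => simp only [map_add, hx, hy]

theorem flat_of_family [Module.FaithfullyFlat R' (∀ q, B q)] (h : ∀ q, Module.Flat R (B q)) :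
    Module.Flat R R' := by
  rw [Module.Flat.iff_lTensor_preserves_injective_linearMap]
  intro N P _ _ _ _ f hf
  have : Function.Injective (AlgebraTensorModule.lTensor R' R' f) := by
    apply injective_of_forall_lTensor B
    intro q x y hxy
    apply (AlgebraTensorModule.cancelBaseChange R R' R' (B q) N).injective
    apply Module.Flat.lTensor_preserves_injective_linearMap (M := B q) f hf
    rw [← lTensor_cancel, ← lTensor_cancel, hxy]
  exact this

theorem flat_of_pi_flat (S : ι → Type u) [∀ q, CommRing (S q)] [∀ q, Algebra R (S q)]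
    [Module.Flat R (∀ q, S q)] (q : ι) : Module.Flat R (S q) := by
  classical
  refine Module.Flat.of_retract (M := ∀ q, S q) (LinearMap.single R S q) (LinearMap.proj q) ?_
  ext x
  simp

theorem faithfullyFlat_of_family (S : ι → Type u) [∀ q, CommRing (S q)] [∀ q, Algebra R (S q)]
    [∀ q, Algebra (S q) (B q)] [∀ q, IsScalarTower R (S q) (B q)]
    [Module.FaithfullyFlat R (∀ q, S q)] [Module.FaithfullyFlat R' (∀ q, B q)]
    (h : ∀ q, Module.FaithfullyFlat (S q) (B q)) : Module.FaithfullyFlat R R' := by
  classical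
  cases nonempty_fintype ι
  have hSflat : ∀ q, Module.Flat R (S q) := fun q => flat_of_pi_flat S q
  have hBflat : ∀ q, Module.Flat R (B q) := fun q => Module.Flat.trans R (S q) (B q)
  rw [Module.FaithfullyFlat.iff_flat_and_lTensor_reflects_triviality]
  refine ⟨flat_of_family B hBflat, fun N _ _ hN => ?_⟩
  have h1 : ∀ q, Subsingleton (B q ⊗[R] N) := fun q =>
    (AlgebraTensorModule.cancelBaseChange R R' R' (B q) N).symm.toEquiv.subsingleton
  have h2 : ∀ q, Subsingleton (S q ⊗[R] N) := fun q => by
    have : Subsingleton (B q ⊗[S q] (S q ⊗[R] N)) :=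
      (AlgebraTensorModule.cancelBaseChange R (S q) (S q) (B q) N).toEquiv.subsingleton
    exact Module.FaithfullyFlat.lTensor_reflects_triviality (S q) (B q) (S q ⊗[R] N)
  have h3 : Subsingleton ((∀ q, S q) ⊗[R] N) := (piLeft R N S).toEquiv.subsingleton
  exact Module.FaithfullyFlat.lTensor_reflects_triviality R (∀ q, S q) N

end family

section finite

variable {R : Type u} [CommRing R] {ι : Type u} [Finite ι]
  (S : ι → Type u) [∀ q, CommRing (S q)] [∀ q, Algebra R (S q)]
  [Module.FaithfullyFlat R (∀ q, S q)]
  {N : Type u} [AddCommGroup N] [Module R N]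
  (Nq : ι → Type u) [∀ q, AddCommGroup (Nq q)] [∀ q, Module (S q) (Nq q)] [∀ q, Module R (Nq q)]
  [∀ q, IsScalarTower R (S q) (Nq q)]
  (p : ∀ q, N →ₗ[R] Nq q)

theorem finite_of_family (hp : ∀ q, IsBaseChange (S q) (p q))
    (hfin : ∀ q, Module.Finite (S q) (Nq q)) : Module.Finite R N := by
  classical
  cases nonempty_fintype ι
  have key : ∀ q, ∃ t : Finset N, Submodule.span (S q) ((p q) '' (t : Set N)) = ⊤ := by
    intro q
    have htop : Submodule.span (S q) (Set.range (p q)) = ⊤ := by
      rw [eq_top_iff]
      rintro x -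
      refine (hp q).inductionOn x (fun x => x ∈ Submodule.span (S q) (Set.range (p q)))
        (Submodule.zero_mem _) (fun m => Submodule.subset_span ⟨m, rfl⟩)
        (fun s n hn => Submodule.smul_mem _ s hn) (fun a b ha hb => Submodule.add_mem _ ha hb)
    have hfg : (Submodule.span (S q) (Set.range (p q))).FG := by
      rw [htop]; exact Module.Finite.fg_top
    obtain ⟨s', hs', hspan⟩ := (Submodule.fg_span_iff_fg_span_finset_subset _).mp hfg
    choose! g hg using fun y (hy : y ∈ (s' : Set (Nq q))) => hs' hy
    refine ⟨s'.image g, ?_⟩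
    rw [← htop, hspan]
    congr 1
    ext y
    simp only [Finset.coe_image, Set.mem_image, Finset.mem_coe, exists_exists_and_eq_and]
    constructor
    · rintro ⟨a, ha, rfl⟩
      rw [hg a ha]; exact ha
    · intro hy
      exact ⟨y, hy, hg y hy⟩
  choose t ht using key
  let T : Finset N := Finset.univ.biUnion t
  let F : (T → R) →ₗ[R] N := Fintype.linearCombination R (fun i : T => (i : N))
  have hF : Function.Surjective F := by
    apply surjective_of_forall_lTensor S F
    intro q
    suffices h : Function.Surjective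
        ((hp q).equiv.toLinearMap ∘ₗ AlgebraTensorModule.lTensor (S q) (S q) F) by
      intro y
      obtain ⟨x, hx⟩ := h ((hp q).equiv y)
      exact ⟨x, (hp q).equiv.injective hx⟩
    rw [← LinearMap.range_eq_top, eq_top_iff, ← ht q, Submodule.span_le]
    rintro _ ⟨n, hn, rfl⟩
    refine ⟨1 ⊗ₜ Pi.single ⟨n, Finset.mem_biUnion.mpr ⟨q, Finset.mem_univ _, hn⟩⟩ 1, ?_⟩
    simp [F, IsBaseChange.equiv_tmul]
  exact Module.Finite.of_surjective F hF

end finite

section alg

variable (X : RSpace.{u}) (A : Alg X) (U : Set X.pt)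

@[reducible] def algRR' : Algebra (X.sectRing U) (A.total.sectRing U) := (A.sectMap U).toAlgebra
@[reducible] def algRS (q : U) : Algebra (X.sectRing U) (X.ring q.1) := (X.evalRing U q).toAlgebra
@[reducible] def algR'B (q : U) : Algebra (A.total.sectRing U) (A.carrier q.1) :=
  (A.total.evalRing U q).toAlgebra

attribute [local instance] algRR' algRS algR'B

section bc

@[reducible] def modRB (q : U) : Module (X.sectRing U) (A.carrier q.1) :=
  Module.compHom _ (X.evalRing U q)

attribute [local instance] modRB

instance towerRSB (q : U) : IsScalarTower (X.sectRing U) (X.ring q.1) (A.carrier q.1) :=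
  IsScalarTower.of_algebraMap_smul fun _ _ => rfl

/-- evaluation of algebra sections at a point, semilinear over evaluation of ring sections -/
def evAlgSL (q : U) : A.total.sectRing U →ₛₗ[X.evalRing U q] A.carrier q.1 where
  toFun s := s.1 q
  map_add' _ _ := rfl
  map_smul' r s := by
    have key : ∀ (a : X.ring q.1) (b : A.carrier q.1), algebraMap _ _ a * b = a • b :=
      fun a b => (Algebra.smul_def a b).symm
    exact key _ _

/-- module sections of the underlying module of an algebra = ring sections of the algebra -/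
def algSectEquiv : A.toMod.sect U ≃+ A.total.sectRing U where
  toFun t := ⟨t.1, t.2⟩
  invFun s := ⟨s.1, s.2⟩
  left_inv s := rfl
  right_inv t := rfl
  map_add' _ _ := rfl

theorem algSectEquiv_smul (r : X.sectRing U) (t : A.toMod.sect U) :
    algSectEquiv X A U (r • t) = r • algSectEquiv X A U t := by
  apply Subtype.ext
  funext q
  have key : ∀ (a : X.ring q.1) (b : A.carrier q.1), a • b = algebraMap _ _ a * b :=
    fun a b => Algebra.smul_def a b
  exact key _ _

theorem alg_bc (hUa : (X.restrict U).IsAffine) (hA : A.IsQcoh) (q : U) :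
    IsBCAlong (X.evalRing U q) (evAlgSL X A U q) := by
  have h := affine_bc X U hUa A.toMod hA q
  exact isBCAlong_congr (RingEquiv.refl _) _ _ (fun r' => rfl) (algSectEquiv X A U)
    (fun r' m' => algSectEquiv_smul X A U r' m') _ _ (fun m' => rfl) h

/-- evaluation of algebra sections at a point as a linear map -/
def evAlgLin (q : U) : A.total.sectRing U →ₗ[X.sectRing U] A.carrier q.1 :=
  { toFun := evAlgSL X A U q, map_add' := (evAlgSL X A U q).map_add,
    map_smul' := (evAlgSL X A U q).map_smulₛₗ }

theorem alg_bc' (hUa : (X.restrict U).IsAffine) (hA : A.IsQcoh) (q : U) :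
    IsBaseChange (X.ring q.1) (evAlgLin X A U q) :=
  alg_bc X A U hUa hA q

theorem alg_finite_iff (hUa : (X.restrict U).IsAffine) (hA : A.IsQcoh)
    (hφ : Module.FaithfullyFlat (X.sectRing U) ((q : ↥U) → X.ring q.1)) :
    (∀ q : X.pt, q ∈ U → Module.Finite (X.ring q) (A.carrier q)) ↔ (A.sectMap U).Finite := by
  constructor
  · intro h
    haveI : Module.FaithfullyFlat (X.sectRing U) ((q : ↥U) → X.ring q.1) := hφ
    exact finite_of_family (fun q : U => X.ring q.1) (fun q : U => A.carrier q.1)
      (fun q => evAlgLin X A U q) (fun q => alg_bc' X A U hUa hA q) (fun q => h q.1 q.2)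
  · intro hfin q hq
    have hfin' : Module.Finite (X.sectRing U) (A.total.sectRing U) := hfin
    have key : ∀ q : U, Module.Finite (X.ring q.1) (A.carrier q.1) := fun q =>
      Module.Finite.equiv (alg_bc' X A U hUa hA q).equiv
    exact key ⟨q, hq⟩

theorem alg_flat_of_global (hUa : (X.restrict U).IsAffine) (hA : A.IsQcoh)
    (h : (A.sectMap U).Flat) (q : U) : Module.Flat (X.ring q.1) (A.carrier q.1) := by
  have h' : Module.Flat (X.sectRing U) (A.total.sectRing U) := h
  have hb := alg_bc' X A U hUa hA q
  exact Module.Flat.isBaseChange (X.sectRing U) (X.ring q.1) (A.total.sectRing U) (A.carrier q.1) hb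

theorem alg_ff_of_global (hUa : (X.restrict U).IsAffine) (hA : A.IsQcoh)
    (h : (A.sectMap U).FaithfullyFlat) (q : U) :
    Module.FaithfullyFlat (X.ring q.1) (A.carrier q.1) := by
  have h' : Module.FaithfullyFlat (X.sectRing U) (A.total.sectRing U) := h
  have hb := alg_bc' X A U hUa hA q
  exact Module.FaithfullyFlat.of_linearEquiv (X.ring q.1)
    (X.ring q.1 ⊗[X.sectRing U] A.total.sectRing U) hb.equiv.symm

end bc

section desc

@[reducible] def algRB (q : U) : Algebra (X.sectRing U) (A.carrier q.1) :=
  ((algebraMap (X.ring q.1) (A.carrier q.1)).comp (X.evalRing U q)).toAlgebra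

attribute [local instance] algRB

instance towerRSB2 (q : U) : IsScalarTower (X.sectRing U) (X.ring q.1) (A.carrier q.1) :=
  IsScalarTower.of_algebraMap_eq fun _ => rfl

instance towerRR'B (q : U) : IsScalarTower (X.sectRing U) (A.total.sectRing U) (A.carrier q.1) :=
  IsScalarTower.of_algebraMap_eq fun _ => rfl

theorem alg_flat_of_local
    (hφ : Module.FaithfullyFlat (X.sectRing U) ((q : ↥U) → X.ring q.1))
    (hψ : (A.total.sectRing U).subtype.FaithfullyFlat)
    (h : ∀ q : X.pt, q ∈ U → Module.Flat (X.ring q) (A.carrier q)) : (A.sectMap U).Flat := by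
  haveI : Module.FaithfullyFlat (X.sectRing U) ((q : ↥U) → X.ring q.1) := hφ
  haveI : Module.FaithfullyFlat (A.total.sectRing U) ((q : ↥U) → A.carrier q.1) := hψ
  have hS : ∀ q : U, Module.Flat (X.sectRing U) (X.ring q.1) := fun q =>
    flat_of_pi_flat (fun q : U => X.ring q.1) q
  have hB : ∀ q : U, Module.Flat (X.sectRing U) (A.carrier q.1) := fun q =>
    haveI := hS q
    haveI := h q.1 q.2
    Module.Flat.trans (X.sectRing U) (X.ring q.1) (A.carrier q.1)
  exact flat_of_family (fun q : U => A.carrier q.1) hB

theorem alg_ff_of_local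
    (hφ : Module.FaithfullyFlat (X.sectRing U) ((q : ↥U) → X.ring q.1))
    (hψ : (A.total.sectRing U).subtype.FaithfullyFlat)
    (h : ∀ q : X.pt, q ∈ U → Module.FaithfullyFlat (X.ring q) (A.carrier q)) :
    (A.sectMap U).FaithfullyFlat := by
  haveI : Module.FaithfullyFlat (X.sectRing U) ((q : ↥U) → X.ring q.1) := hφ
  haveI : Module.FaithfullyFlat (A.total.sectRing U) ((q : ↥U) → A.carrier q.1) := hψ
  exact faithfullyFlat_of_family (fun q : U => A.carrier q.1) (fun q : U => X.ring q.1)
    (fun q => h q.1 q.2)

end desc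

end alg

end Groth.Agent.Helper23.SchFinAff
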