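import Groth.Prelude.Def_SekSuwa2
import Groth.Agent.Lib.Helper23.DepthExt10

set_option autoImplicit false
set_option linter.style.haveILetI false

open CategoryTheory AlgebraicGeometry Opposite TopologicalSpace

universe u

namespace Groth.Agent.Helper23.SekInj

open Groth.Agent.Helper23.DepthExt

/-- on a scheme flat over `Spec R`, multiplication by the image of a nonzerodivisor of `R` is
injective on global functions -/
theorem eq_zero_of_mul_eq_zero {R : Type u} [CommRing R] {X : Scheme.{u}}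
    (π : X ⟶ Spec (CommRingCat.of R)) [Flat π] (r : R) (hr : r ∈ nonZeroDivisors R)
    (s : Γ(X, ⊤))
    (hs : π.appTop ((Scheme.ΓSpecIso (CommRingCat.of R)).inv r) * s = 0) : s = 0 := by
  apply eq_of_res_affine
  intro V hV
  rw [map_zero]
  have hflat := Flat.flat_appLE π (isAffineOpen_top (Spec (CommRingCat.of R))) V.2
    (le_top : V.1 ≤ π ⁻¹ᵁ ⊤)
  set r' : Γ(Spec (CommRingCat.of R), ⊤) := (Scheme.ΓSpecIso (CommRingCat.of R)).inv r with hr'
  have hr'nz : r' ∈ nonZeroDivisors Γ(Spec (CommRingCat.of R), ⊤) := by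
    have := (Scheme.ΓSpecIso (CommRingCat.of R)).symm.commRingCatIsoToRingEquiv
    rw [mem_nonZeroDivisors_iff_right]
    intro z hz
    obtain ⟨z, rfl⟩ : ∃ z₀ : R, (Scheme.ΓSpecIso (CommRingCat.of R)).inv z₀ = z :=
      ⟨(Scheme.ΓSpecIso (CommRingCat.of R)).hom z, by
        rw [← CommRingCat.comp_apply, Iso.hom_inv_id]; rfl⟩
    rw [hr', ← map_mul] at hz
    have hz' : z * r = 0 := by
      have := congrArg (Scheme.ΓSpecIso (CommRingCat.of R)).hom hz
      rw [← CommRingCat.comp_apply, Iso.inv_hom_id, map_zero] at this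
      exact this
    rw [(mem_nonZeroDivisors_iff_right.1 hr) z hz', map_zero]
  letI := (π.appLE ⊤ V.1 le_top).hom.toAlgebra
  haveI : Module.Flat Γ(Spec (CommRingCat.of R), ⊤) Γ(X, V.1) := hflat
  have hreg := Module.Flat.isSMulRegular_of_nonZeroDivisors (M := Γ(X, V.1)) hr'nz
  apply hreg
  change (π.appLE ⊤ V.1 le_top).hom r' * res hV s = (π.appLE ⊤ V.1 le_top).hom r' * 0
  rw [mul_zero]
  have h1 : (π.appLE ⊤ V.1 le_top).hom r' = res hV (π.appTop r') := rfl
  rw [h1, ← map_mul, hs, map_zero]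

end Groth.Agent.Helper23.SekInj
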