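import Mathlib
import Groth.Agent.Lib.Helper14.EtaleReduced
set_option autoImplicit false
universe u
open Polynomial TensorProduct

namespace Groth.Agent.Helper23.SmDer

/-- An element of a smooth algebra over a field that is integral over the field has a separable
minimal polynomial. -/
theorem separable_minpoly (k A : Type u) [Field k] [CommRing A] [Algebra k A] [Algebra.Smooth k A]
    (a : A) (ha : IsIntegral k a) : (minpoly k a).Separable := by
  classical
  let K := AlgebraicClosure k
  let A' := K ⊗[k] A
  have : IsReduced A' := Groth.Agent.Helper14.isReduced_of_smooth K A'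
  set P := minpoly k a with hP
  set n := P.natDegree with hn
  have hmonic : P.Monic := minpoly.monic ha
  let b : A' := (1 : K) ⊗ₜ[k] a
  -- linear independence of powers
  have hli : LinearIndependent K fun i : Fin n => b ^ (i : ℕ) := by
    have h1 := linearIndependent_pow (K := k) a
    have h2 := Module.Flat.linearIndependent_one_tmul (S := K) h1
    convert h2 using 2 with i
    change ((1 : K) ⊗ₜ[k] a) ^ (i : ℕ) = (1 : K) ⊗ₜ[k] (a ^ (i : ℕ))
    rw [Algebra.TensorProduct.tmul_pow, one_pow]
  -- a polynomial over K of degree < n vanishing at b is zero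
  have hsmall : ∀ q : K[X], q.natDegree < n → aeval b q = 0 → q = 0 := by
    intro q hq h0
    rw [aeval_eq_sum_range' hq] at h0
    have h3 : ∑ i : Fin n, q.coeff (i : ℕ) • b ^ (i : ℕ) = 0 := by
      rw [← h0, Finset.sum_range]
    have h4 := (Fintype.linearIndependent_iff.1 hli) (fun i => q.coeff (i : ℕ)) h3
    ext i
    by_cases hi : i < n
    · simpa using h4 ⟨i, hi⟩
    · rw [coeff_zero, coeff_eq_zero_of_natDegree_lt (lt_of_lt_of_le hq (not_lt.1 hi))]
  -- P.map vanishes at b
  have hPb : aeval b (P.map (algebraMap k K)) = 0 := by
    rw [aeval_map_algebraMap]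
    have : aeval b P = (Algebra.TensorProduct.includeRight : A →ₐ[k] A') (aeval a P) := by
      rw [← aeval_algHom_apply]; rfl
    rw [this, hP, minpoly.aeval, map_zero]
  rw [← Polynomial.separable_map (algebraMap k K), PerfectField.separable_iff_squarefree]
  intro g hg
  obtain ⟨h, hgh⟩ := hg
  have hne : P.map (algebraMap k K) ≠ 0 := (hmonic.map _).ne_zero
  have hdeg : (P.map (algebraMap k K)).natDegree = n := natDegree_map _
  by_contra hgu
  have hg0 : g ≠ 0 := by
    rintro rfl
    rw [zero_mul, zero_mul] at hgh
    exact hne hgh
  have hh0 : h ≠ 0 := by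
    rintro rfl
    rw [mul_zero] at hgh
    exact hne hgh
  have hgd : 0 < g.natDegree := by
    rw [Nat.pos_iff_ne_zero]
    intro h0
    have := eq_C_of_natDegree_eq_zero h0
    apply hgu
    rw [this]
    exact isUnit_C.2 (IsUnit.mk0 _ (by
      intro hc
      rw [hc, C_0] at this
      exact hg0 this))
  have hq2 : aeval b (g * h) ^ 2 = 0 := by
    have : (g * h) ^ 2 = P.map (algebraMap k K) * h := by rw [hgh]; ring
    rw [← map_pow, this, map_mul, hPb, zero_mul]
  have hq : aeval b (g * h) = 0 := IsReduced.eq_zero _ ⟨2, hq2⟩
  have hlt : (g * h).natDegree < n := by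
    rw [← hdeg, hgh, natDegree_mul (mul_ne_zero hg0 hg0) hh0, natDegree_mul hg0 hg0,
      natDegree_mul hg0 hh0]
    omega
  exact mul_ne_zero hg0 hh0 (hsmall _ hlt hq)

/-- The Kähler-type vanishing: any derivation kills integral elements of a smooth algebra over a field,
provided the target has no torsion issue: we get `D a = 0` outright since the derivative of the minimal
polynomial at `a` is a unit. -/
theorem derivation_eq_zero (k A : Type u) [Field k] [CommRing A] [Algebra k A] [Algebra.Smooth k A]
    {M : Type*} [AddCommGroup M] [Module A M] [Module k M] [IsScalarTower k A M]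
    (D : Derivation k A M) (a : A) (ha : IsIntegral k a) : D a = 0 := by
  have hsep := separable_minpoly k A a ha
  obtain ⟨u, v, huv⟩ := hsep
  have h1 : aeval a (u * minpoly k a + v * derivative (minpoly k a)) = 1 := by
    rw [huv, map_one]
  rw [map_add, map_mul, map_mul, minpoly.aeval, mul_zero, zero_add] at h1
  have h2 : D (aeval a (minpoly k a)) = 0 := by rw [minpoly.aeval, map_zero]
  rw [Derivation.map_aeval] at h2
  calc D a = (1 : A) • D a := (one_smul _ _).symm
    _ = (aeval a v * aeval a (derivative (minpoly k a))) • D a := by rw [h1]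
    _ = aeval a v • (aeval a (derivative (minpoly k a)) • D a) := mul_smul _ _ _
    _ = 0 := by rw [h2, smul_zero]

end Groth.Agent.Helper23.SmDer
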