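import Mathlib
import Groth.Prelude.Def_Omega4
import Groth.Agent.Lib.Helper23.SmDer
set_option autoImplicit false
universe u
open CategoryTheory AlgebraicGeometry TopologicalSpace Opposite

namespace Groth.Agent.Helper23.SmDer

variable {k : Type u} [Field k] {X : Scheme.{u}} (f : X ⟶ Spec (CommRingCat.of k))

/-- the structure map `k → Γ(X, U)` -/
noncomputable def rho (U : X.Opens) : k →+* Γ(X, U) :=
  (X.presheaf.map (homOfLE (le_top : U ≤ ⊤)).op).hom.comp
    (f.appTop.hom.comp (Scheme.ΓSpecIso (CommRingCat.of k)).inv.hom)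

theorem rho_apply (U : X.Opens) (c : k) :
    rho f U c = X.presheaf.map (homOfLE (le_top : U ≤ ⊤)).op
      (f.appTop ((Scheme.ΓSpecIso (CommRingCat.of k)).inv.hom c)) := rfl

theorem rho_top (c : k) :
    rho f ⊤ c = f.appTop ((Scheme.ΓSpecIso (CommRingCat.of k)).inv.hom c) := by
  rw [rho_apply]
  have : (homOfLE (le_top : (⊤ : X.Opens) ≤ ⊤)).op = 𝟙 _ := rfl
  rw [this, X.presheaf.map_id]
  rfl

theorem rho_res {U V : X.Opens} (h : V ≤ U) (c : k) :
    X.presheaf.map (homOfLE h).op (rho f U c) = rho f V c := by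
  rw [rho_apply, rho_apply, ← CommRingCat.comp_apply, ← X.presheaf.map_comp]
  rfl

theorem rho_smooth [Smooth f] (U : X.Opens) (hU : IsAffineOpen U) : (rho f U).Smooth := by
  have h1 : ((X.presheaf.map (homOfLE (le_top : U ≤ ⊤)).op).hom.comp f.appTop.hom).Smooth :=
    Smooth.smooth_appLE f (isAffineOpen_top _) hU le_top
  have h2 : ((Scheme.ΓSpecIso (CommRingCat.of k)).inv.hom).Smooth :=
    RingHom.Smooth.of_bijective
      (ConcreteCategory.bijective_of_isIso (Scheme.ΓSpecIso (CommRingCat.of k)).inv)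
  exact h2.comp h1

variable {f} in
theorem der_rho {F : X.Modules} (D : OmegaSh.Der f F) (U : X.Opens) (c : k) :
    D.app U (rho f U c) = 0 := by
  have h0 : D.app ⊤ (rho f ⊤ c) = 0 := by
    have := D.d_app (X := op (⊤ : (Spec (CommRingCat.of k)).Opens))
      ((Scheme.ΓSpecIso (CommRingCat.of k)).inv.hom c)
    rw [rho_top]
    exact this
  have h1 : D.app U (X.presheaf.map (homOfLE (le_top : U ≤ ⊤)).op (rho f ⊤ c)) =
      F.presheaf.map (homOfLE (le_top : U ≤ ⊤)).op (D.app ⊤ (rho f ⊤ c)) :=
    D.d_map (homOfLE (le_top : U ≤ ⊤)).op (rho f ⊤ c)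
  rw [rho_res, h0, map_zero] at h1
  exact h1

variable {f} in
/-- a `Y`-derivation kills sections over an affine open which are integral over `k` -/
theorem der_eq_zero_of_isIntegral [Smooth f] {F : X.Modules} (D : OmegaSh.Der f F)
    (U : X.Opens) (hU : IsAffineOpen U) (a : Γ(X, U)) (ha : (rho f U).IsIntegralElem a) :
    D.app U a = 0 := by
  letI : Algebra k Γ(X, U) := (rho f U).toAlgebra
  haveI : Algebra.Smooth k Γ(X, U) := rho_smooth f U hU
  letI : Module k Γ(F, U) := Module.compHom _ (rho f U)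
  haveI : IsScalarTower k Γ(X, U) Γ(F, U) :=
    ⟨fun c b m => mul_smul (rho f U c) b m⟩
  have hmul : ∀ x y : Γ(X, U), D.app U (x * y) = x • D.app U y + y • D.app U x :=
    fun x y => D.d_mul (X := op U) x y
  have h3 : D.app U 1 = 0 := by
    have := hmul 1 1
    rw [mul_one, one_smul] at this
    exact (add_eq_left.mp this.symm)
  let δ : Derivation k Γ(X, U) Γ(F, U) :=
    { toFun := D.app U
      map_add' := (D.app U).map_add
      map_smul' := fun c b => by
        change D.app U (rho f U c * b) = (rho f U c) • D.app U b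
        rw [hmul, der_rho, smul_zero, add_zero]
      map_one_eq_zero' := h3
      leibniz' := fun x y => hmul x y }
  exact derivation_eq_zero k Γ(X, U) δ a ha

variable {f} in
theorem der_top_eq_zero [Smooth f] [UniversallyClosed f] {F : X.Modules} (D : OmegaSh.Der f F)
    (s : Γ(X, ⊤)) : D.app ⊤ s = 0 := by
  have hint : (rho f ⊤).IsIntegralElem s := by
    have h1 : f.appTop.hom.IsIntegral := isIntegral_appTop_of_universallyClosed f
    have h2 : ((Scheme.ΓSpecIso (CommRingCat.of k)).inv.hom).IsIntegral :=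
      RingHom.isIntegral_of_surjective _
        (ConcreteCategory.bijective_of_isIso (Scheme.ΓSpecIso (CommRingCat.of k)).inv).2
    have h3 : (rho f ⊤).IsIntegral := by
      have := RingHom.IsIntegral.trans _ _ h2 h1
      convert this using 1
      ext c
      exact rho_top f c
    exact h3 s
  apply TopCat.Presheaf.section_ext ⟨F.presheaf, F.isSheaf⟩
  intro z hz
  obtain ⟨_, ⟨U, hU : IsAffineOpen U, rfl⟩, hzU, -⟩ :=
    X.isBasis_affineOpens.exists_subset_of_mem_open (Set.mem_univ z) isOpen_univ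
  have hU' : (rho f U).IsIntegralElem (X.presheaf.map (homOfLE (le_top : U ≤ ⊤)).op s) := by
    have := hint.map (X.presheaf.map (homOfLE (le_top : U ≤ ⊤)).op).hom
    convert this using 1
    ext c
    exact (rho_res f (le_top : U ≤ ⊤) c).symm
  have h0 := der_eq_zero_of_isIntegral D U hU _ hU'
  have h1 : D.app U (X.presheaf.map (homOfLE (le_top : U ≤ ⊤)).op s) =
      F.presheaf.map (homOfLE (le_top : U ≤ ⊤)).op (D.app ⊤ s) :=
    D.d_map (homOfLE (le_top : U ≤ ⊤)).op s
  rw [h0] at h1
  change F.presheaf.germ ⊤ z hz (D.app ⊤ s) = F.presheaf.germ ⊤ z hz 0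
  rw [← TopCat.Presheaf.germ_res_apply F.presheaf (homOfLE (le_top : U ≤ ⊤)) z hzU, ← h1,
    map_zero, map_zero]

end Groth.Agent.Helper23.SmDer
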