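import Mathlib

set_option autoImplicit false
set_option linter.style.haveILetI false

open Set Topology

namespace Groth.Agent.Helper23.SpecConn

variable {X : Type*} [TopologicalSpace X]

/-- a closed set in a prespectral space, contained in an open set, is contained in a compact open
subset of that open set (if the closed set is compact) -/
theorem exists_compact_open_between [PrespectralSpace X] {a w : Set X} (ha : IsCompact a)
    (hw : IsOpen w) (haw : a ⊆ w) : ∃ u : Set X, IsOpen u ∧ IsCompact u ∧ a ⊆ u ∧ u ⊆ w := by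
  have hb := PrespectralSpace.isTopologicalBasis (X := X)
  choose! U hU using fun p (hp : p ∈ w) => hb.exists_subset_of_mem_open hp hw
  obtain ⟨t, ht⟩ := ha.elim_nhds_subcover' (fun p hp => U p) (fun p hp =>
    ((hU p (haw hp)).1.1.mem_nhds (hU p (haw hp)).2.1))
  refine ⟨⋃ p ∈ t, U p.1, ?_, ?_, ht, ?_⟩
  · exact isOpen_biUnion fun p _ => (hU p.1 (haw p.2)).1.1
  · exact t.isCompact_biUnion fun p _ => (hU p.1 (haw p.2)).1.2
  · exact iUnion₂_subset fun p _ => (hU p.1 (haw p.2)).2.2

/-- In a compact quasi-separated prespectral space, the connected component of a point equals the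
intersection of all its clopen neighbourhoods. -/
theorem connectedComponent_eq_iInter_isClopen [CompactSpace X] [QuasiSeparatedSpace X]
    [PrespectralSpace X] (x : X) :
    connectedComponent x = ⋂ s : { s : Set X // IsClopen s ∧ x ∈ s }, s := by
  apply Subset.antisymm connectedComponent_subset_iInter_isClopen
  refine IsPreconnected.subset_connectedComponent ?_ (mem_iInter.2 fun s => s.2.2)
  have hs : @IsClosed X _ (⋂ s : { s : Set X // IsClopen s ∧ x ∈ s }, s) :=
    isClosed_iInter fun s => s.2.1.1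
  rw [isPreconnected_iff_subset_of_fully_disjoint_closed hs]
  intro a b ha hb hab ab_disj
  set T : Set X := ⋂ s : { s : Set X // IsClopen s ∧ x ∈ s }, s with hT
  obtain ⟨u, hu, huc, hau, hub⟩ := exists_compact_open_between ha.isCompact hb.isOpen_compl
    (fun p hp hpb => (Set.disjoint_left.1 ab_disj) hp hpb)
  obtain ⟨v, hv, hvc, hbv, hva⟩ := exists_compact_open_between hb.isCompact ha.isOpen_compl
    (fun p hp hpa => (Set.disjoint_left.1 ab_disj) hpa hp)
  have huvT : (u ∩ v) ∩ T = ∅ := by
    ext p
    simp only [mem_inter_iff, mem_empty_iff_false, iff_false, not_and]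
    rintro ⟨hpu, hpv⟩ hpT
    rcases hab hpT with hpa | hpb
    · exact hva hpv hpa
    · exact hub hpu hpb
  have huvc : IsCompact (u ∩ v) := QuasiSeparatedSpace.inter_isCompact u v hu huc hv hvc
  -- a clopen `s₁ ∋ x` disjoint from `u ∩ v`
  obtain ⟨s₁, hs₁, hxs₁, hs₁uv⟩ : ∃ s : Set X, IsClopen s ∧ x ∈ s ∧ (u ∩ v) ∩ s = ∅ := by
    obtain ⟨fin, hfin⟩ := huvc.elim_finite_subfamily_closed
      (fun s : { s : Set X // IsClopen s ∧ x ∈ s } => (s : Set X)) (fun s => s.2.1.1) huvT
    exact ⟨⋂ i ∈ fin, (i : Set X), isClopen_biInter_finset fun s _ => s.2.1,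
      mem_iInter₂.2 fun s _ => s.2.2, hfin⟩
  -- a clopen `s₂ ∋ x` contained in `u ∪ v`
  obtain ⟨s₂, hs₂, hxs₂, hs₂uv⟩ : ∃ s : Set X, IsClopen s ∧ x ∈ s ∧ s ⊆ u ∪ v := by
    have hcomp : IsCompact (u ∪ v)ᶜ := (hu.union hv).isClosed_compl.isCompact
    have hdisj : (u ∪ v)ᶜ ∩ T = ∅ := by
      ext p
      simp only [mem_inter_iff, mem_compl_iff, mem_union, mem_empty_iff_false, iff_false, not_and]
      intro hp hpT
      rcases hab hpT with hpa | hpb
      · exact hp (Or.inl (hau hpa))
      · exact hp (Or.inr (hbv hpb))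
    obtain ⟨fin, hfin⟩ := hcomp.elim_finite_subfamily_closed
      (fun s : { s : Set X // IsClopen s ∧ x ∈ s } => (s : Set X)) (fun s => s.2.1.1) hdisj
    refine ⟨⋂ i ∈ fin, (i : Set X), isClopen_biInter_finset fun s _ => s.2.1,
      mem_iInter₂.2 fun s _ => s.2.2, ?_⟩
    intro p hp
    by_contra hpuv
    have : p ∈ (u ∪ v)ᶜ ∩ ⋂ i ∈ fin, (i : Set X) := ⟨hpuv, hp⟩
    rw [hfin] at this
    exact this
  set s := s₁ ∩ s₂ with hsdef
  have hsclopen : IsClopen s := hs₁.inter hs₂
  have hxs : x ∈ s := ⟨hxs₁, hxs₂⟩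
  have hsuv : s ⊆ u ∪ v := fun p hp => hs₂uv hp.2
  have hsdisj : ∀ p ∈ s, p ∈ u → p ∈ v → False := by
    intro p hp hpu hpv
    have : p ∈ (u ∩ v) ∩ s₁ := ⟨⟨hpu, hpv⟩, hp.1⟩
    rw [hs₁uv] at this
    exact this
  have hsu : IsClopen (s ∩ u) := by
    refine ⟨?_, hsclopen.2.inter hu⟩
    have : s ∩ u = s ∩ vᶜ := by
      ext p
      constructor
      · rintro ⟨hp, hpu⟩
        exact ⟨hp, fun hpv => hsdisj p hp hpu hpv⟩
      · rintro ⟨hp, hpv⟩
        exact ⟨hp, (hsuv hp).resolve_right hpv⟩
    rw [this]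
    exact hsclopen.1.inter hv.isClosed_compl
  have hsv : IsClopen (s ∩ v) := by
    refine ⟨?_, hsclopen.2.inter hv⟩
    have : s ∩ v = s ∩ uᶜ := by
      ext p
      constructor
      · rintro ⟨hp, hpv⟩
        exact ⟨hp, fun hpu => hsdisj p hp hpu hpv⟩
      · rintro ⟨hp, hpu⟩
        exact ⟨hp, (hsuv hp).resolve_left hpu⟩
    rw [this]
    exact hsclopen.1.inter hu.isClosed_compl
  by_cases hxu : x ∈ u
  · left
    have hTu : T ⊆ s ∩ u := iInter_subset (fun s : { s : Set X // IsClopen s ∧ x ∈ s } => s.1)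
      ⟨s ∩ u, hsu, hxs, hxu⟩
    intro p hp
    rcases hab hp with hpa | hpb
    · exact hpa
    · exact absurd hpb (hub (hTu hp).2)
  · right
    have hxv : x ∈ v := (hsuv hxs).resolve_left hxu
    have hTv : T ⊆ s ∩ v := iInter_subset (fun s : { s : Set X // IsClopen s ∧ x ∈ s } => s.1)
      ⟨s ∩ v, hsv, hxs, hxv⟩
    intro p hp
    rcases hab hp with hpa | hpb
    · exact absurd hpa (hva (hTv hp).2)
    · exact hpb

/-- `ConnectedComponents X` is Hausdorff for a compact quasi-separated prespectral space -/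
theorem t2Space_connectedComponents [CompactSpace X] [QuasiSeparatedSpace X]
    [PrespectralSpace X] : T2Space (ConnectedComponents X) := by
  refine ⟨ConnectedComponents.surjective_coe.forall₂.2 fun a b ne => ?_⟩
  rw [ConnectedComponents.coe_ne_coe] at ne
  have h := connectedComponent_disjoint ne
  rw [connectedComponent_eq_iInter_isClopen b, disjoint_iff_inter_eq_empty] at h
  obtain ⟨U, V, hU, ha, hb, rfl⟩ : ∃ (U : Set X) (V : Set (ConnectedComponents X)),
      IsClopen U ∧ connectedComponent a ∩ U = ∅ ∧ connectedComponent b ⊆ U ∧ (↑) ⁻¹' V = U := by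
    have h :=
      (isClosed_connectedComponent (α := X)).isCompact.elim_finite_subfamily_closed
        _ (fun s : { s : Set X // IsClopen s ∧ b ∈ s } => s.2.1.1) h
    obtain ⟨fin_a, ha⟩ := h
    set U : Set X := ⋂ (i : { s // IsClopen s ∧ b ∈ s }) (_ : i ∈ fin_a), i
    have hU : IsClopen U := isClopen_biInter_finset fun i _ => i.2.1
    exact ⟨U, (↑) '' U, hU, ha, subset_iInter₂ fun s _ => s.2.1.connectedComponent_subset s.2.2,
      (connectedComponents_preimage_image U).symm ▸ hU.biUnion_connectedComponent_eq⟩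
  rw [ConnectedComponents.isQuotientMap_coe.isClopen_preimage] at hU
  refine ⟨Vᶜ, V, hU.compl.isOpen, hU.isOpen, ?_, hb mem_connectedComponent, disjoint_compl_left⟩
  exact fun h => flip Set.Nonempty.ne_empty ha ⟨a, mem_connectedComponent, h⟩

variable {Y : Type*} [TopologicalSpace Y]

theorem isHomeomorph_connectedComponentsMap [CompactSpace X] [QuasiSeparatedSpace X]
    [PrespectralSpace X] [CompactSpace Y] [QuasiSeparatedSpace Y] [PrespectralSpace Y]
    {f : X → Y} (hf : Continuous f)
    (hinj : ∀ W : Set Y, IsClopen W → f ⁻¹' W = ∅ → W = ∅)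
    (hsurj : ∀ Z : Set X, IsClopen Z → ∃ W : Set Y, IsClopen W ∧ f ⁻¹' W = Z) :
    IsHomeomorph hf.connectedComponentsMap := by
  haveI := t2Space_connectedComponents (X := Y)
  rw [isHomeomorph_iff_continuous_bijective]
  refine ⟨hf.connectedComponentsMap_continuous, ?_, ?_⟩
  · intro a b
    induction a using ConnectedComponents.surjective_coe.forall.2 with | _ a => ?_
    induction b using ConnectedComponents.surjective_coe.forall.2 with | _ b => ?_
    intro hab
    have hab' : connectedComponent (f a) = connectedComponent (f b) :=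
      ConnectedComponents.coe_eq_coe.1 hab
    rw [ConnectedComponents.coe_eq_coe]
    by_contra hne
    have hb : b ∉ connectedComponent a := by
      intro hb
      exact hne (connectedComponent_eq hb)
    rw [connectedComponent_eq_iInter_isClopen a] at hb
    simp only [mem_iInter, not_forall] at hb
    obtain ⟨⟨Z, hZ, haZ⟩, hbZ⟩ := hb
    obtain ⟨W, hW, rfl⟩ := hsurj Z hZ
    have h1 : connectedComponent (f a) ⊆ W := hW.connectedComponent_subset haZ
    have h2 : f b ∈ connectedComponent (f a) := by
      rw [hab']; exact mem_connectedComponent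
    exact hbZ (h1 h2)
  · intro y
    induction y using ConnectedComponents.surjective_coe.forall.2 with | _ y => ?_
    by_contra hne
    push Not at hne
    have hempty : (univ : Set X) ∩
        ⋂ s : { s : Set Y // IsClopen s ∧ y ∈ s }, f ⁻¹' (s : Set Y) = ∅ := by
      ext x
      simp only [univ_inter, mem_iInter, mem_preimage, mem_empty_iff_false, iff_false]
      intro hx
      apply hne x
      show ((f x : Y) : ConnectedComponents Y) = (y : ConnectedComponents Y)
      rw [ConnectedComponents.coe_eq_coe]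
      have : f x ∈ connectedComponent y := by
        rw [connectedComponent_eq_iInter_isClopen y]
        exact mem_iInter.2 hx
      exact connectedComponent_eq this |>.symm
    obtain ⟨fin, hfin⟩ := isCompact_univ.elim_finite_subfamily_closed
      (fun s : { s : Set Y // IsClopen s ∧ y ∈ s } => f ⁻¹' (s : Set Y))
      (fun s => s.2.1.1.preimage hf) hempty
    have hW : IsClopen (⋂ i ∈ fin, (i : Set Y)) := isClopen_biInter_finset fun s _ => s.2.1
    have hpre : f ⁻¹' (⋂ i ∈ fin, (i : Set Y)) = ∅ := by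
      rw [univ_inter] at hfin
      rw [← hfin]
      ext x
      simp
    have := hinj _ hW hpre
    have hy : y ∈ ⋂ i ∈ fin, (i : Set Y) := mem_iInter₂.2 fun s _ => s.2.2
    rw [this] at hy
    exact hy

end Groth.Agent.Helper23.SpecConn
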