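import Mathlib
import Groth.Prelude
import Groth.Agent.Lib.Helper23.StarHull1
import Groth.Agent.Lib.Helper20.GrInj5
import Groth.Agent.Lib.Helper20.GrExt2
import Groth.Agent.Lib.Helper20.GrPrime1

/-!
# The *injective envelope of `R/m` at a graded maximal ideal is an injective hull (helper23)
-/

set_option autoImplicit false
set_option linter.unusedSectionVars false
set_option linter.unusedVariables false
set_option linter.style.haveILetI false

open DirectSum

namespace Groth.Agent.Helper23.StarHull

open Groth.Agent.Helper20.GrInj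

universe u

section Torsion

variable {R : Type u} [CommRing R] [IsNoetherianRing R] (m : Ideal R) [hm : m.IsMaximal]
variable {E : Type u} [AddCommGroup E] [Module R E]

/-- an essential extension of `R/m` is `m`-power torsion -/
theorem torsion_of_essential (e : (R ⧸ m) →ₗ[R] E) (hess : InjHull.IsEssentialInj e) (x : E) :
    ∃ t : ℕ, ∀ r ∈ m ^ t, r • x = 0 := by
  classical
  let N : Submodule R E := Submodule.span R {x}
  haveI : Module.Finite R ↥N := Module.Finite.span_of_finite R (Set.finite_singleton x)
  have hass : ∀ p ∈ associatedPrimes R ↥N, m ≤ p := by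
    intro p hp
    obtain ⟨hpp, y, hpy⟩ := isAssociatedPrime_iff.1 hp
    have hmem : ∀ r : R, r ∈ p ↔ r • (y : E) = 0 := by
      intro r
      rw [hpy, Submodule.mem_colon_singleton, Submodule.mem_bot]
      constructor
      · intro h
        have := congrArg Subtype.val h
        simpa using this
      · intro h
        apply Subtype.ext
        simpa using h
    have hy0 : (y : E) ≠ 0 := by
      intro h0
      apply hpp.ne_top
      rw [Ideal.eq_top_iff_one, hmem, h0, smul_zero]
    have hne : Submodule.span R {(y : E)} ≠ ⊥ := by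
      rw [Ne, Submodule.span_singleton_eq_bot]
      exact hy0
    have h2 := hess.essential _ hne
    rw [Ne, Submodule.eq_bot_iff] at h2
    push Not at h2
    obtain ⟨z, ⟨hz1, hz2⟩, hz0⟩ := h2
    rw [SetLike.mem_coe, Submodule.mem_span_singleton] at hz1
    obtain ⟨r, rfl⟩ := hz1
    obtain ⟨q, hq⟩ := hz2
    intro a ha
    have h3 : a • (r • (y : E)) = 0 := by
      rw [← hq, ← map_smul]
      have : a • q = 0 := by
        obtain ⟨q', rfl⟩ := Ideal.Quotient.mk_surjective q
        show a • Ideal.Quotient.mk m q' = 0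
        rw [← Ideal.Quotient.mk_eq_mk, ← Submodule.Quotient.mk_smul,
          Submodule.Quotient.mk_eq_zero, smul_eq_mul]
        exact m.mul_mem_right q' ha
      rw [this, map_zero]
    rw [← mul_smul, ← hmem] at h3
    rcases hpp.mem_or_mem h3 with h | h
    · exact h
    · exfalso
      apply hz0
      exact (hmem r).1 h
  have hrad : m ≤ (Module.annihilator R ↥N).radical := by
    rw [← Ideal.sInf_minimalPrimes]
    apply le_sInf
    intro p hp
    exact hass p (Module.associatedPrimes.minimalPrimes_annihilator_subset_associatedPrimes R ↥N hp)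
  obtain ⟨t, ht⟩ := Ideal.exists_pow_le_of_le_radical_of_fg hrad
    ((isNoetherianRing_iff_ideal_fg R).1 inferInstance m)
  refine ⟨t, fun r hr => ?_⟩
  have h1 := Module.mem_annihilator.1 (ht hr) (⟨x, Submodule.mem_span_singleton_self x⟩ : ↥N)
  have := congrArg Subtype.val h1
  simpa using this

end Torsion

section Graded

variable {R : Type u} [CommRing R] [IsNoetherianRing R] {𝒜 : ℤ → AddSubgroup R} [GradedRing 𝒜]
variable (m : HomogeneousIdeal 𝒜) [hm : m.toIdeal.IsMaximal]
variable {E' : Type u} [AddCommGroup E'] [Module R E'] {𝓔 : ℤ → AddSubgroup E'}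
  [DirectSum.Decomposition 𝓔] [SetLike.GradedSMul 𝒜 𝓔]

/-- maps from a homogeneous ideal into a *injective module extend -/
theorem extM_of_starInj (hE : GrLC.IsStarInj 𝒜 𝓔) : ExtM m.toIdeal E' := by
  intro h
  have hP : (m.toIdeal : Submodule R R).IsHomogeneous 𝒜 := m.isHomogeneous
  let K := subGMod 𝒜 𝒜 (m.toIdeal : Submodule R R) hP
  haveI : Module.Finite R K.carrier :=
    Module.Finite.iff_fg.2 (IsNoetherian.noetherian (m.toIdeal : Submodule R R))
  obtain ⟨ψ, hψ⟩ := exists_extension_of_starInj 𝒜 K.gr 𝒜 𝓔 hE
    (subVal 𝒜 𝒜 (m.toIdeal : Submodule R R) hP) (subVal_grHom 𝒜 𝒜 _ hP)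
    (subVal_injective 𝒜 𝒜 _ hP) h
  refine ⟨ψ, fun x hx => ?_⟩
  have := LinearMap.congr_fun hψ ⟨x, hx⟩
  exact this

/-- **the *injective envelope of `R/m` is an injective hull** -/
theorem isInjectiveHull_of_isStarInjHull (e : (R ⧸ m.toIdeal) →ₗ[R] E')
    (he : GrLC.IsStarInjHull 𝒜 (GrLC.quotGr 𝒜 m) 𝓔 e) : InjHull.IsInjectiveHull e := by
  letI := (quotGr_isInternal 𝒜 m).chooseDecomposition
  have hess : InjHull.IsEssentialInj e :=
    isEssentialInj_of_isStarEss 𝒜 𝓔 (GrLC.quotGr 𝒜 m) he.toIsStarEss
  exact
    { toIsEssentialInj := hess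
      isInjective := (baer_of_torsion m.toIdeal (torsion_of_essential m.toIdeal e hess)
        (extM_of_starInj m he.starInj)).injective }

end Graded

end Groth.Agent.Helper23.StarHull
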