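import Mathlib
import Groth.Agent.Lib.Helper13.QCohLoc

set_option autoImplicit false
universe u
open CategoryTheory CategoryTheory.Limits AlgebraicGeometry Opposite TopologicalSpace
open Groth.Agent.Helper13.QCohLoc

namespace Groth.Agent.Helper23.TildeBC

variable {R : CommRingCat.{u}} (M : ModuleCat.{u} R)

/-- `M → M~(U)`, `R`-linear. -/
noncomputable def rho (U : (Spec R).Opens) : M →ₗ[R] Γ(tilde M, U) := (tilde.toOpen M U).hom

theorem rho_res (U V : (Spec R).Opens) (h : V ≤ U) (m : M) :
    (tilde M).presheaf.map (homOfLE h).op (rho M U m) = rho M V m := by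
  rfl

theorem isLocalizedModule_rho_of_eq (f : R) (V : (Spec R).Opens)
    (hV : V = PrimeSpectrum.basicOpen f) : IsLocalizedModule (.powers f) (rho M V) := by
  subst hV
  exact inferInstanceAs (IsLocalizedModule.Away f (tilde.toOpen M (PrimeSpectrum.basicOpen f)).hom)

theorem isLocalization_of_eq (f : R) (V : (Spec R).Opens)
    (hV : V = PrimeSpectrum.basicOpen f) : IsLocalization.Away f Γ(Spec R, V) := by
  subst hV
  infer_instance

theorem isScalarTower_res (U : (Spec R).Opens) (r : Γ(Spec R, U)) :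
    IsScalarTower R Γ(Spec R, U) Γ(Spec R, (Spec R).basicOpen r) := by
  refine IsScalarTower.of_algebraMap_eq (fun x => ?_)
  rw [IsAffineOpen.algebraMap_Spec_obj, IsAffineOpen.algebraMap_Spec_obj]
  change _ = (Spec R).presheaf.map (homOfLE ((Spec R).basicOpen_le r)).op _
  have h : (Spec R).presheaf.map (homOfLE (le_top : (Spec R).basicOpen r ≤ ⊤)).op =
      (Spec R).presheaf.map (homOfLE (le_top : U ≤ ⊤)).op ≫
        (Spec R).presheaf.map (homOfLE ((Spec R).basicOpen_le r)).op := by
    rw [← Functor.map_comp]; rfl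
  rw [h]
  rfl


theorem basicOpen_algebraMap (U : (Spec R).Opens) (f : R) (hf : PrimeSpectrum.basicOpen f ≤ U) :
    (Spec R).basicOpen (algebraMap R Γ(Spec R, U) f) = PrimeSpectrum.basicOpen f := by
  rw [IsAffineOpen.algebraMap_Spec_obj]
  change (Spec R).basicOpen ((Spec R).presheaf.map (homOfLE le_top).op ((Scheme.ΓSpecIso R).inv f)) = _
  rw [Scheme.basicOpen_res, basicOpen_eq_of_affine]
  exact inf_eq_right.2 hf

/-- the `Γ(U)`-linear map `Γ(U) ⊗ M → M~(U)`. -/
noncomputable def gmap (U : (Spec R).Opens) :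
    TensorProduct R Γ(Spec R, U) M →ₗ[Γ(Spec R, U)] Γ(tilde M, U) :=
  LinearMap.liftBaseChange Γ(Spec R, U) (rho M U)

theorem gmap_tmul (U : (Spec R).Opens) (b : Γ(Spec R, U)) (m : M) :
    gmap M U (b ⊗ₜ m) = b • rho M U m := by
  simp [gmap]

theorem isLocalizedModule_comp (U : (Spec R).Opens) (hU : IsAffineOpen U) (f : R)
    (hf : PrimeSpectrum.basicOpen f ≤ U) :
    letI := modBasicOpen (tilde M) (algebraMap R Γ(Spec R, U) f)
    IsLocalizedModule (.powers (algebraMap R Γ(Spec R, U) f))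
      ((resBasicOpen (tilde M) (algebraMap R Γ(Spec R, U) f)) ∘ₗ gmap M U) := by
  set r := algebraMap R Γ(Spec R, U) f with hr
  letI := modBasicOpen (tilde M) r
  haveI := isScalarTower_basicOpen (tilde M) r
  haveI := isScalarTower_res U r
  have hV : (Spec R).basicOpen r = PrimeSpectrum.basicOpen f := basicOpen_algebraMap U f hf
  haveI hloc1 : IsLocalizedModule (.powers f) (rho M ((Spec R).basicOpen r)) :=
    isLocalizedModule_rho_of_eq M f _ hV
  haveI hloc2 : IsLocalization.Away f Γ(Spec R, (Spec R).basicOpen r) :=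
    isLocalization_of_eq f _ hV
  haveI hloc3 : IsLocalization.Away r Γ(Spec R, (Spec R).basicOpen r) :=
    hU.isLocalization_basicOpen r
  haveI hst : IsScalarTower R Γ(Spec R, U) Γ(tilde M, (Spec R).basicOpen r) := by
    refine ⟨fun a b x => ?_⟩
    change algebraMap Γ(Spec R, U) Γ(Spec R, (Spec R).basicOpen r) (a • b) • x =
      a • (algebraMap Γ(Spec R, U) Γ(Spec R, (Spec R).basicOpen r) b • x)
    rw [Algebra.smul_def, map_mul, ← IsScalarTower.algebraMap_apply, mul_smul,
      algebraMap_smul]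
  have hbc1 : IsBaseChange Γ(Spec R, (Spec R).basicOpen r) (rho M ((Spec R).basicOpen r)) :=
    (isLocalizedModule_iff_isBaseChange (.powers f) _ _).1 hloc1
  have hbc2 : IsBaseChange Γ(Spec R, U) (TensorProduct.mk R Γ(Spec R, U) M 1) :=
    TensorProduct.isBaseChange R M Γ(Spec R, U)
  have hcomp : ((resBasicOpen (tilde M) r ∘ₗ gmap M U).restrictScalars R) ∘ₗ
      (TensorProduct.mk R Γ(Spec R, U) M 1) = rho M ((Spec R).basicOpen r) := by
    ext m
    simp only [LinearMap.coe_comp, LinearMap.coe_restrictScalars, Function.comp_apply,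
      TensorProduct.mk_apply, gmap_tmul, one_smul]
    rfl
  have hbc3 : IsBaseChange Γ(Spec R, (Spec R).basicOpen r)
      (resBasicOpen (tilde M) r ∘ₗ gmap M U) := by
    refine IsBaseChange.of_comp hbc2 ?_
    rw [hcomp]
    exact hbc1
  exact (isLocalizedModule_iff_isBaseChange (.powers r) Γ(Spec R, (Spec R).basicOpen r) _).2 hbc3


theorem bijective_gmap (U : (Spec R).Opens) (hU : IsAffineOpen U) :
    Function.Bijective (gmap M U) := by
  let s : Set Γ(Spec R, U) :=
    {r | ∃ f : R, PrimeSpectrum.basicOpen f ≤ U ∧ algebraMap R Γ(Spec R, U) f = r}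
  have spn : Ideal.span s = ⊤ := by
    rw [← hU.iSup_basicOpen_eq_self_iff]
    refine le_antisymm (iSup_le fun r => (Spec R).basicOpen_le r.1) ?_
    intro x hx
    obtain ⟨_, ⟨_, ⟨f, rfl⟩, rfl⟩, hxf, hfU⟩ :=
      PrimeSpectrum.isBasis_basic_opens.exists_subset_of_mem_open hx U.2
    have hmem : algebraMap R Γ(Spec R, U) f ∈ s := ⟨f, hfU, rfl⟩
    refine TopologicalSpace.Opens.mem_iSup.2 ⟨⟨_, hmem⟩, ?_⟩
    rw [basicOpen_algebraMap U f hfU]
    exact hxf
  letI : ∀ r : s, Module Γ(Spec R, U) Γ(tilde M, (Spec R).basicOpen r.1) :=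
    fun r => modBasicOpen (tilde M) r.1
  haveI h1 : ∀ r : s, IsLocalizedModule.Away r.1
      ((resBasicOpen (tilde M) r.1) ∘ₗ gmap M U) := by
    rintro ⟨_, f, hf, rfl⟩
    exact isLocalizedModule_comp M U hU f hf
  haveI h2 : ∀ r : s, IsLocalizedModule.Away r.1 (resBasicOpen (tilde M) r.1) :=
    fun r => isLocalizedModule_basicOpen (tilde M) hU r.1
  refine bijective_of_isLocalized_span s spn
    (fun r => Γ(tilde M, (Spec R).basicOpen r.1))
    (fun r => (resBasicOpen (tilde M) r.1) ∘ₗ gmap M U)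
    (fun r => Γ(tilde M, (Spec R).basicOpen r.1))
    (fun r => resBasicOpen (tilde M) r.1) (gmap M U) (fun r => ?_)
  have : IsLocalizedModule.map (.powers r.1) ((resBasicOpen (tilde M) r.1) ∘ₗ gmap M U)
      (resBasicOpen (tilde M) r.1) (gmap M U) = LinearMap.id := by
    refine IsLocalizedModule.linearMap_ext (.powers r.1)
      ((resBasicOpen (tilde M) r.1) ∘ₗ gmap M U) (resBasicOpen (tilde M) r.1) ?_
    rw [IsLocalizedModule.map_comp]
    rfl
  rw [this]
  exact Function.bijective_id

/-- **Sections of `M~` over an affine open `U ⊆ Spec R` are the base change of `M` to `Γ(U)`.** -/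
theorem isBaseChange_rho (U : (Spec R).Opens) (hU : IsAffineOpen U) :
    IsBaseChange Γ(Spec R, U) (rho M U) :=
  IsBaseChange.of_equiv (LinearEquiv.ofBijective (gmap M U) (bijective_gmap M U hU))
    (fun x => by simp [gmap_tmul])

end Groth.Agent.Helper23.TildeBC
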