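import Mathlib
import Groth.Agent.Lib.Helper23.ExtBC

/-!
# Exterior powers and base change: an equivalence built from two base-change maps, and its
compatibility with semilinear "restriction" maps (helper23)
-/

set_option autoImplicit false
open scoped TensorProduct

namespace Groth.Agent.Helper23.TildeExt

open Groth.Agent.Helper23.ExtBC

section MapEquiv

variable {R M N : Type*} [CommRing R] [AddCommGroup M] [Module R M] [AddCommGroup N] [Module R N]

/-- functoriality of exterior powers for linear equivalences. -/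
noncomputable def mapEquiv (n : ℕ) (e : M ≃ₗ[R] N) : ↥(⋀[R]^n M) ≃ₗ[R] ↥(⋀[R]^n N) :=
  LinearEquiv.ofLinearMap (exteriorPower.map n e.toLinearMap) (exteriorPower.map n e.symm.toLinearMap)
    (by rw [← exteriorPower.map_comp]; simp)
    (by rw [← exteriorPower.map_comp]; simp)

@[simp] theorem mapEquiv_ιMulti (n : ℕ) (e : M ≃ₗ[R] N) (m : Fin n → M) :
    mapEquiv n e (exteriorPower.ιMulti R n m) = exteriorPower.ιMulti R n (fun j => e (m j)) := by
  change exteriorPower.map n e.toLinearMap _ = _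
  rw [exteriorPower.map_apply_ιMulti]
  rfl

end MapEquiv

section Phi

variable {A B : Type*} [CommRing A] [CommRing B] [Algebra A B]
  {M EU LU : Type*} [AddCommGroup M] [Module A M] (n : ℕ)
  [AddCommGroup EU] [Module A EU] [Module B EU] [IsScalarTower A B EU]
  [AddCommGroup LU] [Module A LU] [Module B LU] [IsScalarTower A B LU]
  {ρE : M →ₗ[A] EU} (hE : IsBaseChange B ρE)
  {ρL : ↥(⋀[A]^n M) →ₗ[A] LU} (hL : IsBaseChange B ρL)

/-- `LU ≃ ⋀^n_B EU` when `EU = B ⊗ M` and `LU = B ⊗ ⋀^n_A M`. -/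
noncomputable def phi : LU ≃ₗ[B] ↥(⋀[B]^n EU) :=
  hL.equiv.symm ≪≫ₗ equivP B n ≪≫ₗ mapEquiv n hE.equiv

theorem phi_rho (m : Fin n → M) :
    phi n hE hL (ρL (exteriorPower.ιMulti A n m)) =
      exteriorPower.ιMulti B n (fun j => ρE (m j)) := by
  simp only [phi, LinearEquiv.trans_apply, IsBaseChange.equiv_symm_apply, equivP_tmul, one_smul,
    auxP_ιMulti, mapEquiv_ιMulti, IsBaseChange.equiv_tmul]

theorem phi_symm_smul (b : Fin n → B) (m : Fin n → M) :
    (phi n hE hL).symm (exteriorPower.ιMulti B n (fun j => b j • ρE (m j))) =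
      (∏ j, b j) • ρL (exteriorPower.ιMulti A n m) := by
  rw [LinearEquiv.symm_apply_eq, map_smul, phi_rho]
  exact (exteriorPower.ιMulti B n).toMultilinearMap.map_smul_univ b (fun j => ρE (m j))

include hE in
theorem exists_finsupp (x : EU) : ∃ c : M →₀ B, x = ∑ m ∈ c.support, c m • ρE m := by
  have hx : x ∈ Submodule.span B (Set.range ρE) := by
    refine hE.inductionOn x (fun y => y ∈ Submodule.span B (Set.range ρE)) (zero_mem _)
      (fun m => Submodule.subset_span ⟨m, rfl⟩) (fun s y hy => Submodule.smul_mem _ s hy)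
      (fun y z hy hz => add_mem hy hz)
  obtain ⟨c, hc⟩ := Finsupp.mem_span_range_iff_exists_finsupp.1 hx
  exact ⟨c, hc.symm⟩

end Phi

section Compat

variable {A B B' : Type*} [CommRing A] [CommRing B] [CommRing B'] [Algebra A B] [Algebra A B']
  (σ : B →+* B')
  {M EU LU EV LV : Type*} [AddCommGroup M] [Module A M] (n : ℕ)
  [AddCommGroup EU] [Module A EU] [Module B EU] [IsScalarTower A B EU]
  [AddCommGroup LU] [Module A LU] [Module B LU] [IsScalarTower A B LU]
  [AddCommGroup EV] [Module A EV] [Module B' EV] [IsScalarTower A B' EV]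
  [AddCommGroup LV] [Module A LV] [Module B' LV] [IsScalarTower A B' LV]
  {ρEU : M →ₗ[A] EU} (hEU : IsBaseChange B ρEU)
  {ρLU : ↥(⋀[A]^n M) →ₗ[A] LU} (hLU : IsBaseChange B ρLU)
  {ρEV : M →ₗ[A] EV} (hEV : IsBaseChange B' ρEV)
  {ρLV : ↥(⋀[A]^n M) →ₗ[A] LV} (hLV : IsBaseChange B' ρLV)
  (rE : EU →+ EV) (hrE : ∀ (b : B) (x : EU), rE (b • x) = σ b • rE x)
  (hrEρ : ∀ m, rE (ρEU m) = ρEV m)
  (rL : LU →+ LV) (hrL : ∀ (b : B) (x : LU), rL (b • x) = σ b • rL x)
  (hrLρ : ∀ x, rL (ρLU x) = ρLV x)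

include hrE hrEρ hrL hrLρ in
theorem compat (e : Fin n → EU) :
    rL ((phi n hEU hLU).symm (exteriorPower.ιMulti B n e)) =
      (phi n hEV hLV).symm (exteriorPower.ιMulti B' n (fun j => rE (e j))) := by
  classical
  choose c hc using fun j => exists_finsupp (ρE := ρEU) hEU (e j)
  have he : e = fun j => ∑ m ∈ (c j).support, c j m • ρEU m := funext hc
  have he' : (fun j => rE (e j)) = fun j => ∑ m ∈ (c j).support, σ (c j m) • ρEV m := by
    funext j
    rw [hc j, map_sum]
    exact Finset.sum_congr rfl (fun m _ => by rw [hrE, hrEρ])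
  rw [he', he]
  have h1 := (exteriorPower.ιMulti B n (M := EU)).toMultilinearMap.map_sum_finset
    (fun j m => c j m • ρEU m) (fun j => (c j).support)
  have h2 := (exteriorPower.ιMulti B' n (M := EV)).toMultilinearMap.map_sum_finset
    (fun j m => σ (c j m) • ρEV m) (fun j => (c j).support)
  simp only [AlternatingMap.coe_multilinearMap] at h1 h2
  rw [h1, h2, map_sum, map_sum, map_sum]
  refine Finset.sum_congr rfl (fun r _ => ?_)
  rw [phi_symm_smul, phi_symm_smul, hrL, hrLρ, map_prod]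

end Compat

end Groth.Agent.Helper23.TildeExt
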