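import Mathlib
import Groth.Prelude.Def_ExtPow2
import Groth.Agent.Lib.Helper23.TildeBC
import Groth.Agent.Lib.Helper23.TildeExt

/-!
# `(⋀^n M)~` is an `n`-th exterior power of `M~` on `Spec R` (helper23)
-/

set_option autoImplicit false
universe u
open CategoryTheory CategoryTheory.Limits AlgebraicGeometry Opposite TopologicalSpace

namespace Groth.Agent.Helper23.TildeExt

open Groth.Agent.Helper23.TildeBC

theorem isExtPow_tilde (R : CommRingCat.{u}) (M : ModuleCat.{u} R) (n : ℕ) :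
    ExtPow.IsExtPow n (tilde M) (tilde (ModuleCat.of R ↥(⋀[R]^n M))) := by
  have hE : ∀ U : (Spec R).affineOpens, IsBaseChange Γ(Spec R, U.1) (rho M U.1) :=
    fun U => isBaseChange_rho M U.1 U.2
  have hL : ∀ U : (Spec R).affineOpens,
      IsBaseChange Γ(Spec R, U.1) (rho (ModuleCat.of R ↥(⋀[R]^n M)) U.1) :=
    fun U => isBaseChange_rho (ModuleCat.of R ↥(⋀[R]^n M)) U.1 U.2
  let φ : ∀ U : (Spec R).affineOpens, Γ(tilde (ModuleCat.of R ↥(⋀[R]^n M)), U.1) ≃ₗ[Γ(Spec R, U.1)]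
      ↥(⋀[Γ(Spec R, U.1)]^n Γ(tilde M, U.1)) := fun U => phi n (hE U) (hL U)
  refine ⟨φ, fun U V h e => ?_⟩
  exact compat (σ := ((Spec R).presheaf.map (homOfLE h).op).hom) n
    (hE U) (hL U) (hE V) (hL V)
    (rE := ((tilde M).presheaf.map (homOfLE h).op).hom)
    (fun b x => Scheme.Modules.map_smul _ (homOfLE h) b x)
    (fun m => rho_res M U.1 V.1 h m)
    (rL := ((tilde (ModuleCat.of R ↥(⋀[R]^n M))).presheaf.map (homOfLE h).op).hom)
    (fun b x => Scheme.Modules.map_smul _ (homOfLE h) b x)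
    (fun x => rho_res (ModuleCat.of R ↥(⋀[R]^n M)) U.1 V.1 h x) e

end Groth.Agent.Helper23.TildeExt
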