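import Mathlib
import Groth.Agent.Lib.Helper18.Tor.LES
import Groth.Agent.Lib.Helper21.TorAR4

/-!
# Uniform vanishing of `Tor_p(IⁿM, N) → Tor_p(M, N)` for `N` killed by `I`
-/

set_option autoImplicit false

open CategoryTheory Limits MonoidalCategory

namespace Groth.Agent.Helper23.TorUnif

open Groth.Agent.Helper18.TorLib

universe u

variable {A : Type u} [CommRing A]

/-- The property: some power `IⁿM ⊆ M` induces zero on all `Tor_p(-, N)`. -/
def PZ (I : Ideal A) (N : ModuleCat.{u} A) (M : Type u) [AddCommGroup M] [Module A M] : Prop :=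
  ∃ n : ℕ, 0 < n ∧ ∀ p : ℕ,
    ((Tor (ModuleCat.{u} A) p).map (ModuleCat.ofHom (I ^ n • ⊤ : Submodule A M).subtype)).app N = 0

theorem tor_map_comp_app {X Y Z : ModuleCat.{u} A} (f : X ⟶ Y) (g : Y ⟶ Z) (N : ModuleCat.{u} A)
    (p : ℕ) :
    ((Tor (ModuleCat.{u} A) p).map (f ≫ g)).app N =
      ((Tor (ModuleCat.{u} A) p).map f).app N ≫ ((Tor (ModuleCat.{u} A) p).map g).app N := by
  rw [Functor.map_comp, NatTrans.comp_app]

theorem tor_map_smul_eq_zero (X N : ModuleCat.{u} A) (a : A) (hN : ∀ y : N, a • y = 0) (p : ℕ) :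
    ((Tor (ModuleCat.{u} A) p).map (a • 𝟙 X)).app N = 0 := by
  rw [Groth.Agent.Helper21.TK.tor_map_smul]
  refine ModuleCat.hom_ext (LinearMap.ext fun z => ?_)
  rw [ModuleCat.hom_smul, LinearMap.smul_apply, ModuleCat.hom_id, LinearMap.id_apply,
    ModuleCat.hom_zero, LinearMap.zero_apply]
  exact Groth.Agent.Helper21.TAR4.smul_eq_zero_of_killed X N a p hN z

theorem tor_map_eq_zero_of_subsingleton {X Y : ModuleCat.{u} A} [Subsingleton X] (f : X ⟶ Y)
    (N : ModuleCat.{u} A) (p : ℕ) : ((Tor (ModuleCat.{u} A) p).map f).app N = 0 := by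
  have h : f = ((0 : A) • 𝟙 X) ≫ f := by
    refine ModuleCat.hom_ext (LinearMap.ext fun x => ?_)
    rw [Subsingleton.elim x 0]
    simp
  rw [h, tor_map_comp_app, Groth.Agent.Helper21.TK.tor_map_smul, zero_smul, zero_comp]

end Groth.Agent.Helper23.TorUnif
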