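import Mathlib
import Groth.Agent.Lib.Helper18.Tor.LES
import Groth.Agent.Lib.Helper21.TorAR4
import Groth.Agent.Lib.Helper23.TorUnif1

set_option autoImplicit false

open CategoryTheory Limits MonoidalCategory

namespace Groth.Agent.Helper23.TorUnif

open Groth.Agent.Helper18.TorLib
open scoped Pointwise

universe u

variable {A : Type u} [CommRing A]

/-- the short exact sequence `0 → M →a M → M/aM → 0`. -/
theorem regular_shortExact (M : Type u) [AddCommGroup M] [Module A M] (a : A)
    (hreg : IsSMulRegular M a) :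
    (ShortComplex.mk (a • 𝟙 (ModuleCat.of A M))
      (ModuleCat.ofHom (a • (⊤ : Submodule A M)).mkQ)
      (by
        refine ModuleCat.hom_ext (LinearMap.ext fun x => ?_)
        simp only [ModuleCat.hom_comp, ModuleCat.hom_smul, ModuleCat.hom_id, ModuleCat.hom_ofHom,
          LinearMap.comp_apply, LinearMap.smul_apply, LinearMap.id_apply, ModuleCat.hom_zero,
          LinearMap.zero_apply, Submodule.mkQ_apply, Submodule.Quotient.mk_eq_zero]
        exact Submodule.smul_mem_pointwise_smul _ _ _ Submodule.mem_top)).ShortExact := by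
  refine ShortComplex.ShortExact.mk' ?_ ?_ ?_
  · rw [ShortComplex.ShortExact.moduleCat_exact_iff_function_exact]
    intro y
    simp only [ModuleCat.hom_ofHom, Submodule.mkQ_apply, Submodule.Quotient.mk_eq_zero,
      Set.mem_range]
    constructor
    · intro hy
      obtain ⟨x, -, rfl⟩ := (Submodule.mem_smul_pointwise_iff_exists _ _ _).1 hy
      exact ⟨x, by simp⟩
    · rintro ⟨x, rfl⟩
      simp only [ModuleCat.hom_smul, ModuleCat.hom_id, LinearMap.smul_apply, LinearMap.id_apply]
      exact Submodule.smul_mem_pointwise_smul _ _ _ Submodule.mem_top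
  · rw [ModuleCat.mono_iff_injective]
    intro x y hxy
    simp only [ModuleCat.hom_smul, ModuleCat.hom_id, LinearMap.smul_apply,
      LinearMap.id_apply] at hxy
    exact hreg hxy
  · rw [ModuleCat.epi_iff_surjective]
    exact Submodule.mkQ_surjective _

theorem PZ_of_regular [IsNoetherianRing A] (I : Ideal A) (N : ModuleCat.{u} A)
    (M : Type u) [AddCommGroup M] [Module A M] (a : A) (haN : ∀ y : N, a • y = 0)
    (hreg : IsSMulRegular M a)
    (h : PZ I N (M ⧸ (a • (⊤ : Submodule A M)))) : PZ I N M := by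
  obtain ⟨n, hn, hp⟩ := h
  refine ⟨n, hn, fun p => ?_⟩
  set q : M →ₗ[A] (M ⧸ (a • (⊤ : Submodule A M))) := (a • (⊤ : Submodule A M)).mkQ with hq
  have hmap : ∀ x : (I ^ n • ⊤ : Submodule A M),
      q x.1 ∈ (I ^ n • ⊤ : Submodule A (M ⧸ (a • (⊤ : Submodule A M)))) := by
    intro x
    have h1 : q x.1 ∈ Submodule.map q (I ^ n • ⊤ : Submodule A M) := Submodule.mem_map_of_mem x.2
    rw [Submodule.map_smul''] at h1
    exact Submodule.smul_mono le_rfl le_top h1
  let θ : (I ^ n • ⊤ : Submodule A M) →ₗ[A]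
      (I ^ n • ⊤ : Submodule A (M ⧸ (a • (⊤ : Submodule A M)))) :=
    LinearMap.codRestrict _ (q.comp (I ^ n • ⊤ : Submodule A M).subtype) hmap
  have hcomm : ModuleCat.ofHom (I ^ n • ⊤ : Submodule A M).subtype ≫ ModuleCat.ofHom q =
      ModuleCat.ofHom θ ≫
        ModuleCat.ofHom (I ^ n • ⊤ : Submodule A (M ⧸ (a • (⊤ : Submodule A M)))).subtype := by
    refine ModuleCat.hom_ext (LinearMap.ext fun x => ?_)
    rfl
  have h0 : ((Tor (ModuleCat.{u} A) p).map
        (ModuleCat.ofHom (I ^ n • ⊤ : Submodule A M).subtype)).app N ≫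
      ((Tor (ModuleCat.{u} A) p).map (ModuleCat.ofHom q)).app N = 0 := by
    rw [← tor_map_comp_app, hcomm, tor_map_comp_app, hp p, comp_zero]
  have hex := tor_exact₂ (regular_shortExact M a hreg) N p
  have hmono : Mono (((Tor (ModuleCat.{u} A) p).map (ModuleCat.ofHom q)).app N) :=
    hex.mono_g (tor_map_smul_eq_zero _ N a haN p)
  rw [← cancel_mono (((Tor (ModuleCat.{u} A) p).map (ModuleCat.ofHom q)).app N), h0, zero_comp]

end Groth.Agent.Helper23.TorUnif
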