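import Mathlib
import Groth.Agent.Lib.Helper18.Tor.LES
import Groth.Agent.Lib.Helper21.TorAR4
import Groth.Agent.Lib.Helper23.TorUnif2

set_option autoImplicit false

open CategoryTheory Limits MonoidalCategory

namespace Groth.Agent.Helper23.TorUnif

open Groth.Agent.Helper18.TorLib
open scoped Pointwise

universe u

variable {A : Type u} [CommRing A]

/-- If no nonzero element of `L` is killed by `I`, then `I` contains an `L`-regular element. -/
theorem exists_regular_of_no_torsion [IsNoetherianRing A] (I : Ideal A)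
    (L : Type u) [AddCommGroup L] [Module A L] [Module.Finite A L]
    (h : ∀ x : L, (∀ a ∈ I, a • x = 0) → x = 0) : ∃ a ∈ I, IsSMulRegular L a := by
  have hsub : Subsingleton ((A ⧸ I) →ₗ[A] L) := by
    refine subsingleton_of_forall_eq 0 (fun f => ?_)
    have h1 : f 1 = 0 := by
      apply h
      intro a ha
      rw [← map_smul]
      have : a • (1 : A ⧸ I) = 0 := by
        rw [Algebra.smul_def, mul_one]
        exact Ideal.Quotient.eq_zero_iff_mem.2 ha
      rw [this, map_zero]
    refine LinearMap.ext fun x => ?_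
    obtain ⟨r, rfl⟩ := Ideal.Quotient.mk_surjective x
    have : (Ideal.Quotient.mk I r) = r • (1 : A ⧸ I) := by
      rw [Algebra.smul_def, mul_one]
      rfl
    rw [this, map_smul, h1, smul_zero, LinearMap.zero_apply]
  obtain ⟨r, hr, hreg⟩ := IsSMulRegular.subsingleton_linearMap_iff.1 hsub
  rw [Ideal.annihilator_quotient] at hr
  exact ⟨r, hr, hreg⟩

/-- Artin–Rees: some `I^n M` (with `n > 0`) has no nonzero element killed by `I`. -/
theorem exists_pow_no_torsion [IsNoetherianRing A] (I : Ideal A)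
    (M : Type u) [AddCommGroup M] [Module A M] [Module.Finite A M] :
    ∃ n : ℕ, 0 < n ∧ ∀ x ∈ (I ^ n • ⊤ : Submodule A M), (∀ a ∈ I, a • x = 0) → x = 0 := by
  obtain ⟨k, hk⟩ := Ideal.exists_pow_inf_eq_pow_smul I (Submodule.torsionBySet A M (I : Set A))
  refine ⟨k + 1, Nat.succ_pos k, fun x hx hIx => ?_⟩
  have hx' : x ∈ (I ^ (k + 1) • ⊤ ⊓ Submodule.torsionBySet A M (I : Set A) : Submodule A M) :=
    ⟨hx, (Submodule.mem_torsionBySet_iff _ _).2 (fun a => hIx a.1 a.2)⟩
  rw [hk (k + 1) (Nat.le_succ k), Nat.add_sub_cancel_left, pow_one] at hx'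
  have hle : I • (I ^ k • ⊤ ⊓ Submodule.torsionBySet A M (I : Set A) : Submodule A M) ≤ ⊥ := by
    rw [Submodule.smul_le]
    intro r hr n hn
    rw [Submodule.mem_bot]
    exact (Submodule.mem_torsionBySet_iff _ _).1 hn.2 ⟨r, hr⟩
  exact (Submodule.mem_bot A).1 (hle hx')

end Groth.Agent.Helper23.TorUnif
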