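import Mathlib
import Groth.Agent.Lib.Helper18.Tor.LES
import Groth.Agent.Lib.Helper21.TorAR4
import Groth.Agent.Lib.Helper23.TorUnif3

set_option autoImplicit false

open CategoryTheory Limits MonoidalCategory

namespace Groth.Agent.Helper23.TorUnif

open Groth.Agent.Helper18.TorLib
open scoped Pointwise

universe u

variable {A : Type u} [CommRing A]

theorem PZ_of_PZ_pow (I : Ideal A) (N : ModuleCat.{u} A)
    (M : Type u) [AddCommGroup M] [Module A M] (n0 : ℕ)
    (h : PZ I N (I ^ n0 • ⊤ : Submodule A M)) : PZ I N M := by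
  obtain ⟨m, hm, hp⟩ := h
  refine ⟨m + n0, by omega, fun p => ?_⟩
  set L : Submodule A M := I ^ n0 • ⊤ with hL
  have h1 : ∀ x : (I ^ (m + n0) • ⊤ : Submodule A M), x.1 ∈ L := fun x =>
    Submodule.smul_mono (Ideal.pow_le_pow_right (Nat.le_add_left n0 m)) le_rfl x.2
  let θ0 : (I ^ (m + n0) • ⊤ : Submodule A M) →ₗ[A] L :=
    LinearMap.codRestrict L (I ^ (m + n0) • ⊤ : Submodule A M).subtype h1
  have h2 : ∀ x, θ0 x ∈ (I ^ m • ⊤ : Submodule A L) := by
    intro x
    have hx : x.1 ∈ Submodule.map L.subtype (I ^ m • ⊤ : Submodule A L) := by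
      rw [Submodule.map_smul'', Submodule.map_top, Submodule.range_subtype, hL, ← mul_smul,
        ← pow_add]
      exact x.2
    obtain ⟨y, hy, hyx⟩ := hx
    have : θ0 x = y := Subtype.ext hyx.symm
    rw [this]
    exact hy
  let θ : (I ^ (m + n0) • ⊤ : Submodule A M) →ₗ[A] (I ^ m • ⊤ : Submodule A L) :=
    LinearMap.codRestrict _ θ0 h2
  have hfac : ModuleCat.ofHom (I ^ (m + n0) • ⊤ : Submodule A M).subtype =
      ModuleCat.ofHom θ ≫ ModuleCat.ofHom (I ^ m • ⊤ : Submodule A L).subtype ≫
        ModuleCat.ofHom L.subtype := by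
    refine ModuleCat.hom_ext (LinearMap.ext fun x => ?_)
    rfl
  rw [hfac, tor_map_comp_app, tor_map_comp_app, hp p, zero_comp, comp_zero]

theorem PZ_main [IsNoetherianRing A] (I : Ideal A) (N : ModuleCat.{u} A)
    (hN : ∀ a ∈ I, ∀ y : N, a • y = 0) (J : Ideal A) :
    ∀ (M : Type u) [AddCommGroup M] [Module A M] [Module.Finite A M],
      Module.annihilator A M = J → PZ I N M := by
  refine WellFoundedGT.induction (motive := fun J => ∀ (M : Type u) [AddCommGroup M] [Module A M]
    [Module.Finite A M], Module.annihilator A M = J → PZ I N M) J ?_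
  intro J ih M _ _ _ hJ
  obtain ⟨n0, hn0, htor⟩ := exists_pow_no_torsion I M
  by_cases hL : Subsingleton (I ^ n0 • ⊤ : Submodule A M)
  · refine ⟨n0, hn0, fun p => ?_⟩
    haveI : Subsingleton (ModuleCat.of A (I ^ n0 • ⊤ : Submodule A M)) := hL
    exact tor_map_eq_zero_of_subsingleton _ N p
  · apply PZ_of_PZ_pow I N M n0
    haveI : IsNoetherian A M := isNoetherian_of_isNoetherianRing_of_finite A M
    haveI : Module.Finite A (I ^ n0 • ⊤ : Submodule A M) := Module.IsNoetherian.finite A _
    obtain ⟨a, haI, hreg⟩ := exists_regular_of_no_torsion I (I ^ n0 • ⊤ : Submodule A M)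
      (fun x hx => Subtype.ext (htor x.1 x.2 (fun a ha => congrArg Subtype.val (hx a ha))))
    apply PZ_of_regular I N _ a (hN a haI) hreg
    apply ih (Module.annihilator A
      ((I ^ n0 • ⊤ : Submodule A M) ⧸ (a • (⊤ : Submodule A (I ^ n0 • ⊤ : Submodule A M))))) ?_ _ rfl
    rw [SetLike.lt_iff_le_and_exists]
    refine ⟨?_, a, ?_, ?_⟩
    · intro r hr
      rw [← hJ] at hr
      rw [Module.mem_annihilator]
      intro y
      obtain ⟨y, rfl⟩ := Submodule.Quotient.mk_surjective _ y
      rw [← Submodule.Quotient.mk_smul]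
      have : r • y = 0 := Subtype.ext (Module.mem_annihilator.1 hr y.1)
      rw [this, Submodule.Quotient.mk_zero]
    · rw [Module.mem_annihilator]
      intro y
      obtain ⟨y, rfl⟩ := Submodule.Quotient.mk_surjective _ y
      rw [← Submodule.Quotient.mk_smul, Submodule.Quotient.mk_eq_zero]
      exact Submodule.smul_mem_pointwise_smul _ _ _ Submodule.mem_top
    · intro haJ
      rw [← hJ] at haJ
      apply hL
      refine subsingleton_of_forall_eq 0 (fun y => ?_)
      apply hreg
      show a • y = a • 0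
      rw [smul_zero]
      exact Subtype.ext (Module.mem_annihilator.1 haJ y.1)

theorem main [IsNoetherianRing A] (I : Ideal A) (N : ModuleCat.{u} A)
    (hN : ∀ a ∈ I, ∀ y : N, a • y = 0)
    (M : Type u) [AddCommGroup M] [Module A M] [Module.Finite A M] : PZ I N M :=
  PZ_main I N hN _ M rfl

end Groth.Agent.Helper23.TorUnif
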