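import Groth.Agent.Lib.Helper13.QCohWeakAss
import Groth.Agent.Lib.Helper13.MeroLib
import Groth.Agent.Lib.Helper23.RegPull2
import Groth.Agent.Lib.Helper23.SchDense
import Groth.Prelude.Def_MeroDiv

set_option autoImplicit false
set_option linter.style.haveILetI false

open CategoryTheory AlgebraicGeometry Opposite TopologicalSpace IsLocalRing

universe u

namespace Groth.Agent.Helper23.TorsFree

open Groth.Agent.Helper23.RegPull Groth.Agent.Helper23.DepthExt Groth.Agent.Helper13.MeroLib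
open Groth.Agent.Helper13.QCoh

variable {X : Scheme.{u}}

/-- no germ of a regular function kills a nonzero element of a stalk of `F` -/
def IsTF (F : X.Modules) : Prop :=
  ∀ (y : X) (c : Mero.regStalk X y) (m : F.presheaf.stalk y),
    (c : X.presheaf.stalk y) • m = 0 → m = 0

theorem toMer_app_apply (F : X.Modules) (U : X.Opens) (μ : Γ(F, U)) :
    (Mero.toMer F).app U μ = Mero.toMerFun F U μ := rfl

theorem mono_toMer_iff (F : X.Modules) : Mono (Mero.toMer F) ↔ IsTF F := by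
  rw [mono_iff_app_injective]
  constructor
  · intro hinj y c m hcm
    obtain ⟨c, V, hyV, γ, hγ, rfl⟩ := c
    obtain ⟨V₂, hyV₂, μ, rfl⟩ := F.presheaf.exists_germ_eq m
    have hyV₃ : y ∈ V ⊓ V₂ := ⟨hyV, hyV₂⟩
    let γ' : Γ(X, V ⊓ V₂) := X.presheaf.map (homOfLE (inf_le_left : V ⊓ V₂ ≤ V)).op γ
    let μ' : Γ(F, V ⊓ V₂) := F.presheaf.map (homOfLE (inf_le_right : V ⊓ V₂ ≤ V₂)).op μ
    have h1 : F.presheaf.germ (V ⊓ V₂) y hyV₃ (γ' • μ') = F.presheaf.germ (V ⊓ V₂) y hyV₃ 0 := by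
      rw [Mero.germ_smul, TopCat.Presheaf.germ_res_apply, TopCat.Presheaf.germ_res_apply, map_zero]
      exact hcm
    obtain ⟨V₄, hyV₄, i₁, i₂, e⟩ := F.presheaf.germ_eq y hyV₃ hyV₃ _ _ h1
    have h43 : V₄ ≤ V ⊓ V₂ := i₁.le
    let γ'' : Γ(X, V₄) := X.presheaf.map (homOfLE (h43.trans inf_le_left)).op γ
    let μ'' : Γ(F, V₄) := F.presheaf.map (homOfLE (h43.trans inf_le_right)).op μ
    have hγ'' : γ'' ∈ Mero.regSub X V₄ := Mero.regSub_res _ hγ
    have h2 : ∀ (z : X) (hz : z ∈ V₄), X.presheaf.germ V₄ z hz γ'' • F.presheaf.germ V₄ z hz μ'' = 0 := by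
      intro z hz
      have h3 := congrArg (F.presheaf.germ V₄ z hz) e
      rw [TopCat.Presheaf.germ_res_apply, TopCat.Presheaf.germ_res_apply, Mero.germ_smul,
        TopCat.Presheaf.germ_res_apply, TopCat.Presheaf.germ_res_apply, map_zero] at h3
      rw [TopCat.Presheaf.germ_res_apply, TopCat.Presheaf.germ_res_apply]
      exact h3
    have h4 : (Mero.toMer F).app V₄ μ'' = 0 := by
      rw [toMer_app_apply]
      apply Subtype.ext
      funext z
      change LocalizedModule.mk (F.presheaf.germ V₄ z.1 z.2 μ'') 1 = 0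
      rw [← LocalizedModule.zero_mk (1 : Mero.regStalk X z.1), LocalizedModule.mk_eq]
      refine ⟨Mero.regGerm z ⟨γ'', hγ''⟩, ?_⟩
      simp only [one_smul, smul_zero, Submonoid.smul_def]
      exact h2 z.1 z.2
    have h5 : μ'' = 0 := hinj V₄ (h4.trans (map_zero _).symm)
    have h6 : F.presheaf.germ V₂ y hyV₂ μ = F.presheaf.germ V₄ y hyV₄ μ'' :=
      (TopCat.Presheaf.germ_res_apply F.presheaf _ y hyV₄ μ).symm
    rw [h6, h5, map_zero]
  · intro hTF U
    rw [injective_iff_map_eq_zero]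
    intro μ hμ
    apply TopCat.Presheaf.section_ext ⟨F.presheaf, F.isSheaf⟩ U
    intro y hy
    rw [toMer_app_apply] at hμ
    have h1 : (Mero.toMerFun F U μ).1 ⟨y, hy⟩ = 0 := by rw [hμ]; rfl
    rw [Mero.toMerFun_apply, ← LocalizedModule.zero_mk (1 : Mero.regStalk X y),
      LocalizedModule.mk_eq] at h1
    obtain ⟨c, hc⟩ := h1
    simp only [one_smul, smul_zero, Submonoid.smul_def] at hc
    have := hTF y c _ hc
    rw [map_zero]
    exact this


theorem isTF_iff [IsLocallyNoetherian X] (F : X.Modules) [F.IsQuasicoherent] :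
    IsTF F ↔ ∀ x : X, Curv2.IsAssPoint F x →
      IsAssociatedPrime (maximalIdeal (X.presheaf.stalk x)) (X.presheaf.stalk x) := by
  constructor
  · intro hTF x hass
    by_contra hnot
    obtain ⟨t, htu, htr⟩ := hasReg1_of_maximalIdeal_not_mem_associatedPrimes (X.presheaf.stalk x) hnot
    obtain ⟨ξ, hξ⟩ := (isAssPoint_iff_isWeakAssPoint F x).1 hass
    have htm : t ∈ maximalIdeal (X.presheaf.stalk x) := (mem_maximalIdeal t).2 htu
    rw [← hξ] at htm
    obtain ⟨n, hn⟩ := htm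
    rw [LinearMap.mem_ker, LinearMap.toSpanSingleton_apply] at hn
    have htn : t ^ n ∈ Mero.regStalk X x := by
      rw [regStalk_eq_nonZeroDivisors X x]
      apply pow_mem
      rw [mem_nonZeroDivisors_iff_left]
      exact htr
    have hξ0 : ξ = 0 := hTF x ⟨t ^ n, htn⟩ ξ hn
    have htop : LinearMap.ker (LinearMap.toSpanSingleton (X.presheaf.stalk x)
        (F.presheaf.stalk x) ξ) = ⊤ := by
      rw [eq_top_iff]
      intro r _
      rw [LinearMap.mem_ker, LinearMap.toSpanSingleton_apply, hξ0, smul_zero]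
    rw [htop, Ideal.radical_top] at hξ
    exact (maximalIdeal.isMaximal (X.presheaf.stalk x)).ne_top hξ.symm
  · intro hAss y c m hcm
    by_contra hm
    obtain ⟨_, ⟨V, hV, rfl⟩, hyV, -⟩ :=
      X.isBasis_affineOpens.exists_subset_of_mem_open (Set.mem_univ y) isOpen_univ
    have hV' : IsAffineOpen V := hV
    obtain ⟨g, hyg, t, hgt⟩ := exists_germ_smul_eq F hV' y hyV m
    have ht0 : F.presheaf.germ V y hyV t ≠ 0 := by
      intro h0
      rw [h0] at hgt
      exact hm (eq_zero_of_germ_smul_eq_zero F y hyV g hyg m hgt)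
    have hct : (c : X.presheaf.stalk y) • F.presheaf.germ V y hyV t = 0 := by
      rw [← hgt, smul_comm, hcm, smul_zero]
    obtain ⟨z, hzV, hzy, hz0, hrad⟩ := exists_weakAss_specializes_of_germ_ne_zero F hV' t y hyV ht0
    have hassz : Curv2.IsAssPoint F z := (isAssPoint_iff_isWeakAssPoint F z).2 ⟨_, hrad⟩
    have hmz := hAss z hassz
    obtain ⟨c, V₁, hyV₁, γ, hγ, rfl⟩ := c
    have hyV₃ : y ∈ V₁ ⊓ V := ⟨hyV₁, hyV⟩
    let γ' : Γ(X, V₁ ⊓ V) := X.presheaf.map (homOfLE (inf_le_left : V₁ ⊓ V ≤ V₁)).op γ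
    let t' : Γ(F, V₁ ⊓ V) := F.presheaf.map (homOfLE (inf_le_right : V₁ ⊓ V ≤ V)).op t
    have h1 : F.presheaf.germ (V₁ ⊓ V) y hyV₃ (γ' • t') = F.presheaf.germ (V₁ ⊓ V) y hyV₃ 0 := by
      rw [Mero.germ_smul, TopCat.Presheaf.germ_res_apply, TopCat.Presheaf.germ_res_apply, map_zero]
      exact hct
    obtain ⟨V₄, hyV₄, i₁, i₂, e⟩ := F.presheaf.germ_eq y hyV₃ hyV₃ _ _ h1
    have h43 : V₄ ≤ V₁ ⊓ V := i₁.le
    have hzV₄ : z ∈ V₄ := hzy.mem_open V₄.2 hyV₄
    have h3 := congrArg (F.presheaf.germ V₄ z hzV₄) e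
    rw [TopCat.Presheaf.germ_res_apply, TopCat.Presheaf.germ_res_apply, Mero.germ_smul,
      TopCat.Presheaf.germ_res_apply, TopCat.Presheaf.germ_res_apply, map_zero] at h3
    have hγz : X.presheaf.germ V₁ z (h43 hzV₄).1 γ ∈ maximalIdeal (X.presheaf.stalk z) := by
      rw [← hrad]
      apply Ideal.le_radical
      rw [LinearMap.mem_ker, LinearMap.toSpanSingleton_apply]
      exact h3
    haveI : IsNoetherianRing (X.presheaf.stalk z) := inferInstance
    exact notMem_nonZeroDivisors_of_mem_associatedPrimes _ hmz _ hγz (hγ ⟨z, (h43 hzV₄).1⟩)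

end Groth.Agent.Helper23.TorsFree
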