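import Mathlib
import Groth.Prelude

set_option autoImplicit false
set_option linter.style.haveILetI false
set_option linter.unusedSectionVars false
universe u
open CategoryTheory CategoryTheory.Limits AlgebraicGeometry

noncomputable section

namespace Groth.Agent.Helper23.UOpenHom

variable {X Y Z : Scheme.{u}}

/-- if `f ≫ g` is universally open and `f` is surjective then `g` is universally open -/
theorem universallyOpen_of_surjective_comp (f : X ⟶ Y) (g : Y ⟶ Z) [Surjective f]
    [UniversallyOpen (f ≫ g)] : UniversallyOpen g := by
  refine ⟨fun Y' Z' i₁ i₂ g' h => ?_⟩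
  -- base change of `f` along `i₁`
  have hsq : IsPullback (pullback.snd f i₁) (pullback.fst f i₁) i₁ f :=
    (IsPullback.of_hasPullback f i₁).flip
  have hbig := hsq.paste_horiz h
  have hopen : IsOpenMap (pullback.snd f i₁ ≫ g') :=
    UniversallyOpen.universally_isOpenMap _ _ _ hbig
  haveI : Surjective (pullback.snd f i₁) := inferInstance
  intro W hW
  have : g' '' W = (pullback.snd f i₁ ≫ g') '' ((pullback.snd f i₁) ⁻¹' W) := by
    rw [Scheme.Hom.comp_base, TopCat.coe_comp, Set.image_comp,
      Set.image_preimage_eq _ (pullback.snd f i₁).surjective]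
  rw [this]
  exact hopen _ (hW.preimage (pullback.snd f i₁).continuous)

/-- a surjective closed immersion is universally open -/
theorem universallyOpen_of_isClosedImmersion_surjective (f : X ⟶ Y) [IsClosedImmersion f]
    [Surjective f] : UniversallyOpen f := by
  refine ⟨fun X' Y' i₁ i₂ f' h => ?_⟩
  haveI : IsClosedImmersion f' := MorphismProperty.of_isPullback h.flip inferInstance
  haveI : Surjective f' := MorphismProperty.of_isPullback h.flip inferInstance
  exact (f'.isClosedEmbedding.isEmbedding.toHomeomorphOfSurjective f'.surjective).isOpenMap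

/-- a closed immersion with open range is universally open -/
theorem universallyOpen_of_isClosedImmersion_of_isOpen_range (f : X ⟶ Y) [IsClosedImmersion f]
    (hf : IsOpen (Set.range f)) : UniversallyOpen f := by
  let V : Y.Opens := ⟨Set.range f, hf⟩
  have hV : Set.range f ⊆ Set.range V.ι := by
    rw [Scheme.Opens.range_ι]
    exact subset_rfl
  let f' : X ⟶ V := IsOpenImmersion.lift V.ι f hV
  have hf' : f' ≫ V.ι = f := IsOpenImmersion.lift_fac _ _ _
  haveI : IsClosedImmersion (f' ≫ V.ι) := by rw [hf']; infer_instance
  haveI : IsClosedImmersion f' := IsClosedImmersion.of_comp f' V.ι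
  haveI : Surjective f' := by
    refine ⟨fun v => ?_⟩
    obtain ⟨x, hx⟩ : (V.ι v) ∈ Set.range f := v.2
    refine ⟨x, V.ι.isOpenEmbedding.injective ?_⟩
    rw [← Scheme.Hom.comp_apply, hf', hx]
  haveI := universallyOpen_of_isClosedImmersion_surjective f'
  rw [← hf']
  infer_instance

end Groth.Agent.Helper23.UOpenHom
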