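import Mathlib
import Groth.Prelude
import Groth.Agent.Lib.Helper23.GrpNeutral
import Groth.Agent.Lib.Helper18.SubGrpObj

set_option autoImplicit false
set_option linter.style.haveILetI false
set_option linter.unusedSectionVars false
universe u
open CategoryTheory CategoryTheory.Limits AlgebraicGeometry MonoidalCategory CartesianMonoidalCategory
  MonObj GrpObj

noncomputable section

namespace Groth.Agent.Helper23.UOpenHom

section OpenSub

variable {S : Scheme.{u}} (G : Over S) (W : G.left.Opens)

/-- the open subscheme on an open subset, as an object over `S` -/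
abbrev openOver : Over S := Over.mk (W.ι ≫ G.hom)

/-- the inclusion of the open subscheme -/
def openι : openOver G W ⟶ G := Over.homMk W.ι rfl

instance : IsOpenImmersion (openι G W).left := inferInstanceAs (IsOpenImmersion W.ι)

instance : Mono (openι G W) :=
  (Over.forget S).mono_of_mono_map (inferInstanceAs (Mono W.ι))

theorem range_openι : Set.range (openι G W).left.base = (W : Set G.left) :=
  Scheme.Opens.range_ι W

variable {G W}

/-- lifting a morphism with range in `W` -/
def liftOver {T : Over S} (φ : T ⟶ G) (h : Set.range φ.left.base ⊆ (W : Set G.left)) :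
    T ⟶ openOver G W :=
  Over.homMk (IsOpenImmersion.lift W.ι φ.left (by rw [Scheme.Opens.range_ι]; exact h)) (by
    show IsOpenImmersion.lift W.ι φ.left _ ≫ W.ι ≫ G.hom = T.hom
    rw [← Category.assoc, IsOpenImmersion.lift_fac, Over.w])

theorem liftOver_ι {T : Over S} (φ : T ⟶ G) (h : Set.range φ.left.base ⊆ (W : Set G.left)) :
    liftOver φ h ≫ openι G W = φ := by
  ext1
  exact IsOpenImmersion.lift_fac _ _ _

theorem range_comp_subset {A B C : Over S} (a : A ⟶ B) (b : B ⟶ C) :
    Set.range (a ≫ b).left.base ⊆ Set.range b.left.base := by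
  rw [Over.comp_left, Scheme.Hom.comp_base, TopCat.coe_comp]
  exact Set.range_comp_subset_range _ _

theorem exists_openSubgroup [GrpObj G]
    (h1 : Set.range η[G].left.base ⊆ (W : Set G.left))
    (hdiv : ∀ (T : Over S) (g h : T ⟶ G), Set.range g.left.base ⊆ (W : Set G.left) →
      Set.range h.left.base ⊆ (W : Set G.left) →
      Set.range (g * h⁻¹).left.base ⊆ (W : Set G.left)) :
    ∃ (_ : GrpObj (openOver G W)), IsMonHom (openι G W) := by
  have hinv : ∀ (T : Over S) (h : T ⟶ G), Set.range h.left.base ⊆ (W : Set G.left) →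
      Set.range (h⁻¹).left.base ⊆ (W : Set G.left) := by
    intro T h hh
    have := hdiv T (toUnit T ≫ η[G]) h ((range_comp_subset _ _).trans h1) hh
    have e : (toUnit T ≫ η[G]) * h⁻¹ = h⁻¹ := by
      show (1 : T ⟶ G) * h⁻¹ = h⁻¹
      rw [_root_.one_mul]
    rwa [e] at this
  have hmul : ∀ (T : Over S) (g h : T ⟶ G), Set.range g.left.base ⊆ (W : Set G.left) →
      Set.range h.left.base ⊆ (W : Set G.left) →
      Set.range (g * h).left.base ⊆ (W : Set G.left) := by
    intro T g h hg hh
    have := hdiv T g h⁻¹ hg (hinv T h hh)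
    rwa [_root_.inv_inv] at this
  have hj : Set.range (openι G W).left.base ⊆ (W : Set G.left) := (range_openι G W).le
  refine Groth.Agent.Helper18.SubGrpObj.exists_grpObj_of_mono (openι G W)
    ⟨liftOver η[G] h1, liftOver_ι _ _⟩ ?_ ?_
  · have e : (openι G W ⊗ₘ openι G W) ≫ μ[G] =
        (fst _ _ ≫ openι G W) * (snd _ _ ≫ openι G W) := by
      show _ = lift (fst _ _ ≫ openι G W) (snd _ _ ≫ openι G W) ≫ μ[G]
      congr 1
    refine ⟨liftOver ((openι G W ⊗ₘ openι G W) ≫ μ[G]) ?_, liftOver_ι _ _⟩
    rw [e]
    exact hmul _ _ _ ((range_comp_subset _ _).trans hj) ((range_comp_subset _ _).trans hj)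
  · refine ⟨liftOver (openι G W ≫ ι[G]) ?_, liftOver_ι _ _⟩
    have e : openι G W ≫ ι[G] = (openι G W)⁻¹ := rfl
    rw [e]
    exact hinv _ _ hj

end OpenSub

section Neutral

open Groth.Agent.Helper23.GrpNeutral

variable {A : Type u} [CommRing A] [IsArtinianRing A] [IsLocalRing A]
  (G : Over (Spec (CommRingCat.of A))) [GrpObj G] [LocallyOfFiniteType G.hom]

/-- the point of the base -/
def unitPt (A : Type u) [CommRing A] [IsLocalRing A] :
    ↥(𝟙_ (Over (Spec (CommRingCat.of A)))).left := IsLocalRing.closedPoint A

/-- the connected component of the unit, as an open subset -/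
def neutralOpens : G.left.Opens :=
  ⟨connectedComponent (η[G].left.base (unitPt A)), (GrpNeutral.main G (unitPt A)).1⟩

theorem coe_neutralOpens :
    (neutralOpens G : Set G.left) = connectedComponent (η[G].left.base (unitPt A)) := rfl

theorem exists_neutral :
    ∃ (_ : GrpObj (openOver G (neutralOpens G))), IsMonHom (openι G (neutralOpens G)) := by
  apply exists_openSubgroup
  · rintro _ ⟨p, rfl⟩
    haveI := subsingleton_spec A
    have : p = unitPt A := Subsingleton.elim (α := PrimeSpectrum A) _ _
    rw [this]
    exact mem_connectedComponent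
  · exact (GrpNeutral.main G (unitPt A)).2.1

end Neutral

end Groth.Agent.Helper23.UOpenHom
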