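import Mathlib
import Groth.Prelude
import Groth.Agent.Lib.Helper23.UOpenHom1
import Groth.Agent.Lib.Helper23.UOpenHom2
import Groth.Agent.Lib.Helper16.Sch.HomFactor
import Groth.Agent.Lib.Helper4.Homog6

set_option autoImplicit false
set_option linter.style.haveILetI false
set_option linter.unusedSectionVars false
universe u
open CategoryTheory CategoryTheory.Limits AlgebraicGeometry MonoidalCategory CartesianMonoidalCategory
  MonObj GrpObj

noncomputable section

namespace Groth.Agent.Helper23.UOpenHom

open Groth.Agent.Helper28.AlgGrpShear Groth.Agent.Helper4.Homog Groth.Agent.Helper4.GrpConn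

section Field

variable {k : Type u} [Field k] {G H : Over (Spec (CommRingCat.of k))} [GrpObj G] [GrpObj H]

instance : Subsingleton ↥(Spec (CommRingCat.of k)) :=
  inferInstanceAs (Subsingleton (PrimeSpectrum k))

/-- translation trick: if the restriction of `u` to an open subgroup is universally open, so is
`u` -/
theorem universallyOpen_of_openSubgroup {G0 : Over (Spec (CommRingCat.of k))} [GrpObj G0]
    (j : G0 ⟶ G) [IsMonHom j] (u : G ⟶ H) [IsMonHom u]
    [UniversallyOpen (j ≫ u).left] : UniversallyOpen u.left := by
  let aH : AlgGrp.Action G H := (selfAct H).restrict u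
  let m' : G ⊗ G0 ⟶ G := (G ◁ j) ≫ μ[G]
  have key : m' ≫ u = (G ◁ (j ≫ u)) ≫ aH.act := by
    show ((G ◁ j) ≫ μ[G]) ≫ u = (G ◁ (j ≫ u)) ≫ (u ▷ H) ≫ μ[H]
    rw [Category.assoc, IsMonHom.mul_hom]
    rw [← Category.assoc, ← Category.assoc]
    congr 1
    apply CartesianMonoidalCategory.hom_ext <;> simp
  haveI : UniversallyOpen G.hom := inferInstance
  haveI : UniversallyOpen (snd G H).left :=
    inferInstanceAs (UniversallyOpen (pullback.snd G.hom H.hom))
  haveI : UniversallyOpen aH.act.left := by
    rw [act_left aH]
    infer_instance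
  haveI : UniversallyOpen (G ◁ (j ≫ u)).left :=
    MorphismProperty.of_isPullback (P := @UniversallyOpen)
      ((isPullback_snd G (j ≫ u)).map (Over.forget _)) ‹_›
  haveI : UniversallyOpen (m'.left ≫ u.left) := by
    rw [← Over.comp_left, key, Over.comp_left]
    infer_instance
  haveI : Surjective m'.left := by
    refine ⟨fun g => ⟨(lift (𝟙 G) (toUnit G ≫ η[G0])).left g, ?_⟩⟩
    rw [← Scheme.Hom.comp_apply, ← Over.comp_left]
    have : lift (𝟙 G) (toUnit G ≫ η[G0]) ≫ m' = 𝟙 G := by
      show lift (𝟙 G) (toUnit G ≫ η[G0]) ≫ (G ◁ j) ≫ μ[G] = 𝟙 G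
      rw [lift_whiskerLeft_assoc, Category.assoc, IsMonHom.one_hom]
      show (𝟙 G : G ⟶ G) * 1 = 𝟙 G
      rw [_root_.mul_one]
    rw [this]
    rfl
  exact universallyOpen_of_surjective_comp m'.left u.left

variable [LocallyOfFiniteType G.hom] [LocallyOfFiniteType H.hom]

theorem compactSpace_neutral : CompactSpace ↥(openOver G (neutralOpens G)).left := by
  have h : IsCompact (neutralOpens G : Set G.left) :=
    (connectedComponent_unit_irreducible_compact G).2
  exact isCompact_iff_compactSpace.mp h

/-- the field case -/
theorem universallyOpen_field (u : G ⟶ H) [IsMonHom u] (hu : IsOpenMap u.left.base) :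
    UniversallyOpen u.left := by
  obtain ⟨instG0, hj⟩ := exists_neutral G
  letI := instG0
  haveI := hj
  haveI : UniversallyOpen (openι G (neutralOpens G) ≫ u).left := by
    haveI : LocallyOfFiniteType (openOver G (neutralOpens G)).hom :=
      inferInstanceAs (LocallyOfFiniteType ((neutralOpens G).ι ≫ G.hom))
    haveI : CompactSpace ↥(openOver G (neutralOpens G)).left := compactSpace_neutral
    haveI : IsLocallyNoetherian H.left := LocallyOfFiniteType.isLocallyNoetherian H.hom
    haveI : QuasiCompact (openι G (neutralOpens G) ≫ u).left := quasiCompact_of_compactSpace _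
    haveI : Flat (openOver G (neutralOpens G)).hom := inferInstance
    have hN : Flat (pullback.snd (openι G (neutralOpens G) ≫ u).left
        (η[H] : 𝟙_ (Over (Spec (CommRingCat.of k))) ⟶ H).left) := by
      haveI : Subsingleton ↥(𝟙_ (Over (Spec (CommRingCat.of k)))).left :=
        inferInstanceAs (Subsingleton (PrimeSpectrum k))
      haveI : IsIntegral (𝟙_ (Over (Spec (CommRingCat.of k)))).left :=
        inferInstanceAs (IsIntegral (Spec (CommRingCat.of k)))
      infer_instance
    obtain ⟨C, instC, p, i, hp, hi, hpi, hflat, hsurj, hlfp, hcl⟩ :=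
      Groth.Agent.Helper16.HomFactor.main3034 k (openOver G (neutralOpens G)) H
        (openι G (neutralOpens G) ≫ u) hN
    have hrange : Set.range i.left = Set.range (openι G (neutralOpens G) ≫ u).left := by
      rw [← hpi, Over.comp_left, Scheme.Hom.comp_base, TopCat.coe_comp, Set.range_comp,
        p.left.surjective.range_eq, Set.image_univ]
    have hopen : IsOpen (Set.range i.left) := by
      rw [hrange, Over.comp_left, Scheme.Hom.comp_base, TopCat.coe_comp, Set.range_comp,
        range_openι]
      exact hu _ (neutralOpens G).isOpen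
    haveI := universallyOpen_of_isClosedImmersion_of_isOpen_range i.left hopen
    haveI : UniversallyOpen p.left := inferInstance
    rw [← hpi, Over.comp_left]
    infer_instance
  exact universallyOpen_of_openSubgroup (openι G (neutralOpens G)) u

end Field

end Groth.Agent.Helper23.UOpenHom
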