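import Mathlib
import Groth.Prelude
import Groth.Agent.Lib.Helper23.UOpenHom3
import Groth.Agent.Lib.Helper23.ArtFibre
import Groth.Agent.Lib.Helper4.Homog4

set_option autoImplicit false
set_option linter.style.haveILetI false
set_option linter.unusedSectionVars false
universe u
open CategoryTheory CategoryTheory.Limits AlgebraicGeometry MonoidalCategory CartesianMonoidalCategory
  MonObj GrpObj

noncomputable section

namespace Groth.Agent.Helper23.UOpenHom

open Groth.Agent.Helper23.GrpNeutral Groth.Agent.Helper23.ArtFibre Groth.Agent.Helper4.Homog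

section Artin

variable (A : Type u) [CommRing A] [IsArtinianRing A] [IsLocalRing A]

/-- descent of universal openness from the special fibre -/
theorem universallyOpen_of_fibre {G H : Over (Spec (CommRingCat.of A))} (u : G ⟶ H)
    [UniversallyOpen ((Over.pullback (iA A)).map u).left] : UniversallyOpen u.left := by
  refine ⟨fun G' T g' g f' sq => ?_⟩
  -- sq : IsPullback f' g' g u.left
  -- the special fibre of `T`
  let π : pullback (g ≫ H.hom) (iA A) ⟶ T := pullback.fst _ _
  haveI : IsClosedImmersion π := inferInstance
  haveI : Surjective π := inferInstance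
  -- base change of `f'` along `π`
  let q : pullback f' π ⟶ G' := pullback.fst _ _
  let fk : pullback f' π ⟶ pullback (g ≫ H.hom) (iA A) := pullback.snd _ _
  haveI : IsClosedImmersion q := inferInstance
  haveI : Surjective q := inferInstance
  have sq1 : IsPullback fk q π f' := (IsPullback.of_hasPullback f' π).flip
  have big : IsPullback fk (q ≫ g') (π ≫ g) u.left := sq1.paste_vert sq
  -- the map to the special fibre of `H`
  let τ : pullback (g ≫ H.hom) (iA A) ⟶ pullback H.hom (iA A) :=
    pullback.lift (π ≫ g) (pullback.snd _ _) (by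
      rw [Category.assoc]; exact pullback.condition)
  have hτ : τ ≫ pullback.fst H.hom (iA A) = π ≫ g := pullback.lift_fst _ _ _
  have right := isPullback_map_left (iA A) u
  have w : (fk ≫ τ) ≫ pullback.fst H.hom (iA A) = (q ≫ g') ≫ u.left := by
    rw [Category.assoc, hτ, ← Category.assoc, sq1.w, Category.assoc, sq.w, Category.assoc]
  let ℓ := right.lift (fk ≫ τ) (q ≫ g') w
  have hℓ1 : ℓ ≫ ((Over.pullback (iA A)).map u).left = fk ≫ τ := right.lift_fst _ _ _
  have hℓ2 : ℓ ≫ pullback.fst G.hom (iA A) = q ≫ g' := right.lift_snd _ _ _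
  have big' : IsPullback fk (ℓ ≫ pullback.fst G.hom (iA A)) (τ ≫ pullback.fst H.hom (iA A))
      u.left := by
    rw [hℓ2, hτ]; exact big
  have left : IsPullback fk ℓ τ ((Over.pullback (iA A)).map u).left :=
    IsPullback.of_bot big' hℓ1.symm right
  have hopen : IsOpenMap fk := UniversallyOpen.universally_isOpenMap _ _ _ left
  have hπ : IsOpenMap π :=
    (π.isClosedEmbedding.isEmbedding.toHomeomorphOfSurjective π.surjective).isOpenMap
  intro W hW
  have e : f' '' W = π '' (fk '' (q ⁻¹' W)) := by
    rw [← Set.image_comp]
    have h1 : (π : _ → _) ∘ (fk : _ → _) = (f' : _ → _) ∘ (q : _ → _) := by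
      funext z
      simp only [Function.comp_apply]
      rw [← Scheme.Hom.comp_apply, ← Scheme.Hom.comp_apply, sq1.w]
    rw [h1, Set.image_comp, Set.image_preimage_eq _ q.surjective]
  rw [e]
  exact hπ _ (hopen _ (hW.preimage q.continuous))

theorem main3038 (G H : Over (Spec (CommRingCat.of A))) [GrpObj G] [GrpObj H]
    [LocallyOfFiniteType G.hom] [LocallyOfFiniteType H.hom]
    (u : G ⟶ H) [IsMonHom u] (hu : IsOpenMap u.left.base) : UniversallyOpen u.left := by
  haveI : LocallyOfFiniteType (Red.bc (iA A) G).hom :=
    inferInstanceAs (LocallyOfFiniteType (pullback.snd G.hom (iA A)))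
  haveI : LocallyOfFiniteType (Red.bc (iA A) H).hom :=
    inferInstanceAs (LocallyOfFiniteType (pullback.snd H.hom (iA A)))
  haveI : IsMonHom ((Over.pullback (iA A)).map u) := inferInstance
  have huk : IsOpenMap ((Over.pullback (iA A)).map u).left.base := by
    have h := left_base_eq u
    have h2 : (((Over.pullback (iA A)).map u).left.base : _ → _) =
        (fstHomeo H).symm ∘ u.left.base ∘ (fstHomeo G) := by
      rw [h]
      funext x
      simp
    rw [h2]
    exact (fstHomeo H).symm.isOpenMap.comp (hu.comp (fstHomeo G).isOpenMap)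
  haveI : UniversallyOpen ((Over.pullback (iA A)).map u).left :=
    universallyOpen_field (G := Red.bc (iA A) G) (H := Red.bc (iA A) H)
      ((Over.pullback (iA A)).map u) huk
  exact universallyOpen_of_fibre A u

end Artin

end Groth.Agent.Helper23.UOpenHom
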