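import Mathlib
set_option autoImplicit false
universe v₁ v₂ v₃ v₄ u₁ u₂ u₃ u₄
open CategoryTheory

namespace Groth.Agent.Helper23.UnitRes

/-- base change of counits along a "restriction" square. -/
theorem isIso_map_counit {𝒮 : Type u₁} [Category.{v₁} 𝒮] {𝒳 : Type u₂} [Category.{v₂} 𝒳]
    {𝒰 : Type u₃} [Category.{v₃} 𝒰] {𝒱 : Type u₄} [Category.{v₄} 𝒱]
    {F : 𝒮 ⥤ 𝒳} {G : 𝒳 ⥤ 𝒮} (adjF : F ⊣ G)
    {F' : 𝒰 ⥤ 𝒱} {G' : 𝒱 ⥤ 𝒰} (adjF' : F' ⊣ G')
    {J : 𝒮 ⥤ 𝒰} {Jr : 𝒰 ⥤ 𝒮} (adjJ : J ⊣ Jr)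
    {J' : 𝒳 ⥤ 𝒱} {Jr' : 𝒱 ⥤ 𝒳} (adjJ' : J' ⊣ Jr')
    (θ : F ⋙ J' ≅ J ⋙ F') [IsIso adjJ.counit] [IsIso adjJ'.counit]
    (H : ∀ M : 𝒳, IsIso (J.map (G.map (adjJ'.unit.app M)))) (M : 𝒳)
    (h : IsIso (adjF'.counit.app (J'.obj M))) : IsIso (J'.map (adjF.counit.app M)) := by
  let adj1 := adjF.comp adjJ'
  let adj2 := adjJ.comp adjF'
  let β := conjugateEquiv adj1 adj2 θ.inv
  haveI : IsIso β := inferInstance
  have e1 : (J ⋙ F').map (β.app (J'.obj M)) ≫ adj2.counit.app (J'.obj M) =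
      θ.inv.app _ ≫ adj1.counit.app (J'.obj M) :=
    conjugateEquiv_counit adj1 adj2 θ.inv (J'.obj M)
  have c1 : adj1.counit.app (J'.obj M) =
      J'.map (adjF.counit.app (Jr'.obj (J'.obj M))) ≫ adjJ'.counit.app (J'.obj M) :=
    Adjunction.comp_counit_app _ _ _
  have c2 : adj2.counit.app (J'.obj M) =
      F'.map (adjJ.counit.app (G'.obj (J'.obj M))) ≫ adjF'.counit.app (J'.obj M) :=
    Adjunction.comp_counit_app _ _ _
  have h2 : IsIso (adj2.counit.app (J'.obj M)) := by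
    rw [c2]; infer_instance
  have h1 : IsIso (adj1.counit.app (J'.obj M)) := by
    haveI : IsIso (θ.inv.app ((Jr' ⋙ G).obj (J'.obj M)) ≫ adj1.counit.app (J'.obj M)) := by
      rw [← e1]; infer_instance
    exact IsIso.of_isIso_comp_left (θ.inv.app _) _
  have h3 : IsIso (J'.map (adjF.counit.app (Jr'.obj (J'.obj M)))) := by
    rw [c1] at h1
    exact IsIso.of_isIso_comp_right _ (adjJ'.counit.app (J'.obj M))
  -- J'(η^{J'}_M) is iso
  have h4 : IsIso (J'.map (adjJ'.unit.app M)) := by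
    haveI : IsIso (J'.map (adjJ'.unit.app M) ≫ adjJ'.counit.app (J'.obj M)) := by
      have := adjJ'.left_triangle_components M
      erw [this]; exact IsIso.id _
    exact IsIso.of_isIso_comp_right _ (adjJ'.counit.app (J'.obj M))
  -- J'(F(G(η^{J'}_M))) is iso
  have h5 : IsIso (J'.map (F.map (G.map (adjJ'.unit.app M)))) := by
    haveI := H M
    have : IsIso ((J ⋙ F').map (G.map (adjJ'.unit.app M))) := by
      change IsIso (F'.map (J.map (G.map (adjJ'.unit.app M))))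
      infer_instance
    exact (NatIso.isIso_map_iff θ (G.map (adjJ'.unit.app M))).2 this
  have nat := adjF.counit.naturality (adjJ'.unit.app M)
  simp only [Functor.comp_map, Functor.id_map, Functor.comp_obj, Functor.id_obj] at nat
  have nat' := congrArg (fun m => J'.map m) nat
  simp only [J'.map_comp] at nat'
  haveI : IsIso (J'.map (adjF.counit.app M) ≫ J'.map (adjJ'.unit.app M)) := by
    rw [← nat']; infer_instance
  exact IsIso.of_isIso_comp_right _ (J'.map (adjJ'.unit.app M))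

end Groth.Agent.Helper23.UnitRes
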