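import Mathlib
import Groth.Agent.Lib.Helper23.UnitRes3
import Groth.Agent.Lib.Helper23.UnitRes4
set_option autoImplicit false
universe u
open CategoryTheory CategoryTheory.Limits AlgebraicGeometry Opposite TopologicalSpace

namespace Groth.Agent.Helper23.UnitRes

open Groth.Agent.Helper13

variable {X S : Scheme.{u}} (f : X ⟶ S)

theorem isIso_restrict_counit (U : S.Opens) (M : X.Modules)
    (h : IsIso ((Scheme.Modules.pullbackPushforwardAdjunction (f ∣_ U)).counit.app
      ((Scheme.Modules.restrictFunctor (f ⁻¹ᵁ U).ι).obj M))) :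
    IsIso ((Scheme.Modules.restrictFunctor (f ⁻¹ᵁ U).ι).map
      ((Scheme.Modules.pullbackPushforwardAdjunction f).counit.app M)) :=
  isIso_map_counit (Scheme.Modules.pullbackPushforwardAdjunction f)
    (Scheme.Modules.pullbackPushforwardAdjunction (f ∣_ U))
    (Scheme.Modules.restrictAdjunction U.ι) (Scheme.Modules.restrictAdjunction (f ⁻¹ᵁ U).ι)
    (Groth.Agent.Helper23.PicInj.restrictPullbackIso f U)
    (isIso_restrict_pushforward_unit f U) M h

theorem isIso_counit_structureModule (hf : ∀ U : S.Opens, Function.Bijective (f.app U)) :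
    IsIso ((Scheme.Modules.pullbackPushforwardAdjunction f).counit.app (Coh.structureModule X)) := by
  let adj := Scheme.Modules.pullbackPushforwardAdjunction f
  haveI := isIso_unit_structureModule f hf
  have h1 : IsIso (adj.counit.app ((Scheme.Modules.pullback f).obj (Coh.structureModule S))) := by
    haveI : IsIso ((Scheme.Modules.pullback f).map (adj.unit.app (Coh.structureModule S)) ≫
        adj.counit.app ((Scheme.Modules.pullback f).obj (Coh.structureModule S))) := by
      have := adj.left_triangle_components (Coh.structureModule S)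
      erw [this]; exact IsIso.id _
    exact IsIso.of_isIso_comp_left
      ((Scheme.Modules.pullback f).map (adj.unit.app (Coh.structureModule S))) _
  exact (NatTrans.isIso_app_iff_of_iso adj.counit (PicLoc.pullbackStructureIso f)).1 h1

theorem isIso_counit_of_locally_trivial (hf : ∀ U : S.Opens, Function.Bijective (f.app U))
    (L : X.Modules)
    (hloc : ∀ s : S, ∃ U : S.Opens, s ∈ U ∧
      Nonempty ((Scheme.Modules.pullback (f ⁻¹ᵁ U).ι).obj L ≅ Coh.structureModule (f ⁻¹ᵁ U))) :
    IsIso ((Scheme.Modules.pullbackPushforwardAdjunction f).counit.app L) := by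
  apply LocFree.isIso_of_stalk_bijective
  intro x
  obtain ⟨U, hU, ⟨e⟩⟩ := hloc (f x)
  suffices h : IsIso ((Scheme.Modules.restrictFunctor (f ⁻¹ᵁ U).ι).map
      ((Scheme.Modules.pullbackPushforwardAdjunction f).counit.app L)) from
    (GenLoc.isIso_restrict_iff _ (f ⁻¹ᵁ U)).1 h x hU
  apply isIso_restrict_counit f U L
  let e' : (Scheme.Modules.restrictFunctor (f ⁻¹ᵁ U).ι).obj L ≅
      Coh.structureModule (↑(f ⁻¹ᵁ U) : Scheme.{u}) :=
    (Scheme.Modules.restrictFunctorIsoPullback (f ⁻¹ᵁ U).ι).app L ≪≫ e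
  haveI := isIso_counit_structureModule (f ∣_ U) (bijective_morphismRestrict_app f hf U)
  exact (NatTrans.isIso_app_iff_of_iso
    (Scheme.Modules.pullbackPushforwardAdjunction (f ∣_ U)).counit e').2 inferInstance

theorem isInvertible_pushforward (hf : ∀ U : S.Opens, Function.Bijective (f.app U))
    (L : X.Modules)
    (hloc : ∀ s : S, ∃ U : S.Opens, s ∈ U ∧
      Nonempty ((Scheme.Modules.pullback (f ⁻¹ᵁ U).ι).obj L ≅ Coh.structureModule (f ⁻¹ᵁ U))) :
    PicF.IsInvertible ((Scheme.Modules.pushforward f).obj L) := by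
  intro s
  obtain ⟨U, hU, ⟨e⟩⟩ := hloc s
  refine ⟨U, hU, ⟨?_⟩⟩
  let Q := (Scheme.Modules.restrictFunctor (f ⁻¹ᵁ U).ι).obj L
  let i1 := @asIso _ _ _ _ _ (isIso_restrict_pushforward_unit f U L)
  let i2 : (Scheme.Modules.pushforward f).obj ((Scheme.Modules.pushforward (f ⁻¹ᵁ U).ι).obj Q) ≅
      (Scheme.Modules.pushforward U.ι).obj ((Scheme.Modules.pushforward (f ∣_ U)).obj Q) :=
    (Scheme.Modules.pushforwardComp (f ⁻¹ᵁ U).ι f).app Q ≪≫
    (Scheme.Modules.pushforwardCongr (morphismRestrict_ι f U).symm).app Q ≪≫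
    ((Scheme.Modules.pushforwardComp (f ∣_ U) U.ι).symm).app Q
  let i3 := asIso ((Scheme.Modules.restrictAdjunction U.ι).counit.app
    ((Scheme.Modules.pushforward (f ∣_ U)).obj Q))
  let i4 := (Scheme.Modules.pushforward (f ∣_ U)).mapIso
    ((Scheme.Modules.restrictFunctorIsoPullback (f ⁻¹ᵁ U).ι).app L ≪≫ e)
  haveI := PicInj.isIso_uHom (f ∣_ U) (bijective_morphismRestrict_app f hf U)
  let i5 := (asIso (PicInj.uHom (f ∣_ U))).symm
  exact i1 ≪≫ (Scheme.Modules.restrictFunctor U.ι).mapIso i2 ≪≫ i3 ≪≫ i4 ≪≫ i5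

theorem exists_descent_invertible (hf : ∀ U : S.Opens, Function.Bijective (f.app U))
    (L : X.Modules)
    (hloc : ∀ s : S, ∃ U : S.Opens, s ∈ U ∧
      Nonempty ((Scheme.Modules.pullback (f ⁻¹ᵁ U).ι).obj L ≅ Coh.structureModule (f ⁻¹ᵁ U))) :
    ∃ N : S.Modules, PicF.IsInvertible N ∧ Nonempty (L ≅ (Scheme.Modules.pullback f).obj N) := by
  haveI := isIso_counit_of_locally_trivial f hf L hloc
  exact ⟨(Scheme.Modules.pushforward f).obj L, isInvertible_pushforward f hf L hloc,
    ⟨(asIso ((Scheme.Modules.pullbackPushforwardAdjunction f).counit.app L)).symm⟩⟩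

end Groth.Agent.Helper23.UnitRes
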