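import Mathlib
import Groth.Agent.Lib.Helper23.UnitRes5
set_option autoImplicit false
universe u
open CategoryTheory CategoryTheory.Limits AlgebraicGeometry Opposite TopologicalSpace

namespace Groth.Agent.Helper23.UnitRes

open Groth.Agent.Helper13

variable {X S : Scheme.{u}} (f : X ⟶ S)

theorem isFinLocFree_of_iso {M M' : S.Modules} (e : M ≅ M') (h : FlatMod.IsFinLocFree M) :
    FlatMod.IsFinLocFree M' := by
  intro s
  obtain ⟨U, n, hs, ⟨i⟩⟩ := h s
  exact ⟨U, n, hs, ⟨(Scheme.Modules.restrictFunctor U.ι).mapIso e.symm ≪≫ i⟩⟩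

theorem descent_iff (hf : ∀ U : S.Opens, Function.Bijective (f.app U)) (E : X.Modules) :
    (∃ M : S.Modules, FlatMod.IsFinLocFree M ∧ Nonempty (E ≅ (Scheme.Modules.pullback f).obj M)) ↔
      (FlatMod.IsFinLocFree ((Scheme.Modules.pushforward f).obj E) ∧
        IsIso ((Scheme.Modules.pullbackPushforwardAdjunction f).counit.app E)) := by
  let adj := Scheme.Modules.pullbackPushforwardAdjunction f
  constructor
  · rintro ⟨M, hM, ⟨e⟩⟩
    haveI := isIso_unit_of_isFinLocFree f hf M hM
    refine ⟨?_, ?_⟩
    · exact isFinLocFree_of_iso (asIso (adj.unit.app M) ≪≫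
        (Scheme.Modules.pushforward f).mapIso e.symm) hM
    · have h1 : IsIso (adj.counit.app ((Scheme.Modules.pullback f).obj M)) := by
        haveI : IsIso ((Scheme.Modules.pullback f).map (adj.unit.app M) ≫
            adj.counit.app ((Scheme.Modules.pullback f).obj M)) := by
          have := adj.left_triangle_components M
          erw [this]; exact IsIso.id _
        exact IsIso.of_isIso_comp_left ((Scheme.Modules.pullback f).map (adj.unit.app M)) _
      exact (NatTrans.isIso_app_iff_of_iso adj.counit e).2 h1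
  · rintro ⟨h1, h2⟩
    exact ⟨_, h1, ⟨(asIso (adj.counit.app E)).symm⟩⟩

end Groth.Agent.Helper23.UnitRes
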