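import Mathlib
import Groth.Prelude.Def_Versch
import Groth.Prelude.Def_SGA3b
import Mathlib.RingTheory.HopfAlgebra.TensorProduct

/-!
# Verschiebung via dual bases (helper23)
-/

set_option autoImplicit false
set_option linter.unusedSectionVars false
universe u v
open Versch TensorProduct

namespace Groth.Agent.Helper23.VerschLib


section aux

theorem charP_of_cast_eq_zero (p : ℕ) [Fact p.Prime] (W : Type*) [Ring W] [Nontrivial W]
    (h : (p : W) = 0) : CharP W p := by
  obtain ⟨q, hq⟩ := CharP.exists W
  have hdvd : q ∣ p := (CharP.cast_eq_zero_iff W q p).1 h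
  have hq1 : q ≠ 1 := CharP.char_ne_one W q
  have : q = p := ((Nat.dvd_prime (Fact.out : p.Prime)).1 hdvd).resolve_left hq1
  exact this ▸ hq

theorem sum_pow_char' (p : ℕ) [Fact p.Prime] (W : Type*) [CommRing W] (h : (p : W) = 0)
    {ι : Type*} (s : Finset ι) (f : ι → W) : (∑ i ∈ s, f i) ^ p = ∑ i ∈ s, f i ^ p := by
  by_cases hW : Subsingleton W
  · exact Subsingleton.elim _ _
  · haveI : Nontrivial W := not_subsingleton_iff_nontrivial.1 hW
    haveI := charP_of_cast_eq_zero p W h
    exact sum_pow_char p s f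

variable (R : Type u) [CommRing R] (A : Type v) [CommRing A] [Algebra R A]
  [Module.Finite R A] [Module.Projective R A]

theorem exists_dual_basis : ∃ (n : ℕ) (e : Fin n → A) (φ : Fin n → (A →ₗ[R] R)),
    ∀ a : A, a = ∑ i, φ i a • e i := by
  obtain ⟨n, f, g, -, -, hfg⟩ := Module.Finite.exists_comp_eq_id_of_projective R A
  refine ⟨n, fun i => f (Pi.single i 1), fun i => LinearMap.proj i ∘ₗ g, fun a => ?_⟩
  have h1 : f (g a) = a := by
    have := congrArg (fun h => h a) hfg
    simpa using this
  have h2 : g a = ∑ i, (g a i) • (Pi.single i 1 : Fin n → R) := by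
    ext j
    simp [Finset.sum_apply, Pi.single_apply]
  conv_lhs => rw [← h1, h2]
  simp [map_sum]

end aux

section main

variable (p : ℕ) [Fact p.Prime] (R : Type u) [CommRing R] [CharP R p]
  (A : Type v) [CommRing A] [HopfAlgebra R A] [Coalgebra.IsCocomm R A]
  [Module.Finite R A] [Module.Projective R A]

omit [Fact p.Prime] [CharP R p] [Coalgebra.IsCocomm R A] [Module.Finite R A]
  [Module.Projective R A] in
theorem dual_expand {n : ℕ} (e : Fin n → A) (φ : Fin n → (A →ₗ[R] R))
    (he : ∀ a : A, a = ∑ i, φ i a • e i) (x : CartDual.D R A) :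
    x = ∑ i, (x (e i)) • (WithConv.toConv (φ i) : CartDual.D R A) := by
  apply WithConv.ofConv_injective
  apply LinearMap.ext
  intro a
  conv_lhs => rw [he a]
  simp [map_sum, CartDual.coe_apply, mul_comm]

theorem dual_pow_expand {n : ℕ} (e : Fin n → A) (φ : Fin n → (A →ₗ[R] R))
    (he : ∀ a : A, a = ∑ i, φ i a • e i) (x : CartDual.D R A) :
    x ^ p = ∑ i, (x (e i)) ^ p • (WithConv.toConv (φ i) : CartDual.D R A) ^ p := by
  conv_lhs => rw [dual_expand R A e φ he x]
  rw [sum_pow_char' p (CartDual.D R A) (CharP.cast_eq_zero _ p)]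
  refine Finset.sum_congr rfl fun i _ => ?_
  rw [smul_pow]

theorem v_eq {n : ℕ} (e : Fin n → A) (φ : Fin n → (A →ₗ[R] R))
    (he : ∀ a : A, a = ∑ i, φ i a • e i) (v : A →+* FrobAlg.BaseChange p R A)
    (hv : Versch.IsVerschiebung p R A v) (a : A) :
    v a = ∑ i, e i ⊗ₜ[R]
      FrobAlg.toTwist p R (((WithConv.toConv (φ i) : CartDual.D R A) ^ p) a) := by
  rw [isVerschiebung_iff] at hv
  apply evTw_injective p R A
  intro x
  rw [hv a x, map_sum]
  simp only [evTw_tmul']
  rw [dual_pow_expand p R A e φ he x]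
  simp [CartDual.coe_apply, map_sum, map_mul]

omit [Coalgebra.IsCocomm R A] [Module.Finite R A] [Module.Projective R A] in
theorem relFrob_tmul [CharP A p] (b : A) (s : FrobAlg.Twist p R) :
    FrobAlg.relFrob p R A (b ⊗ₜ s) = b ^ p * algebraMap R A ((FrobAlg.toTwist p R).symm s) := by
  simp [FrobAlg.relFrob, FrobAlg.frobHom, FrobAlg.inclHom, Algebra.TensorProduct.lift_tmul]
  rfl

/-- the map `D → Hom(A, A)` -/
noncomputable def liftD (x : CartDual.D R A) : WithConv (A →ₗ[R] A) :=
  WithConv.toConv ((Algebra.linearMap R A) ∘ₗ x.ofConv)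

omit [Fact p.Prime] [CharP R p] [Coalgebra.IsCocomm R A] [Module.Finite R A]
  [Module.Projective R A] in
theorem liftD_mul (x y : CartDual.D R A) : liftD R A (x * y) = liftD R A x * liftD R A y := by
  apply WithConv.ofConv_injective
  exact LinearMap.algHom_comp_convMul_distrib (Algebra.ofId R A) x y

omit [Fact p.Prime] [CharP R p] [Coalgebra.IsCocomm R A] [Module.Finite R A]
  [Module.Projective R A] in
theorem liftD_one : liftD R A 1 = 1 := by
  apply WithConv.ofConv_injective
  apply LinearMap.ext
  intro a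
  simp [liftD, LinearMap.convOne_def]

omit [Fact p.Prime] [CharP R p] [Coalgebra.IsCocomm R A] [Module.Finite R A]
  [Module.Projective R A] in
theorem liftD_pow (x : CartDual.D R A) (k : ℕ) : liftD R A (x ^ k) = liftD R A x ^ k := by
  induction k with
  | zero => rw [pow_zero, pow_zero, liftD_one]
  | succ k ih => rw [pow_succ, pow_succ, liftD_mul, ih]

omit [Fact p.Prime] [CharP R p] [Coalgebra.IsCocomm R A] [Module.Finite R A]
  [Module.Projective R A] in
theorem id_expand {n : ℕ} (e : Fin n → A) (φ : Fin n → (A →ₗ[R] R))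
    (he : ∀ a : A, a = ∑ i, φ i a • e i) :
    (WithConv.toConv (LinearMap.id : A →ₗ[R] A)) =
      ∑ i, e i • liftD R A (WithConv.toConv (φ i)) := by
  apply WithConv.ofConv_injective
  apply LinearMap.ext
  intro a
  conv_lhs => rw [WithConv.ofConv_toConv, LinearMap.id_apply, he a]
  simp only [liftD, WithConv.ofConv_sum, WithConv.ofConv_smul, WithConv.ofConv_toConv,
    LinearMap.sum_apply, LinearMap.smul_apply, LinearMap.comp_apply, Algebra.linearMap_apply,
    smul_eq_mul]
  refine Finset.sum_congr rfl fun i _ => ?_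
  rw [Algebra.smul_def, mul_comm]

end main

section main2

variable (p : ℕ) [Fact p.Prime] (R : Type u) [CommRing R] [CharP R p]
  (A : Type u) [CommRing A] [HopfAlgebra R A] [Coalgebra.IsCocomm R A]
  [Module.Finite R A] [Module.Projective R A]

theorem relFrob_comp_v [CharP A p] (v : A →+* FrobAlg.BaseChange p R A)
    (hv : Versch.IsVerschiebung p R A v) :
    (FrobAlg.relFrob p R A).comp v = (SGA3b.powConv R A p).toRingHom := by
  obtain ⟨n, e, φ, he⟩ := exists_dual_basis R A
  apply RingHom.ext
  intro a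
  rw [RingHom.comp_apply, v_eq p R A e φ he v hv a, map_sum]
  simp only [relFrob_tmul, RingEquiv.symm_apply_apply]
  have hpow : WithConv.toConv (SGA3b.powConv R A p).toLinearMap =
      (WithConv.toConv (LinearMap.id : A →ₗ[R] A)) ^ p := by
    unfold SGA3b.powConv
    exact AlgHom.toLinearMap_convPow (WithConv.toConv (AlgHom.id R A)) p
  have h1 : (SGA3b.powConv R A p).toRingHom a =
      (WithConv.toConv (SGA3b.powConv R A p).toLinearMap) a := rfl
  have hp0 : ((p : ℕ) : WithConv (A →ₗ[R] A)) = 0 := by
    rw [← map_natCast (algebraMap R (WithConv (A →ₗ[R] A))) p, CharP.cast_eq_zero, map_zero]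
  rw [h1, hpow, id_expand R A e φ he, sum_pow_char' p _ hp0]
  simp only [smul_pow, ← liftD_pow]
  simp only [liftD, WithConv.ofConv_sum, WithConv.ofConv_smul, WithConv.ofConv_toConv,
    LinearMap.sum_apply, LinearMap.smul_apply, LinearMap.comp_apply, Algebra.linearMap_apply,
    smul_eq_mul]

end main2


section aux2

variable (p : ℕ) [Fact p.Prime] (R : Type u) [CommRing R] [CharP R p]
  (A : Type u) [CommRing A] [HopfAlgebra R A] [Coalgebra.IsCocomm R A]
  [Module.Finite R A] [Module.Projective R A]

theorem powConv_apply {n : ℕ} (e : Fin n → A) (φ : Fin n → (A →ₗ[R] R))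
    (he : ∀ a : A, a = ∑ i, φ i a • e i) (a : A) :
    SGA3b.powConv R A p a = ∑ i, e i ^ p *
      algebraMap R A (((WithConv.toConv (φ i) : CartDual.D R A) ^ p) a) := by
  have hpow : WithConv.toConv (SGA3b.powConv R A p).toLinearMap =
      (WithConv.toConv (LinearMap.id : A →ₗ[R] A)) ^ p := by
    unfold SGA3b.powConv
    exact AlgHom.toLinearMap_convPow (WithConv.toConv (AlgHom.id R A)) p
  have h1 : (SGA3b.powConv R A p) a =
      (WithConv.toConv (SGA3b.powConv R A p).toLinearMap) a := rfl
  have hp0 : ((p : ℕ) : WithConv (A →ₗ[R] A)) = 0 := by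
    rw [← map_natCast (algebraMap R (WithConv (A →ₗ[R] A))) p, CharP.cast_eq_zero, map_zero]
  rw [h1, hpow, id_expand R A e φ he, sum_pow_char' p _ hp0]
  simp only [smul_pow, ← liftD_pow]
  simp only [liftD, WithConv.ofConv_sum, WithConv.ofConv_smul, WithConv.ofConv_toConv,
    LinearMap.sum_apply, LinearMap.smul_apply, LinearMap.comp_apply, Algebra.linearMap_apply,
    smul_eq_mul]

theorem v_algebraMap (v : A →+* FrobAlg.BaseChange p R A)
    (hv : Versch.IsVerschiebung p R A v) (r : R) :
    v (algebraMap R A r) = (1 : A) ⊗ₜ[R] FrobAlg.toTwist p R r := by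
  rw [isVerschiebung_iff] at hv
  apply evTw_injective p R A
  intro x
  rw [hv _ x, evTw_tmul']
  have h1 : (x ^ p) (algebraMap R A r) = r * (x 1) ^ p := by
    rw [Algebra.algebraMap_eq_smul_one, CartDual.coe_apply, map_smul, smul_eq_mul]
    congr 1
    have := CartDual.counit_mul' R A
    have hpow : ∀ k : ℕ, CartDual.counit R A (x ^ k) = (CartDual.counit R A x) ^ k := by
      intro k
      induction k with
      | zero => rw [pow_zero, pow_zero, CartDual.counit_one']
      | succ k ih => rw [pow_succ, pow_succ, CartDual.counit_mul', ih]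
    exact hpow p
  rw [h1, map_mul, mul_comm, map_pow]

end aux2

section bc

variable (R : Type u) [CommRing R] (T : Type u) [CommRing T] [Algebra R T]
  (A : Type u) [CommRing A] [Bialgebra R A]

theorem baseChange_convMul (f g : WithConv (A →ₗ[R] A)) :
    (WithConv.toConv (f.ofConv.baseChange T) : WithConv (T ⊗[R] A →ₗ[T] T ⊗[R] A)) *
      WithConv.toConv (g.ofConv.baseChange T) = WithConv.toConv ((f * g).ofConv.baseChange T) := by
  apply WithConv.ofConv_injective
  apply TensorProduct.AlgebraTensorModule.ext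
  intro s a
  rw [LinearMap.convMul_apply, WithConv.ofConv_toConv, LinearMap.baseChange_tmul,
    LinearMap.convMul_apply]
  rw [TensorProduct.comul_tmul, CommSemiring.comul_apply]
  have h := (Coalgebra.Repr.arbitrary R a).eq
  rw [← h]
  simp only [TensorProduct.tmul_sum, map_sum]
  refine Finset.sum_congr rfl fun i _ => ?_
  simp

theorem baseChange_convOne :
    (1 : WithConv (T ⊗[R] A →ₗ[T] T ⊗[R] A)) =
      WithConv.toConv ((1 : WithConv (A →ₗ[R] A)).ofConv.baseChange T) := by
  apply WithConv.ofConv_injective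
  apply TensorProduct.AlgebraTensorModule.ext
  intro s a
  simp [LinearMap.convOne_def, Algebra.algebraMap_eq_smul_one, TensorProduct.smul_tmul',
    Algebra.TensorProduct.one_def]

theorem baseChange_convPow (f : WithConv (A →ₗ[R] A)) (n : ℕ) :
    (WithConv.toConv (f.ofConv.baseChange T) : WithConv (T ⊗[R] A →ₗ[T] T ⊗[R] A)) ^ n =
      WithConv.toConv ((f ^ n).ofConv.baseChange T) := by
  induction n with
  | zero => rw [pow_zero, pow_zero, baseChange_convOne]
  | succ n ih => rw [pow_succ, pow_succ, ih, baseChange_convMul]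

end bc

section bc2

variable (R : Type u) [CommRing R] (T : Type u) [CommRing T] [Algebra R T]
  (A : Type u) [CommRing A] [HopfAlgebra R A]

theorem powConv_baseChange (n : ℕ) (s : T) (a : A) :
    SGA3b.powConv T (T ⊗[R] A) n (s ⊗ₜ[R] a) = s ⊗ₜ[R] SGA3b.powConv R A n a := by
  have hpowT : WithConv.toConv (SGA3b.powConv T (T ⊗[R] A) n).toLinearMap =
      (WithConv.toConv (LinearMap.id : T ⊗[R] A →ₗ[T] T ⊗[R] A)) ^ n := by
    unfold SGA3b.powConv
    exact AlgHom.toLinearMap_convPow (WithConv.toConv (AlgHom.id T (T ⊗[R] A))) n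
  have hpowR : WithConv.toConv (SGA3b.powConv R A n).toLinearMap =
      (WithConv.toConv (LinearMap.id : A →ₗ[R] A)) ^ n := by
    unfold SGA3b.powConv
    exact AlgHom.toLinearMap_convPow (WithConv.toConv (AlgHom.id R A)) n
  have hid : (LinearMap.id : T ⊗[R] A →ₗ[T] T ⊗[R] A) =
      (WithConv.toConv (LinearMap.id : A →ₗ[R] A)).ofConv.baseChange T := by
    rw [WithConv.ofConv_toConv, LinearMap.baseChange_id]
  have h1 : SGA3b.powConv T (T ⊗[R] A) n (s ⊗ₜ[R] a) =
      (WithConv.toConv (SGA3b.powConv T (T ⊗[R] A) n).toLinearMap) (s ⊗ₜ[R] a) := rfl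
  rw [h1, hpowT, hid, baseChange_convPow, ← hpowR]
  rfl

end bc2

section etale
variable (p : ℕ) [Fact p.Prime] (k : Type u) [Field k] [CharP k p] (D : Type v) [CommRing D]
  [Algebra k D] [Module.Finite k D]

omit [Module.Finite k D] in
theorem kd_eq_zero (h : Submodule.span k (Set.range fun x : D => x ^ p) = ⊤) (x : D) :
    KaehlerDifferential.D k D x = 0 := by
  have hx : x ∈ Submodule.span k (Set.range fun x : D => x ^ p) := by rw [h]; trivial
  induction hx using Submodule.span_induction with
  | mem y hy =>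
    obtain ⟨z, rfl⟩ := hy
    rw [Derivation.leibniz_pow]
    have hp0 : ((p : ℕ) : D) = 0 := by
      rw [← map_natCast (algebraMap k D) p, CharP.cast_eq_zero, map_zero]
    rw [← Nat.cast_smul_eq_nsmul D, hp0, zero_smul]
  | zero => rw [map_zero]
  | add a b _ _ ha hb => rw [map_add, ha, hb, add_zero]
  | smul c a _ ha => rw [Derivation.map_smul, ha, smul_zero]

theorem etale_of_span_eq_top (h : Submodule.span k (Set.range fun x : D => x ^ p) = ⊤) :
    Algebra.Etale k D := by
  haveI : Algebra.FormallyUnramified k D := by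
    constructor
    rw [← Submodule.subsingleton_iff (R := D), ← subsingleton_iff_bot_eq_top,
      ← KaehlerDifferential.span_range_derivation k D, eq_comm, Submodule.span_eq_bot]
    rintro _ ⟨x, rfl⟩
    exact kd_eq_zero p k D h x
  haveI : Algebra.FormallyEtale k D := Algebra.FormallyEtale.of_formallyUnramified_of_field k D
  exact { finitePresentation := Algebra.FinitePresentation.of_finiteType.mp inferInstance }

omit [Module.Finite k D] in
theorem span_pow_eq_top_of_isSeparable (L : Type v) [Field L] [Algebra k L]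
    [Algebra.IsSeparable k L] :
    Submodule.span k (Set.range fun x : L => x ^ p) = ⊤ := by
  haveI : ExpChar k p := ExpChar.prime (Fact.out : p.Prime)
  have h1 := IntermediateField.adjoin_eq_adjoin_pow_expChar_of_isSeparable' k L Set.univ p
  rw [IntermediateField.adjoin_univ, Set.image_univ] at h1
  have h2 := congrArg IntermediateField.toSubalgebra h1
  haveI : Algebra.IsAlgebraic k L := Algebra.IsSeparable.isAlgebraic k L
  rw [IntermediateField.adjoin_toSubalgebra] at h2
  have h3 := congrArg Subalgebra.toSubmodule h2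
  rw [Algebra.adjoin_eq_span] at h3
  have h4 : (Submonoid.closure (Set.range fun x : L => x ^ p) : Set L) =
      Set.range fun x : L => x ^ p := by
    have : (Set.range fun x : L => x ^ p) = ((MonoidHom.mrange (powMonoidHom p : L →* L)) : Set L) := by
      ext y
      simp [MonoidHom.mem_mrange]
    rw [this, Submonoid.closure_eq]
  rw [h4] at h3
  rw [← h3]
  rfl

theorem span_eq_top_of_etale [Algebra.Etale k D] :
    Submodule.span k (Set.range fun x : D => x ^ p) = ⊤ := by
  classical
  haveI : Algebra.FormallyEtale k D := Algebra.Etale.formallyEtale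
  haveI : IsReduced D := Algebra.FormallyUnramified.isReduced_of_field k D
  haveI : IsArtinianRing D := .of_finite k D
  let Φ := (IsArtinianRing.equivPi D).restrictScalars k
  haveI : Fintype (MaximalSpectrum D) := Fintype.ofFinite _
  rw [eq_top_iff]
  intro x _
  have hx : x = ∑ m, Φ.symm (Pi.single m (Φ x m)) := by
    rw [← map_sum, Finset.univ_sum_single, AlgEquiv.symm_apply_apply]
  rw [hx]
  refine Submodule.sum_mem _ fun m _ => ?_
  letI := Ideal.Quotient.field m.asIdeal
  have hm : Φ x m ∈ Submodule.span k (Set.range fun z : D ⧸ m.asIdeal => z ^ p) := by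
    rw [span_pow_eq_top_of_isSeparable p k (D ⧸ m.asIdeal)]
    trivial
  let f : (D ⧸ m.asIdeal) →ₗ[k] D :=
    Φ.symm.toLinearMap ∘ₗ (LinearMap.single k (fun m : MaximalSpectrum D => D ⧸ m.asIdeal) m)
  have h1 := Submodule.apply_mem_span_image_of_mem_span f hm
  refine Submodule.span_mono ?_ h1
  rintro _ ⟨_, ⟨z, rfl⟩, rfl⟩
  refine ⟨Φ.symm (Pi.single m z), ?_⟩
  change (Φ.symm (Pi.single m z)) ^ p = Φ.symm (Pi.single m (z ^ p))
  rw [← map_pow]
  congr 1
  ext j
  by_cases hj : j = m
  · subst hj
    simp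
  · simp [Pi.single_eq_of_ne hj, (Fact.out : p.Prime).ne_zero]

end etale

end Groth.Agent.Helper23.VerschLib
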