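import Mathlib
import Groth.Prelude.Def_WeilCoh
import Groth.Agent.Lib.Helper23.WeilLib
import Groth.Agent.Lib.Helper23.WeilPt

/-!
# The class of a graph in a Weil cohomology theory (helper23)
-/

set_option autoImplicit false
set_option linter.unusedSectionVars false
universe u v w
open CategoryTheory CategoryTheory.Limits AlgebraicGeometry TensorProduct

namespace Groth.Agent.Helper23.WeilGraph

open WeilCoh Groth.Agent.Helper23

/-- a section of a morphism of schemes has residue degree one everywhere -/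
theorem residueDegree_section {X P : Scheme.{u}} (j : X ⟶ P) (p : P ⟶ X) (h : j ≫ p = 𝟙 X) (x : X) :
    j.residueDegree x = 1 := by
  apply WeilPt.residueDegree_eq_one_of_bijective
  refine ⟨(j.residueFieldMap x).hom.injective, ?_⟩
  have h1 := Scheme.Hom.residueFieldMap_congr h x
  have h2 := Scheme.residueFieldMap_comp j p x
  have h3 : p.residueFieldMap (j x) ≫ j.residueFieldMap x =
      (X.residueFieldCongr (show (j ≫ p) x = (𝟙 X : X ⟶ X) x by rw [h])).hom ≫
        Scheme.Hom.residueFieldMap (𝟙 X) x := h2.symm.trans h1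
  rw [Scheme.residueFieldMap_id] at h3
  intro z
  have hiso : IsIso (X.residueFieldCongr (show (j ≫ p) x = (𝟙 X : X ⟶ X) x by rw [h])).hom :=
    inferInstance
  have hsurj := ((ConcreteCategory.isIso_iff_bijective _).mp hiso).2
  obtain ⟨c, hc⟩ := hsurj z
  refine ⟨(p.residueFieldMap (j x)).hom c, ?_⟩
  have h4 := congrArg (fun φ => φ.hom c) h3
  simp only [CommRingCat.hom_comp, RingHom.comp_apply, CommRingCat.hom_id, RingHom.id_apply] at h4
  rw [← hc]
  exact h4

section Theory
variable {k : Type u} [Field k] [IsAlgClosed k] {K : Type v} [Field K] [CharZero K]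
  (T : WeilCoh.Theory k K)

theorem sm_comp {X Y Z : WeilCoh.Var k} (f : X ⟶ Y) (g : Y ⟶ Z) :
    WeilCoh.sm (f ≫ g) = WeilCoh.sm f ≫ WeilCoh.sm g := rfl

theorem sm_id (X : WeilCoh.Var k) : WeilCoh.sm (𝟙 X) = 𝟙 X.obj.left := rfl

/-- pairing against the class of a graph is pulling back along the section -/
theorem tr_graph {X P : WeilCoh.Var k} (j : X ⟶ P) (p : P ⟶ X) (hjp : j ≫ p = 𝟙 X)
    (c : T.H P) (hc : c ∈ T.gr P (2 * (dim X.obj.left : ℤ))) :
    T.tr P (T.cl P (WeilCoh.sm j (genericPoint ↥X.obj.left)) * c) = T.tr X (T.pull j c) := by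
  have h := T.cl_push j (genericPoint ↥X.obj.left) c (by
    rw [WeilPt.pdim_genericPoint]; exact hc)
  rw [WeilPt.cl_genericPoint, one_mul] at h
  have hdeg : (WeilCoh.sm j).residueDegree (genericPoint ↥X.obj.left) = 1 :=
    residueDegree_section (WeilCoh.sm j) (WeilCoh.sm p) (by rw [← sm_comp, hjp, sm_id]) _
  rw [hdeg, Nat.cast_one, one_mul] at h
  exact h.symm

/-- every class is a sum of homogeneous ones: induction principle -/
theorem homog_induction (X : WeilCoh.Var k) (motive : T.H X → Prop)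
    (mem : ∀ (i : ℤ) (x : T.H X), x ∈ T.gr X i → motive x) (zero : motive 0)
    (add : ∀ x y, motive x → motive y → motive (x + y)) (x : T.H X) : motive x := by
  have htop : (⨆ i, T.gr X i) = ⊤ := (T.decomp X).submodule_iSup_eq_top
  have hx : x ∈ ⨆ i, T.gr X i := by rw [htop]; trivial
  exact Submodule.iSup_induction (T.gr X) (motive := motive) hx mem zero add

theorem kunnethMap_tmul {X Y P : WeilCoh.Var k} (p : P ⟶ X) (q : P ⟶ Y) (a : T.H X) (b : T.H Y) :
    kunnethMap K (T.pull p) (T.pull q) (a ⊗ₜ[K] b) = T.pull p a * T.pull q b := rfl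

/-- a linear functional-type identity on `H(P)` can be checked on products of homogeneous classes -/
theorem tr_eq_of_kunneth {X Y P : WeilCoh.Var k} (p : P ⟶ X) (q : P ⟶ Y) (hP : IsProd p q)
    (u v : T.H P)
    (h : ∀ (s t : ℤ) (a : T.H X) (b : T.H Y), a ∈ T.gr X s → b ∈ T.gr Y t →
      T.tr P (u * (T.pull p a * T.pull q b)) = T.tr P (v * (T.pull p a * T.pull q b)))
    (c : T.H P) : T.tr P (u * c) = T.tr P (v * c) := by
  obtain ⟨z, rfl⟩ := (T.kunneth p q hP).2 c
  induction z using TensorProduct.induction_on with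
  | zero => simp
  | add z₁ z₂ h₁ h₂ => rw [map_add, mul_add, mul_add, map_add, map_add, h₁, h₂]
  | tmul a b =>
    rw [kunnethMap_tmul]
    refine homog_induction T X (fun a => T.tr P (u * (T.pull p a * T.pull q b)) =
      T.tr P (v * (T.pull p a * T.pull q b))) ?_ ?_ ?_ a
    · intro s a ha
      refine homog_induction T Y (fun b => T.tr P (u * (T.pull p a * T.pull q b)) =
        T.tr P (v * (T.pull p a * T.pull q b))) ?_ ?_ ?_ b
      · intro t b hb
        exact h s t a b ha hb
      · simp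
      · intro x y hx hy
        simp only [map_add, mul_add, hx, hy]
    · simp
    · intro x y hx hy
      simp only [map_add, mul_add, add_mul, hx, hy]

/-- two classes of the same degree on a product agree if they pair equally with all products of
homogeneous classes -/
theorem eq_of_kunneth {X Y P : WeilCoh.Var k} (p : P ⟶ X) (q : P ⟶ Y) (hP : IsProd p q)
    (m : ℤ) (u v : T.H P) (hu : u ∈ T.gr P m) (hv : v ∈ T.gr P m)
    (h : ∀ (s t : ℤ) (a : T.H X) (b : T.H Y), a ∈ T.gr X s → b ∈ T.gr Y t →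
      T.tr P (u * (T.pull p a * T.pull q b)) = T.tr P (v * (T.pull p a * T.pull q b))) : u = v :=
  WeilLib.eq_of_tr_mul_eq T m u v hu hv (fun c _ => tr_eq_of_kunneth T p q hP u v h c)

/-- the class of the graph of a morphism `X ⟶ Y` in `X × Y` has degree `2 dim Y` -/
theorem cl_graph_mem {X Y P : WeilCoh.Var k} (p : P ⟶ X) (q : P ⟶ Y) (hP : IsProd p q)
    (j : X ⟶ P) (hjp : j ≫ p = 𝟙 X) :
    T.cl P (WeilCoh.sm j (genericPoint ↥X.obj.left)) ∈ T.gr P (2 * (dim Y.obj.left : ℤ)) ∧
      (codim P.obj.left (WeilCoh.sm j (genericPoint ↥X.obj.left)) : ℤ) = dim Y.obj.left := by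
  have hmem := T.cl_mem P (WeilCoh.sm j (genericPoint ↥X.obj.left))
  obtain ⟨a, ha, hta⟩ := WeilLib.exists_top_tr_one T X
  have h1 := tr_graph T j p hjp (T.pull p a) (T.pull_mem p _ a ha)
  have h2 : T.pull j (T.pull p a) = a := by
    have := T.pull_comp j p
    rw [hjp, T.pull_id] at this
    have h3 := congrArg (fun φ : T.H X →ₐ[K] T.H X => φ a) this
    exact h3.symm
  rw [h2, hta] at h1
  have hdim := WeilLib.dim_prod T p q hP
  have hcod : (codim P.obj.left (WeilCoh.sm j (genericPoint ↥X.obj.left)) : ℤ) = dim Y.obj.left := by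
    by_contra hne
    have := WeilLib.tr_mul_eq_zero T _ _ _ _ hmem (T.pull_mem p _ a ha) (by omega)
    rw [this] at h1
    exact zero_ne_one h1
  exact ⟨hcod ▸ hmem, hcod⟩

theorem pull_pull {X Y Z : WeilCoh.Var k} (f : X ⟶ Y) (g : Y ⟶ Z) (a : T.H Z) :
    T.pull f (T.pull g a) = T.pull (f ≫ g) a := by
  rw [T.pull_comp]; rfl

theorem pull_id_apply {X : WeilCoh.Var k} (a : T.H X) : T.pull (𝟙 X) a = a := by
  rw [T.pull_id]; rfl

/-- `f^* β = p_*(cl(Γ_f) · q^* β)` -/
theorem pull_eq_push_graph {X Y P : WeilCoh.Var k} (f : X ⟶ Y) (p : P ⟶ X) (q : P ⟶ Y)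
    (hP : IsProd p q) (j : X ⟶ P) (hjp : j ≫ p = 𝟙 X) (hjq : j ≫ q = f) (i : ℤ)
    (β : ↥(T.gr Y i)) :
    (T.push p (2 * (codim P.obj.left (WeilCoh.sm j (genericPoint ↥X.obj.left)) : ℤ) + i)
      ⟨T.cl P (WeilCoh.sm j (genericPoint ↥X.obj.left)) * T.pull q (β : T.H Y),
        SetLike.mul_mem_graded (T.cl_mem P (WeilCoh.sm j (genericPoint ↥X.obj.left)))
          (T.pull_mem q i β β.2)⟩ : T.H X) = T.pull f (β : T.H Y) := by
  obtain ⟨-, hcod⟩ := cl_graph_mem T p q hP j hjp
  have hdim := WeilLib.dim_prod T p q hP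
  set w := T.push p (2 * (codim P.obj.left (WeilCoh.sm j (genericPoint ↥X.obj.left)) : ℤ) + i)
      ⟨T.cl P (WeilCoh.sm j (genericPoint ↥X.obj.left)) * T.pull q (β : T.H Y),
        SetLike.mul_mem_graded (T.cl_mem P (WeilCoh.sm j (genericPoint ↥X.obj.left)))
          (T.pull_mem q i β β.2)⟩ with hw
  have hwmem : (w : T.H X) ∈ T.gr X i := WeilLib.mem_gr_of_eq T w.2 (by omega)
  refine WeilLib.eq_of_tr_mul_eq T i _ _ hwmem (T.pull_mem f i β β.2) ?_
  intro b hb
  have hb' : b ∈ T.gr X (2 * (dim P.obj.left : ℤ) -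
      (2 * (codim P.obj.left (WeilCoh.sm j (genericPoint ↥X.obj.left)) : ℤ) + i)) :=
    WeilLib.mem_gr_of_eq T hb (by omega)
  rw [hw, WeilLib.tr_push_mul T p _ _ b hb']
  change T.tr P (T.cl P (WeilCoh.sm j (genericPoint ↥X.obj.left)) * T.pull q (β : T.H Y) *
    T.pull p b) = _
  rw [mul_assoc, tr_graph T j p hjp _ (WeilLib.mem_gr_of_eq T
    (SetLike.mul_mem_graded (T.pull_mem q i β β.2) (T.pull_mem p _ b hb)) (by omega)),
    map_mul, pull_pull, pull_pull, hjp, hjq, pull_id_apply]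

end Theory

end Groth.Agent.Helper23.WeilGraph
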