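import Mathlib
import Groth.Prelude.Def_WeilCoh
import Groth.Agent.Lib.Helper23.WeilGraph

/-!
# Künneth components of the class of a graph, Lefschetz trace formula (helper23)
-/

set_option autoImplicit false
set_option linter.unusedSectionVars false
universe u v w
open CategoryTheory CategoryTheory.Limits AlgebraicGeometry TensorProduct

namespace Groth.Agent.Helper23.WeilGraph

open WeilCoh Groth.Agent.Helper23

section Theory
variable {k : Type u} [Field k] [IsAlgClosed k] {K : Type v} [Field K] [CharZero K]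
  (T : WeilCoh.Theory k K)

/-- the trace on a product is multiplicative on all classes pulled back from the factors -/
theorem tr_prod_all {X Y P : WeilCoh.Var k} (p : P ⟶ X) (q : P ⟶ Y) (hP : IsProd p q)
    (x : T.H X) (y : T.H Y) : T.tr P (T.pull p x * T.pull q y) = T.tr X x * T.tr Y y := by
  have hdim := WeilLib.dim_prod T p q hP
  refine homog_induction T X (fun x => T.tr P (T.pull p x * T.pull q y) = T.tr X x * T.tr Y y)
    ?_ ?_ ?_ x
  · intro s x hx
    refine homog_induction T Y (fun y => T.tr P (T.pull p x * T.pull q y) = T.tr X x * T.tr Y y)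
      ?_ ?_ ?_ y
    · intro t y hy
      by_cases hs : s = 2 * (dim X.obj.left : ℤ)
      · by_cases ht : t = 2 * (dim Y.obj.left : ℤ)
        · subst hs ht
          exact T.tr_prod p q hP x y hx hy
        · rw [T.tr_vanish Y t y hy ht, mul_zero]
          exact WeilLib.tr_mul_eq_zero T s t _ _ (T.pull_mem p s x hx) (T.pull_mem q t y hy)
            (by omega)
      · rw [T.tr_vanish X s x hx hs, zero_mul]
        by_cases hst : s + t = 2 * (dim P.obj.left : ℤ)
        · rcases lt_or_gt_of_ne hs with hlt | hgt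
          · have : y = 0 := WeilLib.eq_zero_of_mem_gr_of_lt T t y hy (Or.inr (by omega))
            rw [this, map_zero, mul_zero, map_zero]
          · have : x = 0 := WeilLib.eq_zero_of_mem_gr_of_lt T s x hx (Or.inr hgt)
            rw [this, map_zero, zero_mul, map_zero]
        · exact WeilLib.tr_mul_eq_zero T s t _ _ (T.pull_mem p s x hx) (T.pull_mem q t y hy) hst
    · simp
    · intro y₁ y₂ h₁ h₂
      rw [map_add, mul_add, map_add, h₁, h₂, map_add, mul_add]
  · simp
  · intro x₁ x₂ h₁ h₂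
    rw [map_add, add_mul, map_add, h₁, h₂, map_add, add_mul]

/-- the sign of graded commutativity -/
def sgn (i j : ℤ) : K := (-1 : K) ^ (i.natAbs * j.natAbs)

/-- rearranging a product of four pulled back homogeneous classes on a product -/
theorem four_swap {X Y P : WeilCoh.Var k} (p : P ⟶ X) (q : P ⟶ Y)
    (u s : ℤ) (E a : T.H X) (F b : T.H Y) (hF : F ∈ T.gr Y u) (ha : a ∈ T.gr X s) :
    T.pull p E * T.pull q F * (T.pull p a * T.pull q b) =
      sgn (K := K) u s • (T.pull p (E * a) * T.pull q (F * b)) := by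
  have hc := T.gradedComm P u s (T.pull q F) (T.pull p a) (T.pull_mem q u F hF)
    (T.pull_mem p s a ha)
  calc T.pull p E * T.pull q F * (T.pull p a * T.pull q b)
      = T.pull p E * (T.pull q F * T.pull p a) * T.pull q b := by simp only [mul_assoc]
    _ = T.pull p E * (sgn (K := K) u s • (T.pull p a * T.pull q F)) * T.pull q b := by
        rw [hc]; rfl
    _ = sgn (K := K) u s • (T.pull p (E * a) * T.pull q (F * b)) := by
        rw [map_mul, map_mul, mul_smul_comm, smul_mul_assoc]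
        simp only [mul_assoc]

/-- expansion along a basis with a dual family for the trace pairing -/
theorem dual_expand {X : WeilCoh.Var k} {ι : Type} [Fintype ι] [DecidableEq ι] (r m : ℤ)
    (e : Module.Basis ι K ↥(T.gr X r)) (f : ι → ↥(T.gr X m))
    (hef : ∀ i l : ι, T.tr X ((f l : T.H X) * (e i : T.H X)) = if i = l then 1 else 0)
    (b : T.H X) (hb : b ∈ T.gr X r) (L : T.H X →ₗ[K] K) :
    ∑ i, L (e i : T.H X) * T.tr X ((f i : T.H X) * b) = L b := by
  have hsum : b = ∑ l, (e.repr ⟨b, hb⟩ l) • (e l : T.H X) := by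
    have h1 : ((∑ i, e.repr ⟨b, hb⟩ i • e i : ↥(T.gr X r)) : T.H X) = b :=
      congrArg Subtype.val (e.sum_repr ⟨b, hb⟩)
    conv_lhs => rw [← h1]
    rw [Submodule.coe_sum]
    rfl
  have hrepr : ∀ i, T.tr X ((f i : T.H X) * b) = e.repr ⟨b, hb⟩ i := by
    intro i
    conv_lhs => rw [hsum]
    rw [Finset.mul_sum, map_sum]
    simp only [mul_smul_comm, map_smul, smul_eq_mul, hef]
    rw [Finset.sum_eq_single i]
    · rw [if_pos rfl, mul_one]
    · intro l _ hl
      rw [if_neg hl, mul_zero]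
    · intro h; exact absurd (Finset.mem_univ i) h
  simp only [hrepr]
  conv_rhs => rw [hsum]
  rw [map_sum]
  refine Finset.sum_congr rfl fun i _ => ?_
  rw [map_smul, smul_eq_mul, mul_comm]

theorem sgn_mul_sgn (n r₀ : ℕ) (hr : r₀ ≤ 2 * n) :
    sgn (K := K) (2 * (n : ℤ) - r₀) (2 * (n : ℤ) - r₀) * sgn (K := K) (r₀ : ℤ) (2 * (n : ℤ) - r₀) = 1 := by
  unfold sgn
  have h1 : (2 * (n : ℤ) - r₀).natAbs = 2 * n - r₀ := by omega
  rw [h1, Int.natAbs_natCast, ← pow_add]
  apply Even.neg_one_pow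
  have : (2 * n - r₀) * (2 * n - r₀) + r₀ * (2 * n - r₀) = 2 * (n * (2 * n - r₀)) := by
    obtain ⟨d, hd⟩ : ∃ d, 2 * n = r₀ + d := ⟨2 * n - r₀, by omega⟩
    have hd' : 2 * n - r₀ = d := by omega
    rw [hd']
    calc d * d + r₀ * d = (r₀ + d) * d := by ring
      _ = 2 * n * d := by rw [hd]
      _ = 2 * (n * d) := by ring
  rw [this]
  exact even_two_mul _

/-- Künneth components of the class of the graph of an endomorphism -/
theorem cl_graph_eq {X P : WeilCoh.Var k} (φ : X ⟶ X)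
    (p q : P ⟶ X) (hP : WeilCoh.IsProd p q) (j : X ⟶ P) (hjp : j ≫ p = 𝟙 X) (hjq : j ≫ q = φ)
    (ι : ℕ → Type) [∀ r, Fintype (ι r)] [∀ r, DecidableEq (ι r)]
    (e : (r : ℕ) → Module.Basis (ι r) K ↥(T.gr X (r : ℤ)))
    (f : (r : ℕ) → ι r → ↥(T.gr X (2 * (WeilCoh.dim X.obj.left : ℤ) - r)))
    (hef : ∀ r, r ≤ 2 * WeilCoh.dim X.obj.left → ∀ i l : ι r,
      T.tr X ((f r l : T.H X) * (e r i : T.H X)) = if i = l then 1 else 0) :
    T.cl P (WeilCoh.sm j (genericPoint ↥X.obj.left)) =
      ∑ r ∈ Finset.range (2 * WeilCoh.dim X.obj.left + 1), ∑ i : ι r,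
        T.pull p (T.pull φ (e r i : T.H X)) * T.pull q (f r i : T.H X) := by
  have hdim := WeilLib.dim_prod T p q hP
  obtain ⟨hγ, -⟩ := cl_graph_mem T p q hP j hjp
  have hρ : (∑ r ∈ Finset.range (2 * WeilCoh.dim X.obj.left + 1), ∑ i : ι r,
      T.pull p (T.pull φ (e r i : T.H X)) * T.pull q (f r i : T.H X)) ∈ T.gr P (2 * (WeilCoh.dim X.obj.left : ℤ)) := by
    refine Submodule.sum_mem _ fun r _ => Submodule.sum_mem _ fun i _ => ?_
    exact WeilLib.mem_gr_of_eq T (SetLike.mul_mem_graded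
      (T.pull_mem p _ _ (T.pull_mem φ _ _ (e r i).2)) (T.pull_mem q _ _ (f r i).2)) (by omega)
  refine eq_of_kunneth T p q hP (2 * (WeilCoh.dim X.obj.left : ℤ)) _ _ hγ hρ ?_
  intro s t a b ha hb
  by_cases hst : s + t = 2 * (WeilCoh.dim X.obj.left : ℤ)
  swap
  · rw [WeilLib.tr_mul_eq_zero T _ _ _ _ hγ
      (SetLike.mul_mem_graded (T.pull_mem p _ _ ha) (T.pull_mem q _ _ hb)) (by omega),
      WeilLib.tr_mul_eq_zero T _ _ _ _ hρ
      (SetLike.mul_mem_graded (T.pull_mem p _ _ ha) (T.pull_mem q _ _ hb)) (by omega)]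
  -- left side
  rw [tr_graph T j p hjp _ (WeilLib.mem_gr_of_eq T
    (SetLike.mul_mem_graded (T.pull_mem p _ _ ha) (T.pull_mem q _ _ hb)) hst),
    map_mul, pull_pull, pull_pull, hjp, hjq, pull_id_apply]
  -- right side
  rw [Finset.sum_mul, map_sum]
  have hterm : ∀ r ∈ Finset.range (2 * WeilCoh.dim X.obj.left + 1),
      T.tr P ((∑ i : ι r, T.pull p (T.pull φ (e r i : T.H X)) * T.pull q (f r i : T.H X)) *
        (T.pull p a * T.pull q b)) =
      ∑ i : ι r, sgn (K := K) (2 * (WeilCoh.dim X.obj.left : ℤ) - r) s *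
        (T.tr X (T.pull φ (e r i : T.H X) * a) * T.tr X ((f r i : T.H X) * b)) := by
    intro r _
    rw [Finset.sum_mul, map_sum]
    refine Finset.sum_congr rfl fun i _ => ?_
    rw [four_swap T p q (2 * (WeilCoh.dim X.obj.left : ℤ) - r) s _ a _ b (f r i).2 ha, map_smul, smul_eq_mul,
      tr_prod_all T p q hP]
  rw [Finset.sum_congr rfl hterm]
  -- the degree of b
  by_cases ht : 0 ≤ t ∧ t ≤ 2 * (WeilCoh.dim X.obj.left : ℤ)
  swap
  · have hb0 : b = 0 := WeilLib.eq_zero_of_mem_gr_of_lt T t b hb (by omega)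
    rw [hb0]
    simp
  obtain ⟨r₀, hr₀⟩ : ∃ r₀ : ℕ, t = r₀ := ⟨t.toNat, by omega⟩
  subst hr₀
  have hr₀n : r₀ ≤ 2 * WeilCoh.dim X.obj.left := by omega
  rw [Finset.sum_eq_single r₀]
  · have hs : s = 2 * (WeilCoh.dim X.obj.left : ℤ) - r₀ := by omega
    subst hs
    rw [← Finset.mul_sum]
    have hL := dual_expand T (r₀ : ℤ) (2 * (WeilCoh.dim X.obj.left : ℤ) - r₀) (e r₀) (f r₀) (hef r₀ hr₀n) b hb
      ((T.tr X).comp ((LinearMap.mulRight K a).comp (T.pull φ).toLinearMap))
    simp only [LinearMap.coe_comp, Function.comp_apply, AlgHom.toLinearMap_apply,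
      LinearMap.mulRight_apply] at hL
    rw [hL]
    have hc := T.gradedComm X (r₀ : ℤ) (2 * (WeilCoh.dim X.obj.left : ℤ) - r₀) (T.pull φ b) a (T.pull_mem φ _ b hb) ha
    rw [hc, map_smul, smul_eq_mul, ← mul_assoc]
    change _ = sgn (K := K) _ _ * sgn (K := K) _ _ * _
    rw [sgn_mul_sgn (WeilCoh.dim X.obj.left) r₀ hr₀n, one_mul]
  · intro r _ hr
    refine Finset.sum_eq_zero fun i _ => ?_
    have : T.tr X ((f r i : T.H X) * b) = 0 :=
      WeilLib.tr_mul_eq_zero T _ _ _ _ (f r i).2 hb (by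
        have : (r : ℤ) ≠ r₀ := by exact_mod_cast hr
        omega)
    rw [this, mul_zero, mul_zero]
  · intro h
    exact absurd (Finset.mem_range.2 (by omega)) h

end Theory

end Groth.Agent.Helper23.WeilGraph
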