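import Mathlib
import Groth.Prelude.Def_WeilCoh
import Groth.Agent.Lib.Helper23.WeilGraph2

/-!
# The Lefschetz trace formula in a Weil cohomology theory (helper23)
-/

set_option autoImplicit false
set_option linter.unusedSectionVars false
universe u v w
open CategoryTheory CategoryTheory.Limits AlgebraicGeometry TensorProduct

namespace Groth.Agent.Helper23.WeilGraph

open WeilCoh Groth.Agent.Helper23

section Theory
variable {k : Type u} [Field k] [IsAlgClosed k] {K : Type v} [Field K] [CharZero K]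
  (T : WeilCoh.Theory k K)

/-- coordinates along a basis through a dual family for the trace pairing -/
theorem dual_repr {X : WeilCoh.Var k} {ι : Type} [Fintype ι] [DecidableEq ι] (r m : ℤ)
    (e : Module.Basis ι K ↥(T.gr X r)) (f : ι → ↥(T.gr X m))
    (hef : ∀ i l : ι, T.tr X ((f l : T.H X) * (e i : T.H X)) = if i = l then 1 else 0)
    (b : ↥(T.gr X r)) (i : ι) :
    T.tr X ((f i : T.H X) * (b : T.H X)) = e.repr b i := by
  have hsum : (b : T.H X) = ∑ l, (e.repr b l) • (e l : T.H X) := by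
    have h1 : ((∑ i, e.repr b i • e i : ↥(T.gr X r)) : T.H X) = b :=
      congrArg Subtype.val (e.sum_repr b)
    conv_lhs => rw [← h1]
    rw [Submodule.coe_sum]
    rfl
  conv_lhs => rw [hsum]
  rw [Finset.mul_sum, map_sum]
  simp only [mul_smul_comm, map_smul, smul_eq_mul, hef]
  rw [Finset.sum_eq_single i]
  · rw [if_pos rfl, mul_one]
  · intro l _ hl
    rw [if_neg hl, mul_zero]
  · intro h; exact absurd (Finset.mem_univ i) h

/-- existence of a dual family for the trace pairing -/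
theorem exists_dual_family {X : WeilCoh.Var k} {ι : Type} [Fintype ι] [DecidableEq ι] (r m : ℤ)
    (hrm : m + r = 2 * (dim X.obj.left : ℤ))
    (e : Module.Basis ι K ↥(T.gr X r)) :
    ∃ f : ι → ↥(T.gr X m), ∀ i l : ι,
      T.tr X ((f l : T.H X) * (e i : T.H X)) = if i = l then 1 else 0 := by
  have hperf := T.duality X m r hrm
  have hbij := LinearMap.IsPerfPair.bijective_left (pairing K (T.gr X m) (T.gr X r) (T.tr X))
  choose f hf using fun l => hbij.2 (e.coord l)
  refine ⟨f, fun i l => ?_⟩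
  have := congrArg (fun ψ : Module.Dual K ↥(T.gr X r) => ψ (e i)) (hf l)
  simp only [Module.Basis.coord_apply, Module.Basis.repr_self] at this
  rw [Finsupp.single_apply] at this
  exact this

/-- the trace of the pull-back on `H^r` through a dual family -/
theorem trace_pullDeg {X : WeilCoh.Var k} (φ : X ⟶ X) {ι : Type} [Fintype ι] [DecidableEq ι]
    (r m : ℤ) (e : Module.Basis ι K ↥(T.gr X r)) (f : ι → ↥(T.gr X m))
    (hef : ∀ i l : ι, T.tr X ((f l : T.H X) * (e i : T.H X)) = if i = l then 1 else 0) :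
    LinearMap.trace K ↥(T.gr X r) (T.pullDeg φ r) =
      ∑ i, T.tr X ((f i : T.H X) * T.pull φ (e i : T.H X)) := by
  rw [LinearMap.trace_eq_matrix_trace K e, Matrix.trace]
  refine Finset.sum_congr rfl fun i _ => ?_
  rw [Matrix.diag_apply, LinearMap.toMatrix_apply]
  exact (dual_repr T r m e f hef (T.pullDeg φ r (e i)) i).symm

theorem sgn_self_even (n : ℕ) : sgn (K := K) (2 * (n : ℤ)) (2 * (n : ℤ)) = 1 := by
  unfold sgn
  apply Even.neg_one_pow
  have : (2 * (n : ℤ)).natAbs = 2 * n := by omega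
  rw [this]
  exact ⟨n * (2 * n), by ring⟩

theorem sgn_compl (n r : ℕ) (hr : r ≤ 2 * n) :
    sgn (K := K) (r : ℤ) (2 * (n : ℤ) - r) = (-1 : K) ^ r := by
  unfold sgn
  have h1 : (2 * (n : ℤ) - r).natAbs = 2 * n - r := by omega
  rw [h1, Int.natAbs_natCast]
  rcases Nat.even_or_odd r with he | ho
  · rw [he.neg_one_pow, (he.mul_right _).neg_one_pow]
  · have : Odd (2 * n - r) := by
      obtain ⟨c, hc⟩ := ho
      exact ⟨n - c - 1, by omega⟩
    rw [ho.neg_one_pow, (ho.mul this).neg_one_pow]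

/-- the Lefschetz trace formula -/
theorem lefschetz {X P : WeilCoh.Var k} (φ : X ⟶ X)
    (p q : P ⟶ X) (hP : WeilCoh.IsProd p q) (j d : X ⟶ P)
    (hjp : j ≫ p = 𝟙 X) (hjq : j ≫ q = φ) (hdp : d ≫ p = 𝟙 X) (hdq : d ≫ q = 𝟙 X) :
    T.tr P (T.cl P (WeilCoh.sm j (genericPoint ↥X.obj.left)) *
        T.cl P (WeilCoh.sm d (genericPoint ↥X.obj.left))) =
      ∑ i ∈ Finset.range (2 * WeilCoh.dim X.obj.left + 1),
        (-1 : K) ^ i * LinearMap.trace K ↥(T.gr X (i : ℤ)) (T.pullDeg φ (i : ℤ)) := by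
  classical
  let ι : ℕ → Type := fun r => Fin (Module.finrank K ↥(T.gr X (r : ℤ)))
  let e : (r : ℕ) → Module.Basis (ι r) K ↥(T.gr X (r : ℤ)) := fun r => Module.finBasis K _
  choose f hf using fun r : ℕ => exists_dual_family T (r : ℤ) (2 * (dim X.obj.left : ℤ) - r)
    (by ring) (e r)
  have hΓ := cl_graph_eq T φ p q hP j hjp hjq ι e f (fun r _ => hf r)
  obtain ⟨hγ, -⟩ := cl_graph_mem T p q hP j hjp
  obtain ⟨hδ, -⟩ := cl_graph_mem T p q hP d hdp
  have hc := T.gradedComm P _ _ _ _ hγ hδ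
  rw [hc, map_smul, smul_eq_mul]
  change sgn (K := K) _ _ * _ = _
  rw [sgn_self_even, one_mul, tr_graph T d p hdp _ hγ, hΓ, map_sum, map_sum]
  refine Finset.sum_congr rfl fun r hr => ?_
  have hr' : r ≤ 2 * dim X.obj.left := by
    have := Finset.mem_range.1 hr
    omega
  rw [map_sum, map_sum, trace_pullDeg T φ (r : ℤ) _ (e r) (f r) (hf r), Finset.mul_sum]
  refine Finset.sum_congr rfl fun i _ => ?_
  rw [map_mul, pull_pull T d p, hdp, pull_id_apply, pull_pull T d q, hdq, pull_id_apply]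
  have hc2 := T.gradedComm X (r : ℤ) (2 * (dim X.obj.left : ℤ) - r) (T.pull φ (e r i : T.H X))
    (f r i : T.H X) (T.pull_mem φ _ _ (e r i).2) (f r i).2
  rw [hc2, map_smul, smul_eq_mul]
  change sgn (K := K) _ _ * _ = _
  rw [sgn_compl _ r hr']

end Theory

end Groth.Agent.Helper23.WeilGraph
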