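import Mathlib
import Groth.Prelude.Def_WeilCoh
import Groth.Agent.Lib.Helper23.WeilGraph3

/-!
# Cohomological correspondences in a Weil cohomology theory (helper23)
-/

set_option autoImplicit false
set_option linter.unusedSectionVars false
universe u v w
open CategoryTheory CategoryTheory.Limits AlgebraicGeometry TensorProduct

namespace Groth.Agent.Helper23.WeilGraph

open WeilCoh Groth.Agent.Helper23

section Theory
variable {k : Type u} [Field k] [IsAlgClosed k] {K : Type v} [Field K] [CharZero K]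
  (T : WeilCoh.Theory k K)

/-- products of pulled back homogeneous classes of total degree `m` -/
def prodSet {X Y P : WeilCoh.Var k} (p : P ⟶ X) (q : P ⟶ Y) (m : ℤ) : Set (T.H P) :=
  {z | ∃ (u v : ℤ) (a : T.H X) (b : T.H Y), u + v = m ∧ a ∈ T.gr X u ∧ b ∈ T.gr Y v ∧
    z = T.pull p a * T.pull q b}

/-- graded Künneth: `H^m(X × Y)` is spanned by the products `p^* a · q^* b` with
`deg a + deg b = m`. -/
theorem gr_eq_span {X Y P : WeilCoh.Var k} (p : P ⟶ X) (q : P ⟶ Y) (hP : IsProd p q) (m : ℤ) :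
    T.gr P m = Submodule.span K (prodSet T p q m) := by
  have hle : (fun m => Submodule.span K (prodSet T p q m)) ≤ T.gr P := by
    intro m
    apply Submodule.span_le.2
    rintro z ⟨u, v, a, b, huv, ha, hb, rfl⟩
    exact WeilLib.mem_gr_of_eq T (SetLike.mul_mem_graded (T.pull_mem p u a ha) (T.pull_mem q v b hb)) huv
  have htop : (⨆ m, Submodule.span K (prodSet T p q m)) = ⊤ := by
    rw [eq_top_iff]
    intro z _
    obtain ⟨w, rfl⟩ := (T.kunneth p q hP).2 z
    induction w using TensorProduct.induction_on with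
    | zero => rw [map_zero]; exact Submodule.zero_mem _
    | add z₁ z₂ h₁ h₂ => rw [map_add]; exact Submodule.add_mem _ (h₁ trivial) (h₂ trivial)
    | tmul a b =>
      rw [kunnethMap_tmul]
      refine homog_induction T X (fun a => T.pull p a * T.pull q b ∈
        ⨆ m, Submodule.span K (prodSet T p q m)) ?_ ?_ ?_ a
      · intro s a ha
        refine homog_induction T Y (fun b => T.pull p a * T.pull q b ∈
          ⨆ m, Submodule.span K (prodSet T p q m)) ?_ ?_ ?_ b
        · intro t b hb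
          exact Submodule.mem_iSup_of_mem (s + t)
            (Submodule.subset_span ⟨s, t, a, b, rfl, ha, hb, rfl⟩)
        · rw [map_zero, mul_zero]; exact Submodule.zero_mem _
        · intro x y hx hy
          rw [map_add, mul_add]; exact Submodule.add_mem _ hx hy
      · rw [map_zero, zero_mul]; exact Submodule.zero_mem _
      · intro x y hx hy
        rw [map_add, add_mul]; exact Submodule.add_mem _ hx hy
  have := (iSupIndep.le_iff_eq_of_iSup_eq_top (T.decomp P).submodule_iSupIndep htop).1 hle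
  exact (congrFun this m).symm

/-- induction principle on a graded piece of the cohomology of a product -/
theorem gr_prod_induction {X Y P : WeilCoh.Var k} (p : P ⟶ X) (q : P ⟶ Y) (hP : IsProd p q) (m : ℤ)
    (motive : ↥(T.gr P m) → Prop)
    (mem : ∀ (u v : ℤ) (a : T.H X) (b : T.H Y) (huv : u + v = m) (ha : a ∈ T.gr X u)
      (hb : b ∈ T.gr Y v), motive ⟨T.pull p a * T.pull q b, WeilLib.mem_gr_of_eq T
        (SetLike.mul_mem_graded (T.pull_mem p u a ha) (T.pull_mem q v b hb)) huv⟩)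
    (zero : motive 0) (add : ∀ x y, motive x → motive y → motive (x + y))
    (smul : ∀ (c : K) x, motive x → motive (c • x)) (x : ↥(T.gr P m)) : motive x := by
  have hx : (x : T.H P) ∈ Submodule.span K (prodSet T p q m) := by
    rw [← gr_eq_span T p q hP m]; exact x.2
  have key : ∀ (z : T.H P) (hz : z ∈ Submodule.span K (prodSet T p q m)),
      motive ⟨z, by rw [gr_eq_span T p q hP m]; exact hz⟩ := by
    intro z hz
    induction hz using Submodule.span_induction with
    | mem z hz =>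
      obtain ⟨u, v, a, b, huv, ha, hb, rfl⟩ := hz
      exact mem u v a b huv ha hb
    | zero => exact zero
    | add x y _ _ hx hy => exact add _ _ hx hy
    | smul c x _ hx => exact smul c _ hx
  exact key x.1 hx

/-- the action of a class on a product as a correspondence: `x ↦ q_*(p^* x · φ)` -/
noncomputable def act {X Y P : WeilCoh.Var k} (p : P ⟶ X) (q : P ⟶ Y) (m : ℤ)
    (φ : ↥(T.gr P m)) (i : ℤ) :
    ↥(T.gr X i) →ₗ[K] ↥(T.gr Y (i + m + 2 * (dim Y.obj.left : ℤ) - 2 * (dim P.obj.left : ℤ))) :=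
  (T.push q (i + m)) ∘ₗ ((LinearMap.mulRight K (φ : T.H P)).restrict (p := T.gr P i)
    (q := T.gr P (i + m)) (fun x hx => SetLike.mul_mem_graded hx φ.2)) ∘ₗ (T.pullDeg p i)

theorem act_spec {X Y P : WeilCoh.Var k} (p : P ⟶ X) (q : P ⟶ Y) (m : ℤ)
    (φ : ↥(T.gr P m)) (i : ℤ) (x : ↥(T.gr X i)) (y : T.H Y)
    (hy : y ∈ T.gr Y (2 * (dim P.obj.left : ℤ) - (i + m))) :
    T.tr Y ((act T p q m φ i x : T.H Y) * y) =
      T.tr P (T.pull p (x : T.H X) * (φ : T.H P) * T.pull q y) :=
  WeilLib.tr_push_mul T q (i + m) _ y hy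

theorem act_add {X Y P : WeilCoh.Var k} (p : P ⟶ X) (q : P ⟶ Y) (m : ℤ)
    (φ₁ φ₂ : ↥(T.gr P m)) (i : ℤ) :
    act T p q m (φ₁ + φ₂) i = act T p q m φ₁ i + act T p q m φ₂ i := by
  apply LinearMap.ext
  intro x
  unfold act
  simp only [LinearMap.comp_apply, LinearMap.add_apply]
  rw [← map_add]
  congr 1
  apply Subtype.ext
  simp [LinearMap.restrict_coe_apply, mul_add]

theorem act_smul {X Y P : WeilCoh.Var k} (p : P ⟶ X) (q : P ⟶ Y) (m : ℤ)
    (c : K) (φ : ↥(T.gr P m)) (i : ℤ) :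
    act T p q m (c • φ) i = c • act T p q m φ i := by
  apply LinearMap.ext
  intro x
  unfold act
  simp only [LinearMap.comp_apply, LinearMap.smul_apply]
  rw [← map_smul]
  congr 1
  apply Subtype.ext
  simp [LinearMap.restrict_coe_apply]

theorem act_zero {X Y P : WeilCoh.Var k} (p : P ⟶ X) (q : P ⟶ Y) (m : ℤ) (i : ℤ) :
    act T p q m 0 i = 0 := by
  have := act_smul T p q m (0 : K) 0 i
  rwa [zero_smul, zero_smul] at this

/-- the action of a product class `p^* c · q^* e` is `y ↦ tr(y c) e` -/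
theorem act_prod {X Y P : WeilCoh.Var k} (p : P ⟶ X) (q : P ⟶ Y) (hP : IsProd p q) (m : ℤ)
    (u v : ℤ) (c : T.H X) (e : T.H Y) (huv : u + v = m) (hc : c ∈ T.gr X u) (he : e ∈ T.gr Y v)
    (j : ℤ) (y : ↥(T.gr X j)) :
    (act T p q m ⟨T.pull p c * T.pull q e, WeilLib.mem_gr_of_eq T
        (SetLike.mul_mem_graded (T.pull_mem p u c hc) (T.pull_mem q v e he)) huv⟩ j y : T.H Y) =
      T.tr X ((y : T.H X) * c) • e := by
  have hdim := WeilLib.dim_prod T p q hP
  set φ : ↥(T.gr P m) := ⟨T.pull p c * T.pull q e, WeilLib.mem_gr_of_eq T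
        (SetLike.mul_mem_graded (T.pull_mem p u c hc) (T.pull_mem q v e he)) huv⟩ with hφ
  have hpair : ∀ w ∈ T.gr Y (2 * (dim P.obj.left : ℤ) - (j + m)),
      T.tr Y ((act T p q m φ j y : T.H Y) * w) = T.tr Y ((T.tr X ((y : T.H X) * c) • e) * w) := by
    intro w hw
    rw [act_spec T p q m φ j y w hw]
    change T.tr P (T.pull p (y : T.H X) * (T.pull p c * T.pull q e) * T.pull q w) = _
    have : T.pull p (y : T.H X) * (T.pull p c * T.pull q e) * T.pull q w =
        T.pull p ((y : T.H X) * c) * T.pull q (e * w) := by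
      rw [map_mul, map_mul]; simp only [mul_assoc]
    rw [this, tr_prod_all T p q hP, smul_mul_assoc, map_smul, smul_eq_mul]
  by_cases hj : j + u = 2 * (dim X.obj.left : ℤ)
  · refine WeilLib.eq_of_tr_mul_eq T (j + m + 2 * (dim Y.obj.left : ℤ) - 2 * (dim P.obj.left : ℤ))
      _ _ (act T p q m φ j y).2 ((T.gr Y _).smul_mem _ (WeilLib.mem_gr_of_eq T he (by omega))) ?_
    intro w hw
    exact hpair w (WeilLib.mem_gr_of_eq T hw (by omega))
  · have h0 : T.tr X ((y : T.H X) * c) = 0 := WeilLib.tr_mul_eq_zero T j u _ _ y.2 hc hj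
    rw [h0, zero_smul]
    refine WeilLib.eq_of_tr_mul_eq T (j + m + 2 * (dim Y.obj.left : ℤ) - 2 * (dim P.obj.left : ℤ))
      _ _ (act T p q m φ j y).2 (Submodule.zero_mem _) ?_
    intro w hw
    rw [hpair w (WeilLib.mem_gr_of_eq T hw (by omega)), h0, zero_smul]

theorem sgn_comm (i j : ℤ) : sgn (K := K) i j = sgn (K := K) j i := by
  unfold sgn; rw [mul_comm]

/-- the formal Lefschetz trace formula for correspondences -/
theorem formal_lefschetz (X Y P P' : WeilCoh.Var k)
    (p : P ⟶ X) (q : P ⟶ Y) (hP : WeilCoh.IsProd p q)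
    (p' : P' ⟶ Y) (q' : P' ⟶ X) (hP' : WeilCoh.IsProd p' q')
    (σ : P ⟶ P') (hσ₁ : σ ≫ p' = q) (hσ₂ : σ ≫ q' = p) (r : ℤ)
    (hdim : ∀ i : ℤ, ((i + (2 * (WeilCoh.dim X.obj.left : ℤ) + r) + 2 * (WeilCoh.dim Y.obj.left : ℤ) - 2 * (WeilCoh.dim P.obj.left : ℤ)) + (2 * (WeilCoh.dim Y.obj.left : ℤ) - r) + 2 * (WeilCoh.dim X.obj.left : ℤ) - 2 * (WeilCoh.dim P'.obj.left : ℤ)) = i)
    (φ : ↥(T.gr P (2 * (WeilCoh.dim X.obj.left : ℤ) + r)))
    (ψ : ↥(T.gr P' (2 * (WeilCoh.dim Y.obj.left : ℤ) - r))) :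
    T.tr P ((φ : T.H P) * T.pull σ (ψ : T.H P')) =
      ∑ i ∈ Finset.range (2 * WeilCoh.dim X.obj.left + 1),
        (-1 : K) ^ i * LinearMap.trace K ↥(T.gr X (i : ℤ))
          ((LinearEquiv.ofEq _ (T.gr X (i : ℤ)) (congrArg (T.gr X) (hdim (i : ℤ)))).toLinearMap ∘ₗ
            (act T p' q' (2 * (WeilCoh.dim Y.obj.left : ℤ) - r) ψ
              ((i : ℤ) + (2 * (WeilCoh.dim X.obj.left : ℤ) + r) + 2 * (WeilCoh.dim Y.obj.left : ℤ) - 2 * (WeilCoh.dim P.obj.left : ℤ))) ∘ₗ
            (act T p q (2 * (WeilCoh.dim X.obj.left : ℤ) + r) φ (i : ℤ))) := by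
  have hdP := WeilLib.dim_prod T p q hP
  have hdP' := WeilLib.dim_prod T p' q' hP'
  refine gr_prod_induction T p' q' hP' _ (fun ψ => T.tr P ((φ : T.H P) * T.pull σ (ψ : T.H P')) =
      ∑ i ∈ Finset.range (2 * WeilCoh.dim X.obj.left + 1),
        (-1 : K) ^ i * LinearMap.trace K ↥(T.gr X (i : ℤ))
          ((LinearEquiv.ofEq _ (T.gr X (i : ℤ)) (congrArg (T.gr X) (hdim (i : ℤ)))).toLinearMap ∘ₗ
            (act T p' q' (2 * (WeilCoh.dim Y.obj.left : ℤ) - r) ψ
              ((i : ℤ) + (2 * (WeilCoh.dim X.obj.left : ℤ) + r) + 2 * (WeilCoh.dim Y.obj.left : ℤ) - 2 * (WeilCoh.dim P.obj.left : ℤ))) ∘ₗ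
            (act T p q (2 * (WeilCoh.dim X.obj.left : ℤ) + r) φ (i : ℤ)))) ?_ ?_ ?_ ?_ ψ
  · -- product classes
    intro u v c e huv hc he
    -- the terms of the sum
    have hterm : ∀ i : ℕ, LinearMap.trace K ↥(T.gr X (i : ℤ))
          ((LinearEquiv.ofEq _ (T.gr X (i : ℤ)) (congrArg (T.gr X) (hdim (i : ℤ)))).toLinearMap ∘ₗ
            (act T p' q' (2 * (WeilCoh.dim Y.obj.left : ℤ) - r)
              ⟨T.pull p' c * T.pull q' e, WeilLib.mem_gr_of_eq T
                (SetLike.mul_mem_graded (T.pull_mem p' u c hc) (T.pull_mem q' v e he)) huv⟩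
              ((i : ℤ) + (2 * (WeilCoh.dim X.obj.left : ℤ) + r) + 2 * (WeilCoh.dim Y.obj.left : ℤ) - 2 * (WeilCoh.dim P.obj.left : ℤ))) ∘ₗ
            (act T p q (2 * (WeilCoh.dim X.obj.left : ℤ) + r) φ (i : ℤ))) =
        if (i : ℤ) = v then T.tr P (T.pull p e * (φ : T.H P) * T.pull q c) else 0 := by
      intro i
      -- the functional
      let lam : ↥(T.gr X (i : ℤ)) →ₗ[K] K :=
        (T.tr Y).comp ((LinearMap.mulRight K c).comp ((T.gr Y _).subtype.comp
          (act T p q (2 * (WeilCoh.dim X.obj.left : ℤ) + r) φ (i : ℤ))))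
      have hval : ∀ x : ↥(T.gr X (i : ℤ)),
          (((LinearEquiv.ofEq _ (T.gr X (i : ℤ)) (congrArg (T.gr X) (hdim (i : ℤ)))).toLinearMap ∘ₗ
            (act T p' q' (2 * (WeilCoh.dim Y.obj.left : ℤ) - r)
              ⟨T.pull p' c * T.pull q' e, WeilLib.mem_gr_of_eq T
                (SetLike.mul_mem_graded (T.pull_mem p' u c hc) (T.pull_mem q' v e he)) huv⟩
              ((i : ℤ) + (2 * (WeilCoh.dim X.obj.left : ℤ) + r) + 2 * (WeilCoh.dim Y.obj.left : ℤ) - 2 * (WeilCoh.dim P.obj.left : ℤ))) ∘ₗ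
            (act T p q (2 * (WeilCoh.dim X.obj.left : ℤ) + r) φ (i : ℤ))) x : T.H X) = lam x • e := by
        intro x
        rw [LinearMap.comp_apply, LinearMap.comp_apply, LinearEquiv.coe_coe,
          LinearEquiv.coe_ofEq_apply, act_prod T p' q' hP' _ u v c e huv hc he]
        rfl
      split_ifs with hiv
      · -- rank one
        have hei : e ∈ T.gr X (i : ℤ) := hiv ▸ he
        have hmap : ((LinearEquiv.ofEq _ (T.gr X (i : ℤ)) (congrArg (T.gr X) (hdim (i : ℤ)))).toLinearMap ∘ₗ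
            (act T p' q' (2 * (WeilCoh.dim Y.obj.left : ℤ) - r)
              ⟨T.pull p' c * T.pull q' e, WeilLib.mem_gr_of_eq T
                (SetLike.mul_mem_graded (T.pull_mem p' u c hc) (T.pull_mem q' v e he)) huv⟩
              ((i : ℤ) + (2 * (WeilCoh.dim X.obj.left : ℤ) + r) + 2 * (WeilCoh.dim Y.obj.left : ℤ) - 2 * (WeilCoh.dim P.obj.left : ℤ))) ∘ₗ
            (act T p q (2 * (WeilCoh.dim X.obj.left : ℤ) + r) φ (i : ℤ))) =
            lam.smulRight (⟨e, hei⟩ : ↥(T.gr X (i : ℤ))) := by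
          apply LinearMap.ext
          intro x
          apply Subtype.ext
          rw [hval x]
          rfl
        rw [hmap, LinearMap.trace_smulRight]
        change T.tr Y ((act T p q (2 * (WeilCoh.dim X.obj.left : ℤ) + r) φ (i : ℤ) ⟨e, hei⟩ : T.H Y) * c) = _
        rw [act_spec T p q _ φ (i : ℤ) ⟨e, hei⟩ c (WeilLib.mem_gr_of_eq T hc (by omega))]
      · -- zero
        have hmap : ((LinearEquiv.ofEq _ (T.gr X (i : ℤ)) (congrArg (T.gr X) (hdim (i : ℤ)))).toLinearMap ∘ₗ
            (act T p' q' (2 * (WeilCoh.dim Y.obj.left : ℤ) - r)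
              ⟨T.pull p' c * T.pull q' e, WeilLib.mem_gr_of_eq T
                (SetLike.mul_mem_graded (T.pull_mem p' u c hc) (T.pull_mem q' v e he)) huv⟩
              ((i : ℤ) + (2 * (WeilCoh.dim X.obj.left : ℤ) + r) + 2 * (WeilCoh.dim Y.obj.left : ℤ) - 2 * (WeilCoh.dim P.obj.left : ℤ))) ∘ₗ
            (act T p q (2 * (WeilCoh.dim X.obj.left : ℤ) + r) φ (i : ℤ))) = 0 := by
          apply LinearMap.ext
          intro x
          apply Subtype.ext
          rw [hval x]
          have : lam x = 0 := WeilLib.tr_mul_eq_zero T _ u _ _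
            (act T p q (2 * (WeilCoh.dim X.obj.left : ℤ) + r) φ (i : ℤ) x).2 hc (by omega)
          rw [this, zero_smul]
          rfl
        rw [hmap, map_zero]
    simp only [hterm]
    -- the left side
    change T.tr P ((φ : T.H P) * T.pull σ (T.pull p' c * T.pull q' e)) = _
    rw [map_mul (T.pull σ), pull_pull, pull_pull, hσ₁, hσ₂]
    by_cases hv : 0 ≤ v ∧ v ≤ 2 * (WeilCoh.dim X.obj.left : ℤ)
    swap
    · have he0 : e = 0 := WeilLib.eq_zero_of_mem_gr_of_lt T v e he (by omega)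
      rw [he0]
      simp
    obtain ⟨v₀, rfl⟩ : ∃ v₀ : ℕ, v = v₀ := ⟨v.toNat, by omega⟩
    have hv₀ : v₀ ≤ 2 * WeilCoh.dim X.obj.left := by omega
    rw [Finset.sum_eq_single v₀]
    · rw [if_pos rfl]
      have hc2 := T.gradedComm P ((2 * (WeilCoh.dim X.obj.left : ℤ) + r) + u) (v₀ : ℤ)
        ((φ : T.H P) * T.pull q c) (T.pull p e)
        (SetLike.mul_mem_graded φ.2 (T.pull_mem q u c hc)) (T.pull_mem p _ e he)
      rw [← mul_assoc, hc2, map_smul, smul_eq_mul, ← mul_assoc]
      change sgn (K := K) _ _ * _ = _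
      have hs : sgn (K := K) (2 * (WeilCoh.dim X.obj.left : ℤ) + r + u) (v₀ : ℤ) = (-1 : K) ^ v₀ := by
        have h1 : 2 * (WeilCoh.dim X.obj.left : ℤ) + r + u =
            2 * ((WeilCoh.dim X.obj.left + WeilCoh.dim Y.obj.left : ℕ) : ℤ) - v₀ := by
          push_cast; omega
        rw [h1, sgn_comm, sgn_compl _ v₀ (by omega)]
      rw [hs]
    · intro i _ hi
      rw [if_neg (by exact_mod_cast hi), mul_zero]
    · intro h
      exact absurd (Finset.mem_range.2 (by omega)) h
  · -- zero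
    simp only [act_zero, LinearMap.zero_comp, LinearMap.comp_zero, map_zero, mul_zero,
      Finset.sum_const_zero, ZeroMemClass.coe_zero]
  · -- add
    intro ψ₁ ψ₂ h₁ h₂
    simp only [act_add, LinearMap.add_comp, LinearMap.comp_add, map_add, mul_add,
      Finset.sum_add_distrib, Submodule.coe_add, ← h₁, ← h₂]
  · -- smul
    intro a ψ₁ h₁
    simp only [act_smul, LinearMap.smul_comp, LinearMap.comp_smul, map_smul, smul_eq_mul,
      Submodule.coe_smul, mul_smul_comm]
    rw [h₁, Finset.mul_sum]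
    refine Finset.sum_congr rfl fun i _ => ?_
    ring

end Theory

end Groth.Agent.Helper23.WeilGraph
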