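import Mathlib
import Groth.Prelude.Def_WeilCoh
import Groth.Agent.Lib.Helper23.WeilCorr

/-!
# Correspondences and graded homomorphisms in a Weil cohomology theory (helper23)
-/

set_option autoImplicit false
set_option linter.unusedSectionVars false
universe u v w
open CategoryTheory CategoryTheory.Limits AlgebraicGeometry TensorProduct

namespace Groth.Agent.Helper23.WeilGraph

open WeilCoh Groth.Agent.Helper23

section Theory
variable {k : Type u} [Field k] [IsAlgClosed k] {K : Type v} [Field K] [CharZero K]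
  (T : WeilCoh.Theory k K)

/-- existence of a right dual family for the trace pairing -/
theorem exists_dual_family_right {X : WeilCoh.Var k} {ι : Type} [Fintype ι] [DecidableEq ι] (r m : ℤ)
    (hrm : r + m = 2 * (dim X.obj.left : ℤ))
    (e : Module.Basis ι K ↥(T.gr X r)) :
    ∃ c : ι → ↥(T.gr X m), ∀ i l : ι,
      T.tr X ((e i : T.H X) * (c l : T.H X)) = if i = l then 1 else 0 := by
  have hperf := T.duality X r m hrm
  have hbij := LinearMap.IsPerfPair.bijective_right (pairing K (T.gr X r) (T.gr X m) (T.tr X))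
  choose c hc using fun l => hbij.2 (e.coord l)
  refine ⟨c, fun i l => ?_⟩
  have := congrArg (fun ψ : Module.Dual K ↥(T.gr X r) => ψ (e i)) (hc l)
  simp only [Module.Basis.coord_apply, Module.Basis.repr_self] at this
  rw [Finsupp.single_apply] at this
  exact this

/-- coordinates along a basis through a right dual family -/
theorem dual_repr_right {X : WeilCoh.Var k} {ι : Type} [Fintype ι] [DecidableEq ι] (r m : ℤ)
    (e : Module.Basis ι K ↥(T.gr X r)) (c : ι → ↥(T.gr X m))
    (hec : ∀ i l : ι, T.tr X ((e i : T.H X) * (c l : T.H X)) = if i = l then 1 else 0)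
    (b : ↥(T.gr X r)) (i : ι) :
    T.tr X ((b : T.H X) * (c i : T.H X)) = e.repr b i := by
  have hsum : (b : T.H X) = ∑ l, (e.repr b l) • (e l : T.H X) := by
    have h1 : ((∑ i, e.repr b i • e i : ↥(T.gr X r)) : T.H X) = b :=
      congrArg Subtype.val (e.sum_repr b)
    conv_lhs => rw [← h1]
    rw [Submodule.coe_sum]
    rfl
  conv_lhs => rw [hsum]
  rw [Finset.sum_mul, map_sum]
  simp only [smul_mul_assoc, map_smul, smul_eq_mul, hec]
  rw [Finset.sum_eq_single i]
  · rw [if_pos rfl, mul_one]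
  · intro l _ hl
    rw [if_neg hl, mul_zero]
  · intro h; exact absurd (Finset.mem_univ i) h

/-- expansion of a class along a basis with right-dual family -/
theorem dual_expand_right {X : WeilCoh.Var k} {ι : Type} [Fintype ι] [DecidableEq ι] (r m : ℤ)
    (e : Module.Basis ι K ↥(T.gr X r)) (c : ι → ↥(T.gr X m))
    (hec : ∀ i l : ι, T.tr X ((e i : T.H X) * (c l : T.H X)) = if i = l then 1 else 0)
    (y : ↥(T.gr X r)) :
    y = ∑ l, T.tr X ((y : T.H X) * (c l : T.H X)) • e l := by
  conv_lhs => rw [← e.sum_repr y]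
  refine Finset.sum_congr rfl fun l _ => ?_
  rw [dual_repr_right T r m e c hec y l]

/-- the action of a correspondence, as a linear map in the correspondence -/
noncomputable def actL {X Y P : WeilCoh.Var k} (p : P ⟶ X) (q : P ⟶ Y) (m : ℤ) (i : ℤ) :
    ↥(T.gr P m) →ₗ[K] (↥(T.gr X i) →ₗ[K]
      ↥(T.gr Y (i + m + 2 * (dim Y.obj.left : ℤ) - 2 * (dim P.obj.left : ℤ)))) where
  toFun φ := act T p q m φ i
  map_add' φ₁ φ₂ := act_add T p q m φ₁ φ₂ i
  map_smul' c φ := act_smul T p q m c φ i

theorem actL_apply {X Y P : WeilCoh.Var k} (p : P ⟶ X) (q : P ⟶ Y) (m : ℤ) (i : ℤ)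
    (φ : ↥(T.gr P m)) : actL T p q m i φ = act T p q m φ i := rfl

/-- a correspondence is determined by its action -/
theorem act_injective {X Y P : WeilCoh.Var k} (p : P ⟶ X) (q : P ⟶ Y) (hP : IsProd p q) (m : ℤ)
    (φ φ' : ↥(T.gr P m)) (h : ∀ i, act T p q m φ i = act T p q m φ' i) : φ = φ' := by
  apply Subtype.ext
  refine WeilLib.eq_of_tr_mul_eq' T m _ _ φ.2 φ'.2 ?_
  intro b hb
  refine gr_prod_induction T p q hP (2 * (dim P.obj.left : ℤ) - m)
    (fun b => T.tr P ((b : T.H P) * (φ : T.H P)) = T.tr P ((b : T.H P) * (φ' : T.H P)))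
    ?_ ?_ ?_ ?_ ⟨b, hb⟩
  · intro u v x y huv hx hy
    have key : ∀ ψ : ↥(T.gr P m), T.tr P (T.pull p x * T.pull q y * (ψ : T.H P)) =
        (-1 : K) ^ (v.natAbs * m.natAbs) *
          T.tr Y ((act T p q m ψ u ⟨x, hx⟩ : T.H Y) * y) := by
      intro ψ
      rw [act_spec T p q m ψ u ⟨x, hx⟩ y (WeilLib.mem_gr_of_eq T hy (by omega)), mul_assoc,
        T.gradedComm P v m _ _ (T.pull_mem q v y hy) ψ.2, mul_smul_comm, map_smul, smul_eq_mul,
        mul_assoc]
    change T.tr P (T.pull p x * T.pull q y * (φ : T.H P)) =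
      T.tr P (T.pull p x * T.pull q y * (φ' : T.H P))
    rw [key φ, key φ', h u]
  · simp
  · intro x y hx hy
    simp only [Submodule.coe_add, add_mul, map_add, hx, hy]
  · intro c x hx
    simp only [Submodule.coe_smul, smul_mul_assoc, map_smul, hx]

/-- every family of linear maps is the action of a correspondence -/
theorem act_surjective {X Y P : WeilCoh.Var k} (p : P ⟶ X) (q : P ⟶ Y) (hP : IsProd p q) (m : ℤ)
    (g : ∀ i : ℤ, ↥(T.gr X i) →ₗ[K]
      ↥(T.gr Y (i + m + 2 * (dim Y.obj.left : ℤ) - 2 * (dim P.obj.left : ℤ)))) :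
    ∃ φ : ↥(T.gr P m), ∀ i, act T p q m φ i = g i := by
  classical
  have hdim := WeilLib.dim_prod T p q hP
  let ι : ℕ → Type := fun r => Fin (Module.finrank K ↥(T.gr X (r : ℤ)))
  let e : (r : ℕ) → Module.Basis (ι r) K ↥(T.gr X (r : ℤ)) := fun r => Module.finBasis K _
  choose c hc using fun r : ℕ => exists_dual_family_right T (r : ℤ)
    (2 * (dim X.obj.left : ℤ) - r) (by ring) (e r)
  let z : (r : ℕ) → ι r → ↥(T.gr P m) := fun r l =>
    ⟨T.pull p (c r l : T.H X) * T.pull q (g r (e r l) : T.H Y), WeilLib.mem_gr_of_eq T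
      (SetLike.mul_mem_graded (T.pull_mem p _ _ (c r l).2) (T.pull_mem q _ _ (g r (e r l)).2))
      (by omega)⟩
  refine ⟨∑ r ∈ Finset.range (2 * dim X.obj.left + 1), ∑ l, z r l, fun i => ?_⟩
  apply LinearMap.ext
  intro y
  rw [← actL_apply, map_sum]
  simp only [map_sum, LinearMap.sum_apply, actL_apply]
  have hterm : ∀ (r : ℕ) (l : ι r), (act T p q m (z r l) i y : T.H Y) =
      T.tr X ((y : T.H X) * (c r l : T.H X)) • (g r (e r l) : T.H Y) := by
    intro r l
    exact act_prod T p q hP m (2 * (dim X.obj.left : ℤ) - r) _ (c r l : T.H X)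
      (g r (e r l) : T.H Y) (by omega) (c r l).2 (g r (e r l)).2 i y
  apply Subtype.ext
  rw [Submodule.coe_sum]
  simp only [Submodule.coe_sum, hterm]
  by_cases hi : i < 0 ∨ 2 * (dim X.obj.left : ℤ) < i
  · have hy : y = 0 := Subtype.ext (WeilLib.eq_zero_of_mem_gr_of_lt T i _ y.2 hi)
    rw [hy, map_zero]
    simp
  · push Not at hi
    obtain ⟨j, rfl⟩ := Int.eq_ofNat_of_zero_le hi.1
    have hj : j ∈ Finset.range (2 * dim X.obj.left + 1) := by
      rw [Finset.mem_range]; omega
    rw [Finset.sum_eq_single_of_mem j hj]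
    · conv_rhs => rw [dual_expand_right T (j : ℤ) _ (e j) (c j) (hc j) y]
      rw [map_sum, Submodule.coe_sum]
      refine Finset.sum_congr rfl fun l _ => ?_
      rw [map_smul]
      rfl
    · intro r _ hr
      refine Finset.sum_eq_zero fun l _ => ?_
      rw [WeilLib.tr_mul_eq_zero T (j : ℤ) (2 * (dim X.obj.left : ℤ) - r) _ _ y.2 (c r l).2
        (by omega), zero_smul]

end Theory

end Groth.Agent.Helper23.WeilGraph
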