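import Mathlib
import Groth.Prelude.Def_WeilCoh
import Groth.Agent.Lib.Helper23.WeilHom

/-!
# Graphs, polynomial combinations of graphs and Künneth projectors (helper23)
-/

set_option autoImplicit false
set_option linter.unusedSectionVars false
universe u v w
open CategoryTheory CategoryTheory.Limits AlgebraicGeometry TensorProduct Polynomial

namespace Groth.Agent.Helper23.WeilGraph

open WeilCoh Groth.Agent.Helper23

section Lift
variable {k : Type u} [Field k]

/-- morphisms into a product of varieties -/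
theorem exists_lift {X Y P Z : WeilCoh.Var k} (p : P ⟶ X) (q : P ⟶ Y) (hP : IsProd p q)
    (f : Z ⟶ X) (g : Z ⟶ Y) : ∃ j : Z ⟶ P, j ≫ p = f ∧ j ≫ q = g := by
  have hw : sm f ≫ X.obj.hom = sm g ≫ Y.obj.hom := by
    rw [Over.w f.hom, Over.w g.hom]
  let l := hP.lift (sm f) (sm g) hw
  have hl1 : l ≫ sm p = sm f := hP.lift_fst _ _ _
  have hl2 : l ≫ sm q = sm g := hP.lift_snd _ _ _
  have hlw : l ≫ P.obj.hom = Z.obj.hom := by
    rw [← Over.w p.hom, ← Category.assoc, hl1, Over.w f.hom]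
  refine ⟨ObjectProperty.homMk (Over.homMk l hlw), ?_, ?_⟩
  · apply ObjectProperty.hom_ext
    apply Over.OverMorphism.ext
    exact hl1
  · apply ObjectProperty.hom_ext
    apply Over.OverMorphism.ext
    exact hl2

theorem hom_ext_prod {X Y P Z : WeilCoh.Var k} (p : P ⟶ X) (q : P ⟶ Y) (hP : IsProd p q)
    (f g : Z ⟶ P) (h1 : f ≫ p = g ≫ p) (h2 : f ≫ q = g ≫ q) : f = g := by
  apply ObjectProperty.hom_ext
  apply Over.OverMorphism.ext
  apply hP.hom_ext
  · exact congrArg sm h1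
  · exact congrArg sm h2

end Lift

section Theory
variable {k : Type u} [Field k] [IsAlgClosed k] {K : Type v} [Field K] [CharZero K]
  (T : WeilCoh.Theory k K)

/-- the class of the transposed graph of a morphism `Y ⟶ X` in `X × Y` has degree `2 dim X` -/
theorem cl_tgraph_mem {X Y P : WeilCoh.Var k} (p : P ⟶ X) (q : P ⟶ Y) (hP : IsProd p q)
    (j : Y ⟶ P) (hjq : j ≫ q = 𝟙 Y) :
    T.cl P (WeilCoh.sm j (genericPoint ↥Y.obj.left)) ∈ T.gr P (2 * (dim X.obj.left : ℤ)) :=
  (cl_graph_mem T q p hP.flip j hjq).1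

/-- the transposed graph of `G : Y ⟶ X` acts on cohomology as `G^*` -/
theorem act_tgraph {X Y P : WeilCoh.Var k} (p : P ⟶ X) (q : P ⟶ Y) (hP : IsProd p q)
    (j : Y ⟶ P) (hjq : j ≫ q = 𝟙 Y) (i : ℤ) (x : ↥(T.gr X i)) :
    (act T p q (2 * (dim X.obj.left : ℤ))
      ⟨T.cl P (WeilCoh.sm j (genericPoint ↥Y.obj.left)), cl_tgraph_mem T p q hP j hjq⟩ i x : T.H Y) =
      T.pull (j ≫ p) (x : T.H X) := by
  have hdim := WeilLib.dim_prod T p q hP
  set u : ↥(T.gr P (2 * (dim X.obj.left : ℤ))) :=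
    ⟨T.cl P (WeilCoh.sm j (genericPoint ↥Y.obj.left)), cl_tgraph_mem T p q hP j hjq⟩ with hu
  refine WeilLib.eq_of_tr_mul_eq T (i + 2 * (dim X.obj.left : ℤ) + 2 * (dim Y.obj.left : ℤ) -
    2 * (dim P.obj.left : ℤ)) _ _ (act T p q _ u i x).2
    (WeilLib.mem_gr_of_eq T (T.pull_mem (j ≫ p) i _ x.2) (by omega)) ?_
  intro b hb
  rw [act_spec T p q _ u i x b (WeilLib.mem_gr_of_eq T hb (by omega))]
  have hcomm : T.pull p (x : T.H X) * (u : T.H P) = (u : T.H P) * T.pull p (x : T.H X) := by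
    have h := T.gradedComm P i (2 * (dim X.obj.left : ℤ)) _ _ (T.pull_mem p i _ x.2) u.2
    rw [h]
    have hev : Even (i.natAbs * (2 * (dim X.obj.left : ℤ)).natAbs) := by
      have : (2 * (dim X.obj.left : ℤ)).natAbs = 2 * dim X.obj.left := by omega
      rw [this]
      exact ⟨i.natAbs * dim X.obj.left, by ring⟩
    rw [hev.neg_one_pow, one_smul]
  rw [hcomm, mul_assoc]
  change T.tr P (T.cl P (WeilCoh.sm j (genericPoint ↥Y.obj.left)) * _) = _
  rw [tr_graph T j q hjq _ (WeilLib.mem_gr_of_eq T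
    (SetLike.mul_mem_graded (T.pull_mem p i _ x.2) (T.pull_mem q _ b hb)) (by omega)),
    map_mul, pull_pull, pull_pull, hjq, pull_id_apply]

/-- iterates of an endomorphism -/
noncomputable def fpow {X : WeilCoh.Var k} (F : X ⟶ X) : ℕ → (X ⟶ X)
  | 0 => 𝟙 X
  | n + 1 => F ≫ fpow F n

theorem pull_fpow {X : WeilCoh.Var k} (F : X ⟶ X) (n : ℕ) (a : T.H X) :
    T.pull (fpow F n) a = (T.pull F)^[n] a := by
  induction n generalizing a with
  | zero => exact pull_id_apply T a
  | succ n ih =>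
    rw [fpow, ← pull_pull, ih, Function.iterate_succ_apply']

theorem pullDeg_pow_apply {X : WeilCoh.Var k} (F : X ⟶ X) (i : ℤ) (n : ℕ) (x : ↥(T.gr X i)) :
    (((T.pullDeg F i) ^ n) x : T.H X) = (T.pull F)^[n] (x : T.H X) := by
  induction n generalizing x with
  | zero => rfl
  | succ n ih =>
    rw [pow_succ', Module.End.mul_apply, Function.iterate_succ_apply']
    change T.pull F (((T.pullDeg F i) ^ n) x : T.H X) = _
    rw [ih]

/-- polynomial combinations of transposed graphs of iterates act as the polynomial in `F^*` -/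
theorem exists_poly_class {X P : WeilCoh.Var k} (p q : P ⟶ X) (hP : IsProd p q) (F : X ⟶ X)
    (Q : K[X]) :
    ∃ u : ↥(T.gr P (2 * (dim X.obj.left : ℤ))),
      (u : T.H P) ∈ Submodule.span K (Set.range (T.cl P)) ∧
      ∀ (i : ℤ) (x : ↥(T.gr X i)),
        (act T p q (2 * (dim X.obj.left : ℤ)) u i x : T.H X) =
          ((aeval (T.pullDeg F i) Q) x : T.H X) := by
  induction Q using Polynomial.induction_on' with
  | add Q₁ Q₂ h₁ h₂ =>
    obtain ⟨u₁, hu₁, ha₁⟩ := h₁
    obtain ⟨u₂, hu₂, ha₂⟩ := h₂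
    refine ⟨u₁ + u₂, Submodule.add_mem _ hu₁ hu₂, fun i x => ?_⟩
    rw [act_add, LinearMap.add_apply, Submodule.coe_add, ha₁, ha₂, map_add, LinearMap.add_apply,
      Submodule.coe_add]
  | monomial n c =>
    obtain ⟨j, hjp, hjq⟩ := exists_lift p q hP (fpow F n) (𝟙 X)
    refine ⟨c • ⟨T.cl P (WeilCoh.sm j (genericPoint ↥X.obj.left)), cl_tgraph_mem T p q hP j hjq⟩,
      Submodule.smul_mem _ _ (Submodule.subset_span ⟨_, rfl⟩), fun i x => ?_⟩
    rw [act_smul, LinearMap.smul_apply, Submodule.coe_smul, act_tgraph T p q hP j hjq i x, hjp,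
      pull_fpow, aeval_monomial, Module.End.mul_apply, Module.algebraMap_end_apply,
      Submodule.coe_smul, pullDeg_pow_apply]

/-- a polynomial which is the identity on one of the `F^*|H^j` and zero on the others -/
theorem exists_proj_poly {X : WeilCoh.Var k} (F : X ⟶ X)
    (hF : ∀ i j : ℤ, i ≠ j → IsCoprime (T.pullDeg F i).charpoly (T.pullDeg F j).charpoly)
    (S : Finset ℤ) (i : ℤ) :
    ∃ Q : K[X], aeval (T.pullDeg F i) Q = 1 ∧ ∀ j ∈ S, j ≠ i → aeval (T.pullDeg F j) Q = 0 := by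
  classical
  have hcop : IsCoprime (∏ j ∈ S.erase i, (T.pullDeg F j).charpoly) (T.pullDeg F i).charpoly :=
    IsCoprime.prod_left fun j hj => hF j i (Finset.ne_of_mem_erase hj)
  obtain ⟨A, B, hAB⟩ := hcop
  refine ⟨A * ∏ j ∈ S.erase i, (T.pullDeg F j).charpoly, ?_, ?_⟩
  · have h := congrArg (aeval (T.pullDeg F i)) hAB
    rw [map_add, map_mul _ B, LinearMap.aeval_self_charpoly, mul_zero, add_zero, map_one] at h
    exact h
  · intro j hj hji
    obtain ⟨R, hR⟩ := Finset.dvd_prod_of_mem (fun j => (T.pullDeg F j).charpoly)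
      (Finset.mem_erase.2 ⟨hji, hj⟩)
    rw [hR, map_mul, map_mul, LinearMap.aeval_self_charpoly, zero_mul, mul_zero]

/-- algebraicity of the Künneth projectors under coprimality of the characteristic polynomials -/
theorem kunneth_proj_algebraic {X P : WeilCoh.Var k} (p q : P ⟶ X) (hP : IsProd p q) (F : X ⟶ X)
    (hF : ∀ i j : ℤ, i ≠ j → IsCoprime (T.pullDeg F i).charpoly (T.pullDeg F j).charpoly)
    (i : ℤ) :
    ∃ u : ↥(T.gr P (2 * (dim X.obj.left : ℤ))),
      (u : T.H P) ∈ Submodule.span K (Set.range (T.cl P)) ∧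
      ∀ (j : ℤ) (b : ↥(T.gr X j)),
        (act T p q (2 * (dim X.obj.left : ℤ)) u j b : T.H X) = if j = i then (b : T.H X) else 0 := by
  obtain ⟨Q, hQi, hQj⟩ := exists_proj_poly T F hF (Finset.Icc 0 (2 * (dim X.obj.left : ℤ))) i
  obtain ⟨u, hu, hact⟩ := exists_poly_class T p q hP F Q
  refine ⟨u, hu, fun j b => ?_⟩
  rw [hact j b]
  split_ifs with hji
  · subst hji
    rw [hQi]; rfl
  · by_cases hj : j ∈ Finset.Icc 0 (2 * (dim X.obj.left : ℤ))
    · rw [hQj j hj hji]; rfl
    · have hb : b = 0 := by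
        apply Subtype.ext
        refine WeilLib.eq_zero_of_mem_gr_of_lt T j _ b.2 ?_
        rw [Finset.mem_Icc] at hj
        omega
      rw [hb, map_zero]; rfl

end Theory

end Groth.Agent.Helper23.WeilGraph
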