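import Mathlib
import Groth.Prelude.Def_WeilCoh
import Groth.Agent.Lib.Helper23.WeilDim
import Groth.Agent.Lib.Helper23.WeilProj

/-!
# Correspondences supported on the diagonal (helper23)
-/

set_option autoImplicit false
set_option linter.unusedSectionVars false
universe u v w
open CategoryTheory CategoryTheory.Limits AlgebraicGeometry TensorProduct

namespace Groth.Agent.Helper23.WeilGraph

open WeilCoh Groth.Agent.Helper23

section Theory
variable {k : Type u} [Field k] [IsAlgClosed k] {K : Type v} [Field K] [CharZero K]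
  (T : WeilCoh.Theory k K)

/-- classes of even degree are central -/
theorem mul_comm_of_even {X : WeilCoh.Var k} (i : ℤ) (c : ℕ) (a b : T.H X) (ha : a ∈ T.gr X i)
    (hb : b ∈ T.gr X (2 * (c : ℤ))) : a * b = b * a := by
  have h := T.gradedComm X i (2 * (c : ℤ)) _ _ ha hb
  rw [h]
  have hev : Even (i.natAbs * (2 * (c : ℤ)).natAbs) := by
    have : (2 * (c : ℤ)).natAbs = 2 * c := by omega
    rw [this]
    exact ⟨i.natAbs * c, by ring⟩
  rw [hev.neg_one_pow, one_smul]

/-- the class of `d(Z)` for the diagonal `d` acts as cup product with the class of `Z` -/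
theorem push_diag {X P : WeilCoh.Var k} (p q : P ⟶ X) (hP : WeilCoh.IsProd p q) (d : X ⟶ P)
    (hdp : d ≫ p = 𝟙 X) (hdq : d ≫ q = 𝟙 X) (η : ↥X.obj.left) (i : ℤ) (a : ↥(T.gr X i)) :
    (T.push q (i + 2 * (WeilCoh.codim P.obj.left (WeilCoh.sm d η) : ℤ))
        ⟨T.pull p (a : T.H X) * T.cl P (WeilCoh.sm d η),
          SetLike.mul_mem_graded (T.pull_mem p i a a.2) (T.cl_mem P (WeilCoh.sm d η))⟩ : T.H X) =
      (a : T.H X) * T.cl X η := by
  have hdim := WeilLib.dim_prod T p q hP
  have hpd := WeilDim.pdim_section d p hdp η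
  have h1 := WeilDim.codim_add_pdim P (WeilCoh.sm d η)
  have h2 := WeilDim.codim_add_pdim X η
  set cP := WeilCoh.codim P.obj.left (WeilCoh.sm d η) with hcP
  set cX := WeilCoh.codim X.obj.left η with hcX
  set e := WeilCoh.pdim X.obj.left η with he
  have h1' : (cP : ℤ) + e = dim P.obj.left := by
    rw [← hpd]; exact_mod_cast h1
  have h2' : (cX : ℤ) + e = dim X.obj.left := by exact_mod_cast h2
  refine WeilLib.eq_of_tr_mul_eq T (i + 2 * (cP : ℤ) + 2 * (dim X.obj.left : ℤ) -
    2 * (dim P.obj.left : ℤ)) _ _ (T.push q _ _).2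
    (WeilLib.mem_gr_of_eq T (SetLike.mul_mem_graded a.2 (T.cl_mem X η)) (by omega)) ?_
  intro b hb
  rw [WeilLib.tr_push_mul T q _ _ b (WeilLib.mem_gr_of_eq T hb (by omega))]
  change T.tr P (T.pull p (a : T.H X) * T.cl P (WeilCoh.sm d η) * T.pull q b) = _
  rw [mul_comm_of_even T i cP _ _ (T.pull_mem p i a a.2) (T.cl_mem P (WeilCoh.sm d η)), mul_assoc]
  have hc : T.pull p (a : T.H X) * T.pull q b ∈ T.gr P (2 * (WeilCoh.pdim X.obj.left η : ℤ)) :=
    WeilLib.mem_gr_of_eq T (SetLike.mul_mem_graded (T.pull_mem p i a a.2) (T.pull_mem q _ b hb))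
      (by omega)
  have hpush := T.cl_push d η _ hc
  have hdeg : (WeilCoh.sm d).residueDegree η = 1 :=
    residueDegree_section (WeilCoh.sm d) (WeilCoh.sm p) (by rw [← sm_comp, hdp, sm_id]) _
  rw [hdeg, Nat.cast_one, one_mul] at hpush
  rw [← hpush, map_mul (T.pull d), pull_pull, pull_pull, hdp, hdq, pull_id_apply, pull_id_apply,
    ← mul_assoc, mul_comm_of_even T i cX _ _ a.2 (T.cl_mem X η)]

end Theory

end Groth.Agent.Helper23.WeilGraph
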