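import Mathlib
import Groth.Prelude.Def_WeilCoh
import Groth.Agent.Lib.Helper23.WeilDiag

/-!
# Transposition of correspondences and numerical triviality of the radical (helper23)
-/

set_option autoImplicit false
set_option linter.unusedSectionVars false
universe u v w
open CategoryTheory CategoryTheory.Limits AlgebraicGeometry TensorProduct

namespace Groth.Agent.Helper23.WeilGraph

open WeilCoh Groth.Agent.Helper23

section Theory
variable {k : Type u} [Field k] [IsAlgClosed k] {K : Type v} [Field K] [CharZero K]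
  (T : WeilCoh.Theory k K)

/-- the swap of the two factors is an involution -/
theorem swap_swap {X P : WeilCoh.Var k} (p q : P ⟶ X) (hP : IsProd p q) (σ : P ⟶ P)
    (hσp : σ ≫ p = q) (hσq : σ ≫ q = p) : σ ≫ σ = 𝟙 P :=
  hom_ext_prod p q hP _ _ (by rw [Category.assoc, hσp, hσq, Category.id_comp])
    (by rw [Category.assoc, hσq, hσp, Category.id_comp])

/-- the swap of the two factors preserves the trace -/
theorem tr_pull_swap {X P : WeilCoh.Var k} (p q : P ⟶ X) (hP : IsProd p q) (σ : P ⟶ P)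
    (hσp : σ ≫ p = q) (hσq : σ ≫ q = p) (x : T.H P) : T.tr P (T.pull σ x) = T.tr P x := by
  obtain ⟨z, rfl⟩ := (T.kunneth p q hP).2 x
  induction z using TensorProduct.induction_on with
  | zero => simp
  | add z₁ z₂ h₁ h₂ => simp only [map_add, h₁, h₂]
  | tmul a b =>
    rw [kunnethMap_tmul, map_mul (T.pull σ), pull_pull, pull_pull, hσp, hσq,
      tr_prod_all T p q hP]
    refine homog_induction T X (fun a => T.tr P (T.pull q a * T.pull p b) =
      T.tr X a * T.tr X b) ?_ ?_ ?_ a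
    · intro s a ha
      refine homog_induction T X (fun b => T.tr P (T.pull q a * T.pull p b) =
        T.tr X a * T.tr X b) ?_ ?_ ?_ b
      · intro t b hb
        rw [T.gradedComm P s t _ _ (T.pull_mem q s a ha) (T.pull_mem p t b hb), map_smul,
          tr_prod_all T p q hP, smul_eq_mul]
        by_cases hs : s = 2 * (dim X.obj.left : ℤ)
        · have hev : Even (s.natAbs * t.natAbs) := by
            have : s.natAbs = 2 * dim X.obj.left := by omega
            rw [this]
            exact ⟨dim X.obj.left * t.natAbs, by ring⟩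
          rw [hev.neg_one_pow, one_mul, mul_comm]
        · rw [T.tr_vanish X s a ha hs, mul_zero, zero_mul, mul_zero]
      · simp
      · intro x y hx hy
        rw [map_add, mul_add, map_add, hx, hy, map_add, mul_add]
    · simp
    · intro x y hx hy
      rw [map_add, add_mul, map_add, hx, hy, map_add, add_mul]

/-- pulling back the class of `σ(Z)` along the swap `σ` gives the class of `Z` -/
theorem pull_swap_cl {X P : WeilCoh.Var k} (p q : P ⟶ X) (hP : IsProd p q) (σ : P ⟶ P)
    (hσp : σ ≫ p = q) (hσq : σ ≫ q = p) (ζ : P.obj.left) :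
    T.pull σ (T.cl P (sm σ ζ)) = T.cl P ζ := by
  have hσσ := swap_swap p q hP σ hσp hσq
  have hpd := WeilDim.pdim_section σ σ hσσ ζ
  have h1 := WeilDim.codim_add_pdim P ζ
  have hcod : codim P.obj.left (sm σ ζ) = codim P.obj.left ζ := by
    unfold codim; rw [hpd]
  have hmem : T.pull σ (T.cl P (sm σ ζ)) ∈ T.gr P (2 * (codim P.obj.left ζ : ℤ)) := by
    have := T.pull_mem σ _ _ (T.cl_mem P (sm σ ζ))
    rwa [hcod] at this
  refine WeilLib.eq_of_tr_mul_eq T _ _ _ hmem (T.cl_mem P ζ) ?_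
  intro b hb
  have hb' : b ∈ T.gr P (2 * (pdim P.obj.left ζ : ℤ)) :=
    WeilLib.mem_gr_of_eq T hb (by omega)
  have hbb : T.pull σ (T.pull σ b) = b := by rw [pull_pull, hσσ, pull_id_apply]
  have hpush := T.cl_push σ ζ (T.pull σ b) (T.pull_mem σ _ _ hb')
  have hdeg : (sm σ).residueDegree ζ = 1 :=
    residueDegree_section (sm σ) (sm σ) (by rw [← sm_comp, hσσ, sm_id]) _
  rw [hdeg, Nat.cast_one, one_mul, hbb] at hpush
  rw [hpush, ← tr_pull_swap T p q hP σ hσp hσq (T.cl P (sm σ ζ) * T.pull σ b),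
    map_mul (T.pull σ), hbb]

/-- the swap preserves the span of the classes of closed irreducible subsets -/
theorem pull_swap_mem_span {X P : WeilCoh.Var k} (p q : P ⟶ X) (hP : IsProd p q) (σ : P ⟶ P)
    (hσp : σ ≫ p = q) (hσq : σ ≫ q = p) (v : T.H P)
    (hv : v ∈ Submodule.span K (Set.range (T.cl P))) :
    T.pull σ v ∈ Submodule.span K (Set.range (T.cl P)) := by
  have hσσ := swap_swap p q hP σ hσp hσq
  induction hv using Submodule.span_induction with
  | mem x hx =>
    obtain ⟨ζ, rfl⟩ := hx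
    have hζ : sm σ (sm σ ζ) = ζ := by
      have : sm σ ≫ sm σ = 𝟙 P.obj.left := congrArg sm hσσ
      rw [← Scheme.Hom.comp_apply, this]; rfl
    have := pull_swap_cl T p q hP σ hσp hσq (sm σ ζ)
    rw [hζ] at this
    rw [this]
    exact Submodule.subset_span ⟨_, rfl⟩
  | zero => rw [map_zero]; exact Submodule.zero_mem _
  | add x y _ _ hx hy => rw [map_add]; exact Submodule.add_mem _ hx hy
  | smul c x _ hx => rw [map_smul]; exact Submodule.smul_mem _ _ hx

/-- the action of a correspondence only depends on the underlying classes -/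
theorem act_coe_congr {X Y P : WeilCoh.Var k} (p : P ⟶ X) (q : P ⟶ Y) {m m' i i' : ℤ}
    (hm : m = m') (hi : i = i') (φ : ↥(T.gr P m)) (φ' : ↥(T.gr P m'))
    (hφ : (φ : T.H P) = (φ' : T.H P)) (x : ↥(T.gr X i)) (x' : ↥(T.gr X i'))
    (hx : (x : T.H X) = (x' : T.H X)) :
    (act T p q m φ i x : T.H Y) = (act T p q m' φ' i' x' : T.H Y) := by
  subst hm hi
  have h1 : φ = φ' := Subtype.ext hφ
  have h2 : x = x' := Subtype.ext hx
  rw [h1, h2]

/-- a correspondence whose products with all algebraic correspondences act nilpotently is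
numerically trivial against algebraic classes -/
theorem radical_num_trivial {X P : WeilCoh.Var k} (p q : P ⟶ X) (hP : IsProd p q) (σ : P ⟶ P)
    (hσp : σ ≫ p = q) (hσq : σ ≫ q = p)
    (hdim : ∀ j : ℤ, j + 2 * (dim X.obj.left : ℤ) + 2 * (dim X.obj.left : ℤ) -
      2 * (dim P.obj.left : ℤ) = j)
    (u v : ↥(T.gr P (2 * (dim X.obj.left : ℤ))))
    (hv : (v : T.H P) ∈ Submodule.span K (Set.range (T.cl P)))
    (hnil : ∀ (w : ↥(T.gr P (2 * (dim X.obj.left : ℤ)))),
      (w : T.H P) ∈ Submodule.span K (Set.range (T.cl P)) → ∀ j : ℕ,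
      IsNilpotent ((((LinearEquiv.ofEq _ (T.gr X (j : ℤ))
          (congrArg (T.gr X) (hdim (j : ℤ)))).toLinearMap ∘ₗ
            act T p q (2 * (dim X.obj.left : ℤ)) w (j : ℤ) : Module.End K ↥(T.gr X (j : ℤ)))) *
        ((LinearEquiv.ofEq _ (T.gr X (j : ℤ)) (congrArg (T.gr X) (hdim (j : ℤ)))).toLinearMap ∘ₗ
            act T p q (2 * (dim X.obj.left : ℤ)) u (j : ℤ)))) :
    T.tr P ((u : T.H P) * (v : T.H P)) = 0 := by
  have hσσ := swap_swap p q hP σ hσp hσq
  have hdP : (dim P.obj.left : ℤ) = 2 * (dim X.obj.left : ℤ) := by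
    have := hdim 0; omega
  set w : ↥(T.gr P (2 * (dim X.obj.left : ℤ))) := ⟨T.pull σ (v : T.H P), T.pull_mem σ _ _ v.2⟩
    with hw
  have hwalg : (w : T.H P) ∈ Submodule.span K (Set.range (T.cl P)) :=
    pull_swap_mem_span T p q hP σ hσp hσq _ hv
  have hwv : T.pull σ (w : T.H P) = (v : T.H P) := by
    change T.pull σ (T.pull σ (v : T.H P)) = _
    rw [pull_pull, hσσ, pull_id_apply]
  let φ' : ↥(T.gr P (2 * (dim X.obj.left : ℤ) + 0)) :=
    ⟨(u : T.H P), WeilLib.mem_gr_of_eq T u.2 (by ring)⟩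
  let ψ' : ↥(T.gr P (2 * (dim X.obj.left : ℤ) - 0)) :=
    ⟨(w : T.H P), WeilLib.mem_gr_of_eq T w.2 (by ring)⟩
  have FL := formal_lefschetz T X X P P p q hP p q hP σ hσp hσq 0 (fun i => by omega) φ' ψ'
  change T.tr P ((u : T.H P) * T.pull σ (w : T.H P)) = _ at FL
  rw [hwv] at FL
  rw [FL]
  refine Finset.sum_eq_zero fun i _ => ?_
  have hnil_i := hnil w hwalg i
  have hEq : ((LinearEquiv.ofEq _ (T.gr X (i : ℤ)) (congrArg (T.gr X) ((fun i => by omega :
      ∀ i : ℤ, ((i + (2 * (WeilCoh.dim X.obj.left : ℤ) + 0) + 2 * (WeilCoh.dim X.obj.left : ℤ) -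
        2 * (WeilCoh.dim P.obj.left : ℤ)) + (2 * (WeilCoh.dim X.obj.left : ℤ) - 0) +
        2 * (WeilCoh.dim X.obj.left : ℤ) - 2 * (WeilCoh.dim P.obj.left : ℤ)) = i)
        (i : ℤ)))).toLinearMap ∘ₗ
      (act T p q (2 * (WeilCoh.dim X.obj.left : ℤ) - 0) ψ'
        ((i : ℤ) + (2 * (WeilCoh.dim X.obj.left : ℤ) + 0) + 2 * (WeilCoh.dim X.obj.left : ℤ) -
          2 * (WeilCoh.dim P.obj.left : ℤ))) ∘ₗ
      (act T p q (2 * (WeilCoh.dim X.obj.left : ℤ) + 0) φ' (i : ℤ))) =
      ((((LinearEquiv.ofEq _ (T.gr X (i : ℤ))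
          (congrArg (T.gr X) (hdim (i : ℤ)))).toLinearMap ∘ₗ
            act T p q (2 * (dim X.obj.left : ℤ)) w (i : ℤ) : Module.End K ↥(T.gr X (i : ℤ)))) *
        ((LinearEquiv.ofEq _ (T.gr X (i : ℤ)) (congrArg (T.gr X) (hdim (i : ℤ)))).toLinearMap ∘ₗ
            act T p q (2 * (dim X.obj.left : ℤ)) u (i : ℤ))) := by
    apply LinearMap.ext
    intro x
    apply Subtype.ext
    rw [Module.End.mul_apply]
    simp only [LinearMap.comp_apply, LinearEquiv.coe_coe, LinearEquiv.coe_ofEq_apply]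
    refine act_coe_congr T p q (by ring) (by omega) _ _ rfl _ _ ?_
    rw [LinearEquiv.coe_ofEq_apply]
    exact act_coe_congr T p q (by ring) rfl _ _ rfl _ _ rfl
  rw [hEq]
  have h0 := (LinearMap.isNilpotent_trace_of_isNilpotent hnil_i).eq_zero
  rw [h0, mul_zero]

end Theory

end Groth.Agent.Helper23.WeilGraph
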