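import Mathlib
import Groth.Prelude.Def_WeilCoh
import Groth.Prelude.Def_ChowOps
import Groth.Agent.Lib.Helper23.WeilPt

/-!
# Zero-cycles and their classes in a Weil cohomology theory (helper23)
-/

set_option autoImplicit false
set_option linter.unusedSectionVars false
set_option linter.style.haveILetI false
universe u v w
open CategoryTheory CategoryTheory.Limits AlgebraicGeometry

namespace Groth.Agent.Helper23.WeilZero

open WeilCoh Groth.Agent.Helper23

/-- the residue fields of the spectrum of an algebraically closed field are algebraically closed -/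
theorem isAlgClosed_residueField_spec (k : Type u) [Field k] [IsAlgClosed k]
    (y : Spec (CommRingCat.of k)) : IsAlgClosed ((Spec (CommRingCat.of k)).residueField y) := by
  haveI : y.asIdeal.IsPrime := y.isPrime
  let e₁ : k ≃+* y.asIdeal.ResidueField := (Ideal.algEquivResidueFieldOfField y.asIdeal).toRingEquiv
  let e₂ : (Spec (CommRingCat.of k)).residueField y ≃+* y.asIdeal.ResidueField :=
    (Scheme.Spec.residueFieldIso (CommRingCat.of k) y).commRingCatIsoToRingEquiv
  exact IsAlgClosed.of_ringEquiv _ _ (e₁.trans e₂.symm)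

/-- a point of a scheme locally of finite type over an algebraically closed field whose residue
field is algebraic over the base is a closed point with residue degree one -/
theorem closed_of_trdeg_zero {k : Type u} [Field k] [IsAlgClosed k] {X : Scheme.{u}}
    (p : X ⟶ Spec (CommRingCat.of k)) [LocallyOfFiniteType p] [JacobsonSpace X] (x : X)
    (h : (letI := (p.residueFieldMap x).hom.toAlgebra
      Algebra.trdeg ((Spec (CommRingCat.of k)).residueField (p x)) (X.residueField x)) = 0) :
    IsClosed ({x} : Set X) ∧ p.residueDegree x = 1 := by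
  letI := (p.residueFieldMap x).hom.toAlgebra
  haveI := isAlgClosed_residueField_spec k (p x)
  haveI : Algebra.IsAlgebraic ((Spec (CommRingCat.of k)).residueField (p x)) (X.residueField x) :=
    trdeg_eq_zero_iff.1 h
  haveI : Algebra.IsIntegral ((Spec (CommRingCat.of k)).residueField (p x)) (X.residueField x) :=
    Algebra.IsAlgebraic.isIntegral
  have hbij : Function.Bijective (p.residueFieldMap x).hom :=
    IsAlgClosed.algebraMap_bijective_of_isIntegral
  have hsurj : Function.Surjective (p.residueFieldMap x).hom := hbij.2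
  refine ⟨?_, WeilPt.residueDegree_eq_one_of_bijective p x hbij⟩
  rw [isClosed_singleton_iff_locallyOfFiniteType]
  have hcomp : X.fromSpecResidueField x ≫ p =
      Spec.map (p.residueFieldMap x) ≫ (Spec (CommRingCat.of k)).fromSpecResidueField (p x) :=
    (Scheme.Hom.SpecMap_residueFieldMap_fromSpecResidueField p x).symm
  haveI : IsClosedImmersion (Spec.map (p.residueFieldMap x)) :=
    IsClosedImmersion.spec_of_surjective _ hsurj
  haveI : IsClosedImmersion ((Spec (CommRingCat.of k)).fromSpecResidueField (p x)) := by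
    rw [← isClosed_singleton_iff_isClosedImmersion]
    have : p x = IsLocalRing.closedPoint k := Subsingleton.elim _ _
    rw [this]
    exact IsLocalRing.isClosed_singleton_closedPoint k
  haveI : LocallyOfFiniteType (X.fromSpecResidueField x ≫ p) := by
    rw [hcomp]; infer_instance
  exact locallyOfFiniteType_of_comp (X.fromSpecResidueField x) p

section Theory
variable {k : Type u} [Field k] [IsAlgClosed k] {K : Type v} [Field K] [CharZero K]
  (T : WeilCoh.Theory k K)

instance (X : WeilCoh.Var k) : LocallyOfFiniteType X.obj.hom := by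
  have : Smooth X.obj.hom := X.property.1
  infer_instance

/-- a point of `δ`-dimension zero of a variety is closed and of residue degree one -/
theorem closed_of_delta_zero (X : WeilCoh.Var k) (δ : ↥X.obj.left → ℤ)
    (hδ : Cyc.DeltaCompat X.obj.hom δ (fun _ => 0)) (x : X.obj.left) (hx : δ x = 0) :
    IsClosed ({x} : Set X.obj.left) ∧ X.obj.hom.residueDegree x = 1 := by
  obtain ⟨n, hn, hδn⟩ := hδ x
  have hn0 : n = 0 := by
    have h1 : δ x = 0 + (n : ℤ) := hδn
    rw [hx] at h1
    omega
  apply closed_of_trdeg_zero X.obj.hom x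
  rw [hn, hn0]
  rfl

variable (X : WeilCoh.Var k) [QuasiCompact X.obj.hom]

theorem finite_support (α : AlgebraicCycle X.obj.left ℤ) : (Function.support (α : X.obj.left → ℤ)).Finite := by
  haveI : CompactSpace ↥X.obj.left :=
    (HasAffineProperty.iff_of_isAffine (P := @QuasiCompact) (f := X.obj.hom)).1 inferInstance
  have := α.locallyFiniteSupport.finite_inter_support_of_isCompact isCompact_univ
  rwa [Set.univ_inter] at this

/-- the degree of a zero-cycle is the sum of its coefficients -/
theorem deg_eq_sum (δ : ↥X.obj.left → ℤ) (hδ : Cyc.DeltaCompat X.obj.hom δ (fun _ => 0))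
    (α : AlgebraicCycle X.obj.left ℤ) (hα : α ∈ Cyc.Zk X.obj.left δ 0) :
    ChowOps.deg X.obj.hom δ α = ∑ x ∈ (finite_support X α).toFinset, α x := by
  unfold ChowOps.deg AlgebraicCycle.map
  rw [Function.locallyFinsupp.map_apply]
  have hpre : ∀ (S : Set X.obj.left), S = Set.univ → ∀ f : X.obj.left → ℤ,
      ∑ᶠ (x) (_ : x ∈ S), f x = ∑ᶠ x, f x := by
    intro S hS f; rw [hS, finsum_mem_univ]
  refine (hpre _ ?_ _).trans ?_
  · ext x
    simp only [Set.mem_preimage, Set.mem_univ, iff_true]
    exact Subsingleton.elim _ _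
  have hterm : ∀ x : X.obj.left,
      α x * ((AlgebraicCycle.mapCoeff X.obj.hom δ (fun _ => (0 : ℤ)) x : ℕ) : ℤ) = α x := by
    intro x
    by_cases hx : δ x = 0
    · unfold AlgebraicCycle.mapCoeff
      rw [if_pos hx, (closed_of_delta_zero X δ hδ x hx).2, Nat.cast_one, mul_one]
    · rw [hα x hx, zero_mul]
  simp only [hterm]
  rw [finsum_eq_sum_of_support_subset]
  intro x hx
  simpa using hx

/-- the trace of the class of a zero-cycle is the sum of its coefficients -/
theorem tr_clCyc (δ : ↥X.obj.left → ℤ) (hδ : Cyc.DeltaCompat X.obj.hom δ (fun _ => 0))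
    (α : AlgebraicCycle X.obj.left ℤ) (hα : α ∈ Cyc.Zk X.obj.left δ 0) :
    T.tr X (T.clCyc X α) = ((∑ x ∈ (finite_support X α).toFinset, α x : ℤ) : K) := by
  unfold WeilCoh.TheoryOn.clCyc
  rw [finsum_eq_sum_of_support_subset (s := (finite_support X α).toFinset)]
  · rw [map_sum, Int.cast_sum]
    refine Finset.sum_congr rfl fun x hx => ?_
    have hx' : α x ≠ 0 := by simpa using hx
    have hδx : δ x = 0 := by
      by_contra h
      exact hx' (hα x h)
    rw [map_smul, WeilPt.tr_cl_closedPoint T X x (closed_of_delta_zero X δ hδ x hδx).1,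
      smul_eq_mul, mul_one]
  · intro x hx
    simp only [Set.Finite.coe_toFinset, Function.mem_support]
    intro h0
    apply hx
    change ((α x : ℤ) : K) • T.cl X x = 0
    rw [h0, Int.cast_zero, zero_smul]

theorem deg_eq_tr (δ : ↥X.obj.left → ℤ) (hδ : Cyc.DeltaCompat X.obj.hom δ (fun _ => 0))
    (α : AlgebraicCycle X.obj.left ℤ) (hα : α ∈ Cyc.Zk X.obj.left δ 0) :
    (ChowOps.deg X.obj.hom δ α : K) = T.tr X (T.clCyc X α) := by
  rw [tr_clCyc T X δ hδ α hα, deg_eq_sum X δ hδ α hα]

/-- the class of a zero-cycle lies in the top degree -/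
theorem clCyc_mem_top (δ : ↥X.obj.left → ℤ) (hδ : Cyc.DeltaCompat X.obj.hom δ (fun _ => 0))
    (α : AlgebraicCycle X.obj.left ℤ) (hα : α ∈ Cyc.Zk X.obj.left δ 0) :
    T.clCyc X α ∈ T.gr X (2 * (WeilCoh.dim X.obj.left : ℤ)) := by
  unfold WeilCoh.TheoryOn.clCyc
  rw [finsum_eq_sum_of_support_subset (s := (finite_support X α).toFinset)]
  · refine Submodule.sum_mem _ fun x hx => ?_
    have hx' : α x ≠ 0 := by simpa using hx
    have hδx : δ x = 0 := by
      by_contra h
      exact hx' (hα x h)
    refine Submodule.smul_mem _ _ ?_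
    have h := T.cl_mem X x
    unfold WeilCoh.codim at h
    rw [WeilPt.pdim_of_isClosed _ x (closed_of_delta_zero X δ hδ x hδx).1, Nat.sub_zero] at h
    exact h
  · intro x hx
    simp only [Set.Finite.coe_toFinset, Function.mem_support]
    intro h0
    apply hx
    change ((α x : ℤ) : K) • T.cl X x = 0
    rw [h0, Int.cast_zero, zero_smul]

/-- a zero-cycle is homologically trivial iff its degree vanishes -/
theorem homEquivZero_iff (δ : ↥X.obj.left → ℤ) (hδ : Cyc.DeltaCompat X.obj.hom δ (fun _ => 0))
    (α : AlgebraicCycle X.obj.left ℤ) (hα : α ∈ Cyc.Zk X.obj.left δ 0) :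
    T.IsHomEquivZero X α ↔ ChowOps.deg X.obj.hom δ α = 0 := by
  have hdt := deg_eq_tr T X δ hδ α hα
  unfold WeilCoh.TheoryOn.IsHomEquivZero
  constructor
  · intro h
    rw [h, map_zero] at hdt
    exact_mod_cast hdt
  · intro h
    rw [h, Int.cast_zero] at hdt
    have hinj := (T.tr_bijective X).1
    have hmem := clCyc_mem_top T X δ hδ α hα
    have h0 : (⟨T.clCyc X α, hmem⟩ : T.gr X (2 * (WeilCoh.dim X.obj.left : ℤ))) = 0 := by
      apply hinj
      rw [map_zero]
      exact hdt.symm
    exact congrArg Subtype.val h0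

end Theory

end Groth.Agent.Helper23.WeilZero
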