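import Groth.Agent.Lib.Helper23.RegMero10

set_option autoImplicit false
set_option linter.style.haveILetI false

open CategoryTheory AlgebraicGeometry Opposite TopologicalSpace IsLocalRing

universe u

namespace Groth.Agent.Helper23.ZeroSch

open Groth.Agent.Helper23.CDivDepth Groth.Agent.Helper13.Inv Groth.Agent.Helper13.MeroLib
open Groth.Agent.Helper13.QCoh Groth.Agent.Helper23.FracIdeal Groth.Agent.Helper23.RegMero

variable {X : Scheme.{u}} {L : X.Modules}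

/-- an invertible fractional ideal with chosen local generators `f x` is `O_X(D)` for the divisor
`D` with local equations `(f x)⁻¹`; the isomorphism is compatible with the embeddings in `K_X` -/
theorem exists_iso_divMod_of_isGenBy (ι : L ⟶ Mero.kmod X) [Mono ι] (U : X → X.Opens)
    (hxU : ∀ x, x ∈ U x) (f : ∀ x, (Γ(Mero.kmod X, U x))ˣ) (hf : ∀ x, IsGenBy L ι (U x) (f x)) :
    ∃ (D : Mero.Divisor X) (e : L ≅ Mero.divMod D),
      (∀ (x y : X) (hy : y ∈ U x), D.1 y = Mero.germOf (f x)⁻¹ ⟨y, hy⟩) ∧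
      ∀ (V : X.Opens) (m : Γ(L, V)), (Mero.divModι D).app V (e.hom.app V m) = ι.app V m := by
  have hinj : ∀ V : X.Opens, Function.Injective (ι.app V) :=
    (mono_iff_app_injective ι).1 inferInstance
  have key : ∀ (x x' y : X) (hy : y ∈ U x) (hy' : y ∈ U x'), ∃ u : (X.presheaf.stalk y)ˣ,
      (f x : Γ(Mero.kmod X, U x)).1 ⟨y, hy⟩ =
        algebraMap _ (Mero.KStalk X y) (u : X.presheaf.stalk y) *
          (f x' : Γ(Mero.kmod X, U x')).1 ⟨y, hy'⟩ := by
    intro x x' y hy hy'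
    have hVx : U x ⊓ U x' ≤ U x := inf_le_left
    have hVx' : U x ⊓ U x' ≤ U x' := inf_le_right
    have h1 : (Mero.kmod X).presheaf.map (homOfLE hVx).op (f x : Γ(Mero.kmod X, U x)) ∈
        Set.range ⇑(ι.val.app (op (U x ⊓ U x'))) := by
      rw [hf x _ hVx]; exact ⟨1, by rw [map_one, one_mul]⟩
    rw [hf x' _ hVx'] at h1
    obtain ⟨r, hr⟩ := h1
    have h2 : (Mero.kmod X).presheaf.map (homOfLE hVx').op (f x' : Γ(Mero.kmod X, U x')) ∈
        Set.range ⇑(ι.val.app (op (U x ⊓ U x'))) := by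
      rw [hf x' _ hVx']; exact ⟨1, by rw [map_one, one_mul]⟩
    rw [hf x _ hVx] at h2
    obtain ⟨r', hr'⟩ := h2
    have h3 : Mero.toK X (U x ⊓ U x') (r * r') = 1 := by
      have h4 : (Mero.kmod X).presheaf.map (homOfLE hVx).op (f x : Γ(Mero.kmod X, U x)) =
          Mero.toK X (U x ⊓ U x') (r * r') *
            (Mero.kmod X).presheaf.map (homOfLE hVx).op (f x : Γ(Mero.kmod X, U x)) := by
        rw [map_mul, mul_assoc, ← hr', ← hr]
      have h5 := congrArg (· * (Mero.kmod X).presheaf.map (homOfLE hVx).op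
        ((f x)⁻¹ : (Γ(Mero.kmod X, U x))ˣ).1) h4
      simp only at h5
      rw [mul_assoc, res_mul_res_inv, mul_one] at h5
      exact h5.symm
    have h5 : r * r' = 1 := toK_injective _ (h3.trans (map_one _).symm)
    have hyV : y ∈ U x ⊓ U x' := ⟨hy, hy'⟩
    have hu : IsUnit (X.presheaf.germ (U x ⊓ U x') y hyV r) :=
      IsUnit.of_mul_eq_one (X.presheaf.germ (U x ⊓ U x') y hyV r')
        (by rw [← map_mul, h5, map_one])
    refine ⟨hu.unit, ?_⟩
    have h6 := congrArg (fun t : Γ(Mero.kmod X, U x ⊓ U x') => t.1 ⟨y, hyV⟩) hr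
    simp only at h6
    rw [IsUnit.unit_spec]
    refine h6.trans ?_
    rw [Mero.kmod_mul_apply, toK_apply']
    rfl
  let Dfun : ∀ y : X, Mero.Germ X y := fun y => Mero.germOf (f y)⁻¹ ⟨y, hxU y⟩
  have hclass : ∀ (x y : X) (hy : y ∈ U x), Dfun y = Mero.germOf (f x)⁻¹ ⟨y, hy⟩ := by
    intro x y hy
    obtain ⟨u, hu⟩ := key x y y hy (hxU y)
    apply QuotientGroup.eq.2
    let A : (Mero.KStalk X y)ˣ := Units.map (Mero.evalK X (U y) ⟨y, hxU y⟩).toMonoidHom (f y)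
    let B : (Mero.KStalk X y)ˣ := Units.map (Mero.evalK X (U x) ⟨y, hy⟩).toMonoidHom (f x)
    let Uu : (Mero.KStalk X y)ˣ :=
      Units.map (algebraMap (X.presheaf.stalk y) (Mero.KStalk X y)).toMonoidHom u
    have hB : B = Uu * A := Units.ext hu
    have e : (Units.map (Mero.evalK X (U y) ⟨y, hxU y⟩).toMonoidHom (f y)⁻¹)⁻¹ *
        Units.map (Mero.evalK X (U x) ⟨y, hy⟩).toMonoidHom (f x)⁻¹ = A * B⁻¹ := by
      rw [map_inv, map_inv, inv_inv]
    rw [e, hB, mul_inv_rev, mul_inv_cancel_left]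
    exact ⟨u⁻¹, map_inv _ u⟩
  let D : Mero.Divisor X := ⟨Dfun, fun x => ⟨U x, hxU x, (f x)⁻¹, fun y => hclass x y.1 y.2⟩⟩
  have hmulinv : ∀ (x y : X) (hy : y ∈ U x), (f x : Γ(Mero.kmod X, U x)).1 ⟨y, hy⟩ *
      (((f x)⁻¹ : (Γ(Mero.kmod X, U x))ˣ) : Γ(Mero.kmod X, U x)).1 ⟨y, hy⟩ = 1 := fun x y hy =>
    congrArg (fun t : Γ(Mero.kmod X, U x) => t.1 ⟨y, hy⟩) (f x).mul_inv
  have hD : ∀ (V : X.Opens) (m : Γ(L, V)) (y : V), Mero.DivCond D y.1 ((ι.app V m).1 y) := by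
    intro V m y
    have hNV : V ⊓ U y.1 ≤ V := inf_le_left
    have hNU : V ⊓ U y.1 ≤ U y.1 := inf_le_right
    have hyN : y.1 ∈ V ⊓ U y.1 := ⟨y.2, hxU y.1⟩
    have h1 : ι.app (V ⊓ U y.1) (L.presheaf.map (homOfLE hNV).op m) ∈
        Set.range ⇑(ι.val.app (op (V ⊓ U y.1))) := ⟨_, rfl⟩
    rw [hf y.1 _ hNU] at h1
    obtain ⟨r, hr⟩ := h1
    apply divCond_of_rep D y.1
      (Units.map (Mero.evalK X (U y.1) ⟨y.1, hxU y.1⟩).toMonoidHom (f y.1)⁻¹) rfl
    refine ⟨X.presheaf.germ (V ⊓ U y.1) y.1 hyN r, ?_⟩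
    rw [app_res] at hr
    have h2 := congrArg (fun t : Γ(Mero.kmod X, V ⊓ U y.1) => t.1 ⟨y.1, hyN⟩) hr
    simp only at h2
    have h3 : (ι.app V m).1 y = (Mero.toK X (V ⊓ U y.1) r).1 ⟨y.1, hyN⟩ *
        (f y.1 : Γ(Mero.kmod X, U y.1)).1 ⟨y.1, hxU y.1⟩ := h2
    rw [h3, toK_apply']
    change _ = _ * _ * (((f y.1)⁻¹ : (Γ(Mero.kmod X, U y.1))ˣ) : Γ(Mero.kmod X, U y.1)).1 ⟨y.1, hxU y.1⟩
    rw [mul_assoc, hmulinv, mul_one]
  haveI : IsIso (liftHom ι D hD) := by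
    apply Groth.Agent.Helper13.LocFree.isIso_of_app_bijective_of_isBasis (liftHom ι D hD)
      (B := {V : X.Opens | ∃ x : X, V ≤ U x})
    · rw [Opens.isBasis_iff_nbhd]
      intro U₀ x hx
      exact ⟨U₀ ⊓ U x, ⟨x, inf_le_right⟩, ⟨hx, hxU x⟩, inf_le_left⟩
    · rintro V ⟨x, hV⟩
      constructor
      · intro m m' hmm
        apply hinj V
        apply Subtype.ext
        have := congrArg Subtype.val hmm
        exact this
      · intro t
        let t' : Γ(Mero.kmod X, V) := ⟨t.1, t.2.1⟩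
        have hq : ∀ (y : X) (hy : y ∈ V),
            (t' * (Mero.kmod X).presheaf.map (homOfLE hV).op
              (((f x)⁻¹ : (Γ(Mero.kmod X, U x))ˣ) : Γ(Mero.kmod X, U x))).1 ⟨y, hy⟩ ∈
            (algebraMap (X.presheaf.stalk y) (Mero.KStalk X y)).range := by
          intro y hy
          exact t.2.2 ⟨y, hy⟩
            (Units.map (Mero.evalK X (U x) ⟨y, hV hy⟩).toMonoidHom (f x)⁻¹) (hclass x y (hV hy))
        obtain ⟨r, hr⟩ := exists_toK_eq _ hq
        have ht' : t' = Mero.toK X V r * (Mero.kmod X).presheaf.map (homOfLE hV).op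
            (f x : Γ(Mero.kmod X, U x)) := by
          rw [hr, mul_assoc, mul_comm ((Mero.kmod X).presheaf.map (homOfLE hV).op
            (((f x)⁻¹ : (Γ(Mero.kmod X, U x))ˣ) : Γ(Mero.kmod X, U x))), res_mul_res_inv, mul_one]
        have hmem : t' ∈ Set.range ⇑(ι.val.app (op V)) := by
          rw [hf x V hV]; exact ⟨r, ht'⟩
        obtain ⟨m₀, hm₀⟩ := hmem
        obtain ⟨m, rfl⟩ : ∃ m : Γ(L, V), m = m₀ := ⟨m₀, rfl⟩
        refine ⟨m, ?_⟩
        apply Subtype.ext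
        exact (congrArg Subtype.val hm₀ :)
  exact ⟨D, asIso (liftHom ι D hD), fun x y hy => hclass x y hy, fun V m => rfl⟩


end Groth.Agent.Helper23.ZeroSch
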