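import Groth.Agent.Lib.Helper23.ZeroSch2

set_option autoImplicit false
set_option linter.style.haveILetI false

open CategoryTheory AlgebraicGeometry Opposite TopologicalSpace IsLocalRing

universe u

namespace Groth.Agent.Helper23.ZeroSch

open Groth.Agent.Helper23.CDivDepth Groth.Agent.Helper13.Inv Groth.Agent.Helper13.MeroLib
open Groth.Agent.Helper13.QCoh Groth.Agent.Helper23.FracIdeal Groth.Agent.Helper23.RegMero
open Groth.Agent.Helper23.AbsCurve Groth.Agent.Helper23.DivInv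

variable {X : Scheme.{u}} {L : X.Modules}

/-- in a chart, a map to `K_X` sending `s₁` to `1` sends the generator to `1 / c` -/
theorem Chart.app_e {s₁ : Γ(L, ⊤)} {U : X.Opens} (F : Chart s₁ U) (ψ : L ⟶ Mero.kmod X)
    (hψ : ψ.app U (L.presheaf.map (homOfLE (le_top : U ≤ ⊤)).op s₁) = 1) :
    ψ.app U F.e = frac 1 ⟨F.c, F.hc⟩ := by
  rw [F.eq, app_smul] at hψ
  have h2 := toK_mul_frac (1 : Γ(X, U)) ⟨F.c, F.hc⟩
  rw [map_one] at h2
  calc ψ.app U F.e
      = ψ.app U F.e * (Mero.toK X U F.c * frac 1 ⟨F.c, F.hc⟩) := by rw [h2, mul_one]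
    _ = (Mero.toK X U F.c * ψ.app U F.e) * frac 1 ⟨F.c, F.hc⟩ := by ring
    _ = frac 1 ⟨F.c, F.hc⟩ := by rw [hψ, one_mul]

section Data

variable {D : Mero.Divisor X} (e : L ≅ Mero.divMod D) (s₁ : Γ(L, ⊤))
  (h1 : (Mero.divModι D).app ⊤ (e.hom.app ⊤ s₁) = 1)

/-- `ψ = (O_X(D) ⊆ K_X) ∘ e` -/
noncomputable def ψOf : L ⟶ Mero.kmod X := e.hom ≫ Mero.divModι D

theorem ψOf_app (V : X.Opens) (m : Γ(L, V)) :
    (ψOf e).app V m = (Mero.divModι D).app V (e.hom.app V m) := rfl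

theorem ψOf_app_val (V : X.Opens) (m : Γ(L, V)) :
    ((ψOf e).app V m).1 = (e.hom.app V m).1 := rfl

include h1 in
theorem ψOf_sec (V : X.Opens) :
    (ψOf e).app V (L.presheaf.map (homOfLE (le_top : V ≤ ⊤)).op s₁) = 1 := by
  rw [app_res, ψOf_app, h1]
  rfl

theorem hom_inv_app (V : X.Opens) (t : Γ(Mero.divMod D, V)) :
    e.hom.app V (e.inv.app V t) = t := by
  rw [← ConcreteCategory.comp_apply, ← Scheme.Modules.Hom.comp_app, e.inv_hom_id]
  rfl

theorem inv_hom_app (V : X.Opens) (m : Γ(L, V)) :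
    e.inv.app V (e.hom.app V m) = m := by
  rw [← ConcreteCategory.comp_apply, ← Scheme.Modules.Hom.comp_app, e.hom_inv_id]
  rfl

include h1 in
/-- Lemma X: in a chart, the divisor is the class of the coefficient of the section -/
theorem Chart.divisor_eq {U : X.Opens} (F : Chart s₁ U) (y : X) (hy : y ∈ U) :
    D.1 y = QuotientGroup.mk
      (IsLocalization.map_units (Mero.KStalk X y) (Mero.regGerm ⟨y, hy⟩ ⟨F.c, F.hc⟩)).unit := by
  obtain ⟨W, a, b, ha, hb, hyW, hrep⟩ := exists_isRep D y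
  have hVW : W ⊓ U ≤ W := inf_le_left
  have hVU : W ⊓ U ≤ U := inf_le_right
  have hyV : y ∈ W ⊓ U := ⟨hyW, hy⟩
  have hgen : IsGenOn (Mero.divMod D) (genSec D W a b ha hb hrep) := fun z hz =>
    isGen_of_rep D W a b ha hb hrep _ (fun z' hz' => genSec_apply D W a b ha hb hrep ⟨z', hz'⟩) z hz
  -- τ = e(F.e)
  obtain ⟨r', hr'⟩ := hgen.exists_smul_eq' hVW
    ((Mero.divMod D).presheaf.map (homOfLE hVU).op (e.hom.app U F.e))
  obtain ⟨r, hr⟩ := F.he.exists_smul_eq' hVU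
    (e.inv.app (W ⊓ U) ((Mero.divMod D).presheaf.map (homOfLE hVW).op (genSec D W a b ha hb hrep)))
  have hr2 : (Mero.divMod D).presheaf.map (homOfLE hVW).op (genSec D W a b ha hb hrep) =
      r • (Mero.divMod D).presheaf.map (homOfLE hVU).op (e.hom.app U F.e) := by
    have := congrArg (e.hom.app (W ⊓ U)) hr
    rw [hom_inv_app] at this
    rw [this]
    have h3 : e.hom.app (W ⊓ U) (r • L.presheaf.map (homOfLE hVU).op F.e) =
        r • e.hom.app (W ⊓ U) (L.presheaf.map (homOfLE hVU).op F.e) :=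
      (e.hom.val.app (op (W ⊓ U))).hom.map_smul r _
    rw [h3]
    congr 1
    exact PresheafOfModules.naturality_apply e.hom.val (homOfLE hVU).op F.e
  have hrr' : r * r' = 1 := by
    apply (hgen.res hVW).smul_injective
    rw [one_smul, mul_smul, ← hr', ← hr2]
  -- evaluate at y
  have hτ : (e.hom.app U F.e).1 ⟨y, hy⟩ = (frac 1 ⟨F.c, F.hc⟩).1 ⟨y, hy⟩ := by
    rw [← ψOf_app_val, F.app_e (ψOf e) (ψOf_sec e s₁ h1 U)]
  have h4 := congrArg (fun t : Γ(Mero.divMod D, W ⊓ U) => t.1 ⟨y, hyV⟩) hr2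
  simp only at h4
  have h5 : (LocalizedModule.mk (X.presheaf.germ W y hyW b) (Mero.regGerm ⟨y, hyW⟩ ⟨a, ha⟩) :
      Mero.KStalk X y) = X.presheaf.germ (W ⊓ U) y hyV r •
        (LocalizedModule.mk (X.presheaf.germ U y hy 1) (Mero.regGerm ⟨y, hy⟩ ⟨F.c, F.hc⟩) :
          Mero.KStalk X y) := by
    have h6 : ((Mero.divMod D).presheaf.map (homOfLE hVW).op (genSec D W a b ha hb hrep)).1 ⟨y, hyV⟩ =
        LocalizedModule.mk (X.presheaf.germ W y hyW b) (Mero.regGerm ⟨y, hyW⟩ ⟨a, ha⟩) := rfl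
    rw [← h6, h4]
    change X.presheaf.germ (W ⊓ U) y hyV r • (e.hom.app U F.e).1 ⟨y, hy⟩ = _
    rw [hτ]
    rfl
  rw [LocalizedModule.smul'_mk, kmk_eq_iff, map_one, smul_eq_mul, mul_one] at h5
  obtain ⟨g, hg, hgab⟩ := hrep y hyW
  rw [hg]
  apply QuotientGroup.eq.2
  have hu : IsUnit (X.presheaf.germ (W ⊓ U) y hyV r) :=
    IsUnit.of_mul_eq_one (X.presheaf.germ (W ⊓ U) y hyV r') (by rw [← map_mul, hrr', map_one])
  refine ⟨hu.unit, ?_⟩
  rw [eq_inv_mul_iff_mul_eq]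
  apply Units.ext
  rw [Units.val_mul, hgab]
  change LocalizedModule.mk _ _ * algebraMap _ (Mero.KStalk X y) (hu.unit : X.presheaf.stalk y) =
    algebraMap _ (Mero.KStalk X y) (X.presheaf.germ U y hy F.c)
  rw [IsUnit.unit_spec, mul_comm, ← Algebra.smul_def, LocalizedModule.smul'_mk,
    mk_eq_algebraMap_iff _ (Mero.regStalk_le_nonZeroDivisors y)]
  simp only [smul_eq_mul]
  change _ = X.presheaf.germ W y hyW b * _
  rw [mul_comm (X.presheaf.germ W y hyW b), h5]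
  exact mul_comm _ _

end Data

end Groth.Agent.Helper23.ZeroSch
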