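import Groth.Agent.Lib.Helper23.ZeroSch3
import Groth.Agent.Lib.Helper13.IdealData
import Groth.Agent.Lib.Helper13.InvQCoh

set_option autoImplicit false
set_option linter.style.haveILetI false

open CategoryTheory AlgebraicGeometry Opposite TopologicalSpace IsLocalRing

universe u

namespace Groth.Agent.Helper23.ZeroSch

open Groth.Agent.Helper23.CDivDepth Groth.Agent.Helper13.Inv Groth.Agent.Helper13.MeroLib
open Groth.Agent.Helper13.QCoh Groth.Agent.Helper23.FracIdeal Groth.Agent.Helper23.RegMero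
open Groth.Agent.Helper23.AbsCurve Groth.Agent.Helper23.DivInv

variable {X : Scheme.{u}} {L : X.Modules}

section J

variable (E : Mero.Divisor X)
  (hE : ∀ (V : X.Opens) (t : Γ(Mero.divMod E, V)) (y : X) (hy : y ∈ V),
    t.1 ⟨y, hy⟩ ∈ (algebraMap (X.presheaf.stalk y) (Mero.KStalk X y)).range)

include hE in
theorem exists_fn (V : X.Opens) (t : Γ(Mero.divMod E, V)) :
    ∃ r : Γ(X, V), Mero.toK X V r = (Mero.divModι E).app V t :=
  exists_toK_eq ((Mero.divModι E).app V t) (hE V t)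

/-- the function underlying a section of `O_X(E) ⊆ O_X` -/
noncomputable def fnOf (V : X.Opens) (t : Γ(Mero.divMod E, V)) : Γ(X, V) :=
  (exists_fn E hE V t).choose

theorem toK_fnOf (V : X.Opens) (t : Γ(Mero.divMod E, V)) :
    Mero.toK X V (fnOf E hE V t) = (Mero.divModι E).app V t :=
  (exists_fn E hE V t).choose_spec

theorem fnOf_eq (V : X.Opens) (t : Γ(Mero.divMod E, V)) (r : Γ(X, V))
    (h : Mero.toK X V r = (Mero.divModι E).app V t) : fnOf E hE V t = r :=
  toK_injective V ((toK_fnOf E hE V t).trans h.symm)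

/-- the inclusion `O_X(E) ⟶ O_X` when all sections of `O_X(E)` are functions -/
noncomputable def jHom : Mero.divMod E ⟶ Coh.structureModule X :=
  ⟨PresheafOfModules.homMk (M₁ := (Mero.divMod E).val) (M₂ := (Coh.structureModule X).val)
    { app := fun V => AddCommGrpCat.ofHom
        { toFun := fun (t : Γ(Mero.divMod E, V.unop)) => (fnOf E hE V.unop t : Γ(X, V.unop))
          map_zero' := by
            apply fnOf_eq
            exact (map_zero (Mero.toK X _)).trans (map_zero ((Mero.divModι E).app _).hom).symm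
          map_add' := fun t t' => by
            apply fnOf_eq
            have e1 := toK_fnOf E hE V.unop t
            have e2 := toK_fnOf E hE V.unop t'
            exact (map_add (Mero.toK X _) _ _).trans ((congrArg₂ (· + ·) e1 e2).trans
              (map_add ((Mero.divModι E).app _).hom t t').symm) }
      naturality := fun {U V} i => by
        ext t
        change fnOf E hE V.unop ((Mero.divMod E).presheaf.map i t) =
          X.presheaf.map i (fnOf E hE U.unop t)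
        apply fnOf_eq
        have h1 : Mero.toK X V.unop (X.presheaf.map i (fnOf E hE U.unop t)) =
            (Mero.kmod X).presheaf.map i (Mero.toK X U.unop (fnOf E hE U.unop t)) :=
          (res_toK (i.unop.le) (fnOf E hE U.unop t)).symm
        refine h1.trans ((congrArg ((Mero.kmod X).presheaf.map i)
          (toK_fnOf E hE U.unop t)).trans ?_)
        exact (app_res (Mero.divMod E) (Mero.divModι E) i.unop t).symm }
    (fun V r t => by
      let r' : Γ(X, V.unop) := r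
      let t' : Γ(Mero.divMod E, V.unop) := t
      change fnOf E hE V.unop (r' • t') = r' * fnOf E hE V.unop t'
      apply fnOf_eq
      rw [map_mul, toK_fnOf]
      exact (app_smul (Mero.divMod E) (Mero.divModι E) r' t').symm)⟩

theorem japp_jHom (V : X.Opens) (t : Γ(Mero.divMod E, V)) :
    Groth.Agent.Helper13.IdealData.japp (jHom E hE) V t = fnOf E hE V t := rfl

end J

section Z

variable {D : Mero.Divisor X} (e : L ≅ Mero.divMod D) (s : Coh.structureModule X ⟶ L)
  (h1 : (Mero.divModι D).app ⊤ (e.hom.app ⊤ (PicF2.secVal L s ⊤)) = 1)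

include h1 in
theorem divCond_one (y : X) : Mero.DivCond D y 1 := by
  have h2 := (e.hom.app ⊤ (PicF2.secVal L s ⊤)).2.2 ⟨y, trivial⟩
  have h3 : (e.hom.app ⊤ (PicF2.secVal L s ⊤)).1 ⟨y, trivial⟩ = 1 :=
    congrArg (fun t : Γ(Mero.kmod X, ⊤) => t.1 ⟨y, trivial⟩) h1
  rw [h3] at h2
  exact h2

include h1 in
theorem inv_sections_mem_range (V : X.Opens) (t : Γ(Mero.divMod D⁻¹, V)) (y : X) (hy : y ∈ V) :
    t.1 ⟨y, hy⟩ ∈ (algebraMap (X.presheaf.stalk y) (Mero.KStalk X y)).range := by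
  obtain ⟨g, hg⟩ := QuotientGroup.mk_surjective (D.1 y)
  obtain ⟨γ, hγ⟩ := divCond_one e s h1 y g hg.symm
  have hg' : (D⁻¹).1 y = QuotientGroup.mk g⁻¹ := by
    change (D.1 y)⁻¹ = _
    rw [← hg]; rfl
  obtain ⟨δ, hδ⟩ := t.2.2 ⟨y, hy⟩ g⁻¹ hg'
  rw [one_mul] at hγ
  refine ⟨δ * γ, ?_⟩
  rw [map_mul, hδ, hγ, mul_assoc, ← Units.val_mul, inv_mul_cancel, Units.val_one, mul_one]

/-- the ideal sheaf `O_X(D⁻¹) ⊆ O_X` -/
noncomputable def JOf : X.IdealSheafData :=
  haveI : (Mero.divMod D⁻¹).IsQuasicoherent :=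
    Groth.Agent.Helper13.Inv.isQuasicoherent_of_isInvertible _ (isInvertible_divMod D⁻¹)
  Groth.Agent.Helper13.IdealData.idealSheafData (jHom D⁻¹ (inv_sections_mem_range e s h1))

theorem mem_JOf_iff (U : X.affineOpens) (r : Γ(X, U.1)) :
    r ∈ (JOf e s h1).ideal U ↔ ∃ t : Γ(Mero.divMod D⁻¹, U.1),
      fnOf D⁻¹ (inv_sections_mem_range e s h1) U.1 t = r := Iff.rfl

theorem secVal_eq_res (U : X.Opens) :
    PicF2.secVal L s U = L.presheaf.map (homOfLE (le_top : U ≤ ⊤)).op (PicF2.secVal L s ⊤) :=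
  (SecTwist.map_val s (homOfLE (le_top : U ≤ ⊤))).symm

theorem JOf_le_zeroScheme : JOf e s h1 ≤ PicF2.zeroScheme L s := by
  apply Scheme.IdealSheafData.le_ofIdeals_iff.2
  intro U r hr
  rw [mem_JOf_iff] at hr
  obtain ⟨t, rfl⟩ := hr
  intro m₀
  obtain ⟨m, rfl⟩ : ∃ m : Γ(L, U.1), m = m₀ := ⟨m₀, rfl⟩
  haveI := mono_divModι D
  haveI : Mono (ψOf e) := mono_comp _ _
  have hinj : Function.Injective ((ψOf e).app U.1) := (mono_iff_app_injective (ψOf e)).1 inferInstance U.1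
  -- the product t * e(m) is a function
  have hp : ∀ (y : X) (hy : y ∈ U.1),
      ((Mero.divModι D⁻¹).app U.1 t * (ψOf e).app U.1 m).1 ⟨y, hy⟩ ∈
        (algebraMap (X.presheaf.stalk y) (Mero.KStalk X y)).range := by
    intro y hy
    obtain ⟨g, hg⟩ := QuotientGroup.mk_surjective (D.1 y)
    have hg' : (D⁻¹).1 y = QuotientGroup.mk g⁻¹ := by
      change (D.1 y)⁻¹ = _
      rw [← hg]; rfl
    obtain ⟨a₂, ha₂⟩ := t.2.2 ⟨y, hy⟩ g⁻¹ hg'
    obtain ⟨a₁, ha₁⟩ := (e.hom.app U.1 m).2.2 ⟨y, hy⟩ g hg.symm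
    refine ⟨a₂ * a₁, ?_⟩
    rw [map_mul, ha₂, ha₁]
    change t.1 ⟨y, hy⟩ * _ * ((e.hom.app U.1 m).1 ⟨y, hy⟩ * _) = t.1 ⟨y, hy⟩ * (e.hom.app U.1 m).1 ⟨y, hy⟩
    have : ((g⁻¹ : (Mero.KStalk X y)ˣ) : Mero.KStalk X y) * (g : Mero.KStalk X y) = 1 := by
      rw [← Units.val_mul, inv_mul_cancel, Units.val_one]
    calc t.1 ⟨y, hy⟩ * ((g⁻¹ : (Mero.KStalk X y)ˣ) : Mero.KStalk X y) *
          ((e.hom.app U.1 m).1 ⟨y, hy⟩ * (g : Mero.KStalk X y))
        = t.1 ⟨y, hy⟩ * (e.hom.app U.1 m).1 ⟨y, hy⟩ *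
          (((g⁻¹ : (Mero.KStalk X y)ˣ) : Mero.KStalk X y) * (g : Mero.KStalk X y)) := by ring
      _ = _ := by rw [this, mul_one]
  obtain ⟨b, hb⟩ := exists_toK_eq _ hp
  refine ⟨b, ?_⟩
  apply hinj
  have e1 : (ψOf e).app U.1 (fnOf D⁻¹ (inv_sections_mem_range e s h1) U.1 t • m) =
      (Mero.divModι D⁻¹).app U.1 t * (ψOf e).app U.1 m := by
    rw [app_smul, toK_fnOf]
  have e2 : (ψOf e).app U.1 (b • L.presheaf.map (homOfLE (le_top : U.1 ≤ ⊤)).op
      (PicF2.secVal L s ⊤)) = Mero.toK X U.1 b := by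
    rw [app_smul, ψOf_sec e (PicF2.secVal L s ⊤) h1 U.1, mul_one]
  have e3 : (b • PicF2.secVal L s U.1 : Γ(L, U.1)) = b • L.presheaf.map
      (homOfLE (le_top : U.1 ≤ ⊤)).op (PicF2.secVal L s ⊤) :=
    congrArg (fun q : Γ(L, U.1) => b • q) (secVal_eq_res s U.1)
  exact e1.trans (hb.symm.trans (e2.symm.trans (congrArg _ e3.symm)))

include h1 in
/-- Lemma Z: in an affine chart the ideal of the zero scheme is generated by the coefficient -/
theorem Chart.ideal_eq {U : X.Opens} (hU : IsAffineOpen U) (F : Chart (PicF2.secVal L s ⊤) U) :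
    (PicF2.zeroScheme L s).ideal ⟨U, hU⟩ = Ideal.span {F.c} := by
  apply le_antisymm
  · intro a ha
    have ha' := Scheme.IdealSheafData.ideal_ofIdeals_le _ ⟨U, hU⟩ ha
    obtain ⟨b₀, hb⟩ := ha' F.e
    obtain ⟨b, rfl⟩ : ∃ b : Γ(X, U), b = b₀ := ⟨b₀, rfl⟩
    have hb' : a • F.e = (b * F.c) • F.e := by
      rw [mul_smul, ← F.eq]
      exact hb.trans (congrArg (fun q : Γ(L, U) => b • q) (secVal_eq_res s U))
    have := F.he.smul_injective a (b * F.c) hb'
    rw [Ideal.mem_span_singleton']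
    exact ⟨b, this.symm⟩
  · rw [Ideal.span_le, Set.singleton_subset_iff]
    apply JOf_le_zeroScheme e s h1 ⟨U, hU⟩
    rw [mem_JOf_iff]
    have hdc : ∀ y : U, Mero.DivCond D⁻¹ y.1 ((Mero.toK X U F.c).1 y) := by
      intro y
      have hX := F.divisor_eq e (PicF2.secVal L s ⊤) h1 y.1 y.2
      apply divCond_of_rep D⁻¹ y.1
        (IsLocalization.map_units (Mero.KStalk X y.1) (Mero.regGerm y ⟨F.c, F.hc⟩)).unit⁻¹
      · change (D.1 y.1)⁻¹ = _
        rw [hX]; rfl
      · refine ⟨1, ?_⟩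
        rw [map_one, toK_apply']
        exact (Units.mul_inv (IsLocalization.map_units (Mero.KStalk X y.1)
          (Mero.regGerm y ⟨F.c, F.hc⟩)).unit).symm
    refine ⟨⟨(Mero.toK X U F.c).1, (Mero.toK X U F.c).2, hdc⟩, ?_⟩
    apply fnOf_eq
    rfl

end Z

end Groth.Agent.Helper23.ZeroSch
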