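import Groth.Agent.Lib.Helper23.ZeroSch4
import Groth.Agent.Lib.Helper13.IntInv

set_option autoImplicit false
set_option linter.style.haveILetI false

open CategoryTheory AlgebraicGeometry Opposite TopologicalSpace IsLocalRing

universe u

namespace Groth.Agent.Helper23.ZeroSch

open Groth.Agent.Helper23.CDivDepth Groth.Agent.Helper13.Inv Groth.Agent.Helper13.MeroLib
open Groth.Agent.Helper13.QCoh Groth.Agent.Helper23.FracIdeal Groth.Agent.Helper23.RegMero
open Groth.Agent.Helper23.AbsCurve Groth.Agent.Helper23.DivInv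

variable {X : Scheme.{u}} {L : X.Modules}

theorem res_top_self (s₁ : Γ(L, ⊤)) :
    L.presheaf.map (homOfLE (le_top : (⊤ : X.Opens) ≤ ⊤)).op s₁ = s₁ := by
  have : (homOfLE (le_top : (⊤ : X.Opens) ≤ ⊤)).op = 𝟙 (op (⊤ : X.Opens)) := rfl
  rw [this, L.presheaf.map_id]
  rfl

/-- existence of the divisor of a nonzero section, with `L ≅ O_X(D)` carrying `s` to `1` -/
theorem exists_data [IsIntegral X] (hL : PicF.IsInvertible L) (s₁ : Γ(L, ⊤)) (hs₁ : s₁ ≠ 0) :
    ∃ (D : Mero.Divisor X) (e : L ≅ Mero.divMod D),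
      (Mero.divModι D).app ⊤ (e.hom.app ⊤ s₁) = 1 := by
  haveI := mono_ιOf hL s₁ hs₁
  have hch := fun x : X => exists_chart hL s₁ hs₁ x ⊤ trivial
  choose U hU hxU _ hF using hch
  let F : ∀ x, Chart s₁ (U x) := fun x => (hF x).some
  obtain ⟨D, e, -, he⟩ := exists_iso_divMod_of_isGenBy (ιOf hL s₁ hs₁) U hxU
    (fun x => fracUnit 1 (F x).c (Submonoid.one_mem _) (F x).hc)
    (fun x => (F x).isGenBy hL s₁ hs₁)
  refine ⟨D, e, ?_⟩
  rw [he ⊤ s₁]
  have := ιOf_app_sec hL s₁ hs₁ ⊤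
  rwa [res_top_self] at this

/-- given `L ≅ O_X(D)` carrying the section `s` to `1`, `D` is the divisor of the zero scheme -/
theorem isDivOfIdeal_of_iso [IsIntegral X] (hL : PicF.IsInvertible L) {D : Mero.Divisor X}
    (e : L ≅ Mero.divMod D) (s : Coh.structureModule X ⟶ L)
    (hs₁ : PicF2.secVal L s ⊤ ≠ 0)
    (h1 : (Mero.divModι D).app ⊤ (e.hom.app ⊤ (PicF2.secVal L s ⊤)) = 1) :
    Mero.IsDivOfIdeal D (PicF2.zeroScheme L s) := by
  intro x
  obtain ⟨U, hU, hxU, -, ⟨F⟩⟩ := exists_chart hL (PicF2.secVal L s ⊤) hs₁ x ⊤ trivial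
  exact ⟨⟨U, hU⟩, hxU, F.c, F.hc, F.ideal_eq e s h1 hU,
    fun y => F.divisor_eq e (PicF2.secVal L s ⊤) h1 y.1 y.2⟩

end Groth.Agent.Helper23.ZeroSch
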