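import Groth.Agent.Lib.Helper23.ZeroSch5

set_option autoImplicit false
set_option linter.style.haveILetI false

open CategoryTheory AlgebraicGeometry Opposite TopologicalSpace IsLocalRing

universe u

namespace Groth.Agent.Helper23.ZeroSch

open Groth.Agent.Helper23.CDivDepth Groth.Agent.Helper13.Inv Groth.Agent.Helper13.MeroLib
open Groth.Agent.Helper13.QCoh Groth.Agent.Helper23.FracIdeal Groth.Agent.Helper23.RegMero
open Groth.Agent.Helper23.AbsCurve Groth.Agent.Helper23.DivInv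

variable {X : Scheme.{u}} {L : X.Modules}

/-- a chart for one section gives a chart for any other nonzero section, with the same
trivialisation -/
theorem Chart.transfer [IsIntegral X] (hL : PicF.IsInvertible L) {s₁ : Γ(L, ⊤)} {U : X.Opens}
    (F : Chart s₁ U) (x : X) (hxU : x ∈ U) (s₂ : Γ(L, ⊤)) (hs₂ : s₂ ≠ 0) :
    ∃ F' : Chart s₂ U, F'.e = F.e := by
  obtain ⟨c, hc⟩ := F.he.exists_smul_eq (L.presheaf.map (homOfLE (le_top : U ≤ ⊤)).op s₂)
  refine ⟨⟨F.e, F.he, c, mem_regSub_of_ne_zero c ?_, hc⟩, rfl⟩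
  rintro rfl
  rw [zero_smul] at hc
  apply hs₂
  apply Groth.Agent.Helper13.IntInv.eq_zero_of_germ_eq_zero L hL s₂ x trivial
  rw [← germ_congr_res L (le_top : U ≤ ⊤) x hxU, hc, map_zero]

theorem ιOf_app_sec_top [IsIntegral X] (hL : PicF.IsInvertible L) (s₁ : Γ(L, ⊤)) (hs₁ : s₁ ≠ 0) :
    (ιOf hL s₁ hs₁).app ⊤ s₁ = 1 := by
  have := ιOf_app_sec hL s₁ hs₁ ⊤
  rwa [res_top_self] at this

theorem ιOf_injective [IsIntegral X] (hL : PicF.IsInvertible L) (s₁ : Γ(L, ⊤)) (hs₁ : s₁ ≠ 0)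
    (V : X.Opens) : Function.Injective ((ιOf hL s₁ hs₁).app V) :=
  haveI := mono_ιOf hL s₁ hs₁
  (mono_iff_app_injective (ιOf hL s₁ hs₁)).1 inferInstance V

/-- a section which is locally a multiple of a nonzero section is globally a multiple -/
theorem exists_smul_of_local [IsIntegral X] (hL : PicF.IsInvertible L) (σ σ' : Γ(L, ⊤))
    (hσ : σ ≠ 0)
    (hloc : ∀ y : X, ∃ (U : X.Opens) (_ : y ∈ U) (r : Γ(X, U)),
      L.presheaf.map (homOfLE (le_top : U ≤ ⊤)).op σ' =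
        r • L.presheaf.map (homOfLE (le_top : U ≤ ⊤)).op σ) :
    ∃ h : Γ(X, ⊤), σ' = h • σ := by
  have claim : ∀ (y : X) (hy : y ∈ (⊤ : X.Opens)),
      ((ιOf hL σ hσ).app ⊤ σ').1 ⟨y, hy⟩ ∈
        (algebraMap (X.presheaf.stalk y) (Mero.KStalk X y)).range := by
    intro y hy
    obtain ⟨U, hyU, r, h3⟩ := hloc y
    have h4 := congrArg ((ιOf hL σ hσ).app U) h3
    rw [app_smul, ιOf_app_sec, mul_one, app_res] at h4
    have h5 := congrArg (fun t : Γ(Mero.kmod X, U) => t.1 ⟨y, hyU⟩) h4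
    simp only [toK_apply'] at h5
    exact ⟨_, h5.symm⟩
  obtain ⟨h, hh⟩ := exists_toK_eq _ claim
  refine ⟨h, ?_⟩
  apply ιOf_injective hL σ hσ ⊤
  rw [app_smul, ιOf_app_sec_top, mul_one, hh]

/-- if `Z(s') ⊆ Z(s)` as ideals then `s'` is a multiple of `s` -/
theorem exists_smul_of_zeroScheme_le [IsIntegral X] (hL : PicF.IsInvertible L)
    (s s' : Coh.structureModule X ⟶ L) (hs : s ≠ 0) (hs' : s' ≠ 0)
    (hle : PicF2.zeroScheme L s' ≤ PicF2.zeroScheme L s) :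
    ∃ h : Γ(X, ⊤), (PicF2.secVal L s' ⊤ : Γ(L, ⊤)) = h • (PicF2.secVal L s ⊤ : Γ(L, ⊤)) := by
  have hs₁ : PicF2.secVal L s ⊤ ≠ 0 := Groth.Agent.Helper13.IntInv.sec_ne_zero L s hs
  have hs₁' : PicF2.secVal L s' ⊤ ≠ 0 := Groth.Agent.Helper13.IntInv.sec_ne_zero L s' hs'
  obtain ⟨D, e, h1⟩ := exists_data hL (PicF2.secVal L s ⊤) hs₁
  obtain ⟨D', e', h1'⟩ := exists_data hL (PicF2.secVal L s' ⊤) hs₁'
  apply exists_smul_of_local hL _ _ hs₁
  intro y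
  obtain ⟨U, hU, hyU, -, ⟨F⟩⟩ := exists_chart hL (PicF2.secVal L s ⊤) hs₁ y ⊤ trivial
  obtain ⟨F', hF'⟩ := F.transfer hL y hyU (PicF2.secVal L s' ⊤) hs₁'
  have e1 := F.ideal_eq e s h1 hU
  have e2 := F'.ideal_eq e' s' h1' hU
  have hmem : F'.c ∈ Ideal.span {F.c} := by
    rw [← e1]
    apply (Scheme.IdealSheafData.le_def.1 hle ⟨U, hU⟩)
    rw [e2]
    exact Ideal.mem_span_singleton_self _
  obtain ⟨r, hr⟩ := Ideal.mem_span_singleton'.1 hmem
  refine ⟨U, hyU, r, ?_⟩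
  rw [F'.eq, F.eq, hF', ← hr, mul_smul]

/-- a nonzero section of an invertible module on an integral scheme is torsion free -/
theorem eq_of_smul_eq_smul [IsIntegral X] (hL : PicF.IsInvertible L) (s₁ : Γ(L, ⊤)) (hs₁ : s₁ ≠ 0)
    (a b : Γ(X, ⊤)) (h : a • s₁ = b • s₁) : a = b := by
  have h4 := congrArg ((ιOf hL s₁ hs₁).app ⊤) h
  rw [app_smul, app_smul, ιOf_app_sec_top, mul_one, mul_one] at h4
  exact toK_injective ⊤ h4

theorem zeroIdealOn_eq_of_smul (s s' : Coh.structureModule X ⟶ L) (U : X.Opens)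
    (u v : Γ(X, U)) (huv : v * u = 1)
    (h : (PicF2.secVal L s' U : Γ(L, U)) = u • (PicF2.secVal L s U : Γ(L, U))) :
    PicF2.zeroIdealOn L s' U = PicF2.zeroIdealOn L s U := by
  have h' : (PicF2.secVal L s U : Γ(L, U)) = v • (PicF2.secVal L s' U : Γ(L, U)) := by
    rw [h, ← mul_smul, huv, one_smul]
  ext a
  constructor
  · intro ha m₀
    obtain ⟨b₀, hb⟩ := ha m₀
    obtain ⟨m, rfl⟩ : ∃ m : Γ(L, U), m = m₀ := ⟨m₀, rfl⟩
    obtain ⟨b, rfl⟩ : ∃ b : Γ(X, U), b = b₀ := ⟨b₀, rfl⟩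
    refine ⟨(b * u : Γ(X, U)), ?_⟩
    refine hb.trans ?_
    change b • (PicF2.secVal L s' U : Γ(L, U)) = (b * u) • (PicF2.secVal L s U : Γ(L, U))
    rw [h, mul_smul]
  · intro ha m₀
    obtain ⟨b₀, hb⟩ := ha m₀
    obtain ⟨m, rfl⟩ : ∃ m : Γ(L, U), m = m₀ := ⟨m₀, rfl⟩
    obtain ⟨b, rfl⟩ : ∃ b : Γ(X, U), b = b₀ := ⟨b₀, rfl⟩
    refine ⟨(b * v : Γ(X, U)), ?_⟩
    refine hb.trans ?_
    change b • (PicF2.secVal L s U : Γ(L, U)) = (b * v) • (PicF2.secVal L s' U : Γ(L, U))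
    rw [h', mul_smul]

/-- `Z(h · s) = Z(s)` for a unit `h` -/
theorem zeroScheme_eq_of_smul (s s' : Coh.structureModule X ⟶ L) (h h' : Γ(X, ⊤))
    (hh : h' * h = 1)
    (hs : (PicF2.secVal L s' ⊤ : Γ(L, ⊤)) = h • (PicF2.secVal L s ⊤ : Γ(L, ⊤))) :
    PicF2.zeroScheme L s' = PicF2.zeroScheme L s := by
  unfold PicF2.zeroScheme
  congr 1
  funext U
  apply zeroIdealOn_eq_of_smul s s' U.1 (X.presheaf.map (homOfLE (le_top : U.1 ≤ ⊤)).op h)
    (X.presheaf.map (homOfLE (le_top : U.1 ≤ ⊤)).op h')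
  · rw [← map_mul, hh, map_one]
  · have e1 := secVal_eq_res s U.1
    have e2 := secVal_eq_res s' U.1
    refine e2.trans ?_
    refine (congrArg (fun q : Γ(L, ⊤) => L.presheaf.map (homOfLE (le_top : U.1 ≤ ⊤)).op q) hs).trans ?_
    refine (res_smul L (le_top : U.1 ≤ ⊤) h _).trans ?_
    exact congrArg (fun q : Γ(L, U.1) => X.presheaf.map (homOfLE (le_top : U.1 ≤ ⊤)).op h • q)
      e1.symm

end Groth.Agent.Helper23.ZeroSch
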