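import Groth.Agent.Lib.Helper23.ZeroSch6
import Groth.Agent.Lib.Helper13.InvTensor

set_option autoImplicit false
set_option linter.style.haveILetI false

open CategoryTheory AlgebraicGeometry Opposite TopologicalSpace IsLocalRing

universe u

namespace Groth.Agent.Helper23.ZeroSch

open Groth.Agent.Helper23.CDivDepth Groth.Agent.Helper13.Inv Groth.Agent.Helper13.MeroLib
open Groth.Agent.Helper13.QCoh Groth.Agent.Helper23.FracIdeal Groth.Agent.Helper23.RegMero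
open Groth.Agent.Helper23.AbsCurve Groth.Agent.Helper23.DivInv Groth.Agent.Helper13.Tensor

variable {X : Scheme.{u}} {L : X.Modules}

theorem res_mem_regSub {U V : X.Opens} (hV : V ≤ U) (c : Γ(X, U)) (hc : c ∈ Mero.regSub X U) :
    X.presheaf.map (homOfLE hV).op c ∈ Mero.regSub X V := by
  intro y
  change X.presheaf.germ V y.1 y.2 (X.presheaf.map (homOfLE hV).op c) ∈ _
  rw [TopCat.Presheaf.germ_res_apply]
  exact hc ⟨y.1, hV y.2⟩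

/-- restriction of a chart -/
noncomputable def Chart.res {s₁ : Γ(L, ⊤)} {U V : X.Opens} (F : Chart s₁ U) (hV : V ≤ U) :
    Chart s₁ V where
  e := L.presheaf.map (homOfLE hV).op F.e
  he := F.he.res hV
  c := X.presheaf.map (homOfLE hV).op F.c
  hc := res_mem_regSub hV F.c F.hc
  eq := by
    have := congrArg (L.presheaf.map (homOfLE hV).op) F.eq
    rw [res_res, res_smul] at this
    exact this

theorem Chart.res_c {s₁ : Γ(L, ⊤)} {U V : X.Opens} (F : Chart s₁ U) (hV : V ≤ U) :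
    (F.res hV).c = X.presheaf.map (homOfLE hV).op F.c := rfl

theorem ne_zero_of_mem_regSub {U : X.Opens} (c : Γ(X, U)) (hc : c ∈ Mero.regSub X U) (x : X)
    (hx : x ∈ U) : c ≠ 0 := by
  rintro rfl
  have h := hc ⟨x, hx⟩
  change X.presheaf.germ U x hx 0 ∈ _ at h
  rw [map_zero] at h
  exact nonZeroDivisors.ne_zero h rfl

theorem Chart.ne_zero {σ : Γ(L, ⊤)} {U : X.Opens} (F : Chart σ U) (x : X) (hx : x ∈ U) : σ ≠ 0 := by
  rintro rfl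
  have h2 := F.eq
  rw [map_zero] at h2
  have h3 : F.c = 0 := F.he.smul_injective _ 0 (by rw [← h2, zero_smul])
  exact ne_zero_of_mem_regSub _ F.hc x hx h3

section Tensor

variable {L₁ L₂ : X.Modules} (s₁ : Coh.structureModule X ⟶ L₁) (s₂ : Coh.structureModule X ⟶ L₂)

theorem secVal_tmulHom_res (U : X.Opens) :
    (CohB1.tensorMod L₁ L₂).presheaf.map (homOfLE (le_top : U ≤ ⊤)).op
      (PicF2.secVal (CohB1.tensorMod L₁ L₂) (SecTwist.tmulHom s₁ s₂) ⊤) =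
    tmul L₁ L₂ (L₁.presheaf.map (homOfLE (le_top : U ≤ ⊤)).op (PicF2.secVal L₁ s₁ ⊤))
      (L₂.presheaf.map (homOfLE (le_top : U ≤ ⊤)).op (PicF2.secVal L₂ s₂ ⊤)) := by
  have e0 := secVal_eq_res (SecTwist.tmulHom s₁ s₂) U
  have e1 := secVal_eq_res s₁ U
  have e2 := secVal_eq_res s₂ U
  have e3 : PicF2.secVal (CohB1.tensorMod L₁ L₂) (SecTwist.tmulHom s₁ s₂) U =
      tmul L₁ L₂ (PicF2.secVal L₁ s₁ U) (PicF2.secVal L₂ s₂ U) := SecTwist.val_tmulHom s₁ s₂ U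
  refine e0.symm.trans (e3.trans ?_)
  exact congrArg₂ (fun (a : Γ(L₁, U)) (b : Γ(L₂, U)) => tmul L₁ L₂ a b) e1 e2

/-- the tensor product of two charts -/
noncomputable def Chart.tensor {U : X.Opens} (F₁ : Chart (PicF2.secVal L₁ s₁ ⊤) U)
    (F₂ : Chart (PicF2.secVal L₂ s₂ ⊤) U) :
    Chart (L := CohB1.tensorMod L₁ L₂)
      (PicF2.secVal (CohB1.tensorMod L₁ L₂) (SecTwist.tmulHom s₁ s₂) ⊤) U where
  e := tmul L₁ L₂ F₁.e F₂.e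
  he := fun y hy => isGen_tmul L₁ L₂ F₁.e F₂.e y hy (F₁.he y hy) (F₂.he y hy)
  c := F₁.c * F₂.c
  hc := mul_mem F₁.hc F₂.hc
  eq := by
    refine (secVal_tmulHom_res s₁ s₂ U).trans ?_
    rw [F₁.eq, F₂.eq, tmul_smul_left, tmul_smul_right, ← mul_smul]

theorem Chart.tensor_c {U : X.Opens} (F₁ : Chart (PicF2.secVal L₁ s₁ ⊤) U)
    (F₂ : Chart (PicF2.secVal L₂ s₂ ⊤) U) : (F₁.tensor s₁ s₂ F₂).c = F₁.c * F₂.c := rfl

end Tensor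

/-- `Z(s₁ ⊗ s₂) = Z(s₁) + Z(s₂)` as effective Cartier divisors -/
theorem isDivOfIdeal_tmul [IsIntegral X] {L₁ L₂ : X.Modules}
    (hL₁ : PicF.IsInvertible L₁) (hL₂ : PicF.IsInvertible L₂)
    (s₁ : Coh.structureModule X ⟶ L₁) (s₂ : Coh.structureModule X ⟶ L₂) (hs₁ : s₁ ≠ 0) (hs₂ : s₂ ≠ 0)
    (D₁ D₂ : Mero.Divisor X) (hD₁ : Mero.IsDivOfIdeal D₁ (PicF2.zeroScheme L₁ s₁))
    (hD₂ : Mero.IsDivOfIdeal D₂ (PicF2.zeroScheme L₂ s₂)) :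
    Mero.IsDivOfIdeal (D₁ * D₂)
      (PicF2.zeroScheme (CohB1.tensorMod L₁ L₂) (SecTwist.tmulHom s₁ s₂)) := by
  have hσ₁ : PicF2.secVal L₁ s₁ ⊤ ≠ 0 := Groth.Agent.Helper13.IntInv.sec_ne_zero L₁ s₁ hs₁
  have hσ₂ : PicF2.secVal L₂ s₂ ⊤ ≠ 0 := Groth.Agent.Helper13.IntInv.sec_ne_zero L₂ s₂ hs₂
  have hT := isInvertible_tensorMod L₁ L₂ hL₁ hL₂
  obtain ⟨D₁', e₁, h1₁⟩ := exists_data hL₁ _ hσ₁
  obtain ⟨D₂', e₂, h1₂⟩ := exists_data hL₂ _ hσ₂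
  have hτ : PicF2.secVal (CohB1.tensorMod L₁ L₂) (SecTwist.tmulHom s₁ s₂) ⊤ ≠ 0 := by
    obtain ⟨x⟩ : Nonempty X := inferInstance
    obtain ⟨V₁, hV₁, hxV₁, -, ⟨F₁⟩⟩ := exists_chart hL₁ _ hσ₁ x ⊤ trivial
    obtain ⟨V, hV, hxV, hVV₁, ⟨F₂⟩⟩ := exists_chart hL₂ _ hσ₂ x V₁ hxV₁
    exact ((F₁.res hVV₁).tensor s₁ s₂ F₂).ne_zero x hxV
  obtain ⟨D, e, h1⟩ := exists_data hT _ hτ
  intro x
  obtain ⟨U₁, hx₁, f₁, hf₁, hI₁, hDy₁⟩ := hD₁ x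
  obtain ⟨U₂, hx₂, f₂, hf₂, hI₂, hDy₂⟩ := hD₂ x
  obtain ⟨V₁, hV₁, hxV₁, hV₁N, ⟨F₁⟩⟩ := exists_chart hL₁ _ hσ₁ x (U₁.1 ⊓ U₂.1) ⟨hx₁, hx₂⟩
  obtain ⟨V, hV, hxV, hVV₁, ⟨F₂⟩⟩ := exists_chart hL₂ _ hσ₂ x V₁ hxV₁
  have hVU₁ : V ≤ U₁.1 := hVV₁.trans (hV₁N.trans inf_le_left)
  have hVU₂ : V ≤ U₂.1 := hVV₁.trans (hV₁N.trans inf_le_right)
  refine ⟨⟨V, hV⟩, hxV, X.presheaf.map (homOfLE hVU₁).op f₁ * X.presheaf.map (homOfLE hVU₂).op f₂,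
    mul_mem (res_mem_regSub hVU₁ f₁ hf₁) (res_mem_regSub hVU₂ f₂ hf₂), ?_, ?_⟩
  · have i1 : (PicF2.zeroScheme L₁ s₁).ideal ⟨V, hV⟩ =
        Ideal.span {X.presheaf.map (homOfLE hVU₁).op f₁} := by
      rw [← (PicF2.zeroScheme L₁ s₁).map_ideal (U := ⟨V, hV⟩) (V := U₁) hVU₁, hI₁, Ideal.map_span,
        Set.image_singleton]
      rfl
    have i2 : (PicF2.zeroScheme L₂ s₂).ideal ⟨V, hV⟩ =
        Ideal.span {X.presheaf.map (homOfLE hVU₂).op f₂} := by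
      rw [← (PicF2.zeroScheme L₂ s₂).map_ideal (U := ⟨V, hV⟩) (V := U₂) hVU₂, hI₂, Ideal.map_span,
        Set.image_singleton]
      rfl
    have j1 := (F₁.res hVV₁).ideal_eq e₁ s₁ h1₁ hV
    have j2 := F₂.ideal_eq e₂ s₂ h1₂ hV
    have j := ((F₁.res hVV₁).tensor s₁ s₂ F₂).ideal_eq e (SecTwist.tmulHom s₁ s₂) h1 hV
    rw [j, Chart.tensor_c, ← Ideal.span_singleton_mul_span_singleton, ← j1, ← j2, i1, i2,
      Ideal.span_singleton_mul_span_singleton]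
  · intro y
    change D₁.1 y.1 * D₂.1 y.1 = _
    rw [hDy₁ ⟨y.1, hVU₁ y.2⟩, hDy₂ ⟨y.1, hVU₂ y.2⟩, ← QuotientGroup.mk_mul]
    congr 1
    apply Units.ext
    change algebraMap _ (Mero.KStalk X y.1) (X.presheaf.germ U₁.1 y.1 (hVU₁ y.2) f₁) *
      algebraMap _ (Mero.KStalk X y.1) (X.presheaf.germ U₂.1 y.1 (hVU₂ y.2) f₂) =
      algebraMap _ (Mero.KStalk X y.1) (X.presheaf.germ V y.1 y.2
        (X.presheaf.map (homOfLE hVU₁).op f₁ * X.presheaf.map (homOfLE hVU₂).op f₂))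
    rw [map_mul, map_mul, TopCat.Presheaf.germ_res_apply, TopCat.Presheaf.germ_res_apply]

end Groth.Agent.Helper23.ZeroSch
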