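import Mathlib
import Groth.Prelude.Def_W4c1zetahwZeta

/-!
# Closed points and residue degrees under immersions (helper23)
-/

set_option autoImplicit false

universe u

open CategoryTheory AlgebraicGeometry

namespace Groth.Agent.Helper23.ZetaPt

/-- The residue field map of a morphism surjective on stalks is bijective. -/
theorem residueFieldMap_bijective {Y X : Scheme.{u}} (g : Y ⟶ X) [SurjectiveOnStalks g] (y : Y) :
    Function.Bijective (g.residueFieldMap y).hom := by
  refine ⟨(g.residueFieldMap y).hom.injective, ?_⟩
  intro b
  obtain ⟨b', rfl⟩ := IsLocalRing.residue_surjective (R := Y.presheaf.stalk y) b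
  obtain ⟨a, rfl⟩ := g.stalkMap_surjective y b'
  refine ⟨X.residue (g y) a, ?_⟩
  exact congrArg (fun φ => φ.hom a) (Scheme.residue_residueFieldMap g y)

/-- The residue degree does not change under composition with a morphism surjective on stalks
(e.g. an immersion). -/
theorem residueDegree_comp {Y X S : Scheme.{u}} (g : Y ⟶ X) [SurjectiveOnStalks g] (f : X ⟶ S)
    (y : Y) : EGA4loc.residueDegree (g ≫ f) y = EGA4loc.residueDegree f (g y) := by
  unfold EGA4loc.residueDegree
  symm
  letI := (f.residueFieldMap (g y)).hom.toAlgebra
  letI := ((g ≫ f).residueFieldMap y).hom.toAlgebra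
  refine Algebra.finrank_eq_of_equiv_equiv (RingEquiv.refl _)
    (RingEquiv.ofBijective _ (residueFieldMap_bijective g y)) ?_
  ext a
  exact congrArg (fun φ => φ.hom a) (Scheme.residueFieldMap_comp g f y)

/-- Closed points of a subscheme of a scheme locally of finite type over a field are exactly the
points that are closed in the ambient scheme. -/
theorem isClosed_singleton_iff_of_immersion {k : Type u} [Field k] {X Y : Scheme.{u}}
    (f : X ⟶ Spec (CommRingCat.of k)) [LocallyOfFiniteType f] (g : Y ⟶ X) [IsImmersion g] (y : Y) :
    IsClosed ({y} : Set Y) ↔ IsClosed ({g y} : Set X) := by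
  haveI : JacobsonSpace X := LocallyOfFiniteType.jacobsonSpace f
  constructor
  · intro h
    exact g.closePoints_subset_preimage_closedPoints h
  · intro h
    have : ({y} : Set Y) = g ⁻¹' {g y} := by
      ext z
      simp only [Set.mem_singleton_iff, Set.mem_preimage]
      exact ⟨fun h => by rw [h], fun h => g.isEmbedding.injective h⟩
    rw [this]
    exact h.preimage g.continuous

end Groth.Agent.Helper23.ZetaPt
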