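import Mathlib
import Groth.Prelude.Def_W4c1zetahwZeta
import Groth.Agent.Lib.Helper23.ZetaPt1
import Groth.Agent.Lib.Helper23.ZetaPt2
import Groth.Agent.Lib.Helper19.ZetaPS

/-!
# Multiplicativity of the zeta function over a partition into subschemes (helper23)
-/

set_option autoImplicit false

universe u

open CategoryTheory AlgebraicGeometry

namespace Groth.Agent.Helper23.ZetaPt

open Groth.Agent.Helper19.ZetaPS

/-- Additivity of the number of closed points of degree `e ≠ 0` over a family of immersions whose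
images partition the closed points. -/
theorem degCount_eq_sum {k : Type u} [Field k] [Finite k] {X : Scheme.{u}}
    (f : X ⟶ Spec (CommRingCat.of k)) [LocallyOfFiniteType f] [QuasiCompact f]
    {ι : Type u} [Fintype ι] (Y : ι → Scheme.{u}) (g : ∀ i, Y i ⟶ X) [∀ i, IsImmersion (g i)]
    (hpart : ∀ x : X, IsClosed ({x} : Set X) → ∃! i, x ∈ Set.range (g i).base) (e : ℕ)
    (he : e ≠ 0) :
    Zeta.degCount f e = ∑ i, Zeta.degCount (g i ≫ f) e := by
  unfold Zeta.degCount
  haveI hS : Finite {x : X // IsClosed ({x} : Set X) ∧ EGA4loc.residueDegree f x = e} :=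
    ((finite_degree_eq f e he).subset (fun x hx => hx.2)).to_subtype
  let Φ : (Σ i, {y : Y i // IsClosed ({y} : Set (Y i)) ∧ EGA4loc.residueDegree (g i ≫ f) y = e}) →
      {x : X // IsClosed ({x} : Set X) ∧ EGA4loc.residueDegree f x = e} :=
    fun p => ⟨g p.1 p.2.1, (isClosed_singleton_iff_of_immersion f (g p.1) p.2.1).mp p.2.2.1, by
      rw [← residueDegree_comp]; exact p.2.2.2⟩
  have hΦinj : Function.Injective Φ := by
    rintro ⟨i, y, hy1, hy2⟩ ⟨j, y', hy1', hy2'⟩ h
    have hxy : g i y = g j y' := congrArg Subtype.val h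
    have hcl : IsClosed ({g i y} : Set X) := (isClosed_singleton_iff_of_immersion f (g i) y).mp hy1
    obtain ⟨i₀, -, huniq⟩ := hpart (g i y) hcl
    have hi : i = i₀ := huniq i ⟨y, rfl⟩
    have hj : j = i₀ := huniq j ⟨y', hxy.symm⟩
    obtain rfl : i = j := hi.trans hj.symm
    have : y = y' := (g i).isEmbedding.injective hxy
    subst this
    rfl
  have hΦsurj : Function.Surjective Φ := by
    rintro ⟨x, hx1, hx2⟩
    obtain ⟨i, ⟨y, hy⟩, -⟩ := hpart x hx1
    have hy' : g i y = x := hy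
    refine ⟨⟨i, y, ?_, ?_⟩, Subtype.ext hy'⟩
    · rw [isClosed_singleton_iff_of_immersion f (g i) y, hy']; exact hx1
    · rw [residueDegree_comp, hy']; exact hx2
  haveI : ∀ i, Finite {y : Y i // IsClosed ({y} : Set (Y i)) ∧
      EGA4loc.residueDegree (g i ≫ f) y = e} := by
    intro i
    refine Finite.of_injective (fun y => Φ ⟨i, y⟩) ?_
    intro y y' h
    have := hΦinj h
    simpa using this
  rw [← Nat.card_congr (Equiv.ofBijective Φ ⟨hΦinj, hΦsurj⟩), Nat.card_sigma]

theorem nPts_eq_sum {k : Type u} [Field k] [Finite k] {X : Scheme.{u}}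
    (f : X ⟶ Spec (CommRingCat.of k)) [LocallyOfFiniteType f] [QuasiCompact f]
    {ι : Type u} [Fintype ι] (Y : ι → Scheme.{u}) (g : ∀ i, Y i ⟶ X) [∀ i, IsImmersion (g i)]
    (hpart : ∀ x : X, IsClosed ({x} : Set X) → ∃! i, x ∈ Set.range (g i).base) (m : ℕ) :
    Zeta.nPts f m = ∑ i, Zeta.nPts (g i ≫ f) m := by
  unfold Zeta.nPts
  rw [Finset.sum_comm]
  refine Finset.sum_congr rfl fun e he => ?_
  rw [degCount_eq_sum f Y g hpart e (Nat.pos_of_mem_divisors he).ne', Finset.mul_sum]

theorem logZeta_eq_sum {k : Type u} [Field k] [Finite k] {X : Scheme.{u}}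
    (f : X ⟶ Spec (CommRingCat.of k)) [LocallyOfFiniteType f] [QuasiCompact f]
    {ι : Type u} [Fintype ι] (Y : ι → Scheme.{u}) (g : ∀ i, Y i ⟶ X) [∀ i, IsImmersion (g i)]
    (hpart : ∀ x : X, IsClosed ({x} : Set X) → ∃! i, x ∈ Set.range (g i).base) :
    Zeta.logZeta f = ∑ i, Zeta.logZeta (g i ≫ f) := by
  ext m
  unfold Zeta.logZeta
  rw [map_sum]
  simp only [PowerSeries.coeff_mk]
  rw [nPts_eq_sum f Y g hpart m, Nat.cast_sum, Finset.sum_div]

theorem constantCoeff_logZeta {k : Type u} [Field k] {X : Scheme.{u}}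
    (f : X ⟶ Spec (CommRingCat.of k)) : PowerSeries.constantCoeff (Zeta.logZeta f) = 0 := by
  unfold Zeta.logZeta
  rw [← PowerSeries.coeff_zero_eq_constantCoeff_apply, PowerSeries.coeff_mk]
  simp

theorem zetaFun_eq_E {k : Type u} [Field k] {X : Scheme.{u}}
    (f : X ⟶ Spec (CommRingCat.of k)) : Zeta.zetaFun f = E (Zeta.logZeta f) := rfl

/-- The exponential of a finite sum of series without constant term is the product of the
exponentials. -/
theorem E_sum {ι : Type*} (s : Finset ι) (g : ι → PowerSeries ℚ)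
    (hg : ∀ i ∈ s, PowerSeries.constantCoeff (g i) = 0) :
    E (∑ i ∈ s, g i) = ∏ i ∈ s, E (g i) := by
  have h0 : PowerSeries.constantCoeff (∑ i ∈ s, g i) = 0 := by
    rw [map_sum]
    exact Finset.sum_eq_zero hg
  have h1 := LD_E _ h0
  have h2 := LD.prod s (fun i => E (g i)) (fun i => PowerSeries.derivative ℚ (g i))
    (fun i hi => LD_E (g i) (hg i hi))
  have h3 : (PowerSeries.derivative ℚ) (∑ i ∈ s, g i) = ∑ i ∈ s, PowerSeries.derivative ℚ (g i) := by
    rw [map_sum]
  rw [h3] at h1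
  refine LD.unique h1 h2 ?_
  rw [constantCoeff_E _ h0, map_prod]
  symm
  exact Finset.prod_eq_one fun i hi => constantCoeff_E _ (hg i hi)

/-- The zeta function is multiplicative over a finite family of subschemes partitioning the closed
points. -/
theorem zetaFun_eq_prod {k : Type u} [Field k] [Finite k] {X : Scheme.{u}}
    (f : X ⟶ Spec (CommRingCat.of k)) [LocallyOfFiniteType f] [QuasiCompact f]
    {ι : Type u} [Fintype ι] (Y : ι → Scheme.{u}) (g : ∀ i, Y i ⟶ X) [∀ i, IsImmersion (g i)]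
    (hpart : ∀ x : X, IsClosed ({x} : Set X) → ∃! i, x ∈ Set.range (g i).base) :
    Zeta.zetaFun f = ∏ i, Zeta.zetaFun (g i ≫ f) := by
  rw [zetaFun_eq_E, logZeta_eq_sum f Y g hpart, E_sum _ _ fun i _ => constantCoeff_logZeta _]
  rfl

end Groth.Agent.Helper23.ZetaPt
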