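import Mathlib
import Groth.Prelude.Def_W4c1zetahwZeta
import Groth.Prelude.Def_SgaExt
import Groth.Agent.Lib.Helper23.ZetaPt5

/-!
# Rational points over a finite extension versus closed points, II (helper23)
-/

set_option autoImplicit false

universe u

open CategoryTheory AlgebraicGeometry

namespace Groth.Agent.Helper23.ZetaPt

/-- `k`-embeddings of the residue field at `x` into `k'`. -/
def Fib {k : Type u} [Field k] {X : Scheme.{u}} (f : X ⟶ Spec (CommRingCat.of k))
    (k' : Type u) [Field k'] [Algebra k k'] (x : X) : Type u :=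
  {φ : X.residueField x →+* k' // φ.comp (strMap f x) = algebraMap k k'}

theorem card_Fib {k : Type u} [Field k] {X : Scheme.{u}} (f : X ⟶ Spec (CommRingCat.of k))
    (k' : Type u) [Field k'] [Algebra k k'] [Finite k'] (x : X) :
    Nat.card (Fib f k' x) = if EGA4loc.residueDegree f x ∣ Module.finrank k k' then
      EGA4loc.residueDegree f x else 0 := by
  rw [residueDegree_eq_finrank]
  letI := (strMap f x).toAlgebra
  let E : Fib f k' x ≃ (X.residueField x →ₐ[k] k') :=
    { toFun := fun φ => { φ.1 with commutes' := fun a => DFunLike.congr_fun φ.2 a }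
      invFun := fun ψ => ⟨ψ.toRingHom, by ext a; exact ψ.commutes a⟩
      left_inv := fun φ => rfl
      right_inv := fun ψ => rfl }
  rw [Nat.card_congr E]
  split_ifs with h
  · exact FiniteField.natCard_algHom_of_finrank_dvd h
  · rw [← FiniteField.nonempty_algHom_iff_finrank_dvd, not_nonempty_iff] at h
    exact Nat.card_of_isEmpty

/-- rational points as pairs (point, embedding of the residue field). -/
theorem pointCount_eq_card_sigma {k : Type u} [Field k] {X : Scheme.{u}}
    (f : X ⟶ Spec (CommRingCat.of k)) (k' : Type u) [Field k'] [Algebra k k'] :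
    SgaExt.pointCount f k' = Nat.card (Σ x : X, Fib f k' x) := by
  unfold SgaExt.pointCount
  symm
  have key : ∀ (x : X) (φ : X.residueField x ⟶ CommRingCat.of k'),
      ((Spec.map φ ≫ X.fromSpecResidueField x) ≫ f =
        Spec.map (CommRingCat.ofHom (algebraMap k k'))) ↔
      φ.hom.comp (strMap f x) = algebraMap k k' := by
    intro x φ
    rw [Category.assoc, fromSpecResidueField_comp, ← Spec.map_comp, Spec.map_inj]
    constructor
    · intro h
      have := congrArg CommRingCat.Hom.hom h
      simpa using this
    · intro h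
      ext a
      exact DFunLike.congr_fun h a
  let Ψ : (Σ x : X, Fib f k' x) → { g : Spec (CommRingCat.of k') ⟶ X //
      g ≫ f = Spec.map (CommRingCat.ofHom (algebraMap k k')) } :=
    fun p => ⟨Spec.map (CommRingCat.ofHom p.2.1) ≫ X.fromSpecResidueField p.1,
      (key p.1 (CommRingCat.ofHom p.2.1)).mpr p.2.2⟩
  have hΨ : Function.Bijective Ψ := by
    constructor
    · rintro ⟨x, φ, hφ⟩ ⟨x', φ', hφ'⟩ h
      have h1 : (Scheme.SpecToEquivOfField k' X).symm ⟨x, CommRingCat.ofHom φ⟩ =
          (Scheme.SpecToEquivOfField k' X).symm ⟨x', CommRingCat.ofHom φ'⟩ := congrArg Subtype.val h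
      have h2 := (Scheme.SpecToEquivOfField k' X).symm.injective h1
      obtain rfl : x = x' := congrArg Sigma.fst h2
      have h3 : CommRingCat.ofHom φ = CommRingCat.ofHom φ' := eq_of_heq (Sigma.mk.inj_iff.mp h2).2
      have h4 : φ = φ' := by
        have := congrArg CommRingCat.Hom.hom h3
        simpa using this
      subst h4
      rfl
    · rintro ⟨g, hg⟩
      have hg' : g = Spec.map ((Scheme.SpecToEquivOfField k' X) g).2 ≫
          X.fromSpecResidueField ((Scheme.SpecToEquivOfField k' X) g).1 :=
        ((Scheme.SpecToEquivOfField k' X).symm_apply_apply g).symm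
      refine ⟨⟨((Scheme.SpecToEquivOfField k' X) g).1, ((Scheme.SpecToEquivOfField k' X) g).2.hom,
        ?_⟩, ?_⟩
      · rw [← key, ← hg']; exact hg
      · apply Subtype.ext
        exact hg'.symm
  exact Nat.card_congr (Equiv.ofBijective Ψ hΨ)

end Groth.Agent.Helper23.ZetaPt
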