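import Mathlib
import Groth.Prelude.Def_W4c1zetahwZeta
import Groth.Prelude.Def_SgaExt
import Groth.Agent.Lib.Helper23.ZetaPt6

/-!
# Rational points over a finite extension versus closed points, III (helper23)
-/

set_option autoImplicit false

universe u

open CategoryTheory AlgebraicGeometry

namespace Groth.Agent.Helper23.ZetaPt

theorem dvd_of_Fib {k : Type u} [Field k] {X : Scheme.{u}} (f : X ⟶ Spec (CommRingCat.of k))
    (k' : Type u) [Field k'] [Algebra k k'] [Finite k'] (x : X) (φ : Fib f k' x) :
    EGA4loc.residueDegree f x ∣ Module.finrank k k' := by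
  rw [residueDegree_eq_finrank]
  letI := (strMap f x).toAlgebra
  rw [← FiniteField.nonempty_algHom_iff_finrank_dvd]
  exact ⟨{ φ.1 with commutes' := fun a => DFunLike.congr_fun φ.2 a }⟩

/-- The number of points with values in a finite extension `k'` of the finite field `k` is
`N_r`, `r = [k' : k]`. -/
theorem pointCount_eq_nPts {k : Type u} [Field k] [Finite k] {X : Scheme.{u}}
    (f : X ⟶ Spec (CommRingCat.of k)) [LocallyOfFiniteType f] [QuasiCompact f]
    (k' : Type u) [Field k'] [Algebra k k'] [Finite k'] :
    SgaExt.pointCount f k' = Zeta.nPts f (Module.finrank k k') := by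
  haveI : Module.Finite k k' := Module.Finite.of_finite
  have hr0 : Module.finrank k k' ≠ 0 := Module.finrank_pos.ne'
  generalize hr : Module.finrank k k' = r at hr0
  rw [pointCount_eq_card_sigma]
  have hfin : Finite {x : X // EGA4loc.residueDegree f x ∈ r.divisors} := by
    have : {x : X | EGA4loc.residueDegree f x ∈ r.divisors} =
        ⋃ e ∈ r.divisors, {x | EGA4loc.residueDegree f x = e} := by
      ext x; simp
    have hfin' : {x : X | EGA4loc.residueDegree f x ∈ r.divisors}.Finite := by
      rw [this]
      exact Set.Finite.biUnion (Finset.finite_toSet _)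
        (fun e he => finite_degree_eq f e (Nat.pos_of_mem_divisors he).ne')
    exact hfin'.to_subtype
  haveI := Fintype.ofFinite {x : X // EGA4loc.residueDegree f x ∈ r.divisors}
  have e1 : (Σ x : {x : X // EGA4loc.residueDegree f x ∈ r.divisors}, Fib f k' x.1) ≃
      Σ x : X, Fib f k' x :=
    Equiv.sigmaSubtypeEquivOfSubset (fun x => Fib f k' x)
      (fun x => EGA4loc.residueDegree f x ∈ r.divisors)
      (fun x φ => Nat.mem_divisors.mpr ⟨hr ▸ dvd_of_Fib f k' x φ, hr0⟩)
  haveI : ∀ x : {x : X // EGA4loc.residueDegree f x ∈ r.divisors}, Finite (Fib f k' x.1) := by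
    intro x
    apply Nat.finite_of_card_ne_zero
    rw [card_Fib, hr, if_pos (Nat.dvd_of_mem_divisors x.2)]
    exact (Nat.pos_of_mem_divisors x.2).ne'
  rw [← Nat.card_congr e1, Nat.card_sigma]
  have h2 : ∀ x : {x : X // EGA4loc.residueDegree f x ∈ r.divisors},
      Nat.card (Fib f k' x.1) = EGA4loc.residueDegree f x.1 := by
    intro x
    rw [card_Fib, hr, if_pos (Nat.dvd_of_mem_divisors x.2)]
  rw [Finset.sum_congr rfl (fun x _ => h2 x)]
  unfold Zeta.nPts
  rw [← Finset.sum_fiberwise_of_maps_to (s := Finset.univ) (t := r.divisors)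
    (g := fun x : {x : X // EGA4loc.residueDegree f x ∈ r.divisors} =>
      EGA4loc.residueDegree f x.1) (fun x _ => x.2)
    (f := fun x => EGA4loc.residueDegree f x.1)]
  refine Finset.sum_congr rfl fun e he => ?_
  rw [Finset.sum_congr rfl (fun x hx => (Finset.mem_filter.mp hx).2), Finset.sum_const,
    smul_eq_mul, mul_comm]
  congr 1
  unfold Zeta.degCount
  rw [← Fintype.card_subtype, ← Nat.card_eq_fintype_card]
  refine Nat.card_congr ?_
  exact
    { toFun := fun x => ⟨x.1.1, isClosed_of_residueDegree_ne_zero f x.1.1 (by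
          rw [x.2]; exact (Nat.pos_of_mem_divisors he).ne'), x.2⟩
      invFun := fun x => ⟨⟨x.1, by rw [x.2.2]; exact he⟩, x.2.2⟩
      left_inv := fun x => rfl
      right_inv := fun x => rfl }

end Groth.Agent.Helper23.ZetaPt
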