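import Mathlib
import Groth.Prelude.Def_W4c1zetahwZeta
import Groth.Prelude.Def_SgaExt
import Groth.Agent.Lib.Helper23.ZetaPt7

/-!
# Points of the affine line over a scheme (helper23)
-/

set_option autoImplicit false

universe u

open CategoryTheory AlgebraicGeometry

namespace Groth.Agent.Helper23.ZetaPt

/-- `#𝔸¹_X(k') = #X(k') · #k'`. -/
theorem pointCount_affineLine {k : Type u} [Field k] {X : Scheme.{u}}
    (f : X ⟶ Spec (CommRingCat.of k)) (k' : Type u) [Field k'] [Algebra k k'] :
    SgaExt.pointCount ((𝔸(PUnit.{u + 1}; X) ↘ X) ≫ f) k' = SgaExt.pointCount f k' * Nat.card k' := by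
  unfold SgaExt.pointCount
  rw [← Nat.card_prod]
  refine Nat.card_congr ?_
  exact
    { toFun := fun h => (⟨h.1 ≫ (𝔸(PUnit.{u + 1}; X) ↘ X), by rw [Category.assoc]; exact h.2⟩,
        (Scheme.ΓSpecIso (CommRingCat.of k')).hom.hom
          (h.1.appTop.hom (AffineSpace.coord X PUnit.unit)))
      invFun := fun p => ⟨AffineSpace.homOfVector p.1.1
          (fun _ => (Scheme.ΓSpecIso (CommRingCat.of k')).inv.hom p.2), by
        rw [← Category.assoc, AffineSpace.homOfVector_over]; exact p.1.2⟩
      left_inv := by
        rintro ⟨h, hh⟩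
        apply Subtype.ext
        apply AffineSpace.hom_ext
        · simp
        · rintro ⟨⟩
          rw [AffineSpace.homOfVector_appTop_coord]
          exact congrArg (fun φ => φ.hom (h.appTop.hom (AffineSpace.coord X PUnit.unit)))
            (Scheme.ΓSpecIso (CommRingCat.of k')).hom_inv_id
      right_inv := by
        rintro ⟨⟨g, hg⟩, v⟩
        refine Prod.ext (Subtype.ext ?_) ?_
        · simp
        · simp only
          have h1 := AffineSpace.homOfVector_appTop_coord g
            (fun _ : PUnit.{u + 1} => (Scheme.ΓSpecIso (CommRingCat.of k')).inv.hom v) PUnit.unit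
          have h2 : (AffineSpace.homOfVector g
            (fun _ : PUnit.{u + 1} => (Scheme.ΓSpecIso (CommRingCat.of k')).inv.hom v)).appTop.hom
              (AffineSpace.coord X PUnit.unit) = (Scheme.ΓSpecIso (CommRingCat.of k')).inv.hom v := h1
          rw [h2]
          exact congrArg (fun φ => φ.hom v) (Scheme.ΓSpecIso (CommRingCat.of k')).inv_hom_id }

end Groth.Agent.Helper23.ZetaPt
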