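import Mathlib
import Groth.Prelude.Def_W4c1zetahwZeta
import Groth.Prelude.Def_SgaExt
import Groth.Agent.Lib.Helper23.ZetaPt3
import Groth.Agent.Lib.Helper23.ZetaPt8

/-!
# The zeta function of the affine line over a scheme (helper23)
-/

set_option autoImplicit false

universe u

open CategoryTheory AlgebraicGeometry

namespace Groth.Agent.Helper23.ZetaPt

open Groth.Agent.Helper19.ZetaPS

/-- A finite field has an extension of each positive degree, in the same universe. -/
theorem exists_extension (k : Type u) [Field k] [Finite k] (m : ℕ) (hm : m ≠ 0) :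
    ∃ (k' : Type u) (_ : Field k') (_ : Algebra k k') (_ : Finite k'), Module.finrank k k' = m := by
  obtain ⟨p, hp⟩ := CharP.exists k
  haveI : Fact p.Prime := ⟨CharP.char_is_prime k p⟩
  haveI : NeZero m := ⟨hm⟩
  refine ⟨ULift.{u} (FiniteField.Extension k p m), inferInstance, inferInstance, inferInstance, ?_⟩
  exact ((ULift.moduleEquiv (R := k) (M := FiniteField.Extension k p m)).finrank_eq).trans
    (FiniteField.finrank_extension k p m)

theorem nPts_affineLine {k : Type u} [Field k] [Finite k] {X : Scheme.{u}}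
    (f : X ⟶ Spec (CommRingCat.of k)) [LocallyOfFiniteType f] [QuasiCompact f] (m : ℕ) :
    Zeta.nPts ((𝔸(PUnit.{u + 1}; X) ↘ X) ≫ f) m = Nat.card k ^ m * Zeta.nPts f m := by
  rcases eq_or_ne m 0 with rfl | hm
  · simp [Zeta.nPts]
  obtain ⟨k', _, _, _, hk'⟩ := exists_extension k m hm
  haveI : Module.Finite k k' := Module.Finite.of_finite
  rw [← hk', ← pointCount_eq_nPts, ← pointCount_eq_nPts, pointCount_affineLine,
    Module.natCard_eq_pow_finrank (K := k) (V := k'), mul_comm]

theorem logZeta_affineLine {k : Type u} [Field k] [Finite k] {X : Scheme.{u}}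
    (f : X ⟶ Spec (CommRingCat.of k)) [LocallyOfFiniteType f] [QuasiCompact f] :
    Zeta.logZeta ((𝔸(PUnit.{u + 1}; X) ↘ X) ≫ f) =
      PowerSeries.rescale (Nat.card k : ℚ) (Zeta.logZeta f) := by
  ext m
  unfold Zeta.logZeta
  rw [PowerSeries.coeff_rescale, PowerSeries.coeff_mk, PowerSeries.coeff_mk, nPts_affineLine]
  push_cast
  ring

theorem E_rescale (a : ℚ) (g : PowerSeries ℚ) (hg : PowerSeries.constantCoeff g = 0) :
    E (PowerSeries.rescale a g) = PowerSeries.rescale a (E g) := by
  unfold E
  rw [PowerSeries.rescale_eq_subst, PowerSeries.rescale_eq_subst,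
    PowerSeries.subst_comp_subst_apply (PowerSeries.HasSubst.of_constantCoeff_zero' hg)
      (PowerSeries.HasSubst.smul_X' a)]

theorem zetaFun_affineLine {k : Type u} [Field k] [Finite k] {X : Scheme.{u}}
    (f : X ⟶ Spec (CommRingCat.of k)) [LocallyOfFiniteType f] [QuasiCompact f] :
    Zeta.zetaFun ((𝔸(PUnit.{u + 1}; X) ↘ X) ≫ f) =
      PowerSeries.rescale (Nat.card k : ℚ) (Zeta.zetaFun f) := by
  rw [zetaFun_eq_E, zetaFun_eq_E, logZeta_affineLine, E_rescale _ _ (constantCoeff_logZeta f)]

end Groth.Agent.Helper23.ZetaPt
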