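import Mathlib
import Groth.Prelude.Def_W4c1zetahwZeta
import Groth.Prelude.Def_SgaExt
import Groth.Agent.Lib.Helper23.ZetaPt9

/-!
# The zeta function of affine space over a finite field (helper23)
-/

set_option autoImplicit false

universe u

open CategoryTheory AlgebraicGeometry

namespace Groth.Agent.Helper23.ZetaPt

open Groth.Agent.Helper19.ZetaPS

/-- Points of an affine `k`-scheme `Spec B` with values in `k'` are `k`-algebra maps `B → k'`. -/
theorem pointCount_spec {k : Type u} [Field k] (B : Type u) [CommRing B] [Algebra k B]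
    (k' : Type u) [Field k'] [Algebra k k'] :
    SgaExt.pointCount (Spec.map (CommRingCat.ofHom (algebraMap k B))) k' =
      Nat.card (B →ₐ[k] k') := by
  unfold SgaExt.pointCount
  refine Nat.card_congr ?_
  have key : ∀ φ : CommRingCat.of B ⟶ CommRingCat.of k',
      (Spec.map φ ≫ Spec.map (CommRingCat.ofHom (algebraMap k B)) =
        Spec.map (CommRingCat.ofHom (algebraMap k k'))) ↔
      ∀ a : k, φ.hom (algebraMap k B a) = algebraMap k k' a := by
    intro φ
    rw [← Spec.map_comp, Spec.map_inj]
    constructor
    · intro h a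
      exact congrArg (fun ψ => ψ.hom a) h
    · intro h
      ext a
      exact h a
  exact
    { toFun := fun g => { (Spec.preimage g.1).hom with
        commutes' := (key (Spec.preimage g.1)).mp (by rw [Spec.map_preimage]; exact g.2) }
      invFun := fun φ => ⟨Spec.map (CommRingCat.ofHom φ.toRingHom),
        (key (CommRingCat.ofHom φ.toRingHom)).mpr fun a => φ.commutes a⟩
      left_inv := by
        rintro ⟨g, hg⟩
        apply Subtype.ext
        exact Spec.map_preimage g
      right_inv := by
        intro φ
        ext b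
        have : Spec.preimage (Spec.map (CommRingCat.ofHom φ.toRingHom)) =
            CommRingCat.ofHom φ.toRingHom := Spec.preimage_map _
        exact congrArg (fun ψ => ψ.hom b) this }

theorem card_algHom_mvPolynomial {k : Type u} [Field k] (σ : Type) [Fintype σ]
    (k' : Type u) [Field k'] [Algebra k k'] :
    Nat.card (MvPolynomial σ k →ₐ[k] k') = Nat.card k' ^ Fintype.card σ := by
  have e : (σ → k') ≃ (MvPolynomial σ k →ₐ[k] k') :=
    { toFun := fun v => MvPolynomial.aeval v
      invFun := fun φ => fun i => φ (MvPolynomial.X i)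
      left_inv := fun v => by ext i; simp
      right_inv := fun φ => by
        apply MvPolynomial.algHom_ext
        intro i
        simp }
  rw [← Nat.card_congr e, Nat.card_fun, Nat.card_eq_fintype_card (α := σ)]

instance {k : Type u} [Field k] (σ : Type) [Finite σ] :
    LocallyOfFiniteType (Spec.map (CommRingCat.ofHom (algebraMap k (MvPolynomial σ k)))) := by
  rw [HasRingHomProperty.Spec_iff (P := @LocallyOfFiniteType)]
  exact RingHom.finiteType_algebraMap.mpr (inferInstance : Algebra.FiniteType k (MvPolynomial σ k))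

theorem nPts_affineSpace {k : Type u} [Field k] [Finite k] (σ : Type) [Fintype σ] (r : ℕ)
    (hr : r ≠ 0) :
    Zeta.nPts (Spec.map (CommRingCat.ofHom (algebraMap k (MvPolynomial σ k)))) r =
      (Nat.card k ^ Fintype.card σ) ^ r := by
  obtain ⟨k', _, _, _, hk'⟩ := exists_extension k r hr
  haveI : Module.Finite k k' := Module.Finite.of_finite
  rw [← hk', ← pointCount_eq_nPts, pointCount_spec, card_algHom_mvPolynomial,
    Module.natCard_eq_pow_finrank (K := k) (V := k'), ← pow_mul, ← pow_mul, mul_comm]

/-- If `N_r = c^r` for all `r ≥ 1` then `Z(t) (1 - c t) = 1`. -/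
theorem zetaFun_mul_of_nPts {k : Type u} [Field k] {X : Scheme.{u}}
    (f : X ⟶ Spec (CommRingCat.of k)) (c : ℕ) (h : ∀ r, r ≠ 0 → Zeta.nPts f r = c ^ r) :
    Zeta.zetaFun f * (1 - PowerSeries.C (c : ℚ) * PowerSeries.X) = 1 := by
  have h1 := LD_E (Zeta.logZeta f) (constantCoeff_logZeta f)
  have h2 := LD_one_sub (c : ℚ) 1 le_rfl
  have h3 := h1.mul h2
  have h4 : PowerSeries.derivative ℚ (Zeta.logZeta f) + hLin (c : ℚ) 1 = 0 := by
    ext m
    rw [map_add, PowerSeries.coeff_derivative]
    unfold Zeta.logZeta hLin
    rw [PowerSeries.coeff_mk, PowerSeries.coeff_mk, h (m + 1) (Nat.succ_ne_zero m)]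
    simp only [one_dvd, if_true, Nat.div_one, Nat.cast_one, one_mul, map_zero]
    push_cast
    field_simp
    ring
  rw [h4] at h3
  rw [pow_one] at h3
  rw [zetaFun_eq_E]
  refine LD.unique h3 LD.one ?_
  rw [map_mul, constantCoeff_E _ (constantCoeff_logZeta f)]
  simp

theorem zetaFun_affineSpace {k : Type u} [Field k] [Finite k] (σ : Type) [Fintype σ] :
    Zeta.zetaFun (Spec.map (CommRingCat.ofHom (algebraMap k (MvPolynomial σ k)))) *
      (1 - PowerSeries.C ((Nat.card k : ℚ) ^ Fintype.card σ) * PowerSeries.X) = 1 := by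
  have := zetaFun_mul_of_nPts (Spec.map (CommRingCat.ofHom (algebraMap k (MvPolynomial σ k))))
    (Nat.card k ^ Fintype.card σ) (fun r hr => nPts_affineSpace σ r hr)
  rw [Nat.cast_pow] at this
  exact this

end Groth.Agent.Helper23.ZetaPt
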