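import Mathlib
import Groth.Prelude.Def_CohB1
import Groth.Agent.Lib.Helper26.ProjChart

/-!
# The cells of projective space: algebra (helper23)
-/

set_option autoImplicit false

universe u

open CategoryTheory AlgebraicGeometry

namespace Groth.Agent.Helper23.ZetaPt

open MvPolynomial HomogeneousLocalization Groth.Agent.Lib.Helper26.ProjChart

variable (n : ℕ) (k : Type u) [Field k] (i : Fin (n + 1))

local notation "𝒜" => CohB1.polyGrading n k

/-- the index type of the coordinates of the `i`-th cell. -/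
abbrev Cell : Type := {j : Fin (n + 1) // i < j}

/-- kill the coordinates before `i`. -/
noncomputable def cmap : MvPolynomial {j : Fin (n + 1) // j ≠ i} k →ₐ[k] MvPolynomial (Cell n i) k :=
  MvPolynomial.aeval (fun j => if h : i < j.1 then X ⟨j.1, h⟩ else 0)

/-- the section of `cmap`. -/
noncomputable def smap : MvPolynomial (Cell n i) k →ₐ[k] MvPolynomial {j : Fin (n + 1) // j ≠ i} k :=
  MvPolynomial.rename (fun j => ⟨j.1, ne_of_gt j.2⟩)

theorem cmap_smap (b : MvPolynomial (Cell n i) k) : cmap n k i (smap n k i b) = b := by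
  have : (cmap n k i).comp (smap n k i) = AlgHom.id k _ := by
    apply MvPolynomial.algHom_ext
    intro j
    simp only [AlgHom.comp_apply, smap, rename_X, cmap, aeval_X, AlgHom.id_apply]
    rw [dif_pos j.2]
  exact DFunLike.congr_fun this b

theorem cmap_surjective : Function.Surjective (cmap n k i) :=
  fun b => ⟨smap n k i b, cmap_smap n k i b⟩

theorem cmap_X_of_lt (j : {j : Fin (n + 1) // j ≠ i}) (h : j.1 < i) : cmap n k i (X j) = 0 := by
  simp only [cmap, aeval_X]
  rw [dif_neg (not_lt.mpr h.le)]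

/-- the ideal generated by the coordinates before `i`. -/
noncomputable def lowIdeal : Ideal (MvPolynomial {j : Fin (n + 1) // j ≠ i} k) :=
  Ideal.span (Set.range fun j : {j : Fin (n + 1) // j < i} =>
    (X ⟨j.1, ne_of_lt j.2⟩ : MvPolynomial {j : Fin (n + 1) // j ≠ i} k))

theorem sub_mem_lowIdeal (p : MvPolynomial {j : Fin (n + 1) // j ≠ i} k) :
    p - smap n k i (cmap n k i p) ∈ lowIdeal n k i := by
  induction p using MvPolynomial.induction_on with
  | C r =>
    have : smap n k i (cmap n k i (C r)) = C r := by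
      simp [cmap, smap]
    rw [this, sub_self]
    exact Ideal.zero_mem _
  | add p q hp hq =>
    rw [map_add, map_add]
    have : p + q - (smap n k i (cmap n k i p) + smap n k i (cmap n k i q)) =
        (p - smap n k i (cmap n k i p)) + (q - smap n k i (cmap n k i q)) := by ring
    rw [this]
    exact Ideal.add_mem _ hp hq
  | mul_X p j hp =>
    rw [map_mul, map_mul]
    rcases lt_or_gt_of_ne j.2 with h | h
    · rw [cmap_X_of_lt n k i j h, map_zero, mul_zero, sub_zero]
      refine Ideal.mul_mem_left _ _ (Ideal.subset_span ⟨⟨j.1, h⟩, rfl⟩)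
    · have : smap n k i (cmap n k i (X j)) = X j := by
        simp only [cmap, aeval_X]
        rw [dif_pos h]
        simp [smap]
      rw [this, ← sub_mul]
      exact Ideal.mul_mem_right _ _ hp

theorem mem_lowIdeal_of_cmap_eq_zero (p : MvPolynomial {j : Fin (n + 1) // j ≠ i} k)
    (h : cmap n k i p = 0) : p ∈ lowIdeal n k i := by
  have := sub_mem_lowIdeal n k i p
  rwa [h, map_zero, sub_zero] at this

theorem φ_ψ (a : Away 𝒜 (X i : MvPolynomial (Fin (n + 1)) k)) : φ n k i (ψ n k i a) = a := by
  obtain ⟨p, rfl⟩ := φ_surjective n k i a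
  have := DFunLike.congr_fun (ψ_comp_φ n k i) p
  simp only [RingHom.comp_apply, RingHom.id_apply] at this
  rw [this]

theorem ψ_φ (p : MvPolynomial {j : Fin (n + 1) // j ≠ i} k) : ψ n k i (φ n k i p) = p := by
  have := DFunLike.congr_fun (ψ_comp_φ n k i) p
  simpa using this

/-- the ring map defining the `i`-th cell. -/
noncomputable def ρ : Away 𝒜 (X i : MvPolynomial (Fin (n + 1)) k) →+* MvPolynomial (Cell n i) k :=
  (cmap n k i).toRingHom.comp (ψ n k i)

theorem ρ_surjective : Function.Surjective (ρ n k i) := by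
  intro b
  refine ⟨φ n k i (smap n k i b), ?_⟩
  simp only [ρ, RingHom.comp_apply, ψ_φ]
  exact cmap_smap n k i b

theorem ρ_φ (p : MvPolynomial {j : Fin (n + 1) // j ≠ i} k) : ρ n k i (φ n k i p) = cmap n k i p := by
  simp only [ρ, RingHom.comp_apply, ψ_φ]
  rfl

theorem ker_ρ_le (q : Ideal (Away 𝒜 (X i : MvPolynomial (Fin (n + 1)) k)))
    (hq : ∀ j : {j : Fin (n + 1) // j < i}, φ n k i (X ⟨j.1, ne_of_lt j.2⟩) ∈ q) :
    RingHom.ker (ρ n k i) ≤ q := by
  intro a ha
  rw [RingHom.mem_ker] at ha
  have h1 : ψ n k i a ∈ lowIdeal n k i := mem_lowIdeal_of_cmap_eq_zero n k i _ ha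
  have h2 : lowIdeal n k i ≤ q.comap (φ n k i) := by
    unfold lowIdeal
    rw [Ideal.span_le]
    rintro _ ⟨j, rfl⟩
    exact hq j
  have := h2 h1
  rw [Ideal.mem_comap, φ_ψ] at this
  exact this

/-- `ρ` is compatible with the structure maps from `k`. -/
theorem ρ_fromZero (r : k) :
    ρ n k i (fromZeroRingHom 𝒜 (Submonoid.powers (X i)) (algebraMap k (𝒜 0) r)) = C r := by
  have : fromZeroRingHom 𝒜 (Submonoid.powers (X i : MvPolynomial (Fin (n + 1)) k))
      (algebraMap k (𝒜 0) r) = φ n k i (C r) := by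
    simp [φ]
  rw [this, ρ_φ]
  simp [cmap]

end Groth.Agent.Helper23.ZetaPt
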