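import Mathlib
import Groth.Prelude.Def_CohB1
import Groth.Agent.Lib.Helper26.ProjChart
import Groth.Agent.Lib.Helper23.ZetaPt11

/-!
# The cells of projective space: geometry (helper23)
-/

set_option autoImplicit false

universe u

open CategoryTheory AlgebraicGeometry

namespace Groth.Agent.Helper23.ZetaPt

open MvPolynomial HomogeneousLocalization Groth.Agent.Lib.Helper26.ProjChart

variable (n : ℕ) (k : Type u) [Field k] (i : Fin (n + 1))

local notation "𝒜" => CohB1.polyGrading n k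

/-- the `i`-th cell of projective space, as an immersion of an affine space. -/
noncomputable def cellMap :
    Spec (CommRingCat.of (MvPolynomial (Cell n i) k)) ⟶ Proj 𝒜 :=
  Spec.map (CommRingCat.ofHom (ρ n k i)) ≫
    Proj.awayι 𝒜 (X i : MvPolynomial (Fin (n + 1)) k) (X_mem n k i) one_pos

instance : IsClosedImmersion (Spec.map (CommRingCat.ofHom (ρ n k i))) :=
  IsClosedImmersion.spec_of_surjective _ (ρ_surjective n k i)

instance : IsImmersion (cellMap n k i) := by
  unfold cellMap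
  infer_instance

theorem cellMap_toSpec :
    cellMap n k i ≫ (Proj.toSpecZero 𝒜 ≫ Spec.map (CommRingCat.ofHom (algebraMap k (𝒜 0)))) =
      Spec.map (CommRingCat.ofHom (algebraMap k (MvPolynomial (Cell n i) k))) := by
  unfold cellMap
  rw [Category.assoc, Proj.awayι_toSpecZero_assoc, ← Spec.map_comp, ← Spec.map_comp]
  congr 1
  ext1
  apply RingHom.ext
  intro r
  exact ρ_fromZero n k i r

/-- the element `X_j / X_i` of the chart ring is `φ (X j)`. -/
theorem isLocalizationElem_eq (j : Fin (n + 1)) (hj : j ≠ i) :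
    Away.isLocalizationElem (X_mem n k i) (X_mem n k j) = φ n k i (X ⟨j, hj⟩) := by
  apply HomogeneousLocalization.val_injective
  rw [val_φ_X]
  simp only [Away.isLocalizationElem, Away.val_mk, pow_one]

theorem awayι_mem_basicOpen_iff (j : Fin (n + 1)) (hj : j ≠ i)
    (q : Spec (CommRingCat.of (Away 𝒜 (X i : MvPolynomial (Fin (n + 1)) k)))) :
    Proj.awayι 𝒜 (X i : MvPolynomial (Fin (n + 1)) k) (X_mem n k i) one_pos q ∈
        Proj.basicOpen 𝒜 (X j : MvPolynomial (Fin (n + 1)) k) ↔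
      φ n k i (X ⟨j, hj⟩) ∉ q.asIdeal := by
  have h := Proj.awayι_preimage_basicOpen 𝒜 (X_mem n k i) one_pos (X_mem n k j) one_pos
  have h2 := SetLike.ext_iff.mp h q
  rw [isLocalizationElem_eq n k i j hj] at h2
  exact h2

theorem mem_range_cellMap_iff (x : Proj 𝒜) :
    x ∈ Set.range (cellMap n k i).base ↔
      x ∈ Proj.basicOpen 𝒜 (X i : MvPolynomial (Fin (n + 1)) k) ∧
        ∀ j : Fin (n + 1), j < i → x ∉ Proj.basicOpen 𝒜 (X j : MvPolynomial (Fin (n + 1)) k) := by
  constructor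
  · rintro ⟨y, rfl⟩
    set q := Spec.map (CommRingCat.ofHom (ρ n k i)) y with hq
    have hx : (cellMap n k i).base y =
        Proj.awayι 𝒜 (X i : MvPolynomial (Fin (n + 1)) k) (X_mem n k i) one_pos q := rfl
    rw [hx]
    refine ⟨?_, fun j hj => ?_⟩
    · rw [← Proj.opensRange_awayι 𝒜 (X i : MvPolynomial (Fin (n + 1)) k) (X_mem n k i) one_pos]
      exact ⟨q, rfl⟩
    · rw [awayι_mem_basicOpen_iff n k i j (ne_of_lt hj) q, not_not]
      have : q.asIdeal = y.asIdeal.comap (ρ n k i) := rfl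
      rw [this, Ideal.mem_comap, ρ_φ, cmap_X_of_lt n k i ⟨j, ne_of_lt hj⟩ hj]
      exact Ideal.zero_mem _
  · rintro ⟨h1, h2⟩
    rw [← Proj.opensRange_awayι 𝒜 (X i : MvPolynomial (Fin (n + 1)) k) (X_mem n k i) one_pos] at h1
    obtain ⟨q, rfl⟩ := h1
    have hker : RingHom.ker (ρ n k i) ≤ q.asIdeal := by
      apply ker_ρ_le
      intro j
      have := h2 j.1 j.2
      rw [awayι_mem_basicOpen_iff n k i j.1 (ne_of_lt j.2) q, not_not] at this
      exact this
    have hq : q ∈ Set.range (PrimeSpectrum.comap (ρ n k i)) := by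
      rw [range_comap_of_surjective _ _ (ρ_surjective n k i)]
      exact hker
    obtain ⟨y, rfl⟩ := hq
    exact ⟨y, rfl⟩

/-- Every point of projective space lies in exactly one cell. -/
theorem existsUnique_cell (x : Proj 𝒜) :
    ∃! i : Fin (n + 1), x ∈ Set.range (cellMap n k i).base := by
  have hcov : ∃ i : Fin (n + 1), x ∈ Proj.basicOpen 𝒜 (X i : MvPolynomial (Fin (n + 1)) k) := by
    have : x ∈ (⊤ : (Proj 𝒜).Opens) := trivial
    rw [← iSup_basicOpen n k] at this
    simpa using this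
  classical
  have hne : (Finset.univ.filter fun i : Fin (n + 1) =>
      x ∈ Proj.basicOpen 𝒜 (X i : MvPolynomial (Fin (n + 1)) k)).Nonempty := by
    obtain ⟨i, hi⟩ := hcov
    exact ⟨i, Finset.mem_filter.mpr ⟨Finset.mem_univ _, hi⟩⟩
  let i₀ : Fin (n + 1) := Finset.min' _ hne
  have hi₀ : x ∈ Proj.basicOpen 𝒜 (X i₀ : MvPolynomial (Fin (n + 1)) k) :=
    (Finset.mem_filter.mp (Finset.min'_mem _ hne)).2
  have hmin : ∀ j : Fin (n + 1), x ∈ Proj.basicOpen 𝒜 (X j : MvPolynomial (Fin (n + 1)) k) →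
      i₀ ≤ j := by
    intro j hj
    exact Finset.min'_le _ j (Finset.mem_filter.mpr ⟨Finset.mem_univ _, hj⟩)
  refine ⟨i₀, (mem_range_cellMap_iff n k i₀ x).mpr ⟨hi₀, fun j hj hxj => ?_⟩, ?_⟩
  · exact absurd (hmin j hxj) (not_le.mpr hj)
  · intro i hi
    rw [mem_range_cellMap_iff] at hi
    apply le_antisymm
    · by_contra hlt
      exact hi.2 i₀ (not_le.mp hlt) hi₀
    · exact hmin i hi.1

end Groth.Agent.Helper23.ZetaPt
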