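import Mathlib
import Groth.Prelude.Def_W4c1zetahwZeta
import Groth.Prelude.Def_CohB1
import Groth.Agent.Lib.Helper15.ProjSpaceProper
import Groth.Agent.Lib.Helper23.ZetaPt10
import Groth.Agent.Lib.Helper23.ZetaPt12

/-!
# The zeta function of projective space over a finite field (helper23)
-/

set_option autoImplicit false

universe u

open CategoryTheory AlgebraicGeometry

namespace Groth.Agent.Helper23.ZetaPt

open MvPolynomial HomogeneousLocalization Groth.Agent.Lib.Helper26.ProjChart

theorem card_cell (n : ℕ) (i : Fin (n + 1)) : Fintype.card (Cell n i) = n - i.val := by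
  rw [Fintype.card_of_subtype (Finset.Ioi i) (fun j => Finset.mem_Ioi), Fin.card_Ioi]
  omega

theorem zetaFun_projSpace (k : Type u) [Field k] [Finite k] (n : ℕ) :
    Zeta.zetaFun (CohB1.ProjSpace.toSpec n k) *
        ∏ i ∈ Finset.range (n + 1),
          (1 - PowerSeries.C ((Nat.card k : ℚ) ^ i) * PowerSeries.X) = 1 := by
  let Y : ULift.{u} (Fin (n + 1)) → Scheme.{u} :=
    fun b => Spec (CommRingCat.of (MvPolynomial (Cell n b.down) k))
  let g : ∀ b, Y b ⟶ CohB1.ProjSpace n k := fun b => cellMap n k b.down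
  haveI : ∀ b, IsImmersion (g b) := fun b => inferInstanceAs (IsImmersion (cellMap n k b.down))
  have hpart : ∀ x : CohB1.ProjSpace n k, IsClosed ({x} : Set (CohB1.ProjSpace n k)) →
      ∃! b, x ∈ Set.range (g b).base := by
    intro x _
    obtain ⟨i, hi, huniq⟩ := existsUnique_cell n k x
    refine ⟨⟨i⟩, hi, ?_⟩
    rintro ⟨j⟩ hj
    rw [huniq j hj]
  rw [zetaFun_eq_prod (CohB1.ProjSpace.toSpec n k) Y g hpart]
  have h1 : ∀ b : ULift.{u} (Fin (n + 1)), Zeta.zetaFun (g b ≫ CohB1.ProjSpace.toSpec n k) =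
      Zeta.zetaFun (Spec.map (CommRingCat.ofHom
        (algebraMap k (MvPolynomial (Cell n b.down) k)))) := by
    intro b
    have : g b ≫ CohB1.ProjSpace.toSpec n k = Spec.map (CommRingCat.ofHom
        (algebraMap k (MvPolynomial (Cell n b.down) k))) := cellMap_toSpec n k b.down
    rw [this]
  rw [Finset.prod_congr rfl (fun b _ => h1 b)]
  rw [← Equiv.ulift.symm.prod_comp]
  have h2 : ∏ i ∈ Finset.range (n + 1),
      (1 - PowerSeries.C ((Nat.card k : ℚ) ^ i) * PowerSeries.X) =
      ∏ i : Fin (n + 1), (1 - PowerSeries.C ((Nat.card k : ℚ) ^ (n - i.val)) * PowerSeries.X) := by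
    rw [Fin.prod_univ_eq_prod_range (fun i => (1 - PowerSeries.C ((Nat.card k : ℚ) ^ (n - i)) *
      PowerSeries.X : PowerSeries ℚ)) (n + 1)]
    rw [← Finset.prod_range_reflect]
    refine Finset.prod_congr rfl fun i hi => ?_
    have : i < n + 1 := Finset.mem_range.mp hi
    congr 4
  rw [h2, ← Finset.prod_mul_distrib]
  refine Finset.prod_eq_one fun i _ => ?_
  have := zetaFun_affineSpace (k := k) (Cell n i)
  rw [card_cell] at this
  exact this

end Groth.Agent.Helper23.ZetaPt
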