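import Mathlib
import Groth.Prelude.Def_W4c1zetahwZeta
import Groth.Prelude.Def_SgaExt
import Groth.Agent.Lib.Helper23.ZetaPt9

/-!
# Point counts of a base change to a finite extension (helper23)
-/

set_option autoImplicit false

universe u

open CategoryTheory AlgebraicGeometry Limits

namespace Groth.Agent.Helper23.ZetaPt

/-- `X_{k'}(k'') = X(k'')` for `k ⊆ k' ⊆ k''`. -/
theorem pointCount_baseChange {k : Type u} [Field k] {X : Scheme.{u}}
    (f : X ⟶ Spec (CommRingCat.of k)) (k' : Type u) [Field k'] [Algebra k k']
    (k'' : Type u) [Field k''] [Algebra k k''] [Algebra k' k''] [IsScalarTower k k' k''] :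
    SgaExt.pointCount (pullback.snd f (Spec.map (CommRingCat.ofHom (algebraMap k k')))) k'' =
      SgaExt.pointCount f k'' := by
  unfold SgaExt.pointCount
  have hcomp : Spec.map (CommRingCat.ofHom (algebraMap k' k'')) ≫
      Spec.map (CommRingCat.ofHom (algebraMap k k')) =
      Spec.map (CommRingCat.ofHom (algebraMap k k'')) := by
    rw [← Spec.map_comp]
    congr 1
    ext1
    exact (IsScalarTower.algebraMap_eq k k' k'').symm
  refine Nat.card_congr ?_
  exact
    { toFun := fun h => ⟨h.1 ≫ pullback.fst _ _, by
        rw [Category.assoc, pullback.condition, ← Category.assoc, h.2, hcomp]⟩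
      invFun := fun g => ⟨pullback.lift g.1 (Spec.map (CommRingCat.ofHom (algebraMap k' k'')))
          (by rw [g.2, hcomp]), by rw [pullback.lift_snd]⟩
      left_inv := by
        rintro ⟨h, hh⟩
        apply Subtype.ext
        apply pullback.hom_ext
        · exact pullback.lift_fst _ _ _
        · exact (pullback.lift_snd _ _ _).trans hh.symm
      right_inv := by
        rintro ⟨g, hg⟩
        apply Subtype.ext
        exact pullback.lift_fst _ _ _ }

theorem nPts_baseChange {k : Type u} [Field k] [Finite k] {X : Scheme.{u}}
    (f : X ⟶ Spec (CommRingCat.of k)) [LocallyOfFiniteType f] [QuasiCompact f]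
    (k' : Type u) [Field k'] [Algebra k k'] [Finite k'] (m : ℕ) :
    Zeta.nPts (pullback.snd f (Spec.map (CommRingCat.ofHom (algebraMap k k')))) m =
      Zeta.nPts f (Module.finrank k k' * m) := by
  rcases eq_or_ne m 0 with rfl | hm
  · simp [Zeta.nPts]
  obtain ⟨k'', _, _, _, hk''⟩ := exists_extension k' m hm
  letI : Algebra k k'' := ((algebraMap k' k'').comp (algebraMap k k')).toAlgebra
  haveI : IsScalarTower k k' k'' := IsScalarTower.of_algebraMap_eq (fun _ => rfl)
  haveI : Module.Finite k k' := Module.Finite.of_finite
  haveI : Module.Finite k' k'' := Module.Finite.of_finite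
  rw [← hk'', Module.finrank_mul_finrank k k' k'', ← pointCount_eq_nPts, ← pointCount_eq_nPts,
    pointCount_baseChange]

end Groth.Agent.Helper23.ZetaPt
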