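import Mathlib
import Groth.Agent.Lib.Helper19.ZetaPS

/-!
# Logarithmic derivatives over a field of characteristic zero (helper23)
-/

set_option autoImplicit false

namespace Groth.Agent.Helper23.ZetaPt

open PowerSeries Groth.Agent.Helper19.ZetaPS

variable {K : Type*} [Field K]

/-- `G' = G * h`. -/
def LDK (G h : K⟦X⟧) : Prop := d⁄dX K G = G * h

theorem LDK.mul {G₁ G₂ h₁ h₂ : K⟦X⟧} (H₁ : LDK G₁ h₁) (H₂ : LDK G₂ h₂) :
    LDK (G₁ * G₂) (h₁ + h₂) := by
  unfold LDK at *
  rw [Derivation.leibniz, H₁, H₂]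
  simp only [smul_eq_mul]
  ring

theorem LDK.one : LDK (1 : K⟦X⟧) 0 := by
  unfold LDK
  simp

theorem LDK.prod {ι : Type*} (s : Finset ι) (G h : ι → K⟦X⟧) (H : ∀ i ∈ s, LDK (G i) (h i)) :
    LDK (∏ i ∈ s, G i) (∑ i ∈ s, h i) := by
  classical
  induction s using Finset.induction_on with
  | empty => simpa using LDK.one
  | insert a s ha ih =>
    rw [Finset.prod_insert ha, Finset.sum_insert ha]
    exact (H a (Finset.mem_insert_self a s)).mul (ih fun i hi => H i (Finset.mem_insert_of_mem hi))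

theorem LDK.unique [CharZero K] {G G' h : K⟦X⟧} (HG : LDK G h) (HK : LDK G' h)
    (h0 : constantCoeff G = constantCoeff G') : G = G' := by
  ext n
  induction n using Nat.strong_induction_on with
  | _ n ih =>
    cases n with
    | zero => simpa using h0
    | succ n =>
      have e1 : coeff n (d⁄dX K G) = coeff n (G * h) := congrArg (coeff n) HG
      have e2 : coeff n (d⁄dX K G') = coeff n (G' * h) := congrArg (coeff n) HK
      rw [coeff_derivative, coeff_mul] at e1 e2
      have e3 : ∑ p ∈ Finset.HasAntidiagonal.antidiagonal n, coeff p.1 G * coeff p.2 h =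
          ∑ p ∈ Finset.HasAntidiagonal.antidiagonal n, coeff p.1 G' * coeff p.2 h := by
        refine Finset.sum_congr rfl fun p hp => ?_
        rw [ih p.1 (by have := Finset.HasAntidiagonal.mem_antidiagonal.1 hp; omega)]
      rw [e3, ← e2] at e1
      have hn : ((n : K) + 1) ≠ 0 := by
        have : ((n + 1 : ℕ) : K) ≠ 0 := Nat.cast_ne_zero.mpr (Nat.succ_ne_zero n)
        simpa using this
      exact mul_right_cancel₀ hn e1

theorem derivative_map (φ : ℚ →+* K) (G : ℚ⟦X⟧) :
    d⁄dX K (PowerSeries.map φ G) = PowerSeries.map φ (d⁄dX ℚ G) := by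
  ext n
  rw [coeff_derivative, coeff_map, coeff_map, coeff_derivative, map_mul, map_add, map_natCast,
    map_one]

theorem LDK.map (φ : ℚ →+* K) {G h : ℚ⟦X⟧} (H : LD G h) :
    LDK (PowerSeries.map φ G) (PowerSeries.map φ h) := by
  unfold LDK
  unfold LD at H
  rw [derivative_map, H, map_mul]

theorem derivative_rescale (a : K) (G : K⟦X⟧) :
    d⁄dX K (rescale a G) = C a * rescale a (d⁄dX K G) := by
  ext n
  rw [coeff_derivative, coeff_rescale, coeff_C_mul, coeff_rescale, coeff_derivative]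
  ring

theorem LDK.rescale (a : K) {G h : K⟦X⟧} (H : LDK G h) :
    LDK (rescale a G) (C a * rescale a h) := by
  unfold LDK at *
  rw [derivative_rescale, H, map_mul]
  ring

theorem LDK.subst_X_pow {r : ℕ} (hr : r ≠ 0) {G h : K⟦X⟧} (H : LDK G h) :
    LDK (G.subst (X ^ r : K⟦X⟧)) (h.subst (X ^ r : K⟦X⟧) * d⁄dX K (X ^ r : K⟦X⟧)) := by
  unfold LDK at *
  rw [derivative_subst (HasSubst.X_pow hr), H, subst_mul (HasSubst.X_pow hr)]
  ring

end Groth.Agent.Helper23.ZetaPt
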