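import Mathlib
import Groth.Agent.Lib.Helper19.ZetaPS
import Groth.Agent.Lib.Helper23.ZetaPt15

/-!
# The exponential identity behind the zeta function of a base change (helper23)
-/

set_option autoImplicit false

namespace Groth.Agent.Helper23.ZetaPt

open PowerSeries Groth.Agent.Helper19.ZetaPS

theorem sum_pow_primitiveRoot {ξ : ℂ} {r : ℕ} (hξ : IsPrimitiveRoot ξ r) (j : ℕ) :
    ∑ i ∈ Finset.range r, (ξ ^ i) ^ j = if r ∣ j then (r : ℂ) else 0 := by
  have h1 : ∀ i, (ξ ^ i) ^ j = (ξ ^ j) ^ i := fun i => by rw [← pow_mul, ← pow_mul, mul_comm]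
  simp only [h1]
  split_ifs with h
  · rw [(hξ.pow_eq_one_iff_dvd j).mpr h]
    simp
  · have hne : ξ ^ j ≠ 1 := fun h' => h ((hξ.pow_eq_one_iff_dvd j).mp h')
    have h2 := geom_sum_mul (ξ ^ j) r
    have h3 : (ξ ^ j) ^ r = 1 := by rw [← pow_mul, mul_comm, pow_mul, hξ.pow_eq_one, one_pow]
    rw [h3, sub_self] at h2
    rcases mul_eq_zero.mp h2 with h4 | h4
    · exact h4
    · exact absurd (sub_eq_zero.mp h4) hne

/-- the series `∑ N_m / m t^m`. -/
noncomputable def logSeries (N : ℕ → ℕ) : ℚ⟦X⟧ := mk fun m => (N m : ℚ) / m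

theorem constantCoeff_logSeries (N : ℕ → ℕ) : constantCoeff (logSeries N) = 0 := by
  unfold logSeries
  rw [← coeff_zero_eq_constantCoeff_apply, coeff_mk]
  simp

theorem coeff_derivative_logSeries (N : ℕ → ℕ) (m : ℕ) :
    coeff m (d⁄dX ℚ (logSeries N)) = N (m + 1) := by
  unfold logSeries
  rw [coeff_derivative, coeff_mk]
  push_cast
  field_simp

theorem E_baseChange (N N' : ℕ → ℕ) (r : ℕ) (hr : r ≠ 0) (hN' : ∀ m, N' m = N (r * m))
    (ξ : ℂ) (hξ : IsPrimitiveRoot ξ r) :
    (PowerSeries.map (algebraMap ℚ ℂ) (E (logSeries N'))).subst ((X : ℂ⟦X⟧) ^ r) =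
      ∏ i ∈ Finset.range r,
        rescale (ξ ^ i) (PowerSeries.map (algebraMap ℚ ℂ) (E (logSeries N))) := by
  set φ : ℚ →+* ℂ := algebraMap ℚ ℂ with hφ
  -- the common logarithmic derivative
  let H : ℂ⟦X⟧ := mk fun m : ℕ => if r ∣ m + 1 then (r : ℂ) * N (m + 1) else 0
  have hZ := LDK.map φ (LD_E (logSeries N) (constantCoeff_logSeries N))
  have hZ' := LDK.map φ (LD_E (logSeries N') (constantCoeff_logSeries N'))
  have h2 := LDK.prod (Finset.range r)
    (fun i => rescale (ξ ^ i) (PowerSeries.map φ (E (logSeries N))))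
    (fun i => C (ξ ^ i) * rescale (ξ ^ i) (PowerSeries.map φ (d⁄dX ℚ (logSeries N))))
    (fun i _ => hZ.rescale (ξ ^ i))
  have h1 := hZ'.subst_X_pow hr
  have e2 : (∑ i ∈ Finset.range r,
      C (ξ ^ i) * rescale (ξ ^ i) (PowerSeries.map φ (d⁄dX ℚ (logSeries N)))) = H := by
    ext m
    rw [map_sum]
    simp only [coeff_C_mul, coeff_rescale, coeff_map, coeff_derivative_logSeries, H, coeff_mk]
    have : ∀ i, ξ ^ i * ((ξ ^ i) ^ m * φ (N (m + 1))) = (ξ ^ i) ^ (m + 1) * φ (N (m + 1)) := by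
      intro i; ring
    simp only [this]
    rw [← Finset.sum_mul, sum_pow_primitiveRoot hξ (m + 1)]
    split_ifs with h
    · simp [hφ]
    · simp
  have e1 : (PowerSeries.map φ (d⁄dX ℚ (logSeries N'))).subst ((X : ℂ⟦X⟧) ^ r) *
      d⁄dX ℂ ((X : ℂ⟦X⟧) ^ r) = H := by
    have hd : d⁄dX ℂ ((X : ℂ⟦X⟧) ^ r) = C (r : ℂ) * X ^ (r - 1) := by
      rw [derivative_pow, derivative_X, mul_one, map_natCast]
    rw [hd, ← mul_assoc, mul_comm _ (C (r : ℂ)), mul_assoc]
    ext m
    rw [coeff_C_mul, coeff_mul_X_pow', coeff_mk]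
    by_cases hm : r - 1 ≤ m
    · rw [if_pos hm, coeff_subst_X_pow hr, coeff_map, coeff_derivative_logSeries]
      have hdvd : r ∣ m - (r - 1) ↔ r ∣ m + 1 := by
        have : m + 1 = (m - (r - 1)) + r := by omega
        rw [this]
        exact (Nat.dvd_add_self_right).symm
      by_cases hd : r ∣ m + 1
      · rw [if_pos (hdvd.mpr hd), if_pos hd, hN']
        obtain ⟨c, hc⟩ := hdvd.mpr hd
        have hc2 : r * ((m - (r - 1)) / r + 1) = m + 1 := by
          rw [hc, Nat.mul_div_cancel_left _ (Nat.pos_of_ne_zero hr)]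
          have : m + 1 = (m - (r - 1)) + r := by omega
          rw [this, hc]
          ring
        rw [hc2]
        simp [hφ]
      · rw [if_neg (fun h => hd (hdvd.mp h)), if_neg hd, mul_zero]
    · rw [if_neg hm, mul_zero]
      have : ¬ r ∣ m + 1 := by
        intro h
        have := Nat.le_of_dvd (Nat.succ_pos m) h
        omega
      rw [if_neg this]
  rw [e1] at h1
  rw [e2] at h2
  refine LDK.unique h1 h2 ?_
  rw [constantCoeff_subst_X_pow hr, map_prod]
  have hc : ∀ L : ℚ⟦X⟧, constantCoeff L = 0 →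
      constantCoeff (PowerSeries.map φ (E L)) = 1 := by
    intro L hL
    rw [← coeff_zero_eq_constantCoeff_apply, coeff_map, coeff_zero_eq_constantCoeff_apply,
      constantCoeff_E _ hL, map_one]
  rw [hc _ (constantCoeff_logSeries N')]
  symm
  simp only [Algebra.algebraMap_self, RingHom.id_apply]
  refine Finset.prod_eq_one fun i _ => ?_
  rw [← coeff_zero_eq_constantCoeff_apply, coeff_rescale, pow_zero, one_mul,
    coeff_zero_eq_constantCoeff_apply, hc _ (constantCoeff_logSeries N)]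

end Groth.Agent.Helper23.ZetaPt
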