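import Mathlib
import Groth.Prelude.Def_W4c1zetahwZeta
import Groth.Agent.Lib.Helper23.ZetaPt3

/-!
# The zeta function of a scheme cut into two pieces (helper23)
-/

set_option autoImplicit false

universe u

open CategoryTheory AlgebraicGeometry

namespace Groth.Agent.Helper23.ZetaPt

/-- Two-piece version of `zetaFun_eq_prod`. -/
theorem zetaFun_eq_mul {k : Type u} [Field k] [Finite k] {X : Scheme.{u}}
    (f : X ⟶ Spec (CommRingCat.of k)) [LocallyOfFiniteType f] [QuasiCompact f]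
    {Y₁ Y₂ : Scheme.{u}} (g₁ : Y₁ ⟶ X) (g₂ : Y₂ ⟶ X) [IsImmersion g₁] [IsImmersion g₂]
    (hpart : ∀ x : X, IsClosed ({x} : Set X) →
      (x ∈ Set.range g₁.base ∧ x ∉ Set.range g₂.base) ∨
      (x ∉ Set.range g₁.base ∧ x ∈ Set.range g₂.base)) :
    Zeta.zetaFun f = Zeta.zetaFun (g₁ ≫ f) * Zeta.zetaFun (g₂ ≫ f) := by
  let Y : ULift.{u} Bool → Scheme.{u} := fun b => cond b.down Y₁ Y₂
  let g : ∀ b, Y b ⟶ X := fun b => match b with
    | ⟨true⟩ => g₁
    | ⟨false⟩ => g₂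
  haveI : ∀ b, IsImmersion (g b) := by
    rintro ⟨_ | _⟩
    · exact inferInstanceAs (IsImmersion g₂)
    · exact inferInstanceAs (IsImmersion g₁)
  have hp : ∀ x : X, IsClosed ({x} : Set X) → ∃! b, x ∈ Set.range (g b).base := by
    intro x hx
    rcases hpart x hx with ⟨h1, h2⟩ | ⟨h1, h2⟩
    · refine ⟨⟨true⟩, h1, ?_⟩
      rintro ⟨_ | _⟩ hb
      · exact absurd hb h2
      · rfl
    · refine ⟨⟨false⟩, h2, ?_⟩
      rintro ⟨_ | _⟩ hb
      · rfl
      · exact absurd hb h1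
  rw [zetaFun_eq_prod f Y g hp]
  rw [← Equiv.ulift.symm.prod_comp, Fintype.prod_bool]
  rfl

end Groth.Agent.Helper23.ZetaPt
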